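import Cfsg.Agent.Char.Basic
import Mathlib.RepresentationTheory.Character
import Mathlib.Analysis.Complex.Polynomial.Basic
import Mathlib.Algebra.BigOperators.Finprod
import Mathlib.GroupTheory.GroupAction.ConjAct

/-!
# Orthogonality of irreducible characters, completeness and expansions
-/

namespace Cfsg.Agent.Char

open scoped ComplexConjugate
open Module

universe u v

variable {G : Type u} [Group G]

/-- An induction principle: a property of representations holds for all of them if it holds in
dimension zero, for irreducible ones, and passes from two complementary invariant subspaces to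
the whole space. -/
theorem rep_induction [Finite G]
    {P : ∀ (V : Type v) [AddCommGroup V] [Module ℂ V], Representation ℂ G V → Prop}
    (h0 : ∀ (V : Type v) [AddCommGroup V] [Module ℂ V] (ρ : Representation ℂ G V),
      Subsingleton V → P V ρ)
    (hirr : ∀ (V : Type v) [AddCommGroup V] [Module ℂ V] [FiniteDimensional ℂ V]
      (ρ : Representation ℂ G V), ρ.IsIrreducible → P V ρ)
    (hadd : ∀ (V : Type v) [AddCommGroup V] [Module ℂ V] [FiniteDimensional ℂ V]
      (ρ : Representation ℂ G V) (S T : Subrepresentation ρ),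
      IsCompl S.toSubmodule T.toSubmodule → P S.toSubmodule S.toRepresentation →
      P T.toSubmodule T.toRepresentation → P V ρ)
    {V : Type v} [AddCommGroup V] [Module ℂ V] [FiniteDimensional ℂ V]
    (ρ : Representation ℂ G V) : P V ρ := by
  suffices h : ∀ (n : ℕ) (V : Type v) [AddCommGroup V] [Module ℂ V] [FiniteDimensional ℂ V]
      (ρ : Representation ℂ G V), finrank ℂ V = n → P V ρ from h _ V ρ rfl
  intro n
  induction n using Nat.strong_induction_on with
  | _ n ih =>
    intro V _ _ _ ρ hn
    rcases subsingleton_or_nontrivial V with hV | hV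
    · exact h0 V ρ hV
    by_cases hi : ρ.IsIrreducible
    · exact hirr V ρ hi
    rw [isIrreducible_iff] at hi
    push Not at hi
    obtain ⟨U, hU, hU0, hU1⟩ := hi hV
    let S : Subrepresentation ρ := ⟨U, fun g v hv => hU g v hv⟩
    have : NeZero (Nat.card G : ℂ) := ⟨Nat.cast_ne_zero.2 Nat.card_pos.ne'⟩
    have : ComplementedLattice (Subrepresentation ρ) := inferInstance
    obtain ⟨T, hT⟩ := exists_isCompl S
    have hc : IsCompl S.toSubmodule T.toSubmodule := by
      constructor
      · rw [disjoint_iff]
        exact congrArg Subrepresentation.toSubmodule (disjoint_iff.1 hT.1)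
      · rw [codisjoint_iff]
        exact congrArg Subrepresentation.toSubmodule (codisjoint_iff.1 hT.2)
    have hsum := Submodule.finrank_add_eq_of_isCompl hc
    have hT0 : T.toSubmodule ≠ ⊥ := by
      intro h
      rw [h] at hc
      exact hU1 (by simpa [S] using hc.sup_eq_top)
    have h1 : 0 < finrank ℂ S.toSubmodule :=
      Nat.pos_of_ne_zero fun h => hU0 (Submodule.finrank_eq_zero.1 h)
    have h2 : 0 < finrank ℂ T.toSubmodule :=
      Nat.pos_of_ne_zero fun h => hT0 (Submodule.finrank_eq_zero.1 h)
    exact hadd V ρ S T hc (ih _ (by omega) _ _ rfl) (ih _ (by omega) _ _ rfl)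

theorem character_eq_add_of_isCompl {V : Type v} [AddCommGroup V] [Module ℂ V]
    [FiniteDimensional ℂ V] (ρ : Representation ℂ G V) (S T : Subrepresentation ρ)
    (h : IsCompl S.toSubmodule T.toSubmodule) :
    ρ.character = S.toRepresentation.character + T.toRepresentation.character := by
  funext g
  let e := Submodule.prodEquivOfIsCompl _ _ h
  have h1 : ρ g = e.conj (LinearMap.prodMap (S.toRepresentation g) (T.toRepresentation g)) := by
    ext v
    obtain ⟨⟨x, y⟩, rfl⟩ := e.surjective v
    simp only [LinearEquiv.conj_apply_apply, LinearEquiv.symm_apply_apply, LinearMap.prodMap_apply]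
    simp [e, Subrepresentation.toRepresentation]
  show LinearMap.trace ℂ V (ρ g) = _
  rw [h1, LinearMap.trace_conj', LinearMap.trace_prodMap']
  rfl

/-- Every character is a sum of irreducible characters. -/
theorem IsChar.exists_multiset [Finite G] {χ : G → ℂ} (h : IsCharacter G χ) :
    ∃ s : Multiset (IrrCharacter G), χ = (s.map fun ψ : IrrCharacter G => (ψ : G → ℂ)).sum := by
  obtain ⟨n, ρ, rfl⟩ := h
  refine rep_induction (P := fun V _ _ σ => ∃ s : Multiset (IrrCharacter G),
    σ.character = (s.map fun ψ : IrrCharacter G => (ψ : G → ℂ)).sum) ?_ ?_ ?_ ρ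
  · intro V _ _ σ hV
    refine ⟨0, funext fun g => ?_⟩
    show LinearMap.trace ℂ V (σ g) = _
    rw [Subsingleton.elim (σ g) 0]
    simp
  · intro V _ _ _ σ hσ
    exact ⟨{⟨_, isIrrCharacter_of_rep σ hσ⟩}, by simp⟩
  · intro V _ _ _ σ S T hc ⟨s, hs⟩ ⟨t, ht⟩
    exact ⟨s + t, by rw [character_eq_add_of_isCompl σ S T hc, hs, ht, Multiset.map_add,
      Multiset.sum_add]⟩

section Orth

variable [Fintype G]

theorem classInner_character_eq_finrank {V W : Type*} [AddCommGroup V] [Module ℂ V]
    [FiniteDimensional ℂ V] [AddCommGroup W] [Module ℂ W] [FiniteDimensional ℂ W]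
    (σ : Representation ℂ G W) (ρ : Representation ℂ G V) :
    classInner σ.character ρ.character =
      (finrank ℂ (Representation.IntertwiningMap ρ σ) : ℂ) := by
  have : Invertible (Nat.card G : ℂ) := invertibleOfNonzero card_ne_zero
  rw [← Representation.card_inv_mul_sum_char_mul_char_eq_finrank]
  simp only [classInner, character_inv]

theorem classInner_isCharacter_eq_natCast {χ ψ : G → ℂ} (hχ : IsCharacter G χ)
    (hψ : IsCharacter G ψ) : ∃ k : ℕ, classInner χ ψ = k := by
  obtain ⟨n, ρ, rfl⟩ := hχ
  obtain ⟨m, σ, rfl⟩ := hψ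
  exact ⟨_, classInner_character_eq_finrank ρ σ⟩

open scoped Classical in
/-- The first orthogonality relation. -/
theorem classInner_irr {χ ψ : G → ℂ} (hχ : IsIrrCharacter G χ) (hψ : IsIrrCharacter G ψ) :
    classInner χ ψ = if χ = ψ then 1 else 0 := by
  have : Invertible (Nat.card G : ℂ) := invertibleOfNonzero card_ne_zero
  obtain ⟨n, ρ, hρ, rfl⟩ := hχ
  obtain ⟨m, σ, hσ, rfl⟩ := hψ
  split_ifs with h
  · rw [← h, classInner_character_eq_finrank,
      Representation.IsIrreducible.finrank_intertwiningMap_self, Nat.cast_one]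
  · have : IsEmpty (Representation.Equiv σ ρ) := ⟨fun e => h (Representation.char_iso e).symm⟩
    rw [classInner_character_eq_finrank, finrank_zero_of_subsingleton, Nat.cast_zero]

theorem classInner_irr_self {χ : G → ℂ} (hχ : IsIrrCharacter G χ) : classInner χ χ = 1 := by
  simp [classInner_irr hχ hχ]

theorem classInner_irr_ne {χ ψ : G → ℂ} (hχ : IsIrrCharacter G χ) (hψ : IsIrrCharacter G ψ)
    (h : χ ≠ ψ) : classInner χ ψ = 0 := by
  simp [classInner_irr hχ hψ, h]

open scoped Classical in
theorem classInner_irrChar (χ ψ : IrrCharacter G) :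
    classInner (χ : G → ℂ) (ψ : G → ℂ) = if χ = ψ then 1 else 0 := by
  rw [classInner_irr χ.2 ψ.2]
  exact if_congr Subtype.ext_iff.symm rfl rfl

end Orth

theorem linearIndependent_irr [Finite G] :
    LinearIndependent ℂ (fun χ : IrrCharacter G => (χ : G → ℂ)) := by
  classical
  have := Fintype.ofFinite G
  rw [linearIndependent_iff']
  intro s c hc i hi
  have h := congrArg (fun f => classInner f (i : G → ℂ)) hc
  simp only [classInner_sum_left, classInner_smul_left, classInner_zero_left,
    classInner_irrChar, mul_ite, mul_one, mul_zero, Finset.sum_ite_eq', hi, if_true] at h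
  exact h

instance instFiniteIrrCharacter [Finite G] : Finite (IrrCharacter G) :=
  linearIndependent_irr.finite

noncomputable instance instFintypeIrrCharacter [Finite G] : Fintype (IrrCharacter G) :=
  Fintype.ofFinite _

section Complete

variable [Fintype G]

theorem sum_smul_rep_commute {V : Type v} [AddCommGroup V] [Module ℂ V]
    (ρ : Representation ℂ G V) {f : G → ℂ} (hf : IsClassFunction G f) (k : G) :
    (∑ g, f g • ρ g) * ρ k = ρ k * ∑ g, f g • ρ g := by
  rw [Finset.sum_mul, Finset.mul_sum]
  refine Fintype.sum_equiv (MulAut.conj k⁻¹).toEquiv _ _ fun g => ?_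
  have h1 : f (k⁻¹ * (g * k)) = f g := by simpa [mul_assoc] using hf g k⁻¹
  simp [h1, ← map_mul, mul_assoc]

/-- For an irreducible representation the sum `∑ f g • ρ g` over a class function `f` is a
scalar, determined by the trace. -/
theorem sum_smul_rep_eq_scalar {V : Type v} [AddCommGroup V] [Module ℂ V] [FiniteDimensional ℂ V]
    (ρ : Representation ℂ G V) (hρ : ρ.IsIrreducible) {f : G → ℂ} (hf : IsClassFunction G f) :
    ∃ c : ℂ, (∑ g, f g • ρ g) = c • (LinearMap.id : V →ₗ[ℂ] V) ∧
      c * (finrank ℂ V : ℂ) = ∑ g, f g * ρ.character g := by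
  let T : Representation.IntertwiningMap ρ ρ :=
    ⟨∑ g, f g • ρ g, fun k => sum_smul_rep_commute ρ hf k⟩
  obtain ⟨c, hc⟩ :=
    (Representation.IsIrreducible.algebraMap_intertwiningMap_bijective_of_isAlgClosed (k := ℂ)
      (ρ := ρ)).2 T
  have h1 : (∑ g, f g • ρ g) = c • (LinearMap.id : V →ₗ[ℂ] V) :=
    (congrArg Representation.IntertwiningMap.toLinearMap hc).symm.trans
      (by simp [Algebra.algebraMap_eq_smul_one]; rfl)
  refine ⟨c, h1, ?_⟩
  have h2 := congrArg (LinearMap.trace ℂ V) h1
  simp only [map_sum, map_smul, LinearMap.trace_id, smul_eq_mul] at h2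
  exact h2.symm

/-- A class function orthogonal to every irreducible character is zero. -/
theorem classFun_eq_zero {f : G → ℂ} (hf : IsClassFunction G f)
    (h : ∀ χ : IrrCharacter G, classInner f (χ : G → ℂ) = 0) : f = 0 := by
  have hc : IsClassFunction G (fun g => f g) := hf
  have key : ∀ (V : Type u) [AddCommGroup V] [Module ℂ V] [FiniteDimensional ℂ V]
      (ρ : Representation ℂ G V), (∑ g, f g⁻¹ • ρ g) = 0 := by
    intro V _ _ _ ρ
    refine rep_induction (P := fun V _ _ σ => (∑ g, f g⁻¹ • σ g) = 0) ?_ ?_ ?_ ρ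
    · intro V _ _ σ hV
      exact Subsingleton.elim _ _
    · intro V _ _ _ σ hσ
      obtain ⟨c, hc1, hc2⟩ := sum_smul_rep_eq_scalar σ hσ (f := fun g => f g⁻¹)
        (fun g k => by simpa [mul_assoc] using hf g⁻¹ k)
      have h0 := h ⟨_, isIrrCharacter_of_rep σ hσ⟩
      simp only [classInner, mul_eq_zero, inv_eq_zero, card_ne_zero, false_or] at h0
      have h1 : ∑ g, f g⁻¹ * σ.character g = 0 := by
        rw [← h0]
        exact Fintype.sum_equiv (Equiv.inv G) _ _ fun g => by simp [← character_inv]
      rw [h1] at hc2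
      obtain ⟨hn, -⟩ := isIrreducible_iff.1 hσ
      have : c = 0 :=
        (mul_eq_zero.1 hc2).resolve_right (Nat.cast_ne_zero.2 Module.finrank_pos.ne')
      rw [hc1, this, zero_smul]
    · intro V _ _ _ σ S T hST hS hT
      apply LinearMap.ext
      intro v
      obtain ⟨x, hx, y, hy, rfl⟩ := Submodule.mem_sup.1 (hST.sup_eq_top.symm ▸ Submodule.mem_top (x := v))
      have h1 : ((∑ g, f g⁻¹ • S.toRepresentation g) ⟨x, hx⟩ : V) = 0 := by rw [hS]; rfl
      have h2 : ((∑ g, f g⁻¹ • T.toRepresentation g) ⟨y, hy⟩ : V) = 0 := by rw [hT]; rfl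
      simp [Subrepresentation.toRepresentation] at h1 h2
      simp [map_add, h1, h2]
  have hreg := key (G → ℂ)
    { toFun := fun g => LinearMap.funLeft ℂ ℂ (fun x => g⁻¹ * x)
      map_one' := by ext; simp [LinearMap.funLeft]
      map_mul' := fun a b => by ext; simp [LinearMap.funLeft, mul_assoc] }
  funext x
  classical
  have := congrFun (LinearMap.congr_fun hreg (Pi.single 1 1)) x⁻¹
  simpa [LinearMap.funLeft, Pi.single_apply, inv_mul_eq_one, eq_comm] using this

/-- Every class function is the combination of irreducible characters given by its inner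
products with them. -/
theorem classFun_expansion {f : G → ℂ} (hf : IsClassFunction G f) :
    f = ∑ χ : IrrCharacter G, classInner f (χ : G → ℂ) • (χ : G → ℂ) := by
  classical
  refine sub_eq_zero.1 (classFun_eq_zero (fun g k => ?_) fun ψ => ?_)
  · simp only [Pi.sub_apply, Finset.sum_apply, Pi.smul_apply, hf g k]
    congr 1
    exact Finset.sum_congr rfl fun χ _ => by rw [isClassFunction_of_isIrr χ.2 g k]
  · simp [classInner_sub_left, classInner_sum_left, classInner_smul_left, classInner_irrChar]

theorem classFun_expansion_finsum {f : G → ℂ} (hf : IsClassFunction G f) :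
    f = ∑ᶠ χ : IrrCharacter G, classInner f (χ : G → ℂ) • (χ : G → ℂ) := by
  rw [finsum_eq_sum_of_fintype]
  exact classFun_expansion hf

theorem classFun_ext {f f' : G → ℂ} (hf : IsClassFunction G f) (hf' : IsClassFunction G f')
    (h : ∀ χ : IrrCharacter G, classInner f (χ : G → ℂ) = classInner f' (χ : G → ℂ)) :
    f = f' := by
  rw [classFun_expansion hf, classFun_expansion hf']
  simp [h]

theorem classInner_eq_sum {f f' : G → ℂ} (hf : IsClassFunction G f) :
    classInner f f' =
      ∑ χ : IrrCharacter G, classInner f (χ : G → ℂ) * classInner (χ : G → ℂ) f' := by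
  conv_lhs => rw [classFun_expansion hf]
  simp [classInner_sum_left, classInner_smul_left]

/-- A class function is a character iff all its multiplicities are natural numbers. -/
theorem isCharacter_iff {f : G → ℂ} :
    IsCharacter G f ↔ IsClassFunction G f ∧
      ∀ χ : IrrCharacter G, ∃ k : ℕ, classInner f (χ : G → ℂ) = k := by
  refine ⟨fun h => ⟨isClassFunction_of_isCharacter h,
    fun χ => classInner_isCharacter_eq_natCast h (IsIrr.isCharacter χ.2)⟩, fun ⟨hf, h⟩ => ?_⟩
  rw [classFun_expansion hf]
  refine isCharacter_sum _ _ fun χ _ => ?_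
  obtain ⟨k, hk⟩ := h χ
  rw [hk]
  exact isCharacter_natCast_smul k (IsIrr.isCharacter χ.2)

end Complete

theorem isClassFunction_iff_exists {f : G → ℂ} :
    IsClassFunction G f ↔ ∃ φ : ConjClasses G → ℂ, f = fun g => φ (ConjClasses.mk g) := by
  refine ⟨fun hf => ⟨Quotient.lift f fun _ _ h => classFun_isConj hf h, rfl⟩, ?_⟩
  rintro ⟨φ, rfl⟩ g k
  exact congrArg φ (ConjClasses.mk_eq_mk_iff_isConj.2 (isConj_iff.2 ⟨k, rfl⟩).symm)

/-- Composition with `ConjClasses.mk`, as a linear map. -/
noncomputable def classLift : (ConjClasses G → ℂ) →ₗ[ℂ] (G → ℂ) :=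
  LinearMap.funLeft ℂ ℂ ConjClasses.mk

/-- The number of irreducible characters is the number of conjugacy classes. -/
theorem card_irrCharacter [Finite G] :
    Nat.card (IrrCharacter G) = Nat.card (ConjClasses G) := by
  have := Fintype.ofFinite G
  have : Finite (ConjClasses G) := Quotient.finite _
  have := Fintype.ofFinite (ConjClasses G)
  have hspan : Submodule.span ℂ (Set.range fun χ : IrrCharacter G => (χ : G → ℂ)) =
      LinearMap.range (classLift (G := G)) := by
    apply le_antisymm
    · rw [Submodule.span_le]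
      rintro _ ⟨χ, rfl⟩
      obtain ⟨φ, hφ⟩ := isClassFunction_iff_exists.1 (isClassFunction_of_isIrr χ.2)
      exact ⟨φ, hφ.symm⟩
    · rintro _ ⟨φ, rfl⟩
      rw [classFun_expansion (isClassFunction_iff_exists.2 ⟨φ, rfl⟩ :
        IsClassFunction G (classLift φ))]
      exact Submodule.sum_mem _ fun χ _ =>
        Submodule.smul_mem _ _ (Submodule.subset_span ⟨χ, rfl⟩)
  have h1 := finrank_span_eq_card (linearIndependent_irr (G := G))
  rw [hspan, classLift, LinearMap.finrank_range_of_inj
    (LinearMap.funLeft_injective_of_surjective _ _ _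
      (ConjClasses.mk_surjective : Function.Surjective (ConjClasses.mk (α := G)))),
    Module.finrank_fintype_fun_eq_card] at h1
  rw [Nat.card_eq_fintype_card, Nat.card_eq_fintype_card, ← h1]

theorem card_isConj_eq_index (g : G) :
    Nat.card {x : G // IsConj g x} = (Subgroup.centralizer ({g} : Set G)).index := by
  have h : (Subgroup.centralizer ({g} : Set G)).index =
      (MulAction.stabilizer (ConjAct G) g).index :=
    (congrArg Subgroup.index (Subgroup.centralizer_eq_comap_stabilizer g)).trans
      (Subgroup.index_comap_of_surjective _ (f := (ConjAct.toConjAct (G := G)).toMonoidHom)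
        (ConjAct.toConjAct (G := G)).surjective)
  rw [h, MulAction.index_stabilizer]
  exact Nat.card_congr (Equiv.subtypeEquivRight fun x =>
    (ConjAct.mem_orbit_conjAct.trans isConj_comm).symm)

open scoped Classical in
/-- The second orthogonality relation. -/
theorem second_orthogonality [Finite G] (g h : G) :
    ∑ χ : IrrCharacter G, (χ : G → ℂ) g * conj ((χ : G → ℂ) h) =
      if IsConj g h then (Nat.card (Subgroup.centralizer ({g} : Set G)) : ℂ) else 0 := by
  have := Fintype.ofFinite G
  let f : G → ℂ := fun x => if IsConj h x then 1 else 0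
  have hf : IsClassFunction G f := fun x k => if_congr
    ⟨fun e => e.trans (isConj_iff.2 ⟨k, rfl⟩).symm, fun e => e.trans (isConj_iff.2 ⟨k, rfl⟩)⟩
    rfl rfl
  set N : ℕ := (Finset.univ.filter fun x => IsConj h x).card with hN
  have hin : ∀ χ : IrrCharacter G,
      classInner f (χ : G → ℂ) = (Nat.card G : ℂ)⁻¹ * N * conj ((χ : G → ℂ) h) := by
    intro χ
    simp only [classInner, f, ite_mul, one_mul, zero_mul, ← Finset.sum_filter]
    rw [mul_assoc]
    congr 1
    rw [Finset.sum_congr rfl fun x hx => by
      rw [← classFun_isConj (isClassFunction_of_isIrr χ.2) (Finset.mem_filter.1 hx).2]]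
    simp [hN]
  have hexp := congrFun (classFun_expansion hf) g
  simp only [Finset.sum_apply, Pi.smul_apply, smul_eq_mul, hin] at hexp
  have hne : (N : ℂ) ≠ 0 := Nat.cast_ne_zero.2 (Finset.card_ne_zero_of_mem
    (Finset.mem_filter.2 ⟨Finset.mem_univ h, IsConj.refl h⟩))
  have hG : (Nat.card G : ℂ) ≠ 0 := card_ne_zero
  have hsum : ∑ χ : IrrCharacter G, (χ : G → ℂ) g * conj ((χ : G → ℂ) h) =
      (Nat.card G : ℂ) / N * f g := by
    rw [hexp, Finset.mul_sum]
    refine Finset.sum_congr rfl fun χ _ => ?_
    field_simp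
  rw [hsum]
  by_cases hgh : IsConj g h
  · rw [if_pos hgh, show f g = 1 from if_pos hgh.symm, mul_one, div_eq_iff hne]
    have key : Nat.card G = Nat.card (Subgroup.centralizer ({g} : Set G)) * N := by
      rw [hN, ← Fintype.card_subtype, ← Nat.card_eq_fintype_card,
        ← Subgroup.card_mul_index (Subgroup.centralizer ({g} : Set G)), ← card_isConj_eq_index]
      congr 1
      exact Nat.card_congr (Equiv.subtypeEquivRight fun x =>
        ⟨fun e => hgh.symm.trans e, fun e => hgh.trans e⟩)
    exact_mod_cast key
  · rw [if_neg hgh, show f g = 0 from if_neg fun e => hgh e.symm, mul_zero]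

theorem isConj_iff_forall_irr [Finite G] (g h : G) :
    IsConj g h ↔ ∀ χ : IrrCharacter G, (χ : G → ℂ) g = (χ : G → ℂ) h := by
  classical
  refine ⟨fun e χ => classFun_isConj (isClassFunction_of_isIrr χ.2) e, fun e => ?_⟩
  by_contra hn
  have h1 := second_orthogonality g h
  have h2 := second_orthogonality g g
  rw [if_neg hn] at h1
  rw [if_pos (IsConj.refl g)] at h2
  have h3 : ∑ χ : IrrCharacter G, (χ : G → ℂ) g * conj ((χ : G → ℂ) g) = 0 := by
    rw [← h1]
    exact Finset.sum_congr rfl fun χ _ => by rw [e χ]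
  exact Nat.card_pos.ne' (Nat.cast_eq_zero.1 (h2.symm.trans h3))

/-- The regular character. -/
theorem regular_eq_sum [Finite G] [DecidableEq G] (g : G) :
    ∑ χ : IrrCharacter G, (χ : G → ℂ) 1 * (χ : G → ℂ) g =
      if g = 1 then (Nat.card G : ℂ) else 0 := by
  classical
  have h := second_orthogonality g 1
  have h1 : ∀ χ : IrrCharacter G, conj ((χ : G → ℂ) 1) = (χ : G → ℂ) 1 := fun χ => by
    obtain ⟨n, -, e⟩ := IsIrr.degree χ.2
    simp [e]
  simp only [h1] at h
  simp only [mul_comm ((_ : G → ℂ) 1)]
  rw [h]
  by_cases hg : g = 1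
  · subst hg
    rw [if_pos (IsConj.refl _), if_pos rfl]
    congr 1
    rw [show Subgroup.centralizer ({1} : Set G) = ⊤ by
      ext; simp [Subgroup.mem_centralizer_singleton_iff], Subgroup.card_top]
  · rw [if_neg (by simpa [isConj_one_left] using hg), if_neg hg]

theorem sum_sq_degree [Finite G] :
    ∑ χ : IrrCharacter G, (χ : G → ℂ) 1 ^ 2 = (Nat.card G : ℂ) := by
  classical
  simpa [sq] using regular_eq_sum (1 : G)

end Cfsg.Agent.Char
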