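import Cfsg.Agent.Char.Integral

/-!
# Class multiplication and commutator counting
-/

namespace Cfsg.Agent.Char

open scoped ComplexConjugate
open Module

universe u

variable {G : Type u} [Group G] [Fintype G]

omit [Fintype G] in
/-- An endomorphism commuting with an irreducible representation is a scalar. -/
theorem commute_eq_scalar {V : Type*} [AddCommGroup V] [Module ℂ V] [FiniteDimensional ℂ V]
    (ρ : Representation ℂ G V) (hρ : ρ.IsIrreducible) (T : Module.End ℂ V)
    (hT : ∀ g : G, T * ρ g = ρ g * T) :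
    ∃ c : ℂ, T = c • (LinearMap.id : V →ₗ[ℂ] V) ∧
      c * (finrank ℂ V : ℂ) = LinearMap.trace ℂ V T := by
  let T' : Representation.IntertwiningMap ρ ρ := ⟨T, hT⟩
  obtain ⟨c, hc⟩ :=
    (Representation.IsIrreducible.algebraMap_intertwiningMap_bijective_of_isAlgClosed (k := ℂ)
      (ρ := ρ)).2 T'
  have h1 : T = c • (LinearMap.id : V →ₗ[ℂ] V) :=
    (congrArg Representation.IntertwiningMap.toLinearMap hc).symm.trans
      (by simp [Algebra.algebraMap_eq_smul_one]; rfl)
  refine ⟨c, h1, ?_⟩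
  rw [h1, map_smul, LinearMap.trace_id, smul_eq_mul]

variable {χ : G → ℂ}

theorem sum_conj_mul (h : IsIrrCharacter G χ) (x y : G) :
    χ 1 * ∑ a : G, χ (a * x * a⁻¹ * y) = (Nat.card G : ℂ) * χ x * χ y := by
  obtain ⟨n, ρ, hρ, rfl⟩ := h
  obtain ⟨c, hc, hc'⟩ := commute_eq_scalar ρ hρ (∑ a : G, ρ (a * x * a⁻¹)) fun g => by
    rw [Finset.sum_mul, Finset.mul_sum]
    refine Fintype.sum_equiv (Equiv.mulLeft g⁻¹) _ _ fun a => ?_
    simp [← map_mul, mul_assoc]
  rw [map_sum] at hc'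
  have htr : ∀ a : G, LinearMap.trace ℂ _ (ρ (a * x * a⁻¹)) = ρ.character x := fun a => ρ.char_conj x a
  rw [Finset.sum_congr rfl fun a _ => htr a, Finset.sum_const, Finset.card_univ, nsmul_eq_mul,
    ← Nat.card_eq_fintype_card] at hc'
  have key : ∑ a : G, ρ.character (a * x * a⁻¹ * y) = c * ρ.character y := by
    show ∑ a : G, LinearMap.trace ℂ _ (ρ (a * x * a⁻¹ * y)) = c * LinearMap.trace ℂ _ (ρ y)
    rw [← map_sum, Finset.sum_congr rfl fun a _ => map_mul ρ (a * x * a⁻¹) y, ← Finset.sum_mul, hc,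
      smul_mul_assoc, map_smul, smul_eq_mul]
    rfl
  rw [key, ρ.char_one, ← hc']
  ring

open scoped Classical in
theorem sum_classes_mul (h : IsIrrCharacter G χ) (a b : G) :
    χ 1 * ∑ x ∈ Finset.univ.filter (IsConj a), ∑ y ∈ Finset.univ.filter (IsConj b), χ (x * y) =
      ((Subgroup.centralizer ({a} : Set G)).index : ℂ) *
        ((Subgroup.centralizer ({b} : Set G)).index : ℂ) * χ a * χ b := by
  obtain ⟨n, ρ, hρ, rfl⟩ := h
  obtain ⟨ca, -, ha, hA⟩ := classSum_scalar ρ hρ a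
  obtain ⟨cb, -, hb, hB⟩ := classSum_scalar ρ hρ b
  have key : ∑ x ∈ Finset.univ.filter (IsConj a), ∑ y ∈ Finset.univ.filter (IsConj b),
      ρ.character (x * y) = ca * cb * (finrank ℂ (Fin n → ℂ) : ℂ) := by
    show ∑ x ∈ Finset.univ.filter (IsConj a), ∑ y ∈ Finset.univ.filter (IsConj b),
      LinearMap.trace ℂ _ (ρ (x * y)) = _
    simp only [map_mul, ← map_sum, ← Finset.mul_sum, ← Finset.sum_mul, hA, hB]
    rw [smul_mul_smul_comm, map_smul, smul_eq_mul, ← Module.End.one_eq_id, mul_one,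
      Module.End.one_eq_id, LinearMap.trace_id]
  rw [key, ρ.char_one]
  linear_combination (cb * (finrank ℂ (Fin n → ℂ) : ℂ)) * ha +
    (((Subgroup.centralizer ({a} : Set G)).index : ℂ) * ρ.character a) * hb

end Cfsg.Agent.Char
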