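import Cfsg.Agent.Char.Perm
import Mathlib.LinearAlgebra.TensorProduct.Matrix

/-!
# The Frobenius–Schur indicator and the count of square roots
-/

namespace Cfsg.Agent.Char

open scoped ComplexConjugate TensorProduct
open Module

universe u v

variable {G : Type u} [Group G]

section Swap

variable {V : Type v} [AddCommGroup V] [Module ℂ V] [FiniteDimensional ℂ V]

theorem trace_map_comp_swap (f g : Module.End ℂ V) :
    LinearMap.trace ℂ (V ⊗[ℂ] V)
        ((TensorProduct.map f g) ∘ₗ (TensorProduct.comm ℂ V V : V ⊗[ℂ] V →ₗ[ℂ] V ⊗[ℂ] V)) =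
      LinearMap.trace ℂ V (f * g) := by
  classical
  let b := Module.finBasis ℂ V
  rw [LinearMap.trace_eq_matrix_trace ℂ (b.tensorProduct b),
    LinearMap.toMatrix_comp _ (b.tensorProduct b), TensorProduct.toMatrix_map,
    TensorProduct.toMatrix_comm, LinearMap.trace_eq_matrix_trace ℂ b, LinearMap.toMatrix_mul]
  simp [Matrix.trace, Matrix.mul_apply, Matrix.kroneckerMap_apply, Matrix.submatrix_apply,
    Matrix.one_apply, Fintype.sum_prod_type, Prod.mk.injEq, ite_and]

end Swap

/-- A representation with a commuting involution splits into the two eigenspace characters. -/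
theorem exists_pm_split {W : Type v} [AddCommGroup W] [Module ℂ W] [FiniteDimensional ℂ W]
    (T : Representation ℂ G W) (sw : W →ₗ[ℂ] W) (hsw : ∀ x, sw (sw x) = x)
    (hcomm : ∀ g x, sw (T g x) = T g (sw x)) :
    ∃ s a : G → ℂ, IsCharacter G s ∧ IsCharacter G a ∧ T.character = s + a ∧
      ∀ g : G, LinearMap.trace ℂ W (T g ∘ₗ sw) = s g - a g := by
  let S : Subrepresentation T := ⟨LinearMap.ker (sw - 1), fun g x hx => by
    simp only [LinearMap.mem_ker, LinearMap.sub_apply, Module.End.one_apply, sub_eq_zero] at hx ⊢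
    rw [hcomm, hx]⟩
  let A : Subrepresentation T := ⟨LinearMap.ker (sw + 1), fun g x hx => by
    simp only [LinearMap.mem_ker, LinearMap.add_apply, Module.End.one_apply,
      add_eq_zero_iff_eq_neg] at hx ⊢
    rw [hcomm, hx, map_neg]⟩
  have hS : ∀ x, x ∈ S.toSubmodule → sw x = x := fun x hx => by
    simpa [S, sub_eq_zero] using hx
  have hA : ∀ x, x ∈ A.toSubmodule → sw x = -x := fun x hx => by
    simpa [A, add_eq_zero_iff_eq_neg] using hx
  have hc : IsCompl S.toSubmodule A.toSubmodule := by
    constructor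
    · rw [Submodule.disjoint_def]
      intro x h1 h2
      have : x = -x := (hS x h1).symm.trans (hA x h2)
      have h3 : (2 : ℂ) • x = 0 := by rw [two_smul]; nth_rw 2 [this]; exact add_neg_cancel x
      exact (smul_eq_zero.1 h3).resolve_left two_ne_zero
    · rw [codisjoint_iff, eq_top_iff]
      intro x _
      refine Submodule.mem_sup.2 ⟨(2⁻¹ : ℂ) • (x + sw x), ?_, (2⁻¹ : ℂ) • (x - sw x), ?_, ?_⟩
      · simp [S, hsw]; abel
      · simp [A, hsw]
      · rw [← smul_add, show x + sw x + (x - sw x) = (2 : ℂ) • x by rw [two_smul]; abel,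
          inv_smul_smul₀ two_ne_zero]
  refine ⟨S.toRepresentation.character, A.toRepresentation.character, isCharacter_of_rep _,
    isCharacter_of_rep _, character_eq_add_of_isCompl T S A hc, fun g => ?_⟩
  let e := Submodule.prodEquivOfIsCompl _ _ hc
  have h1 : T g ∘ₗ sw =
      e.conj (LinearMap.prodMap (S.toRepresentation g) ((-1 : ℂ) • A.toRepresentation g)) := by
    ext v
    obtain ⟨⟨x, y⟩, rfl⟩ := e.surjective v
    simp [e, Subrepresentation.toRepresentation, hS _ x.2, hA _ y.2]
  rw [h1, LinearMap.trace_conj', LinearMap.trace_prodMap', map_smul, smul_eq_mul, neg_one_mul,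
    ← sub_eq_add_neg]
  rfl

/-- The squared character and the squared-argument character as sum and difference of the
symmetric and the alternating parts. -/
theorem exists_sym_alt {χ : G → ℂ} (h : IsCharacter G χ) :
    ∃ s a : G → ℂ, IsCharacter G s ∧ IsCharacter G a ∧ χ * χ = s + a ∧
      ∀ g : G, χ (g * g) = s g - a g := by
  obtain ⟨n, ρ, rfl⟩ := h
  obtain ⟨s, a, hs, ha, hadd, htr⟩ := exists_pm_split (ρ.tprod ρ)
    (TensorProduct.comm ℂ (Fin n → ℂ) (Fin n → ℂ)).toLinearMap
    (fun x => by
      induction x using TensorProduct.induction_on with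
      | zero => simp
      | tmul a b => simp
      | add a b ha hb => rw [map_add, map_add, ha, hb])
    (fun g x => by
      induction x using TensorProduct.induction_on with
      | zero => simp
      | tmul a b => simp [Representation.tprod_apply]
      | add a b ha hb => simp only [map_add, ha, hb])
  refine ⟨s, a, hs, ha, by rw [← hadd, Representation.char_tensor], fun g => ?_⟩
  have h2 := htr g
  rw [Representation.tprod_apply, trace_map_comp_swap] at h2
  show LinearMap.trace ℂ _ (ρ (g * g)) = _
  rw [map_mul, h2]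

/-- The Frobenius–Schur indicator. -/
noncomputable def fsInd [Fintype G] (χ : G → ℂ) : ℂ :=
  (Nat.card G : ℂ)⁻¹ * ∑ s : G, χ (s * s)

variable [Fintype G]

theorem conjIrr_eq_iff (χ : IrrCharacter G) :
    conjIrr χ = χ ↔ ∀ g : G, ((χ : G → ℂ) g).im = 0 := by
  constructor
  · intro h g
    have := congrArg (fun ψ : IrrCharacter G => (ψ : G → ℂ) g) h
    exact Complex.conj_eq_iff_im.1 this
  · intro h
    exact Subtype.ext (funext fun g => Complex.conj_eq_iff_im.2 (h g))

/-- The indicator of an irreducible character is zero iff it is not real, and otherwise `±1`. -/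
theorem fsInd_irr (χ : IrrCharacter G) :
    (fsInd (χ : G → ℂ) = 0 ∧ conjIrr χ ≠ χ) ∨
      ((fsInd (χ : G → ℂ) = 1 ∨ fsInd (χ : G → ℂ) = -1) ∧ conjIrr χ = χ) := by
  classical
  obtain ⟨s, a, hs, ha, hmul, hsq⟩ := exists_sym_alt (IsIrr.isCharacter χ.2)
  obtain ⟨i, hi⟩ := classInner_isCharacter_eq_natCast hs (isCharacter_one (G := G))
  obtain ⟨j, hj⟩ := classInner_isCharacter_eq_natCast ha (isCharacter_one (G := G))
  have hfs : fsInd (χ : G → ℂ) = (i : ℂ) - j := by
    rw [← hi, ← hj, ← classInner_sub_left]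
    simp [fsInd, classInner, hsq]
  have hsum : (i : ℂ) + j = classInner ((χ : G → ℂ)) (conjIrr χ : G → ℂ) := by
    rw [← hi, ← hj, ← classInner_add_left, ← hmul]
    simp [classInner]
  rw [classInner_irrChar] at hsum
  by_cases h : conjIrr χ = χ
  · rw [if_pos h.symm] at hsum
    have h1 : i + j = 1 := by exact_mod_cast hsum
    refine Or.inr ⟨?_, h⟩
    rcases (show (i = 1 ∧ j = 0) ∨ (i = 0 ∧ j = 1) by omega) with ⟨rfl, rfl⟩ | ⟨rfl, rfl⟩
    · left; simpa using hfs
    · right; simpa using hfs
  · rw [if_neg (Ne.symm h)] at hsum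
    have h1 : i + j = 0 := by exact_mod_cast hsum
    refine Or.inl ⟨?_, h⟩
    obtain ⟨rfl, rfl⟩ : i = 0 ∧ j = 0 := by omega
    simpa using hfs

open scoped Classical in
/-- The number of square roots of an element, expanded in irreducible characters. -/
theorem card_sqrt_eq_sum (g : G) :
    (Nat.card {s : G // s * s = g} : ℂ) =
      ∑ χ : IrrCharacter G, fsInd (χ : G → ℂ) * (χ : G → ℂ) g := by
  let f : G → ℂ := fun g => (Nat.card {s : G // s * s = g} : ℂ)
  have hf : IsClassFunction G f := by
    intro x k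
    refine congrArg Nat.cast (Nat.card_congr ?_)
    exact Equiv.subtypeEquiv (MulAut.conj k⁻¹).toEquiv fun s => by
      show s * s = k * x * k⁻¹ ↔ MulAut.conj k⁻¹ s * MulAut.conj k⁻¹ s = x
      rw [← map_mul, ← (MulAut.conj k⁻¹).injective.eq_iff]
      refine iff_of_eq (congrArg _ ?_)
      simp [mul_assoc]
  refine (congrFun (classFun_expansion hf) g).trans ?_
  simp only [Finset.sum_apply, Pi.smul_apply, smul_eq_mul]
  refine Finset.sum_congr rfl fun χ _ => ?_
  congr 1
  have hreal : conj (fsInd (χ : G → ℂ)) = fsInd (χ : G → ℂ) := by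
    rcases fsInd_irr χ with ⟨h, -⟩ | ⟨h | h, -⟩ <;> simp [h]
  rw [← hreal]
  simp only [classInner, fsInd, map_mul, map_inv₀, map_natCast, map_sum]
  congr 1
  conv_rhs => rw [← Finset.sum_fiberwise Finset.univ (fun s : G => s * s)]
  refine Finset.sum_congr rfl fun y _ => Eq.symm ?_
  rw [Finset.sum_congr rfl fun s hs => by rw [(Finset.mem_filter.1 hs).2], Finset.sum_const,
    nsmul_eq_mul, ← Fintype.card_subtype, ← Nat.card_eq_fintype_card]

end Cfsg.Agent.Char
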