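import Cfsg.Agent.Char.KleinGroup
import Cfsg.Agent.Char.FS
import Cfsg.Agent.Char.ClassAlg
import Cfsg.Agent.Blocks.Congr

/-!
# The principal 2-block of a group with Klein four Sylow 2-subgroup

The averages of the characters over the coset `J * O(C(J))` replace the second main theorem.
-/

namespace Cfsg.Agent.Char

open scoped ComplexConjugate

universe u

variable {G : Type u} [Group G] [Fintype G]

/-- An invariant sum over a fixed-point free involution of a finite set is twice an integer. -/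
theorem exists_eq_two_mul {α : Type*} [DecidableEq α] (σ : α → α) (hσ : ∀ a, σ (σ a) = a)
    (f : α → ℂ) (hf : ∀ a, f (σ a) = f a) :
    ∀ (n : ℕ) (s : Finset α), s.card = n → (∀ a ∈ s, σ a ∈ s ∧ σ a ≠ a) →
      (∀ a ∈ s, IsIntegral ℤ (f a)) → ∃ w, IsIntegral ℤ w ∧ ∑ a ∈ s, f a = 2 * w := by
  intro n
  induction n using Nat.strong_induction_on with
  | _ n ih =>
    intro s hn hs hint
    rcases s.eq_empty_or_nonempty with rfl | ⟨a, ha⟩
    · exact ⟨0, isIntegral_zero, by simp⟩
    obtain ⟨h1, h2⟩ := hs a ha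
    set t := (s.erase a).erase (σ a) with ht
    have hmem : σ a ∈ s.erase a := Finset.mem_erase.2 ⟨h2, h1⟩
    obtain ⟨w, hw, he⟩ := ih t.card (by
      rw [ht, Finset.card_erase_of_mem hmem, Finset.card_erase_of_mem ha]
      have := Finset.card_pos.2 ⟨a, ha⟩
      omega) t rfl (fun b hb => by
      simp only [ht, Finset.mem_erase] at hb ⊢
      obtain ⟨hb1, hb2, hb3⟩ := hb
      exact ⟨⟨fun h => hb2 (by rw [← hσ b, h, hσ]),
        fun h => hb1 (by rw [← hσ b, h]), (hs b hb3).1⟩, (hs b hb3).2⟩)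
      (fun b hb => hint b (Finset.mem_of_mem_erase (Finset.mem_of_mem_erase hb)))
    refine ⟨f a + w, (hint a ha).add hw, ?_⟩
    rw [← Finset.add_sum_erase _ _ ha, ← Finset.add_sum_erase _ _ hmem, hf a, ← ht, he]
    ring

/-- The consequences for degrees, indicators and the group order. -/
theorem klein_data (M : Ideal Cfsg.AlgInt) (hM : Cfsg.IsPModular 2 M) (g₀ : ℕ) (hg₀ : Odd g₀)
    (hG : Nat.card G = 4 * g₀) (hnc : ¬ ∃ N : Subgroup G, N.Normal ∧ Nat.card N = g₀)
    (P : Sylow 2 G) (J : G) (hJ : J ∈ (P : Subgroup G)) (hJ2 : orderOf J = 2)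
    (χ₁ χ₂ χ₃ : IrrCharacter G) (ε₁ ε₂ ε₃ : ℤ)
    (hB : Cfsg.principalBlock M G =
      {χ : IrrCharacter G | (χ : G → ℂ) = (fun _ => 1) ∨ χ = χ₁ ∨ χ = χ₂ ∨ χ = χ₃})
    (hdist : (χ₁ : G → ℂ) ≠ (fun _ => 1) ∧ (χ₂ : G → ℂ) ≠ (fun _ => 1) ∧
      (χ₃ : G → ℂ) ≠ (fun _ => 1) ∧ χ₁ ≠ χ₂ ∧ χ₁ ≠ χ₃ ∧ χ₂ ≠ χ₃)
    (hε : (ε₁ = 1 ∨ ε₁ = -1) ∧ (ε₂ = 1 ∨ ε₂ = -1) ∧ (ε₃ = 1 ∨ ε₃ = -1))
    (hval : (χ₁ : G → ℂ) J = ε₁ ∧ (χ₂ : G → ℂ) J = ε₂ ∧ (χ₃ : G → ℂ) J = ε₃) :
    ∃ (k : ℕ) (x₁ x₂ x₃ : ℕ), 0 < k ∧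
      ((χ₁ : G → ℂ) 1 = x₁ ∧ (χ₂ : G → ℂ) 1 = x₂ ∧ (χ₃ : G → ℂ) 1 = x₃) ∧
      (Odd x₁ ∧ Odd x₂ ∧ Odd x₃) ∧
      Nat.card (Subgroup.centralizer ({J} : Set G)) =
        k * Nat.card (Subgroup.centralizer ((P : Subgroup G) : Set G)) ∧
      (1 : ℤ) + ε₁ * x₁ + ε₂ * x₂ + ε₃ * x₃ = 0 ∧
      (Nat.card G : ℂ) * (1 + (ε₁ : ℂ) / x₁ + (ε₂ : ℂ) / x₂ + (ε₃ : ℂ) / x₃) =
        8 * (Nat.card (Subgroup.centralizer ({J} : Set G)) : ℂ) * (k : ℂ) ^ 2 ∧
      1 + (ε₁ : ℂ) * fsInd (χ₁ : G → ℂ) + (ε₂ : ℂ) * fsInd (χ₂ : G → ℂ) +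
        (ε₃ : ℂ) * fsInd (χ₃ : G → ℂ) = 0 ∧
      (∀ χ : IrrCharacter G, (χ = χ₁ ∨ χ = χ₂ ∨ χ = χ₃) →
        (conjIrr χ = χ₁ ∨ conjIrr χ = χ₂ ∨ conjIrr χ = χ₃)) := by
  classical
  have h2f : Fact (Nat.Prime 2) := ⟨Nat.prime_two⟩
  set C := Subgroup.centralizer ({J} : Set G) with hC
  have hmemC : ∀ x : G, x ∈ C ↔ x * J = J * x := fun x => Subgroup.mem_centralizer_singleton_iff
  have hJJ : J * J = 1 := by rw [← sq, ← hJ2, pow_orderOf_eq_one]
  have hJinv : J⁻¹ = J := inv_eq_of_mul_eq_one_right hJJ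
  have hJ1 : J ≠ 1 := fun h => by rw [h, orderOf_one] at hJ2; omega
  have hcomm : ∀ {a b : G}, a ∈ (P : Subgroup G) → b ∈ (P : Subgroup G) → a * b = b * a :=
    fun ha hb => sylow_four_comm hG hg₀ P ha hb
  have hPC : (P : Subgroup G) ≤ C := fun p hp => (hmemC p).2 (hcomm hp hJ)
  have hinvol : ∀ z ∈ (P : Subgroup G), z ≠ 1 → orderOf z = 2 ∧ IsConj J z :=
    fun z hz hz1 => sylow_four_involutions hG hg₀ hnc P hJ hJ2 hz hz1
  have hPsq : ∀ z ∈ (P : Subgroup G), z * z = 1 := by
    intro z hz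
    by_cases hz1 : z = 1
    · simp [hz1]
    · rw [← sq, ← (hinvol z hz hz1).1, pow_orderOf_eq_one]
  have hP4 := card_sylow_four hG hg₀ P
  -- the odd core of the centralizer
  have hJC : J ∈ C := (hmemC J).2 rfl
  obtain ⟨c₀, hc₀⟩ : 4 ∣ Nat.card C := hP4 ▸ Subgroup.card_dvd_of_le hPC
  have hc₀odd : Odd c₀ := by
    refine hg₀.of_dvd_nat ?_
    have h := Subgroup.card_subgroup_dvd_card C
    rw [hG, hc₀] at h
    exact Nat.dvd_of_mul_dvd_mul_left (by norm_num) h
  let PC : Sylow 2 C := P.subtype hPC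
  obtain ⟨N, hNn, hNcard, hNcompl⟩ := exists_complement_of_normalizer_le hc₀ hc₀odd PC (by
    intro n hn
    rw [Subgroup.mem_centralizer_iff]
    intro z hz
    have hnP : (n : G) ∈ Subgroup.normalizer ((P : Subgroup G) : Set G) := by
      rw [Subgroup.mem_normalizer_iff]
      intro y
      constructor
      · intro hy
        exact (Subgroup.mem_normalizer_iff.1 hn ⟨y, hPC hy⟩).1 hy
      · intro hy
        have hyC : y ∈ C := by
          have h1 := C.mul_mem (C.mul_mem (C.inv_mem n.2) (hPC hy)) n.2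
          have e : (n : G)⁻¹ * ((n : G) * y * (n : G)⁻¹) * n = y := by group
          rwa [e] at h1
        exact (Subgroup.mem_normalizer_iff.1 hn ⟨y, hyC⟩).2 hy
    have hfix : (n : G) * J * (n : G)⁻¹ = J := by rw [(hmemC n).1 n.2, mul_inv_cancel_right]
    exact Subtype.ext (mul_inv_eq_iff_eq_mul.1
      (normalizer_fix_all hG hg₀ P hnP hJ hJ1 hfix (z := (z : G)) hz)).symm)
  set O : Subgroup G := N.map C.subtype with hO
  have hOC : O ≤ C := by rintro _ ⟨x, -, rfl⟩; exact x.2
  have hOcard : Nat.card O = c₀ := by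
    rw [hO, Nat.card_congr (N.equivMapOfInjective _ C.subtype_injective).symm.toEquiv, hNcard]
  have hOodd : ∀ v ∈ O, ¬ 2 ∣ orderOf v := fun v hv h =>
    (Nat.two_dvd_ne_zero.2 (Nat.odd_iff.1 hc₀odd))
      (hOcard ▸ h.trans (Subgroup.orderOf_dvd_natCard _ hv))
  have hOn : ∀ g ∈ C, ∀ v ∈ O, g * v * g⁻¹ ∈ O := by
    rintro g hg _ ⟨x, hx, rfl⟩
    exact ⟨⟨g, hg⟩ * x * ⟨g, hg⟩⁻¹, hNn.conj_mem x hx _, rfl⟩
  have hOP : ∀ v ∈ O, v ∈ (P : Subgroup G) → v = 1 := by
    intro v hv hvP
    by_contra h1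
    exact hOodd v hv (by rw [(hinvol v hvP h1).1])
  have hdecomp : ∀ x ∈ C, ∃ v ∈ O, ∃ p ∈ (P : Subgroup G), x = v * p := by
    intro x hx
    obtain ⟨⟨a, b⟩, hab, -⟩ := hNcompl.existsUnique ⟨x, hx⟩
    exact ⟨(a.1 : G), ⟨a.1, a.2, rfl⟩, (b.1 : G), b.2, (congrArg Subtype.val hab).symm⟩
  have hJv : ∀ v ∈ O, J * v = v * J := fun v hv => ((hmemC v).1 (hOC hv)).symm
  have hJsplit : ∀ v ∈ O, (J * v) ^ c₀ = J := by
    intro v hv
    have hv1 : v ^ c₀ = 1 := orderOf_dvd_iff_pow_eq_one.1
      (hOcard ▸ Subgroup.orderOf_dvd_natCard _ hv)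
    obtain ⟨j, hj⟩ := hc₀odd
    rw [(show Commute J v from hJv v hv).mul_pow, hv1, mul_one, hj, pow_succ, pow_mul, sq, hJJ,
      one_pow, one_mul]
  -- involutions in the cosets of `O`
  obtain ⟨u, hu, hu1, huJ⟩ : ∃ u ∈ (P : Subgroup G), u ≠ 1 ∧ u ≠ J := by
    by_contra h
    push Not at h
    have hsub : ((P : Subgroup G) : Set G) ⊆ {1, J} := fun y hy => by
      by_cases hy1 : y = 1
      · exact Or.inl hy1
      · exact Or.inr (h y hy hy1)
    have h2 := Set.ncard_le_ncard hsub
    rw [Set.ncard_pair (Ne.symm hJ1), ← Nat.card_coe_set_eq] at h2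
    have h3 : Nat.card ((P : Subgroup G) : Set G) = 4 := hP4
    omega
  have hPlist : ∀ p ∈ (P : Subgroup G), p = 1 ∨ p = J ∨ p = u ∨ p = J * u := by
    intro p hp
    by_contra h
    push Not at h
    obtain ⟨p1, p2, p3, p4⟩ := h
    have hsub : ({1, J, u, J * u, p} : Finset G) ⊆
        (Set.toFinite ((P : Subgroup G) : Set G)).toFinset := by
      intro y hy
      simp only [Finset.mem_insert, Finset.mem_singleton] at hy
      rw [Set.Finite.mem_toFinset]
      rcases hy with rfl | rfl | rfl | rfl | rfl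
      · exact one_mem _
      · exact hJ
      · exact hu
      · exact mul_mem hJ hu
      · exact hp
    have hcard := Finset.card_le_card hsub
    rw [← Set.ncard_eq_toFinset_card, ← Nat.card_coe_set_eq] at hcard
    have h4 : Nat.card ((P : Subgroup G) : Set G) = 4 := hP4
    rw [h4] at hcard
    have b1 : J * u ≠ 1 := fun h => huJ (by
      calc u = J * (J * u) := by rw [← mul_assoc, hJJ, one_mul]
        _ = J := by rw [h, mul_one])
    have b2 : J * u ≠ J := fun h => hu1 (mul_eq_left.1 h)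
    have b3 : J * u ≠ u := fun h => hJ1 (mul_eq_right.1 h)
    rw [Finset.card_insert_of_notMem, Finset.card_insert_of_notMem, Finset.card_insert_of_notMem,
      Finset.card_insert_of_notMem, Finset.card_singleton] at hcard
    · omega
    · simp only [Finset.mem_singleton]; exact Ne.symm p4
    · simp only [Finset.mem_insert, Finset.mem_singleton, not_or]
      exact ⟨Ne.symm b3, Ne.symm p3⟩
    · simp only [Finset.mem_insert, Finset.mem_singleton, not_or]
      exact ⟨Ne.symm huJ, Ne.symm b2, Ne.symm p2⟩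
    · simp only [Finset.mem_insert, Finset.mem_singleton, not_or]
      exact ⟨Ne.symm hJ1, Ne.symm hu1, Ne.symm b1, Ne.symm p1⟩
  have hJu : J * u ∈ (P : Subgroup G) := mul_mem hJ hu
  have hJu1 : J * u ≠ 1 := fun h => huJ (by
    calc u = J * (J * u) := by rw [← mul_assoc, hJJ, one_mul]
      _ = J := by rw [h, mul_one])
  have hJuJ : J * u ≠ J := fun h => hu1 (mul_eq_left.1 h)
  set cP := Nat.card (Subgroup.centralizer ((P : Subgroup G) : Set G)) with hcP
  let Inv : G → Finset G := fun w => Finset.univ.filter fun x => x * x = 1 ∧ x * w ∈ O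
  have hInvConj : ∀ w ∈ (P : Subgroup G), ∀ x ∈ Inv w, ∃ g ∈ C, g * w * g⁻¹ = x := by
    intro w hw x hx
    obtain ⟨-, hxx, hxw⟩ := Finset.mem_filter.1 hx
    set o := x * w with ho
    have hww := hPsq w hw
    have hxow : x = o * w := by rw [ho, mul_assoc, hww, mul_one]
    have hwo : w * o * w⁻¹ = o⁻¹ := by
      rw [ho, inv_eq_of_mul_eq_one_right hww, _root_.mul_inv_rev, inv_eq_of_mul_eq_one_right hww,
        inv_eq_of_mul_eq_one_right hxx, mul_assoc w, mul_assoc x, hww, mul_one]
    obtain ⟨j, hj⟩ : Odd (orderOf o) := Nat.not_even_iff_odd.1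
      fun h => hOodd o hxw (even_iff_two_dvd.1 h)
    set s := o ^ (j + 1) with hs
    have hss : s * s = o := by
      rw [hs, ← pow_add, show j + 1 + (j + 1) = orderOf o + 1 by omega, pow_succ,
        pow_orderOf_eq_one, one_mul]
    have hws : w * s * w⁻¹ = s⁻¹ := by rw [hs, ← conj_pow, hwo, inv_pow]
    refine ⟨s, hOC (pow_mem hxw _), ?_⟩
    have h1 : w * s = s⁻¹ * w := mul_inv_eq_iff_eq_mul.1 hws
    calc s * w * s⁻¹ = s * (w * s⁻¹) := mul_assoc _ _ _
      _ = s * (s * w) := by
          congr 1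
          rw [mul_inv_eq_iff_eq_mul, mul_assoc, h1, ← mul_assoc, mul_inv_cancel, one_mul]
      _ = x := by rw [← mul_assoc, hss, ← hxow]
  have hInvCard : ∀ w ∈ (P : Subgroup G), w ≠ 1 → w ≠ J →
      Nat.card C = (Inv w).card * cP := by
    intro w hw hw1 hwJ
    have hww := hPsq w hw
    have hlist : ∀ p ∈ (P : Subgroup G), p = 1 ∨ p = J ∨ p = w ∨ p = J * w := by
      intro p hp
      rcases hPlist w hw with h | h | h | h
      · exact absurd h hw1
      · exact absurd h hwJ
      · exact h ▸ hPlist p hp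
      · rw [h]
        rcases hPlist p hp with e | e | e | e
        · exact Or.inl e
        · exact Or.inr (Or.inl e)
        · right; right; right; rw [← mul_assoc, hJJ, one_mul]; exact e
        · exact Or.inr (Or.inr (Or.inl e))
    set CF := Finset.univ.filter fun g : G => g ∈ C with hCF
    have hmap : ∀ g ∈ CF, g * w * g⁻¹ ∈ Inv w := by
      intro g hg
      have hgC : g ∈ C := (Finset.mem_filter.1 hg).2
      obtain ⟨v, hv, p, hp, rfl⟩ := hdecomp g hgC
      refine Finset.mem_filter.2 ⟨Finset.mem_univ _, ?_, ?_⟩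
      · calc v * p * w * (v * p)⁻¹ * (v * p * w * (v * p)⁻¹) = v * p * (w * w) * (v * p)⁻¹ := by
              group
          _ = 1 := by rw [hww, mul_one, mul_inv_cancel]
      · have e : v * p * w * (v * p)⁻¹ * w = v * (w * v⁻¹ * w⁻¹) := by
          have hpw : p * w * p⁻¹ = w := by rw [hcomm hp hw, mul_inv_cancel_right]
          calc v * p * w * (v * p)⁻¹ * w = v * (p * w * p⁻¹) * v⁻¹ * w := by group
            _ = v * (w * v⁻¹ * w⁻¹) := by rw [hpw, inv_eq_of_mul_eq_one_right hww]; group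
        rw [e]
        exact mul_mem hv (hOn w (hPC hw) _ (inv_mem hv))
    have hfib : ∀ x ∈ Inv w, (CF.filter fun g => g * w * g⁻¹ = x).card = cP := by
      intro x hx
      obtain ⟨g₁, hg₁, hgx⟩ := hInvConj w hw x hx
      rw [hcP, hCF, Finset.filter_filter, ← Fintype.card_subtype, ← Nat.card_eq_fintype_card]
      refine (Nat.card_congr (Equiv.subtypeEquiv (Equiv.mulLeft g₁) fun a => ?_)).symm
      rw [Equiv.coe_mulLeft, Subgroup.mem_centralizer_iff, C.mul_mem_cancel_left hg₁, ← hgx]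
      constructor
      · intro h
        refine ⟨(hmemC a).2 (h J hJ).symm, ?_⟩
        have := h w hw
        calc g₁ * a * w * (g₁ * a)⁻¹ = g₁ * (a * w) * a⁻¹ * g₁⁻¹ := by group
          _ = g₁ * w * g₁⁻¹ := by rw [← this]; group
      · rintro ⟨ha, haw⟩ p hp
        have haw' : a * w = w * a := by
          calc a * w = g₁⁻¹ * (g₁ * a * w * (g₁ * a)⁻¹) * (g₁ * a) := by group
            _ = w * a := by rw [haw]; group
        have haJ : a * J = J * a := (hmemC a).1 ha
        rcases hlist p hp with rfl | rfl | rfl | rfl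
        · simp
        · exact haJ.symm
        · exact haw'.symm
        · exact (((show Commute a J from haJ).mul_right (show Commute a w from haw')).eq).symm
    calc Nat.card C = CF.card := by
          rw [hCF, Nat.card_eq_fintype_card, Fintype.card_subtype]
      _ = ∑ x ∈ Inv w, (CF.filter fun g => g * w * g⁻¹ = x).card :=
          Finset.card_eq_sum_card_fiberwise hmap
      _ = _ := by rw [Finset.sum_congr rfl hfib, Finset.sum_const, smul_eq_mul]
  set k := (Inv u).card with hk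
  have hcCk : Nat.card C = k * cP := hInvCard u hu hu1 huJ
  have hk' : (Inv (J * u)).card = k :=
    Nat.eq_of_mul_eq_mul_right Nat.card_pos ((hInvCard _ hJu hJu1 hJuJ).symm.trans hcCk)
  have hkpos : 0 < k := by
    rcases Nat.eq_zero_or_pos k with h | h
    · rw [h, zero_mul] at hcCk; exact absurd hcCk Nat.card_pos.ne'
    · exact h
  -- the averages
  set OF := Finset.univ.filter fun v : G => v ∈ O with hOF
  have hOFcard : OF.card = c₀ := by
    rw [hOF, ← hOcard, Nat.card_eq_fintype_card, Fintype.card_subtype]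
  have hmemOF : ∀ v, v ∈ OF ↔ v ∈ O := fun v => by simp [hOF]
  let T : IrrCharacter G → ℂ := fun χ => ∑ v ∈ OF, (χ : G → ℂ) (J * v)
  have hc₀0 : (c₀ : ℂ) ≠ 0 := Nat.cast_ne_zero.2 hc₀odd.pos.ne'
  -- `T` is an integral multiple of `c₀`
  let H : Subgroup G :=
    { carrier := {x | x ∈ O ∨ J * x ∈ O}
      one_mem' := Or.inl O.one_mem
      mul_mem' := by
        rintro a b (ha | ha) (hb | hb)
        · exact Or.inl (mul_mem ha hb)
        · refine Or.inr ?_
          have := mul_mem (hOn J hJC a ha) hb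
          rwa [show J * a * J⁻¹ * (J * b) = J * (a * b) by group] at this
        · refine Or.inr ?_
          rw [← mul_assoc]; exact mul_mem ha hb
        · refine Or.inl ?_
          have := mul_mem (hOn J hJC _ ha) hb
          rwa [show J * (J * a) * J⁻¹ * (J * b) = (J * J) * (a * b) by group, hJJ, one_mul] at this
      inv_mem' := by
        rintro a (ha | ha)
        · exact Or.inl (inv_mem ha)
        · refine Or.inr ?_
          have := hOn J hJC _ (inv_mem ha)
          rwa [show J * (J * a)⁻¹ * J⁻¹ = J * a⁻¹ * (J * J)⁻¹ by group, hJJ, inv_one,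
            mul_one] at this }
  have hTint : ∀ χ : IrrCharacter G, ∃ a : ℤ, T χ = (c₀ : ℂ) * a := by
    intro χ
    have := Fintype.ofFinite H
    have := Fintype.ofFinite O
    obtain ⟨i, hi⟩ := classInner_isCharacter_eq_natCast
      (isCharacter_res H (IsIrr.isCharacter χ.2)) (isCharacter_one (G := H))
    obtain ⟨j, hj⟩ := classInner_isCharacter_eq_natCast
      (isCharacter_res O (IsIrr.isCharacter χ.2)) (isCharacter_one (G := O))
    have hdisj : Disjoint OF (OF.image (J * ·)) := by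
      rw [Finset.disjoint_left]
      rintro _ hv hv'
      obtain ⟨w, hw, rfl⟩ := Finset.mem_image.1 hv'
      rw [hmemOF] at hv hw
      exact hJ1 (hOP J (by simpa using mul_mem hv (inv_mem hw)) hJ)
    have hHF : Finset.univ.filter (fun x : G => x ∈ H) = OF ∪ OF.image (J * ·) := by
      ext x
      simp only [Finset.mem_filter, Finset.mem_univ, true_and, Finset.mem_union, Finset.mem_image,
        hmemOF]
      show x ∈ O ∨ J * x ∈ O ↔ _
      refine or_congr_right ⟨fun h => ⟨J * x, h, by rw [← mul_assoc, hJJ, one_mul]⟩, ?_⟩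
      rintro ⟨v, hv, rfl⟩
      rwa [← mul_assoc, hJJ, one_mul]
    have hsumH : ∑ x : H, (χ : G → ℂ) x = ∑ v ∈ OF, (χ : G → ℂ) v + T χ := by
      rw [← Finset.sum_subtype (Finset.univ.filter fun x : G => x ∈ H) (fun x => by simp)
        (fun x : G => (χ : G → ℂ) x), hHF, Finset.sum_union hdisj,
        Finset.sum_image fun a _ b _ h => mul_left_cancel h]
    have hsumO : ∑ x : O, (χ : G → ℂ) x = ∑ v ∈ OF, (χ : G → ℂ) v :=
      (Finset.sum_subtype OF (fun x => hmemOF x) (fun x : G => (χ : G → ℂ) x)).symm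
    have hHcard : Nat.card H = 2 * c₀ := by
      rw [Nat.card_eq_fintype_card, Fintype.card_subtype, hHF, Finset.card_union_of_disjoint hdisj,
        Finset.card_image_of_injective _ (mul_right_injective J), hOFcard, two_mul]
    simp only [classInner, map_one, mul_one, hsumH, hsumO, hHcard, hOcard] at hi hj
    refine ⟨2 * (i : ℤ) - j, ?_⟩
    rw [inv_mul_eq_iff_eq_mul₀ hc₀0] at hj
    rw [inv_mul_eq_iff_eq_mul₀ (by rw [Nat.cast_mul]; exact mul_ne_zero two_ne_zero hc₀0)] at hi
    push_cast at hi ⊢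
    linear_combination hi - hj
  choose a ha using hTint
  have hTdeg : ∑ χ : IrrCharacter G, T χ * conj ((χ : G → ℂ) 1) = 0 := by
    simp only [T, Finset.sum_mul]
    rw [Finset.sum_comm]
    refine Finset.sum_eq_zero fun v hv => ?_
    rw [second_orthogonality, if_neg]
    intro h
    rw [hmemOF] at hv
    rw [isConj_one_left] at h
    exact hJ1 (hOP J (by
      have : J = v⁻¹ := eq_inv_of_mul_eq_one_left h
      rw [this]; exact inv_mem hv) hJ)
  have hTJ : ∑ χ : IrrCharacter G, T χ * conj ((χ : G → ℂ) J) = (Nat.card C : ℂ) := by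
    simp only [T, Finset.sum_mul]
    rw [Finset.sum_comm, Finset.sum_eq_single (1 : G)]
    · rw [mul_one, second_orthogonality, if_pos (IsConj.refl J)]
    · intro v hv hv1
      rw [hmemOF] at hv
      rw [second_orthogonality, if_neg]
      intro h
      obtain ⟨g, hg⟩ := isConj_iff.1 h
      refine hv1 ?_
      have h2 : (J * v) ^ 2 = 1 := by
        have h3 : (g * (J * v) * g⁻¹) ^ 2 = 1 := by rw [hg, sq, hJJ]
        rw [conj_pow] at h3
        exact conj_eq_one_iff.1 h3
      rw [(show Commute J v from hJv v hv).mul_pow, sq J, hJJ, one_mul] at h2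
      by_contra hv1'
      refine hOodd v hv ?_
      rw [orderOf_eq_prime h2 hv1']
    · intro h; exact absurd ((hmemOF 1).2 O.one_mem) h
  have hTT : ∑ χ : IrrCharacter G, T χ * conj (T χ) = (Nat.card C : ℂ) * c₀ := by
    simp only [T, map_sum, Finset.sum_mul_sum]
    rw [Finset.sum_comm]
    have hrow : ∀ v ∈ OF, ∑ χ : IrrCharacter G, ∑ w ∈ OF,
        (χ : G → ℂ) (J * v) * conj ((χ : G → ℂ) (J * w)) = (Nat.card C : ℂ) := by
      intro v hv
      rw [hmemOF] at hv
      rw [Finset.sum_comm]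
      simp only [second_orthogonality]
      rw [Finset.sum_ite, Finset.sum_const_zero, add_zero, Finset.sum_const, nsmul_eq_mul]
      set D := Subgroup.centralizer ({J * v} : Set G) with hD
      have hfixJ : ∀ w ∈ O, ∀ g : G, g * (J * v) * g⁻¹ = J * w → g ∈ C := by
        intro w hw g hg
        have h := congrArg (· ^ c₀) hg
        simp only [conj_pow, hJsplit v hv, hJsplit w hw] at h
        exact (hmemC g).2 (mul_inv_eq_iff_eq_mul.1 h)
      have hDC : D ≤ C := fun g hg => hfixJ v hv g (by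
        rw [hD, Subgroup.mem_centralizer_singleton_iff] at hg
        rw [hg, mul_inv_cancel_right])
      set CF := Finset.univ.filter fun g : G => g ∈ C with hCF
      set W := OF.filter fun w => IsConj (J * v) (J * w) with hW
      have hmapsto : ∀ g ∈ CF, g * v * g⁻¹ ∈ W := by
        intro g hg
        have hgC : g ∈ C := (Finset.mem_filter.1 hg).2
        refine Finset.mem_filter.2 ⟨(hmemOF _).2 (hOn g hgC v hv), isConj_iff.2 ⟨g, ?_⟩⟩
        rw [← mul_assoc g J v, (hmemC g).1 hgC]; group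
      have hfib : ∀ w ∈ W, (CF.filter fun g => g * v * g⁻¹ = w).card = Nat.card D := by
        intro w hw
        obtain ⟨hwO, hconj⟩ := Finset.mem_filter.1 hw
        obtain ⟨g₁, hg₁⟩ := isConj_iff.1 hconj
        have hg₁C := hfixJ w ((hmemOF w).1 hwO) g₁ hg₁
        rw [hCF, Finset.filter_filter, ← Fintype.card_subtype, ← Nat.card_eq_fintype_card]
        refine (Nat.card_congr (Equiv.subtypeEquiv (Equiv.mulLeft g₁) fun b => ?_)).symm
        rw [Equiv.coe_mulLeft, C.mul_mem_cancel_left hg₁C, hD,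
          Subgroup.mem_centralizer_singleton_iff]
        have hgv : g₁ * v * g₁⁻¹ = w := by
          refine mul_left_cancel (a := J) ?_
          rw [← hg₁, ← mul_assoc g₁ J v, (hmemC g₁).1 hg₁C]; group
        constructor
        · intro hb
          have hbC : b ∈ C := hDC (by rw [hD, Subgroup.mem_centralizer_singleton_iff]; exact hb)
          refine ⟨hbC, ?_⟩
          have hbv : b * v = v * b := by
            refine mul_left_cancel (a := J) ?_
            rw [← mul_assoc, ← (hmemC b).1 hbC, mul_assoc, hb, mul_assoc]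
          rw [← hgv]
          calc g₁ * b * v * (g₁ * b)⁻¹ = g₁ * (b * v) * b⁻¹ * g₁⁻¹ := by group
            _ = g₁ * v * g₁⁻¹ := by rw [hbv]; group
        · rintro ⟨hbC, hbv⟩
          rw [← hgv] at hbv
          have hbv' : b * v = v * b := by
            calc b * v = g₁⁻¹ * (g₁ * b * v * (g₁ * b)⁻¹) * (g₁ * b) := by group
              _ = v * b := by rw [hbv]; group
          rw [← mul_assoc, (hmemC b).1 hbC, mul_assoc, hbv', mul_assoc]
      rw [← Nat.cast_mul, show Nat.card C = CF.card by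
        rw [hCF, Nat.card_eq_fintype_card, Fintype.card_subtype],
        Finset.card_eq_sum_card_fiberwise hmapsto, Finset.sum_congr rfl hfib, Finset.sum_const,
        smul_eq_mul]
    rw [Finset.sum_congr rfl hrow, Finset.sum_const, hOFcard, nsmul_eq_mul, mul_comm]
  have haJ : ∑ χ : IrrCharacter G, (a χ : ℂ) * conj ((χ : G → ℂ) J) = 4 := by
    have h := hTJ
    simp only [ha, mul_assoc, ← Finset.mul_sum] at h
    refine mul_left_cancel₀ hc₀0 (h.trans ?_)
    rw [hc₀, Nat.cast_mul, Nat.cast_ofNat, mul_comm]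
  have hadeg : ∑ χ : IrrCharacter G, (a χ : ℂ) * conj ((χ : G → ℂ) 1) = 0 := by
    have h := hTdeg
    simp only [ha, mul_assoc, ← Finset.mul_sum, mul_eq_zero, hc₀0, false_or] at h
    exact h
  have haa : ∑ χ : IrrCharacter G, (a χ : ℤ) ^ 2 = 4 := by
    have h := hTT
    simp only [ha, map_mul, Complex.conj_natCast, map_intCast, hc₀] at h
    have h2 : (c₀ : ℂ) * (c₀ : ℂ) * ((∑ χ : IrrCharacter G, (a χ : ℤ) ^ 2 : ℤ) : ℂ) =
        (c₀ : ℂ) * (c₀ : ℂ) * ((4 : ℤ) : ℂ) := by
      rw [Int.cast_sum, Finset.mul_sum]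
      refine Eq.trans (Eq.trans (Finset.sum_congr rfl fun χ _ => ?_) h) ?_
      · push_cast; ring
      · push_cast; ring
    exact_mod_cast mul_left_cancel₀ (mul_ne_zero hc₀0 hc₀0) h2
  -- parity of the averages in the principal block
  have hdeg_odd : ∀ (χ : IrrCharacter G) (ε : ℤ) (n : ℕ), (χ : G → ℂ) J = ε → Odd ε →
      (χ : G → ℂ) 1 = n → Odd n := by
    intro χ ε n hv hεo hn
    have h := Blocks.memLocalIdeal_char_sub_degree hM (IsIrr.isCharacter χ.2)
      (g := J) ⟨1, by rw [hJ2]; rfl⟩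
    rw [hv, hn, ← Int.cast_natCast n, ← Int.cast_sub, Blocks.memLocalIdeal_intCast_iff hM] at h
    obtain ⟨e, rfl⟩ := hεo
    rw [Nat.odd_iff]
    omega
  have hparity : ∀ (χ : IrrCharacter G) (n : ℕ), χ ∈ Cfsg.principalBlock M G →
      (χ : G → ℂ) 1 = n → Odd n → Odd (a χ) := by
    intro χ n hχB hn hnodd
    set σ : G → G := fun v => u * v * u⁻¹ with hσ
    have hσσ : ∀ v, σ (σ v) = v := fun v => by
      simp only [hσ]
      calc u * (u * v * u⁻¹) * u⁻¹ = (u * u) * v * (u * u)⁻¹ := by group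
        _ = v := by rw [hPsq u hu, one_mul, inv_one, mul_one]
    set F := OF.filter fun v => σ v = v with hF
    set R := OF.filter fun v => ¬ σ v = v with hR
    have hRs : ∀ v ∈ R, σ v ∈ R ∧ σ v ≠ v := by
      intro v hv
      obtain ⟨hv1, hv2⟩ := Finset.mem_filter.1 hv
      refine ⟨Finset.mem_filter.2 ⟨(hmemOF _).2 (hOn u (hPC hu) v ((hmemOF v).1 hv1)), fun h => ?_⟩,
        hv2⟩
      rw [hσσ] at h
      exact hv2 h.symm
    have hint := IsChar.isIntegral (IsIrr.isCharacter χ.2)
    obtain ⟨w, hw, hwe⟩ := exists_eq_two_mul σ hσσ (fun v => (χ : G → ℂ) v)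
      (fun v => isClassFunction_of_isIrr χ.2 v u) _ R rfl hRs fun v _ => hint v
    obtain ⟨w', hw', hwe'⟩ := exists_eq_two_mul σ hσσ (fun _ => (1 : ℂ))
      (fun _ => rfl) _ R rfl hRs fun v _ => isIntegral_one
    simp only [Finset.sum_const, nsmul_one] at hwe'
    have hFodd : Odd F.card := by
      have hsplit : F.card + R.card = c₀ := by
        rw [hF, hR, Finset.card_filter_add_card_filter_not, hOFcard]
      have hRev : Cfsg.MemLocalIdeal M ((R.card : ℕ) : ℂ) := by
        rw [hwe']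
        refine Blocks.memLocalIdeal_mul_right hM ?_ (Blocks.memLocalRing_of_isIntegral hM hw')
        exact_mod_cast (Blocks.memLocalIdeal_natCast_iff hM 2).2 dvd_rfl
      rw [Blocks.memLocalIdeal_natCast_iff hM] at hRev
      have := Nat.odd_iff.1 hc₀odd
      rw [Nat.odd_iff]
      omega
    have hFc : ∀ v ∈ F, Cfsg.MemLocalIdeal M ((χ : G → ℂ) v - n) := by
      intro v hv
      obtain ⟨hv1, hv2⟩ := Finset.mem_filter.1 hv
      rw [hmemOF] at hv1
      have hidx : ¬ 2 ∣ (Subgroup.centralizer ({v} : Set G)).index := by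
        have hle : (P : Subgroup G) ≤ Subgroup.centralizer ({v} : Set G) := fun p hp => by
          rw [Subgroup.mem_centralizer_singleton_iff]
          have huv : u * v = v * u := mul_inv_eq_iff_eq_mul.1 hv2
          rcases hPlist p hp with rfl | rfl | rfl | rfl
          · simp
          · exact hJv v hv1
          · exact huv
          · exact ((show Commute J v from hJv v hv1).mul_left huv).eq
        exact fun h => P.not_dvd_index (h.trans (Subgroup.index_dvd_of_le hle))
      have hb : Cfsg.SameBlock M (fun _ : G => (1 : ℂ)) (χ : G → ℂ) := hχB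
      have h1 := hb v
      simp only [Cfsg.centralChar, mul_one, div_one, hn] at h1
      set e := (Subgroup.centralizer ({v} : Set G)).index with he
      have hn0 : (n : ℂ) ≠ 0 := Nat.cast_ne_zero.2 hnodd.pos.ne'
      have h2 := Blocks.memLocalIdeal_mul_right hM h1
        (Blocks.memLocalRing_of_isIntegral hM (isIntegral_algebraMap (R := ℤ) (A := ℂ)
          (x := -(n : ℤ))))
      have h3 := Blocks.memLocalIdeal_mul_right hM h2 (Blocks.memLocalRing_natCast_inv hM hidx)
      have he0 : (e : ℂ) ≠ 0 := Nat.cast_ne_zero.2 Subgroup.index_ne_zero_of_finite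
      convert h3 using 1
      simp only [map_neg, map_natCast]
      field_simp
      ring
    have hT : Cfsg.MemLocalIdeal M (T χ - (F.card : ℂ) * n) := by
      have h1 : Cfsg.MemLocalIdeal M (∑ v ∈ OF, ((χ : G → ℂ) v - (χ : G → ℂ) (J * v))) := by
        refine Blocks.memLocalIdeal_sum hM _ fun v hv => ?_
        have h := Blocks.memLocalIdeal_char_sub_pPrimePart hM (IsIrr.isCharacter χ.2) (J * v)
        rwa [(Blocks.parts_mul hM.1 (hJv v ((hmemOF v).1 hv)) ⟨1, by rw [hJ2]; rfl⟩
          (hOodd v ((hmemOF v).1 hv))).2] at h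
      have h2 : Cfsg.MemLocalIdeal M (∑ v ∈ F, ((χ : G → ℂ) v - n)) :=
        Blocks.memLocalIdeal_sum hM _ hFc
      have h3 : Cfsg.MemLocalIdeal M (∑ v ∈ R, (χ : G → ℂ) v) := by
        rw [hwe]
        refine Blocks.memLocalIdeal_mul_right hM ?_ (Blocks.memLocalRing_of_isIntegral hM hw)
        exact_mod_cast (Blocks.memLocalIdeal_natCast_iff hM 2).2 dvd_rfl
      have h4 := Blocks.memLocalIdeal_sub hM (Blocks.memLocalIdeal_add hM h2 h3) h1
      convert h4 using 1
      rw [Finset.sum_sub_distrib, Finset.sum_sub_distrib, Finset.sum_const, nsmul_eq_mul,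
        ← Finset.sum_filter_add_sum_filter_not OF (fun v => σ v = v) (fun v => (χ : G → ℂ) v),
        ← hF, ← hR]
      ring
    rw [ha χ] at hT
    have hT' : Cfsg.MemLocalIdeal M ((((c₀ : ℤ) * a χ - (F.card : ℤ) * n : ℤ)) : ℂ) := by
      push_cast; exact hT
    rw [Blocks.memLocalIdeal_intCast_iff hM] at hT'
    have hprod : Odd ((F.card : ℤ) * n) :=
      Odd.mul (by exact_mod_cast hFodd) (by exact_mod_cast hnodd)
    have h5 : Odd ((c₀ : ℤ) * a χ) := by
      rw [Int.odd_iff] at hprod ⊢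
      omega
    exact (Int.odd_mul.1 h5).2
  -- identify the averages
  let one : IrrCharacter G := ⟨fun _ => 1, isIrrCharacter_one⟩
  have ha1 : a one = 1 := by
    have h := ha one
    simp only [T, one, Finset.sum_const, hOFcard, nsmul_one] at h
    have h' : (1 : ℂ) = (a one : ℂ) := mul_left_cancel₀ hc₀0 (by rw [mul_one]; exact h)
    exact_mod_cast h'.symm
  obtain ⟨hd1, hd2, hd3, hd12, hd13, hd23⟩ := hdist
  obtain ⟨hv1, hv2, hv3⟩ := hval
  obtain ⟨he1, he2, he3⟩ := hε
  have hodd : ∀ {ε : ℤ}, (ε = 1 ∨ ε = -1) → Odd ε := by rintro ε (rfl | rfl) <;> decide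
  obtain ⟨x₁, hx₁0, hx₁⟩ := IsIrr.degree χ₁.2
  obtain ⟨x₂, hx₂0, hx₂⟩ := IsIrr.degree χ₂.2
  obtain ⟨x₃, hx₃0, hx₃⟩ := IsIrr.degree χ₃.2
  have ho1 := hdeg_odd χ₁ _ _ hv1 (hodd he1) hx₁
  have ho2 := hdeg_odd χ₂ _ _ hv2 (hodd he2) hx₂
  have ho3 := hdeg_odd χ₃ _ _ hv3 (hodd he3) hx₃
  have hB1 : χ₁ ∈ Cfsg.principalBlock M G := by rw [hB]; exact Or.inr (Or.inl rfl)
  have hB2 : χ₂ ∈ Cfsg.principalBlock M G := by rw [hB]; exact Or.inr (Or.inr (Or.inl rfl))
  have hB3 : χ₃ ∈ Cfsg.principalBlock M G := by rw [hB]; exact Or.inr (Or.inr (Or.inr rfl))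
  have hp1 := hparity χ₁ _ hB1 hx₁ ho1
  have hp2 := hparity χ₂ _ hB2 hx₂ ho2
  have hp3 := hparity χ₃ _ hB3 hx₃ ho3
  have n1 : one ≠ χ₁ := fun h => hd1 (congrArg Subtype.val h).symm
  have n2 : one ≠ χ₂ := fun h => hd2 (congrArg Subtype.val h).symm
  have n3 : one ≠ χ₃ := fun h => hd3 (congrArg Subtype.val h).symm
  set S4 : Finset (IrrCharacter G) := {one, χ₁, χ₂, χ₃} with hS4
  have hsum4 : ∀ {β : Type} [AddCommMonoid β] (f : IrrCharacter G → β),
      ∑ χ ∈ S4, f χ = f one + (f χ₁ + (f χ₂ + f χ₃)) := by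
    intro β _ f
    rw [hS4, Finset.sum_insert (by simp [n1, n2, n3]), Finset.sum_insert (by simp [hd12, hd13]),
      Finset.sum_insert (by simp [hd23]), Finset.sum_singleton]
  have hsq : ∀ {z : ℤ}, Odd z → 1 ≤ z ^ 2 := by
    intro z hz
    have hz0 : z ≠ 0 := by rintro rfl; simp at hz
    have h0 : 0 < z ^ 2 := by positivity
    omega
  have hout : ∀ χ, χ ∉ S4 → a χ = 0 := by
    intro χ hχ
    have h1 : ∑ φ ∈ insert χ S4, (a φ : ℤ) ^ 2 ≤ 4 := haa ▸
      Finset.sum_le_sum_of_subset_of_nonneg (Finset.subset_univ _) fun _ _ _ => sq_nonneg _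
    rw [Finset.sum_insert hχ, hsum4, ha1] at h1
    have := hsq hp1; have := hsq hp2; have := hsq hp3; have := sq_nonneg (a χ)
    exact pow_eq_zero_iff two_ne_zero |>.1 (by omega : a χ ^ 2 = 0)
  have hin : (a χ₁) ^ 2 = 1 ∧ (a χ₂) ^ 2 = 1 ∧ (a χ₃) ^ 2 = 1 := by
    have h1 := haa
    rw [← Finset.sum_subset (Finset.subset_univ S4) fun χ _ h => by rw [hout χ h]; norm_num,
      hsum4, ha1] at h1
    have := hsq hp1; have := hsq hp2; have := hsq hp3
    refine ⟨?_, ?_, ?_⟩ <;> omega
  have hred : ∀ f : IrrCharacter G → ℂ, ∑ χ : IrrCharacter G, (a χ : ℂ) * f χ =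
      f one + ((a χ₁ : ℂ) * f χ₁ + ((a χ₂ : ℂ) * f χ₂ + (a χ₃ : ℂ) * f χ₃)) := by
    intro f
    rw [← Finset.sum_subset (Finset.subset_univ S4) fun χ _ h => by rw [hout χ h]; simp,
      hsum4, ha1, Int.cast_one, one_mul]
  have hJval : (1 : ℤ) + a χ₁ * ε₁ + a χ₂ * ε₂ + a χ₃ * ε₃ = 4 := by
    have h := haJ
    rw [hred] at h
    simp only [one, map_one, hv1, hv2, hv3, map_intCast] at h
    have h' : ((1 + a χ₁ * ε₁ + a χ₂ * ε₂ + a χ₃ * ε₃ : ℤ) : ℂ) = ((4 : ℤ) : ℂ) := by
      push_cast; linear_combination h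
    exact_mod_cast h'
  have haε : a χ₁ = ε₁ ∧ a χ₂ = ε₂ ∧ a χ₃ = ε₃ := by
    rcases sq_eq_one_iff.1 hin.1 with h1 | h1 <;> rcases sq_eq_one_iff.1 hin.2.1 with h2 | h2 <;>
      rcases sq_eq_one_iff.1 hin.2.2 with h3 | h3 <;> rw [h1, h2, h3] at hJval ⊢ <;>
      rcases he1 with rfl | rfl <;> rcases he2 with rfl | rfl <;> rcases he3 with rfl | rfl <;>
      omega
  obtain ⟨hae1, hae2, hae3⟩ := haε
  have hsumf : ∀ f : IrrCharacter G → ℂ, ∑ χ : IrrCharacter G, (a χ : ℂ) * f χ =
      f one + ((ε₁ : ℂ) * f χ₁ + ((ε₂ : ℂ) * f χ₂ + (ε₃ : ℂ) * f χ₃)) := fun f => by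
    rw [hred, hae1, hae2, hae3]
  refine ⟨k, x₁, x₂, x₃, hkpos, ⟨hx₁, hx₂, hx₃⟩, ⟨ho1, ho2, ho3⟩, hcCk, ?_, ?_, ?_, ?_⟩
  · have h := hadeg
    rw [hsumf] at h
    simp only [one, map_one, hx₁, hx₂, hx₃, Complex.conj_natCast] at h
    have h' : ((1 + ε₁ * x₁ + ε₂ * x₂ + ε₃ * x₃ : ℤ) : ℂ) = ((0 : ℤ) : ℂ) := by
      push_cast; linear_combination h
    exact_mod_cast h'
  · -- counting pairs of involutions
    set cl := Finset.univ.filter (IsConj J) with hcl
    let N : G → ℂ := fun z => ∑ x ∈ cl, ∑ y ∈ cl, if x * y = z then 1 else 0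
    have hN : IsClassFunction G N := by
      intro z g
      refine Finset.sum_equiv (MulAut.conj g⁻¹).toEquiv (fun x => ?_) fun x _ => ?_
      · simp only [hcl, Finset.mem_filter, Finset.mem_univ, true_and]
        exact ⟨fun h => h.trans (isConj_iff.2 ⟨g⁻¹, rfl⟩),
          fun h => h.trans (isConj_iff.2 ⟨g⁻¹, rfl⟩ : IsConj x (MulAut.conj g⁻¹ x)).symm⟩
      refine Finset.sum_equiv (MulAut.conj g⁻¹).toEquiv (fun x => ?_) fun y _ => if_congr ?_ rfl rfl
      · simp only [hcl, Finset.mem_filter, Finset.mem_univ, true_and]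
        exact ⟨fun h => h.trans (isConj_iff.2 ⟨g⁻¹, rfl⟩),
          fun h => h.trans (isConj_iff.2 ⟨g⁻¹, rfl⟩ : IsConj x (MulAut.conj g⁻¹ x)).symm⟩
      show x * y = g * z * g⁻¹ ↔ MulAut.conj g⁻¹ x * MulAut.conj g⁻¹ y = z
      rw [← map_mul, ← (MulAut.conj g⁻¹).injective.eq_iff]
      refine iff_of_eq (congrArg _ ?_)
      simp [mul_assoc]
    set e : ℂ := ((Subgroup.centralizer ({J} : Set G)).index : ℂ) with he
    have hcoef : ∀ χ : IrrCharacter G, classInner N (χ : G → ℂ) =
        (Nat.card G : ℂ)⁻¹ *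
          (e * e * conj ((χ : G → ℂ) J) * conj ((χ : G → ℂ) J) / conj ((χ : G → ℂ) 1)) := by
      intro χ
      have h := sum_classes_mul χ.2 J J
      rw [← hcl, ← he] at h
      have h' := congrArg (starRingEnd ℂ) h
      simp only [map_mul, he, Complex.conj_natCast, map_sum] at h'
      have hd : conj ((χ : G → ℂ) 1) ≠ 0 := by simpa using IsIrr.one_ne_zero χ.2
      rw [← he] at h'
      rw [← h', mul_div_assoc, classInner]
      congr 1
      rw [← mul_div_assoc, mul_div_cancel_left₀ _ hd]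
      simp only [N, Finset.sum_mul, ite_mul, one_mul, zero_mul]
      rw [Finset.sum_comm]
      refine Finset.sum_congr rfl fun x _ => ?_
      rw [Finset.sum_comm]
      simp
    have hcount : ∑ v ∈ OF, N (J * v) = 2 * (k : ℂ) ^ 2 := by
      have hA : (cl ×ˢ cl).filter (fun xy => J * (xy.1 * xy.2) ∈ O) =
          Inv u ×ˢ Inv (J * u) ∪ Inv (J * u) ×ˢ Inv u := by
        have hmemInv : ∀ w x, x ∈ Inv w ↔ x * x = 1 ∧ x * w ∈ O := fun w x => by
          simp [Inv]
        ext ⟨x, y⟩
        simp only [Finset.mem_union, Finset.mem_product, Finset.mem_filter, hcl, Finset.mem_univ,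
          true_and]
        constructor
        · rintro ⟨⟨hx, hy⟩, hxy⟩
          have hsqc : ∀ {z : G}, IsConj J z → z * z = 1 ∧ z ≠ 1 := by
            intro z hz
            obtain ⟨g, rfl⟩ := isConj_iff.1 hz
            refine ⟨?_, fun h => hJ1 (conj_eq_one_iff.1 h)⟩
            rw [conj_mul, hJJ, mul_one, mul_inv_cancel]
          obtain ⟨hxx, hx1⟩ := hsqc hx
          obtain ⟨hyy, hy1⟩ := hsqc hy
          set v := J * (x * y) with hv
          have hzJ : (x * y) ^ c₀ = J := by
            have : x * y = J * v := by rw [hv, ← mul_assoc, hJJ, one_mul]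
            rw [this, hJsplit v hxy]
          have hxC : x ∈ C := by
            have hxi : x⁻¹ = x := inv_eq_of_mul_eq_one_right hxx
            have h1 : x * (x * y) * x⁻¹ = (x * y)⁻¹ := by
              rw [_root_.mul_inv_rev, ← mul_assoc, hxx, one_mul, hxi,
                inv_eq_of_mul_eq_one_right hyy]
            have h2 := congrArg (· ^ c₀) h1
            simp only [conj_pow, inv_pow, hzJ, hJinv] at h2
            exact (hmemC x).2 (mul_inv_eq_iff_eq_mul.1 h2)
          have hyC : y ∈ C := by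
            have : y = x * (J * v) := by
              rw [hv, ← mul_assoc J J, hJJ, one_mul, ← mul_assoc, hxx, one_mul]
            rw [this]
            exact mul_mem hxC (mul_mem hJC (hOC hxy))
          obtain ⟨o, ho, p, hp, hxe⟩ := hdecomp x hxC
          obtain ⟨o', ho', p', hp', hye⟩ := hdecomp y hyC
          have hnot : ∀ {z : G}, z * z = 1 → z ≠ 1 → z ∉ O := by
            intro z hzz hz1 hz
            exact hOodd z hz (by rw [orderOf_eq_prime (by rw [sq]; exact hzz) hz1])
          have hpne : p ≠ 1 := fun h => hnot hxx hx1 (by rw [hxe, h, mul_one]; exact ho)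
          have hp'ne : p' ≠ 1 := fun h => hnot hyy hy1 (by rw [hye, h, mul_one]; exact ho')
          have hJpp : J * (p * p') = 1 := by
            refine hOP _ ?_ (mul_mem hJ (mul_mem hp hp'))
            have h1 : v = (J * (o * (p * o' * p⁻¹)) * J⁻¹) * (J * (p * p')) := by
              rw [hv, hxe, hye]; group
            have h2 : J * (o * (p * o' * p⁻¹)) * J⁻¹ ∈ O :=
              hOn J hJC _ (mul_mem ho (hOn p (hPC hp) o' ho'))
            have h3 := mul_mem (inv_mem h2) hxy
            rwa [h1, inv_mul_cancel_left] at h3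
          have hpp' : p' = J * p := by
            have h1 : p * p' = J := by
              calc p * p' = J * (J * (p * p')) := by rw [← mul_assoc, hJJ, one_mul]
                _ = J := by rw [hJpp, mul_one]
            calc p' = p * (p * p') := by rw [← mul_assoc, hPsq p hp, one_mul]
              _ = J * p := by rw [h1, hcomm hp hJ]
          have hxp : x * p ∈ O := by rw [hxe, mul_assoc, hPsq p hp, mul_one]; exact ho
          have hyp : y * p' ∈ O := by rw [hye, mul_assoc, hPsq p' hp', mul_one]; exact ho'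
          rcases hPlist p hp with h | h | h | h
          · exact absurd h hpne
          · rw [h, hJJ] at hpp'; exact absurd hpp' hp'ne
          · left
            rw [hmemInv, hmemInv]
            exact ⟨⟨hxx, h ▸ hxp⟩, hyy, by rw [← h, ← hpp']; exact hyp⟩
          · right
            rw [hmemInv, hmemInv]
            refine ⟨⟨hxx, h ▸ hxp⟩, hyy, ?_⟩
            rw [h, ← mul_assoc, hJJ, one_mul] at hpp'
            exact hpp' ▸ hyp
        · intro h
          have main : ∀ w ∈ (P : Subgroup G), w ≠ 1 → J * w ≠ 1 → x ∈ Inv w → y ∈ Inv (J * w) →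
              (IsConj J x ∧ IsConj J y) ∧ J * (x * y) ∈ O := by
            intro w hw hw1 hJw1 hx hy
            have hJw : J * w ∈ (P : Subgroup G) := mul_mem hJ hw
            obtain ⟨g, -, hg⟩ := hInvConj w hw x hx
            obtain ⟨g', -, hg'⟩ := hInvConj _ hJw y hy
            refine ⟨⟨(hinvol w hw hw1).2.trans (isConj_iff.2 ⟨g, hg⟩),
              (hinvol _ hJw hJw1).2.trans (isConj_iff.2 ⟨g', hg'⟩)⟩, ?_⟩
            have hxO := ((hmemInv w x).1 hx).2
            have hyO := ((hmemInv _ y).1 hy).2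
            have hwJw : w * (J * w) = J := by
              rw [hcomm hw hJw, mul_assoc, hPsq w hw, mul_one]
            have hx' : x = (x * w) * w := by rw [mul_assoc, hPsq w hw, mul_one]
            have hy' : y = (y * (J * w)) * (J * w) := by rw [mul_assoc, hPsq _ hJw, mul_one]
            have e1 : J * (x * y) =
                J * ((x * w) * (w * (y * (J * w)) * w⁻¹)) * J⁻¹ * (J * (w * (J * w))) := by
              conv_lhs => rw [hx', hy']
              group
            rw [e1, hwJw, hJJ, mul_one]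
            exact hOn J hJC _ (mul_mem hxO (hOn w (hPC hw) _ hyO))
          rcases h with ⟨hx, hy⟩ | ⟨hx, hy⟩
          · exact main u hu hu1 hJu1 hx hy
          · refine main (J * u) hJu hJu1 ?_ hx ?_
            · rw [← mul_assoc, hJJ, one_mul]; exact hu1
            · rw [← mul_assoc, hJJ, one_mul]; exact hy
      have hdisj : Disjoint (Inv u ×ˢ Inv (J * u)) (Inv (J * u) ×ˢ Inv u) := by
        rw [Finset.disjoint_left]
        rintro ⟨x, y⟩ h h'
        have h1 := (Finset.mem_filter.1 (Finset.mem_product.1 h).1).2.2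
        have h2 := (Finset.mem_filter.1 (Finset.mem_product.1 h').1).2.2
        have h3 := mul_mem (inv_mem h1) h2
        rw [_root_.mul_inv_rev, mul_assoc, inv_mul_cancel_left] at h3
        have h4 : u⁻¹ * (J * u) = J := by
          rw [hcomm hJ hu, inv_mul_cancel_left]
        rw [h4] at h3
        exact hJ1 (hOP J h3 hJ)
      have hAc := congrArg Finset.card hA
      rw [Finset.card_union_of_disjoint hdisj, Finset.card_product, Finset.card_product, hk',
        ← hk] at hAc
      have hflat : ∑ v ∈ OF, N (J * v) =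
          (((cl ×ˢ cl).filter fun xy => J * (xy.1 * xy.2) ∈ O).card : ℂ) := by
        simp only [N]
        rw [Finset.natCast_card_filter, Finset.sum_product, Finset.sum_comm]
        refine Finset.sum_congr rfl fun x _ => ?_
        rw [Finset.sum_comm]
        refine Finset.sum_congr rfl fun y _ => ?_
        by_cases hxy : J * (x * y) ∈ O
        · rw [if_pos hxy, Finset.sum_eq_single (J * (x * y))]
          · rw [if_pos (by rw [← mul_assoc J J, hJJ, one_mul])]
          · intro v _ hv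
            rw [if_neg]
            intro h
            exact hv (by rw [h, ← mul_assoc, hJJ, one_mul])
          · intro h; exact absurd ((hmemOF _).2 hxy) h
        · rw [if_neg hxy]
          refine Finset.sum_eq_zero fun v hv => if_neg fun h => hxy ?_
          rw [h, ← mul_assoc, hJJ, one_mul]
          exact (hmemOF v).1 hv
      rw [hflat, hAc]
      push_cast
      ring
    have hexp : ∑ v ∈ OF, N (J * v) = (c₀ : ℂ) * ((Nat.card G : ℂ)⁻¹ * (e * e)) *
        (1 + (ε₁ : ℂ) / x₁ + (ε₂ : ℂ) / x₂ + (ε₃ : ℂ) / x₃) := by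
      rw [Finset.sum_congr rfl fun v _ => congrFun (classFun_expansion hN) (J * v)]
      simp only [Finset.sum_apply, Pi.smul_apply, smul_eq_mul]
      rw [Finset.sum_comm]
      simp only [← Finset.mul_sum]
      rw [Finset.sum_congr rfl fun (χ : IrrCharacter G) _ => show classInner N (χ : G → ℂ) * ∑ v ∈ OF, (χ : G → ℂ) (J * v)
        = (c₀ : ℂ) * ((a χ : ℂ) * classInner N (χ : G → ℂ)) by
          rw [show (∑ v ∈ OF, (χ : G → ℂ) (J * v)) = T χ from rfl, ha χ]; ring,
        ← Finset.mul_sum, hsumf]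
      simp only [hcoef, hv1, hv2, hv3, hx₁, hx₂, hx₃, map_intCast, Complex.conj_natCast]
      simp only [one, map_one]
      have q1 : (ε₁ : ℂ) * ε₁ = 1 := by rcases he1 with rfl | rfl <;> simp
      have q2 : (ε₂ : ℂ) * ε₂ = 1 := by rcases he2 with rfl | rfl <;> simp
      have q3 : (ε₃ : ℂ) * ε₃ = 1 := by rcases he3 with rfl | rfl <;> simp
      simp only [div_one, mul_one, mul_assoc, q1, q2, q3]
      ring
    rw [hcount] at hexp
    have hidx : (Nat.card C : ℂ) * e = Nat.card G := by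
      rw [he, ← Nat.cast_mul, ← hC, Subgroup.card_mul_index]
    have hCc : (Nat.card C : ℂ) = 4 * c₀ := by rw [hc₀]; push_cast; ring
    have hG0 : (Nat.card G : ℂ) ≠ 0 := card_ne_zero
    rw [← hidx] at hexp hG0 ⊢
    rw [hCc] at hexp hG0 ⊢
    have he0 : e ≠ 0 := fun h => hG0 (by rw [h, mul_zero])
    field_simp at hexp
    linear_combination (-(4 : ℂ) * (c₀ : ℂ)) * hexp
  · have h : ∑ χ : IrrCharacter G, (a χ : ℂ) * fsInd (χ : G → ℂ) = 0 := by
      have hzero : ∀ v ∈ OF, ∑ χ : IrrCharacter G, fsInd (χ : G → ℂ) * (χ : G → ℂ) (J * v) = 0 := by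
        intro v hv
        rw [← card_sqrt_eq_sum]
        have : IsEmpty {s : G // s * s = J * v} := ⟨fun ⟨s, hs⟩ => by
          rw [hmemOF] at hv
          refine not_four_dvd_orderOf hG hg₀ hnc P hJ hJ2 s ?_
          have h2 : 2 ∣ orderOf (J * v) := by
            rw [← hJ2]
            conv_lhs => rw [← hJsplit v hv]
            exact orderOf_pow_dvd c₀
          have h3 : orderOf (J * v) ∣ orderOf s := by rw [← hs, ← sq]; exact orderOf_pow_dvd 2
          obtain ⟨t, ht⟩ := h2.trans h3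
          have h4 : (J * v) ^ t = 1 := by rw [← hs, ← sq, ← pow_mul, ← ht, pow_orderOf_eq_one]
          obtain ⟨r, hr⟩ := h2.trans (orderOf_dvd_of_pow_eq_one h4)
          exact ⟨r, by rw [ht, hr]; ring⟩⟩
        rw [Nat.card_of_isEmpty, Nat.cast_zero]
      have h1 : ∑ χ : IrrCharacter G, T χ * fsInd (χ : G → ℂ) = 0 := by
        simp only [T, Finset.sum_mul]
        rw [Finset.sum_comm]
        refine Finset.sum_eq_zero fun v hv => ?_
        rw [← hzero v hv]
        exact Finset.sum_congr rfl fun χ _ => mul_comm _ _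
      simp only [ha, mul_assoc, ← Finset.mul_sum, mul_eq_zero, hc₀0, false_or] at h1
      exact h1
    rw [hsumf] at h
    have hone : fsInd (one : G → ℂ) = 1 := by simp [fsInd, one, card_ne_zero]
    rw [hone] at h
    linear_combination h
  · intro χ hχ
    have ha' : a (conjIrr χ) = a χ := by
      have h1 : T (conjIrr χ) = conj (T χ) := by simp [T]
      rw [ha, ha, map_mul, Complex.conj_natCast, map_intCast] at h1
      exact_mod_cast mul_left_cancel₀ hc₀0 h1
    have hne : a χ ≠ 0 := by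
      rcases hχ with rfl | rfl | rfl
      · rw [hae1]; rcases he1 with rfl | rfl <;> norm_num
      · rw [hae2]; rcases he2 with rfl | rfl <;> norm_num
      · rw [hae3]; rcases he3 with rfl | rfl <;> norm_num
    have hmem : conjIrr χ ∈ S4 := by_contra fun h => hne (ha' ▸ hout _ h)
    simp only [hS4, Finset.mem_insert, Finset.mem_singleton] at hmem
    refine hmem.resolve_left fun h => ?_
    have hχone : χ = one := by
      rw [← conjIrr_conjIrr χ, h]
      exact Subtype.ext (funext fun _ => map_one _)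
    rcases hχ with rfl | rfl | rfl
    · exact n1 hχone.symm
    · exact n2 hχone.symm
    · exact n3 hχone.symm

end Cfsg.Agent.Char
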