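import Cfsg.Agent.Char.Ortho

/-!
# Induced class functions
-/

namespace Cfsg.Agent.Char

open scoped ComplexConjugate

universe u

variable {G : Type u} [Group G]

theorem extendByZero_of_mem (H : Subgroup G) (θ : H → ℂ) {g : G} (hg : g ∈ H) :
    extendByZero H θ g = θ ⟨g, hg⟩ :=
  Subtype.val_injective.extend_apply θ 0 ⟨g, hg⟩

theorem extendByZero_coe (H : Subgroup G) (θ : H → ℂ) (h : H) :
    extendByZero H θ (h : G) = θ h :=
  Subtype.val_injective.extend_apply θ 0 h

theorem extendByZero_of_not_mem (H : Subgroup G) (θ : H → ℂ) {g : G} (hg : g ∉ H) :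
    extendByZero H θ g = 0 :=
  Function.extend_apply' _ _ _ fun ⟨a, ha⟩ => hg (ha ▸ a.2)

theorem sum_extendByZero_mul [Fintype G] (H : Subgroup G) [Fintype H] (θ : H → ℂ) (F : G → ℂ) :
    ∑ g : G, extendByZero H θ g * F g = ∑ h : H, θ h * F h := by
  classical
  rw [← Finset.sum_filter_add_sum_filter_not Finset.univ (· ∈ H),
    Finset.sum_eq_zero (s := Finset.univ.filter fun g => g ∉ H) fun g hg => by
      rw [extendByZero_of_not_mem H θ (Finset.mem_filter.1 hg).2, zero_mul],
    add_zero, Finset.sum_subtype (F := ‹Fintype H›) (Finset.univ.filter (· ∈ H)) (p := (· ∈ H))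
      (by simp)]
  exact Finset.sum_congr rfl fun h _ => by rw [extendByZero_coe]

variable [Fintype G] (H : Subgroup G)

theorem indFun_apply (θ : H → ℂ) (g : G) :
    indFun H θ g = (Nat.card H : ℂ)⁻¹ * ∑ x : G, extendByZero H θ (x⁻¹ * g * x) := rfl

theorem isClassFunction_indFun (θ : H → ℂ) : IsClassFunction G (indFun H θ) := by
  intro g k
  simp only [indFun_apply]
  congr 1
  exact Fintype.sum_equiv (Equiv.mulLeft k⁻¹) _ _ fun x => by simp [mul_assoc]

theorem indFun_add (θ η : H → ℂ) : indFun H (θ + η) = indFun H θ + indFun H η := by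
  funext g
  simp only [indFun_apply, Pi.add_apply, ← mul_add, ← Finset.sum_add_distrib]
  congr 1
  refine Finset.sum_congr rfl fun x _ => ?_
  by_cases hx : x⁻¹ * g * x ∈ H
  · simp [extendByZero_of_mem H _ hx]
  · simp [extendByZero_of_not_mem H _ hx]

theorem indFun_smul (c : ℂ) (θ : H → ℂ) : indFun H (c • θ) = c • indFun H θ := by
  funext g
  simp only [indFun_apply, Pi.smul_apply, smul_eq_mul, Finset.mul_sum]
  refine Finset.sum_congr rfl fun x _ => ?_
  by_cases hx : x⁻¹ * g * x ∈ H
  · simp [extendByZero_of_mem H _ hx]; ring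
  · simp [extendByZero_of_not_mem H _ hx]

theorem indFun_zero : indFun H (0 : H → ℂ) = 0 := by
  simpa using indFun_smul H 0 (0 : H → ℂ)

theorem indFun_neg (θ : H → ℂ) : indFun H (-θ) = -indFun H θ := by
  simpa using indFun_smul H (-1) θ

theorem indFun_sub (θ η : H → ℂ) : indFun H (θ - η) = indFun H θ - indFun H η := by
  rw [sub_eq_add_neg, indFun_add, indFun_neg, ← sub_eq_add_neg]

theorem indFun_sum {ι : Type*} (s : Finset ι) (f : ι → H → ℂ) :
    indFun H (∑ i ∈ s, f i) = ∑ i ∈ s, indFun H (f i) := by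
  classical
  induction s using Finset.induction with
  | empty => simp [indFun_zero]
  | insert a s ha ih => simp [Finset.sum_insert ha, indFun_add, ih]

theorem indFun_apply_one (θ : H → ℂ) : indFun H θ 1 = (H.index : ℂ) * θ 1 := by
  have h : (Nat.card H : ℂ) ≠ 0 := Nat.cast_ne_zero.2 Nat.card_pos.ne'
  have h1 : ∀ x : G, extendByZero H θ (x⁻¹ * 1 * x) = θ 1 := fun x => by
    simpa using extendByZero_coe H θ 1
  simp only [indFun_apply, h1, Finset.sum_const, Finset.card_univ, nsmul_eq_mul]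
  rw [← Nat.card_eq_fintype_card, ← Subgroup.card_mul_index H, Nat.cast_mul, ← mul_assoc,
    ← mul_assoc, inv_mul_cancel₀ h, one_mul]

theorem indFun_apply_eq_zero (θ : H → ℂ) {g : G} (h : ∀ x : G, x⁻¹ * g * x ∉ H) :
    indFun H θ g = 0 := by
  simp [indFun_apply, extendByZero_of_not_mem H θ (h _)]

theorem indFun_apply_of_normal [H.Normal] (θ : H → ℂ) {g : G} (hg : g ∉ H) :
    indFun H θ g = 0 := by
  refine indFun_apply_eq_zero H θ fun x hx => hg ?_
  simpa [mul_assoc] using Subgroup.Normal.conj_mem ‹_› _ hx x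

theorem indFun_apply_coe_of_normal [hN : H.Normal] (θ : H → ℂ) (g : H) :
    indFun H θ g = (Nat.card H : ℂ)⁻¹ *
      ∑ x : G, θ ⟨x⁻¹ * g * x, by simpa using hN.conj_mem (g : G) g.2 x⁻¹⟩ := by
  simp only [indFun_apply]
  congr 1
  exact Finset.sum_congr rfl fun x _ => extendByZero_of_mem H θ _

/-- Frobenius reciprocity. -/
theorem classInner_indFun_left [Fintype H] (θ : H → ℂ) {χ : G → ℂ} (hχ : IsClassFunction G χ) :
    classInner (indFun H θ) χ = classInner θ (fun h : H => χ h) := by
  have key : ∀ x : G, ∑ g, extendByZero H θ (x⁻¹ * g * x) * conj (χ g) =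
      ∑ h : H, θ h * conj (χ h) := by
    intro x
    rw [← sum_extendByZero_mul H θ fun y => conj (χ y)]
    refine Fintype.sum_equiv (MulAut.conj x⁻¹).toEquiv _ _ fun g => ?_
    have hg : χ (x⁻¹ * g * x) = χ g := by simpa using hχ g x⁻¹
    simp [hg]
  simp only [classInner, indFun_apply, mul_assoc, Finset.sum_mul, ← Finset.mul_sum]
  rw [Finset.sum_comm]
  simp only [← mul_assoc] at key ⊢
  rw [Finset.sum_congr rfl fun x _ => key x, Finset.sum_const, Finset.card_univ, nsmul_eq_mul,
    ← Nat.card_eq_fintype_card]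
  have : (Nat.card G : ℂ) ≠ 0 := card_ne_zero
  field_simp

theorem classInner_indFun_right [Fintype H] (θ : H → ℂ) {χ : G → ℂ} (hχ : IsClassFunction G χ) :
    classInner χ (indFun H θ) = classInner (fun h : H => χ h) θ := by
  rw [← classInner_conj_symm, classInner_indFun_left H θ hχ, classInner_conj_symm]

theorem isCharacter_indFun {θ : H → ℂ} (hθ : IsCharacter H θ) :
    IsCharacter G (indFun H θ) := by
  have := Fintype.ofFinite H
  refine isCharacter_iff.2 ⟨isClassFunction_indFun H θ, fun χ => ?_⟩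
  rw [classInner_indFun_left H θ (isClassFunction_of_isIrr χ.2)]
  exact classInner_isCharacter_eq_natCast hθ (isCharacter_res H (IsIrr.isCharacter χ.2))

/-- Transitivity of induction. -/
theorem indFun_indFun (K : Subgroup G) [Fintype K] (hHK : H ≤ K) (θ : H → ℂ) :
    indFun K (indFun (H.subgroupOf K)
      (fun x => θ ⟨(x : K), Subgroup.mem_subgroupOf.mp x.2⟩)) = indFun H θ := by
  funext g
  set η : H.subgroupOf K → ℂ := fun x => θ ⟨(x : K), Subgroup.mem_subgroupOf.mp x.2⟩
  have hη : ∀ k : K, extendByZero (H.subgroupOf K) η k = extendByZero H θ (k : G) := by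
    intro k
    by_cases hk : (k : G) ∈ H
    · rw [extendByZero_of_mem H θ hk,
        extendByZero_of_mem _ η (Subgroup.mem_subgroupOf.2 hk)]
    · rw [extendByZero_of_not_mem H θ hk,
        extendByZero_of_not_mem _ η fun h => hk (Subgroup.mem_subgroupOf.1 h)]
  have hcard : Nat.card (H.subgroupOf K) = Nat.card H :=
    Nat.card_congr (Subgroup.subgroupOfEquivOfLe hHK).toEquiv
  have hx : ∀ x : G, extendByZero K (indFun (H.subgroupOf K) η) (x⁻¹ * g * x) =
      (Nat.card H : ℂ)⁻¹ * ∑ k : K, extendByZero H θ ((x * k)⁻¹ * g * (x * k)) := by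
    intro x
    by_cases hm : x⁻¹ * g * x ∈ K
    · rw [extendByZero_of_mem K _ hm, indFun_apply, hcard]
      congr 1
      exact Finset.sum_congr rfl fun k _ => by rw [hη]; simp [mul_assoc]
    · rw [extendByZero_of_not_mem K _ hm, Finset.sum_eq_zero, mul_zero]
      intro k _
      refine extendByZero_of_not_mem H θ fun h => hm ?_
      have h' := K.mul_mem (K.mul_mem k.2 (hHK h)) (K.inv_mem k.2)
      simpa [mul_assoc] using h'
  simp only [indFun_apply K, hx, ← Finset.mul_sum]
  rw [Finset.sum_comm]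
  have hk : ∀ k : K, ∑ x : G, extendByZero H θ ((x * k)⁻¹ * g * (x * k)) =
      ∑ x : G, extendByZero H θ (x⁻¹ * g * x) := fun k =>
    Fintype.sum_equiv (Equiv.mulRight (k : G)) _ _ fun x => rfl
  rw [Finset.sum_congr rfl fun k _ => hk k, Finset.sum_const, Finset.card_univ, nsmul_eq_mul,
    ← Nat.card_eq_fintype_card, indFun_apply]
  have : (Nat.card K : ℂ) ≠ 0 := card_ne_zero
  field_simp

theorem indFun_mul_res (θ : H → ℂ) {χ : G → ℂ} (hχ : IsClassFunction G χ) :
    indFun H (θ * fun h : H => χ h) = indFun H θ * χ := by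
  funext g
  simp only [indFun_apply, Pi.mul_apply, mul_assoc, Finset.sum_mul]
  congr 1
  refine Finset.sum_congr rfl fun x _ => ?_
  rw [← mul_assoc]
  by_cases hx : x⁻¹ * g * x ∈ H
  · rw [extendByZero_of_mem H _ hx, extendByZero_of_mem H _ hx, Pi.mul_apply]
    congr 1
    simpa using hχ g x⁻¹
  · simp [extendByZero_of_not_mem H _ hx]

theorem indFun_top (θ : (⊤ : Subgroup G) → ℂ) (hθ : IsClassFunction (⊤ : Subgroup G) θ) (g : G) :
    indFun ⊤ θ g = θ ⟨g, Subgroup.mem_top g⟩ := by
  have h : ∀ x : G, extendByZero ⊤ θ (x⁻¹ * g * x) = θ ⟨g, Subgroup.mem_top g⟩ := fun x => by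
    rw [extendByZero_of_mem ⊤ θ (Subgroup.mem_top _)]
    rw [← hθ ⟨g, Subgroup.mem_top g⟩ ⟨x⁻¹, Subgroup.mem_top _⟩]
    exact congrArg θ (Subtype.ext (by simp))
  simp only [indFun_apply, h, Finset.sum_const, Finset.card_univ, nsmul_eq_mul,
    Subgroup.card_top]
  rw [← Nat.card_eq_fintype_card, ← mul_assoc, inv_mul_cancel₀ card_ne_zero, one_mul]

end Cfsg.Agent.Char
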