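import Cfsg.Agent.Char.Ortho
import Cfsg.Agent.Char.Induced

/-!
# Generalized characters, norms and constituents
-/

namespace Cfsg.Agent.Char

open scoped ComplexConjugate

universe u w

variable {G : Type u} [Group G] [Fintype G] {θ η χ : G → ℂ}

theorem isGeneralized_iff :
    IsGeneralizedCharacter G θ ↔ IsClassFunction G θ ∧
      ∀ ψ : IrrCharacter G, ∃ k : ℤ, classInner θ (ψ : G → ℂ) = k := by
  constructor
  · rintro ⟨χ, ξ, hχ, hξ, rfl⟩
    refine ⟨fun g k => ?_, fun ψ => ?_⟩
    · simp [isClassFunction_of_isCharacter hχ g k, isClassFunction_of_isCharacter hξ g k]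
    · obtain ⟨a, ha⟩ := classInner_isCharacter_eq_natCast hχ (IsIrr.isCharacter ψ.2)
      obtain ⟨b, hb⟩ := classInner_isCharacter_eq_natCast hξ (IsIrr.isCharacter ψ.2)
      exact ⟨(a : ℤ) - b, by rw [classInner_sub_left, ha, hb]; push_cast; rfl⟩
  · rintro ⟨hf, h⟩
    choose k hk using h
    refine ⟨∑ ψ : IrrCharacter G, ((k ψ).toNat : ℂ) • (ψ : G → ℂ),
      ∑ ψ : IrrCharacter G, ((-k ψ).toNat : ℂ) • (ψ : G → ℂ),
      isCharacter_sum _ _ fun ψ _ => isCharacter_natCast_smul _ (IsIrr.isCharacter ψ.2),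
      isCharacter_sum _ _ fun ψ _ => isCharacter_natCast_smul _ (IsIrr.isCharacter ψ.2), ?_⟩
    conv_lhs => rw [classFun_expansion hf]
    rw [← Finset.sum_sub_distrib]
    refine Finset.sum_congr rfl fun ψ _ => ?_
    rw [← sub_smul, hk]
    congr 1
    exact_mod_cast (Int.toNat_sub_toNat_neg (k ψ)).symm

omit [Fintype G] in
theorem isGeneralized_of_isCharacter (h : IsCharacter G χ) : IsGeneralizedCharacter G χ :=
  ⟨χ, 0, h, isCharacter_zero, (sub_zero χ).symm⟩

theorem IsGen.isClassFunction (h : IsGeneralizedCharacter G θ) : IsClassFunction G θ :=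
  (isGeneralized_iff.1 h).1

omit [Fintype G] in
theorem isGeneralized_zero : IsGeneralizedCharacter G (0 : G → ℂ) :=
  isGeneralized_of_isCharacter isCharacter_zero

omit [Fintype G] in
theorem isGeneralized_add (h : IsGeneralizedCharacter G θ) (h' : IsGeneralizedCharacter G η) :
    IsGeneralizedCharacter G (θ + η) := by
  obtain ⟨a, b, ha, hb, rfl⟩ := h
  obtain ⟨c, d, hc, hd, rfl⟩ := h'
  exact ⟨a + c, b + d, isCharacter_add ha hc, isCharacter_add hb hd, by abel⟩

omit [Fintype G] in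
theorem isGeneralized_neg (h : IsGeneralizedCharacter G θ) : IsGeneralizedCharacter G (-θ) := by
  obtain ⟨a, b, ha, hb, rfl⟩ := h
  exact ⟨b, a, hb, ha, neg_sub a b⟩

omit [Fintype G] in
theorem isGeneralized_sub (h : IsGeneralizedCharacter G θ) (h' : IsGeneralizedCharacter G η) :
    IsGeneralizedCharacter G (θ - η) :=
  sub_eq_add_neg θ η ▸ isGeneralized_add h (isGeneralized_neg h')

omit [Fintype G] in
theorem isGeneralized_mul (h : IsGeneralizedCharacter G θ) (h' : IsGeneralizedCharacter G η) :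
    IsGeneralizedCharacter G (θ * η) := by
  obtain ⟨a, b, ha, hb, rfl⟩ := h
  obtain ⟨c, d, hc, hd, rfl⟩ := h'
  exact ⟨a * c + b * d, a * d + b * c, isCharacter_add (isCharacter_mul ha hc) (isCharacter_mul hb hd),
    isCharacter_add (isCharacter_mul ha hd) (isCharacter_mul hb hc), by ring⟩

omit [Fintype G] in
theorem isGeneralized_intCast_smul (k : ℤ) (h : IsGeneralizedCharacter G θ) :
    IsGeneralizedCharacter G ((k : ℂ) • θ) := by
  obtain ⟨a, b, ha, hb, rfl⟩ := h
  rcases Int.eq_nat_or_neg k with ⟨n, rfl | rfl⟩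
  · exact ⟨(n : ℂ) • a, (n : ℂ) • b, isCharacter_natCast_smul n ha, isCharacter_natCast_smul n hb,
      by push_cast; rw [smul_sub]⟩
  · exact ⟨(n : ℂ) • b, (n : ℂ) • a, isCharacter_natCast_smul n hb, isCharacter_natCast_smul n ha,
      by push_cast; rw [neg_smul, smul_sub, neg_sub]⟩

omit [Fintype G] in
theorem isGeneralized_sum {ι : Type*} (s : Finset ι) (f : ι → G → ℂ)
    (h : ∀ i ∈ s, IsGeneralizedCharacter G (f i)) : IsGeneralizedCharacter G (∑ i ∈ s, f i) :=
  Finset.sum_induction f (IsGeneralizedCharacter G) (fun _ _ => isGeneralized_add)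
    isGeneralized_zero h

omit [Fintype G] in
theorem isGeneralized_comp {H : Type w} [Group H] (f : H →* G) (h : IsGeneralizedCharacter G θ) :
    IsGeneralizedCharacter H (fun x => θ (f x)) := by
  obtain ⟨a, b, ha, hb, rfl⟩ := h
  exact ⟨_, _, isCharacter_comp f ha, isCharacter_comp f hb, rfl⟩

theorem isGeneralized_indFun (H : Subgroup G) {φ : H → ℂ} (h : IsGeneralizedCharacter H φ) :
    IsGeneralizedCharacter G (indFun H φ) := by
  obtain ⟨a, b, ha, hb, rfl⟩ := h
  exact ⟨_, _, isCharacter_indFun H ha, isCharacter_indFun H hb, indFun_sub H a b⟩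

theorem classInner_generalized_int (h : IsGeneralizedCharacter G θ)
    (h' : IsGeneralizedCharacter G η) : ∃ k : ℤ, classInner θ η = k := by
  obtain ⟨a, b, ha, hb, rfl⟩ := h
  obtain ⟨c, d, hc, hd, rfl⟩ := h'
  obtain ⟨k1, e1⟩ := classInner_isCharacter_eq_natCast ha hc
  obtain ⟨k2, e2⟩ := classInner_isCharacter_eq_natCast ha hd
  obtain ⟨k3, e3⟩ := classInner_isCharacter_eq_natCast hb hc
  obtain ⟨k4, e4⟩ := classInner_isCharacter_eq_natCast hb hd
  exact ⟨(k1 : ℤ) - k2 - (k3 - k4), by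
    simp only [classInner_sub_left, classInner_sub_right, e1, e2, e3, e4]; push_cast; ring⟩

/-- Multiplicities of a generalized character, as integers. -/
theorem IsGen.exists_mult (h : IsGeneralizedCharacter G θ) :
    ∃ m : IrrCharacter G → ℤ, (∀ ψ : IrrCharacter G, classInner θ (ψ : G → ℂ) = m ψ) ∧
      θ = ∑ ψ : IrrCharacter G, (m ψ : ℂ) • (ψ : G → ℂ) ∧ classInner θ θ = ((∑ ψ, m ψ ^ 2 : ℤ) : ℂ) := by
  obtain ⟨hf, h⟩ := isGeneralized_iff.1 h
  choose m hm using h
  refine ⟨m, hm, (classFun_expansion hf).trans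
    (Finset.sum_congr rfl fun ψ _ => by rw [hm]), ?_⟩
  rw [classInner_eq_sum hf, Int.cast_sum]
  refine Finset.sum_congr rfl fun ψ _ => ?_
  rw [← classInner_conj_symm θ (ψ : G → ℂ), hm, map_intCast]
  push_cast
  ring

/-- Multiplicities of a character, as natural numbers. -/
theorem IsChar.exists_mult (h : IsCharacter G χ) :
    ∃ m : IrrCharacter G → ℕ, (∀ ψ : IrrCharacter G, classInner χ (ψ : G → ℂ) = m ψ) ∧
      χ = ∑ ψ : IrrCharacter G, (m ψ : ℂ) • (ψ : G → ℂ) ∧ classInner χ χ = ((∑ ψ, m ψ ^ 2 : ℕ) : ℂ) := by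
  obtain ⟨hf, h⟩ := isCharacter_iff.1 h
  choose m hm using h
  refine ⟨m, hm, (classFun_expansion hf).trans
    (Finset.sum_congr rfl fun ψ _ => by rw [hm]), ?_⟩
  rw [classInner_eq_sum hf, Nat.cast_sum]
  refine Finset.sum_congr rfl fun ψ _ => ?_
  rw [← classInner_conj_symm χ (ψ : G → ℂ), hm, Complex.conj_natCast]
  push_cast
  ring

/-- A generalized character of norm one is plus or minus an irreducible character. -/
theorem IsGen.eq_pm_irr (h : IsGeneralizedCharacter G θ) (h1 : classInner θ θ = 1) :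
    ∃ ψ : IrrCharacter G, θ = (ψ : G → ℂ) ∨ θ = -(ψ : G → ℂ) := by
  classical
  obtain ⟨m, -, he, hn⟩ := IsGen.exists_mult h
  rw [h1] at hn
  have hs : ∑ ψ, m ψ ^ 2 = 1 := by exact_mod_cast hn.symm
  obtain ⟨ψ, hψ⟩ : ∃ ψ, m ψ ≠ 0 := by
    by_contra! hall
    simp [hall] at hs
  have hpos : 1 ≤ m ψ ^ 2 := by have := pow_pos (abs_pos.2 hψ) 2; rw [sq_abs] at this; omega
  have hrest : ∀ φ, φ ≠ ψ → m φ = 0 := by
    intro φ hφ
    have h3 : m φ ^ 2 + m ψ ^ 2 ≤ ∑ χ, m χ ^ 2 := by
      rw [← Finset.sum_pair (f := fun i => m i ^ 2) hφ]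
      exact Finset.sum_le_sum_of_subset_of_nonneg (Finset.subset_univ _) fun i _ _ => sq_nonneg _
    have h4 : m φ ^ 2 = 0 := by have := sq_nonneg (m φ); omega
    exact sq_eq_zero_iff.1 h4
  have hval : m ψ = 1 ∨ m ψ = -1 := by
    rw [Finset.sum_eq_single ψ (fun φ _ hφ => by simp [hrest φ hφ]) (by simp)] at hs
    exact sq_eq_one_iff.1 hs
  refine ⟨ψ, ?_⟩
  rw [Finset.sum_eq_single ψ (fun φ _ hφ => by simp [hrest φ hφ]) (by simp)] at he
  rcases hval with e | e <;> rw [e] at he <;> [left; right] <;> simpa using he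

/-- A generalized character of norm one with positive degree is irreducible. -/
theorem IsGen.isIrr_of_norm_one (h : IsGeneralizedCharacter G θ) (h1 : classInner θ θ = 1)
    (hpos : 0 < (θ 1).re) : IsIrrCharacter G θ := by
  obtain ⟨ψ, e | e⟩ := IsGen.eq_pm_irr h h1
  · exact e ▸ ψ.2
  · exfalso
    obtain ⟨n, hn, hd⟩ := IsIrr.degree ψ.2
    rw [e] at hpos
    simp [hd] at hpos
    have : (0 : ℝ) ≤ n := Nat.cast_nonneg n
    linarith

/-- A character is irreducible iff it has norm one. -/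
theorem isIrr_iff_norm_one (h : IsCharacter G χ) :
    IsIrrCharacter G χ ↔ classInner χ χ = 1 := by
  refine ⟨classInner_irr_self, fun h1 => IsGen.isIrr_of_norm_one (isGeneralized_of_isCharacter h) h1 ?_⟩
  obtain ⟨n, hn⟩ := IsChar.degree h
  rcases Nat.eq_zero_or_pos n with rfl | hn0
  · exfalso
    have hz : χ = 0 := by
      funext g
      have h2 := IsChar.norm_le h g
      rw [hn] at h2
      simpa using h2
    rw [hz, classInner_zero_left] at h1
    exact zero_ne_one h1
  · rw [hn]; simpa using hn0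

theorem IsChar.eq_zero_iff (h : IsCharacter G χ) : χ = 0 ↔ χ 1 = 0 := by
  refine ⟨fun e => by simp [e], fun e => funext fun g => ?_⟩
  have h2 := IsChar.norm_le h g
  rw [e] at h2
  simpa using h2

theorem IsChar.exists_constituent (h : IsCharacter G χ) (h0 : χ ≠ 0) :
    ∃ ψ : IrrCharacter G, classInner χ (ψ : G → ℂ) ≠ 0 := by
  by_contra! hall
  exact h0 (classFun_eq_zero (isClassFunction_of_isCharacter h) hall)

/-- Removing a constituent from a character leaves a character. -/
theorem IsChar.sub_constituent (h : IsCharacter G χ) {ψ : G → ℂ} (hψ : IsIrrCharacter G ψ)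
    (hc : classInner χ ψ ≠ 0) : IsCharacter G (χ - ψ) := by
  refine isCharacter_iff.2 ⟨fun g k => by
    simp [isClassFunction_of_isCharacter h g k, isClassFunction_of_isIrr hψ g k], fun φ => ?_⟩
  obtain ⟨a, ha⟩ := classInner_isCharacter_eq_natCast h (IsIrr.isCharacter φ.2)
  rw [classInner_sub_left]
  by_cases he : ψ = (φ : G → ℂ)
  · subst he
    refine ⟨a - 1, ?_⟩
    have : a ≠ 0 := fun h0 => hc (by rw [ha, h0, Nat.cast_zero])
    rw [ha, classInner_irr_self φ.2, Nat.cast_sub (Nat.one_le_iff_ne_zero.2 this), Nat.cast_one]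
  · exact ⟨a, by rw [ha, classInner_irr_ne hψ φ.2 he, sub_zero]⟩

/-- If `g` is in the kernel of a character, it is in the kernel of every constituent. -/
theorem IsChar.constituent_kernel (h : IsCharacter G χ) {ψ : G → ℂ} (hψ : IsIrrCharacter G ψ)
    (hc : classInner χ ψ ≠ 0) {g : G} (hg : χ g = χ 1) : ψ g = ψ 1 := by
  have hrest := IsChar.sub_constituent h hψ hc
  have h1 : ((χ - ψ) g).re ≤ ((χ - ψ) 1).re :=
    (Complex.re_le_norm _).trans (IsChar.norm_le hrest g)
  simp only [Pi.sub_apply, hg, Complex.sub_re] at h1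
  obtain ⟨n, ρ, -, rfl⟩ := hψ
  rw [ρ.char_one] at h1 ⊢
  have hle := norm_character_le ρ g
  have h2 : (ρ.character g).re = ‖ρ.character g‖ := by
    simp only [Complex.natCast_re] at h1
    have := Complex.re_le_norm (ρ.character g)
    linarith
  have h3 : (ρ.character g).im = 0 := by
    have := Complex.re_eq_norm.1 h2
    exact (Complex.nonneg_iff.1 this).2.symm
  apply Complex.ext
  · simp only [Complex.natCast_re] at h1 ⊢
    have := Complex.re_le_norm (ρ.character g)
    linarith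
  · simpa using h3

/-- The degree of a constituent is at most the degree. -/
theorem IsChar.constituent_degree_le (h : IsCharacter G χ) {ψ : G → ℂ} (hψ : IsIrrCharacter G ψ)
    (hc : classInner χ ψ ≠ 0) : (ψ 1).re ≤ (χ 1).re := by
  obtain ⟨n, hn⟩ := IsChar.degree (IsChar.sub_constituent h hψ hc)
  have h1 : χ 1 = ψ 1 + n := by rw [← hn]; simp
  simp [h1]

end Cfsg.Agent.Char
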