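import Cfsg.Agent.Char.Linear
import Mathlib.RingTheory.IntegralClosure.IsIntegralClosure.Basic
import Mathlib.RingTheory.Algebraic.Integral
import Mathlib.RingTheory.Polynomial.RationalRoot
import Mathlib.RingTheory.Int.Basic
import Mathlib.FieldTheory.AlgebraicClosure
import Mathlib.FieldTheory.Minpoly.IsIntegrallyClosed
import Mathlib.GroupTheory.Solvable
import Mathlib.GroupTheory.Sylow
import Mathlib.GroupTheory.PGroup
import Mathlib.GroupTheory.SpecificGroups.Cyclic

/-!
# Integrality, central characters, degrees, Burnside's theorem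
-/

namespace Cfsg.Agent.Char

open scoped ComplexConjugate commutatorElement
open Module

universe u

theorem exists_int_of_isIntegral_rat {q : ℚ} (h : IsIntegral ℤ (q : ℂ)) :
    ∃ k : ℤ, (k : ℚ) = q := by
  have h1 : IsIntegral ℤ q :=
    (isIntegral_algebraMap_iff (A := ℚ) (B := ℂ) (algebraMap ℚ ℂ).injective).1
      (by simpa using h)
  exact IsIntegrallyClosed.isIntegral_iff.1 h1

theorem nat_dvd_of_isIntegral {m n : ℕ} (hn : n ≠ 0) (h : IsIntegral ℤ ((m : ℂ) / n)) :
    n ∣ m := by
  obtain ⟨k, hk⟩ := exists_int_of_isIntegral_rat (q := (m : ℚ) / n) (by push_cast; exact h)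
  rw [eq_div_iff (Nat.cast_ne_zero.2 hn)] at hk
  have h2 : k * (n : ℤ) = m := by exact_mod_cast hk
  exact Int.natCast_dvd_natCast.1 ⟨k, by rw [← h2, mul_comm]⟩

/-- An average of roots of unity that is an algebraic integer is zero or has absolute value one. -/
theorem avg_roots_of_unity {ι : Type*} [Fintype ι] (μ : ι → ℂ)
    (hμ : ∀ i, ∃ k : ℕ, k ≠ 0 ∧ μ i ^ k = 1)
    (h : IsIntegral ℤ ((∑ i, μ i) / (Fintype.card ι : ℂ))) :
    (∑ i, μ i) = 0 ∨ ‖∑ i, μ i‖ = (Fintype.card ι : ℝ) := by
  classical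
  by_cases h0 : (∑ i, μ i) = 0
  · exact Or.inl h0
  refine Or.inr (le_antisymm ?_ (le_of_not_gt fun hlt => h0 ?_))
  · refine (norm_sum_le _ _).trans ?_
    have : ∀ i, ‖μ i‖ = 1 := fun i =>
      Complex.norm_eq_one_of_pow_eq_one (hμ i).choose_spec.2 (hμ i).choose_spec.1
    simp [this]
  set α : ℂ := (∑ i, μ i) / (Fintype.card ι : ℂ) with hα
  have hcard : (0 : ℝ) < Fintype.card ι := lt_of_le_of_lt (norm_nonneg _) hlt
  have hαlt : ‖α‖ < 1 := by
    rw [hα, norm_div, Complex.norm_natCast, div_lt_one hcard]; exact hlt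
  have hαQ : IsIntegral ℚ α := h.tower_top
  let K := algebraicClosure ℚ ℂ
  have : Algebra.IsAlgebraic ℚ K := algebraicClosure.isAlgebraic ℚ ℂ
  have hμK : ∀ i, μ i ∈ K := fun i => mem_algebraicClosure_iff.2
    ((IsIntegral.of_pow (Nat.pos_of_ne_zero (hμ i).choose_spec.1)
      (by rw [(hμ i).choose_spec.2]; exact isIntegral_one) : IsIntegral ℚ (μ i)).isAlgebraic)
  let μ' : ι → K := fun i => ⟨μ i, hμK i⟩
  let α' : K := (∑ i, μ' i) / (Fintype.card ι : K)
  have hα' : (α' : ℂ) = α := by simp [α', μ', hα]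
  have hle : ∀ β ∈ (minpoly ℚ α).aroots ℂ, ‖β‖ ≤ 1 := by
    intro β hβ
    have hmin : minpoly ℚ α = minpoly ℚ α' :=
      hα' ▸ minpoly.algebraMap_eq (A := ℚ) (B := K) (algebraMap K ℂ).injective α'
    have hβ' : β ∈ (minpoly ℚ α').rootSet ℂ := by
      rw [Polynomial.mem_rootSet_of_ne (minpoly.ne_zero
        (Algebra.IsAlgebraic.isAlgebraic (R := ℚ) α').isIntegral)]
      rw [hmin] at hβ
      exact (Polynomial.mem_aroots.1 hβ).2
    rw [← Algebra.IsAlgebraic.range_eval_eq_rootSet_minpoly (F := ℚ) (K := K) ℂ α'] at hβ'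
    obtain ⟨ψ, rfl⟩ := hβ'
    simp only [α', map_div₀, map_sum, map_natCast, norm_div, Complex.norm_natCast]
    rw [div_le_one hcard]
    refine (norm_sum_le _ _).trans ?_
    have h1 : ∀ i, ‖ψ (μ' i)‖ = 1 := fun i => by
      refine Complex.norm_eq_one_of_pow_eq_one (n := (hμ i).choose) ?_ (hμ i).choose_spec.1
      rw [← map_pow, show μ' i ^ (hμ i).choose = 1 from
        Subtype.ext (by simpa [μ'] using (hμ i).choose_spec.2), map_one]
    simp [h1]
  have hmem : α ∈ (minpoly ℚ α).aroots ℂ :=
    Polynomial.mem_aroots.2 ⟨minpoly.ne_zero hαQ, minpoly.aeval ℚ α⟩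
  have hsplit : ((minpoly ℚ α).map (algebraMap ℚ ℂ)).Splits := IsAlgClosed.splits _
  have hprod := Polynomial.Splits.coeff_zero_eq_prod_roots_of_monic hsplit
    ((minpoly.monic hαQ).map _)
  obtain ⟨k, hk⟩ : ∃ k : ℤ, (minpoly ℚ α).coeff 0 = k := by
    refine ⟨(minpoly ℤ α).coeff 0, ?_⟩
    rw [minpoly.isIntegrallyClosed_eq_field_fractions' ℚ h, Polynomial.coeff_map]
    rfl
  have hroots : ∀ s : Multiset ℂ, (∀ β ∈ s, ‖β‖ ≤ 1) → ‖s.prod‖ ≤ 1 := by
    intro s
    induction s using Multiset.induction with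
    | empty => simp
    | cons a s ih =>
      intro hs
      rw [Multiset.prod_cons, norm_mul]
      exact mul_le_one₀ (hs a (Multiset.mem_cons_self _ _)) (norm_nonneg _)
        (ih fun b hb => hs b (Multiset.mem_cons_of_mem hb))
  have hlt' : ‖((minpoly ℚ α).aroots ℂ).prod‖ < 1 := by
    rw [← Multiset.cons_erase hmem, Multiset.prod_cons, norm_mul]
    refine lt_of_le_of_lt (mul_le_of_le_one_right (norm_nonneg _) ?_) hαlt
    exact hroots _ fun b hb => hle b (Multiset.mem_of_mem_erase hb)
  have hk0 : k = 0 := by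
    have h1 : ‖(k : ℂ)‖ < 1 := by
      rw [Polynomial.coeff_map, hk, map_intCast] at hprod
      rw [hprod, norm_mul, norm_pow, norm_neg, norm_one, one_pow, one_mul]
      exact hlt'
    rw [Complex.norm_intCast] at h1
    exact Int.abs_lt_one_iff.1 (by exact_mod_cast h1)
  have hα0 : α = 0 := (minpoly.coeff_zero_eq_zero hαQ).1 (by rw [hk, hk0, Int.cast_zero])
  rw [hα, div_eq_zero_iff] at hα0
  exact hα0.resolve_right (by exact_mod_cast hcard.ne')

variable {G : Type u} [Group G] {χ : G → ℂ}

open scoped Classical in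
/-- The sum over a conjugacy class acts as a scalar in an irreducible representation, and that
scalar is an algebraic integer. -/
theorem classSum_scalar [Fintype G] {V : Type*} [AddCommGroup V] [Module ℂ V]
    [FiniteDimensional ℂ V] (ρ : Representation ℂ G V) (hρ : ρ.IsIrreducible) (g : G) :
    ∃ c : ℂ, IsIntegral ℤ c ∧
      c * (finrank ℂ V : ℂ) =
        ((Subgroup.centralizer ({g} : Set G)).index : ℂ) * ρ.character g ∧
      (∑ x ∈ Finset.univ.filter (IsConj g), ρ x) = c • (LinearMap.id : V →ₗ[ℂ] V) := by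
  obtain ⟨c, hc, hc'⟩ := sum_smul_rep_eq_scalar ρ hρ (f := fun x => if IsConj g x then 1 else 0)
    (fun x k => if_congr ⟨fun e => e.trans (isConj_iff.2 ⟨k, rfl⟩).symm,
      fun e => e.trans (isConj_iff.2 ⟨k, rfl⟩)⟩ rfl rfl)
  simp only [ite_smul, one_smul, zero_smul, ← Finset.sum_filter] at hc
  simp only [ite_mul, one_mul, zero_mul, ← Finset.sum_filter] at hc'
  refine ⟨c, ?_, ?_, hc⟩
  · have : Module.Finite ℤ (MonoidAlgebra ℤ G) := inferInstance
    let z : MonoidAlgebra ℤ G :=
      ∑ x ∈ Finset.univ.filter (IsConj g), MonoidAlgebra.of ℤ G x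
    have hz : IsIntegral ℤ ((MonoidAlgebra.lift ℤ (Module.End ℂ V) G ρ) z) :=
      (IsIntegral.of_finite ℤ z).map _
    rw [map_sum] at hz
    simp only [MonoidAlgebra.lift_of] at hz
    rw [hc] at hz
    obtain ⟨hn, -⟩ := isIrreducible_iff.1 hρ
    refine (isIntegral_algebraMap_iff (A := ℂ) (B := Module.End ℂ V)
      (algebraMap ℂ (Module.End ℂ V)).injective).1 ?_
    rwa [Algebra.algebraMap_eq_smul_one]
  · rw [hc']
    rw [Finset.sum_congr rfl fun x hx => by
      rw [← classFun_isConj (isClassFunction_of_isCharacter (isCharacter_of_rep ρ))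
        (Finset.mem_filter.1 hx).2]]
    rw [Finset.sum_const, nsmul_eq_mul, ← Fintype.card_subtype, ← Nat.card_eq_fintype_card,
      card_isConj_eq_index]

theorem centralCharacter_isIntegral [Finite G] (h : IsIrrCharacter G χ) (g : G) :
    IsIntegral ℤ (((Subgroup.centralizer ({g} : Set G)).index : ℂ) * χ g / χ 1) := by
  have := Fintype.ofFinite G
  obtain ⟨n, ρ, hρ, rfl⟩ := h
  obtain ⟨c, hc, hc', -⟩ := classSum_scalar ρ hρ g
  rw [← hc', ρ.char_one, mul_div_cancel_right₀]
  · exact hc
  · obtain ⟨hn, -⟩ := isIrreducible_iff.1 hρ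
    exact Nat.cast_ne_zero.2 Module.finrank_pos.ne'

theorem IsIrr.degree_dvd_card [Finite G] (h : IsIrrCharacter G χ) {n : ℕ} (hn : χ 1 = n) :
    n ∣ Nat.card G := by
  classical
  have := Fintype.ofFinite G
  have hn0 : n ≠ 0 := fun h0 => IsIrr.one_ne_zero h (by rw [hn, h0, Nat.cast_zero])
  refine nat_dvd_of_isIntegral hn0 ?_
  have hnorm : (∑ g, χ g * conj (χ g)) = (Nat.card G : ℂ) := by
    have h1 := classInner_irr_self h
    rwa [classInner, inv_mul_eq_one₀ card_ne_zero, eq_comm] at h1
  have : Finite (ConjClasses G) := Quotient.finite _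
  have := Fintype.ofFinite (ConjClasses G)
  rw [← hnorm, ← Finset.sum_fiberwise Finset.univ ConjClasses.mk, Finset.sum_div]
  refine IsIntegral.sum _ fun C _ => ?_
  obtain ⟨g, rfl⟩ := ConjClasses.mk_surjective C
  have hfil : Finset.univ.filter (fun x => ConjClasses.mk x = ConjClasses.mk g) =
      Finset.univ.filter (IsConj g) := by
    ext x
    simp only [Finset.mem_filter, Finset.mem_univ, true_and, ConjClasses.mk_eq_mk_iff_isConj]
    exact isConj_comm
  rw [hfil, Finset.sum_congr rfl fun x hx => by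
    rw [← classFun_isConj (isClassFunction_of_isIrr h) (Finset.mem_filter.1 hx).2],
    Finset.sum_const, nsmul_eq_mul, ← Fintype.card_subtype, ← Nat.card_eq_fintype_card,
    card_isConj_eq_index, ← mul_assoc, mul_div_right_comm, ← hn]
  exact (centralCharacter_isIntegral h g).mul
    ((IsChar.inv_eq_conj (IsIrr.isCharacter h) g) ▸ IsChar.isIntegral (IsIrr.isCharacter h) g⁻¹)

/-- If the degree is coprime to the class size, the value is zero or maximal in absolute value. -/
theorem IsIrr.zero_or_norm_eq [Finite G] (h : IsIrrCharacter G χ) (g : G) {n : ℕ} (hn : χ 1 = n)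
    (hcop : n.Coprime (Subgroup.centralizer ({g} : Set G)).index) :
    χ g = 0 ∨ ‖χ g‖ = (n : ℝ) := by
  have hn0 : (n : ℂ) ≠ 0 := hn ▸ IsIrr.one_ne_zero h
  have hint : IsIntegral ℤ (χ g / n) := by
    obtain ⟨a, b, hab⟩ := Nat.isCoprime_iff_coprime.2 hcop
    have e : χ g / n = (a : ℂ) * χ g +
        (b : ℂ) * (((Subgroup.centralizer ({g} : Set G)).index : ℂ) * χ g / χ 1) := by
      have : (a : ℂ) * n + (b : ℂ) * ((Subgroup.centralizer ({g} : Set G)).index : ℂ) = 1 := by
        exact_mod_cast hab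
      rw [hn]
      field_simp
      linear_combination -(χ g) * this
    rw [e]
    exact ((isIntegral_algebraMap (x := a)).mul (IsChar.isIntegral (IsIrr.isCharacter h) g)).add
      ((isIntegral_algebraMap (x := b)).mul (centralCharacter_isIntegral h g))
  obtain ⟨m, ρ, hρ, rfl⟩ := h
  have hm : finrank ℂ (Fin m → ℂ) = n := by
    rw [ρ.char_one] at hn; exact_mod_cast hn
  obtain ⟨μ, b, -, hμ, hχ⟩ := exists_eigenbasis ρ g
  rw [hχ] at hint ⊢
  have e : (finrank ℂ (Fin m → ℂ) : ℂ) = n := by exact_mod_cast hm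
  have e' : (finrank ℂ (Fin m → ℂ) : ℝ) = n := by exact_mod_cast hm
  have := avg_roots_of_unity μ (fun i => ⟨orderOf g, (orderOf_pos g).ne', hμ i⟩)
    (by rwa [Fintype.card_fin, e])
  rwa [Fintype.card_fin, e'] at this

theorem exists_normal_of_scalar {V : Type*} [AddCommGroup V] [Module ℂ V]
    (ρ : Representation ℂ G V) :
    ∃ N : Subgroup G, N.Normal ∧
      ∀ x, x ∈ N ↔ ∃ ω : ℂ, ρ x = ω • (LinearMap.id : V →ₗ[ℂ] V) := by
  let N : Subgroup G :=
    { carrier := {x | ∃ ω : ℂ, ρ x = ω • (LinearMap.id : V →ₗ[ℂ] V)}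
      one_mem' := ⟨1, by rw [map_one, one_smul]; rfl⟩
      mul_mem' := by
        rintro a b ⟨ω, hω⟩ ⟨η, hη⟩
        exact ⟨η * ω, by rw [map_mul, hω, hη]; ext v; simp [smul_smul]⟩
      inv_mem' := by
        rintro a ⟨ω, hω⟩
        by_cases h0 : ω = 0
        · refine ⟨0, ?_⟩
          have h1 : ρ a⁻¹ * ρ a = 1 := by rw [← map_mul, inv_mul_cancel, map_one]
          rw [hω, h0, zero_smul, mul_zero] at h1
          ext v
          have h2 := LinearMap.congr_fun h1 v
          simp only [LinearMap.zero_apply, Module.End.one_apply] at h2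
          simp [← h2]
        · refine ⟨ω⁻¹, LinearMap.ext fun v => ?_⟩
          have h2 := ρ.inv_self_apply a v
          rw [hω, LinearMap.smul_apply, LinearMap.id_apply, map_smul] at h2
          conv_rhs => rw [LinearMap.smul_apply, LinearMap.id_apply, ← h2]
          rw [inv_smul_smul₀ h0] }
  refine ⟨N, ⟨fun n ⟨ω, hω⟩ k => ⟨ω, LinearMap.ext fun v => ?_⟩⟩, fun x => Iff.rfl⟩
  rw [map_mul, map_mul, Module.End.mul_apply, Module.End.mul_apply, hω, LinearMap.smul_apply,
    LinearMap.id_apply, map_smul, ρ.self_inv_apply]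
  rfl

/-- Burnside: in a finite simple group a non-trivial class of prime power size forces prime
order. -/
theorem prime_card_of_class_prime_pow [Finite G] [IsSimpleGroup G] (p k : ℕ) (hp : p.Prime)
    (g : G) (hg : g ≠ 1) (hclass : (Subgroup.centralizer ({g} : Set G)).index = p ^ k) :
    (Nat.card G).Prime := by
  classical
  have := Fintype.ofFinite G
  by_cases hcomm : ∀ a b : G, a * b = b * a
  · let : CommGroup G := { (inferInstance : Group G) with mul_comm := hcomm }
    exact IsSimpleGroup.prime_card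
  exfalso
  rcases Nat.eq_zero_or_pos k with rfl | hk
  · rw [pow_zero, Subgroup.index_eq_one] at hclass
    have hz : g ∈ Subgroup.center G := Subgroup.mem_center_iff.2 fun x => by
      have hx : x ∈ Subgroup.centralizer ({g} : Set G) := hclass ▸ Subgroup.mem_top x
      exact (Subgroup.mem_centralizer_singleton_iff.1 hx)
    rcases (Subgroup.center G).normal_of_characteristic.eq_bot_or_eq_top with hc | hc
    · exact hg (by simpa [hc] using hz)
    · exact hcomm fun a b => (Subgroup.mem_center_iff.1 (hc ▸ Subgroup.mem_top b) a)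
  have hzero : ∀ χ : IrrCharacter G, (χ : G → ℂ) ≠ (fun _ => 1) → ∀ n : ℕ,
      (χ : G → ℂ) 1 = n → ¬ p ∣ n → (χ : G → ℂ) g = 0 := by
    rintro ⟨χ, hχ⟩ hne n hn hpn
    replace hn : χ 1 = n := hn
    replace hne : χ ≠ fun _ => 1 := hne
    show χ g = 0
    refine (IsIrr.zero_or_norm_eq hχ g hn ?_).resolve_right fun hnorm => hne ?_
    · rw [hclass]; exact ((hp.coprime_iff_not_dvd.2 hpn).pow_left k).symm
    obtain ⟨m, ρ, hρ, rfl⟩ := hχ
    have hm : finrank ℂ (Fin m → ℂ) = n := by
      rw [ρ.char_one] at hn; exact_mod_cast hn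
    obtain ⟨N, hN, hNmem⟩ := exists_normal_of_scalar ρ
    rcases hN.eq_bot_or_eq_top with hb | ht
    · exact absurd (by simpa [hb] using (hNmem g).2 ((norm_character_eq_iff ρ g).1
        (by rw [hm]; exact hnorm))) hg
    have hcc : ∀ a b : G, ρ a * ρ b = ρ b * ρ a := fun a b => by
      obtain ⟨ω, hω⟩ := (hNmem a).1 (ht ▸ Subgroup.mem_top a)
      rw [hω]; ext v; simp
    have hkill : commutator G ≤ MonoidHom.ker ρ.toHomUnits := by
      rw [commutator_eq_closure, Subgroup.closure_le]
      rintro _ ⟨a, b, rfl⟩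
      rw [SetLike.mem_coe, MonoidHom.mem_ker, commutatorElement_def]
      apply Units.ext
      rw [MonoidHom.coe_toHomUnits, map_mul, map_mul, map_mul, hcc a b, mul_assoc (ρ b),
        ← map_mul ρ a, mul_inv_cancel, map_one, mul_one, ← map_mul, mul_inv_cancel, map_one]
      rfl
    have htop : commutator G = ⊤ := by
      rcases ((inferInstance : (commutator G).Normal)).eq_bot_or_eq_top with h1 | h1
      · exact absurd (fun a b => by
          have h2 : ⁅a, b⁆ ∈ (⊥ : Subgroup G) :=
            h1 ▸ Subgroup.commutator_mem_commutator (Subgroup.mem_top a) (Subgroup.mem_top b)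
          exact commutatorElement_eq_one_iff_mul_comm.1 (Subgroup.mem_bot.1 h2)) hcomm
      · exact h1
    have hρ1 : ∀ x, ρ x = LinearMap.id := fun x => by
      have h2 := MonoidHom.mem_ker.1 (hkill (htop ▸ Subgroup.mem_top x))
      exact congrArg Units.val h2
    obtain ⟨hn', hU⟩ := isIrreducible_iff.1 hρ
    have hdim : finrank ℂ (Fin m → ℂ) = 1 := by
      obtain ⟨v, hv⟩ := exists_ne (0 : Fin m → ℂ)
      rcases hU (ℂ ∙ v) (fun x w hw => by rw [hρ1]; exact hw) with h1 | h1
      · exact absurd (Submodule.span_singleton_eq_bot.1 h1) hv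
      · rw [← finrank_top, ← h1, finrank_span_singleton hv]
    funext x
    show LinearMap.trace ℂ _ (ρ x) = 1
    rw [hρ1, LinearMap.trace_id, hdim, Nat.cast_one]
  have hreg := regular_eq_sum g
  rw [if_neg hg, ← Finset.add_sum_erase _ _ (Finset.mem_univ
    (⟨fun _ => 1, isIrrCharacter_one⟩ : IrrCharacter G))] at hreg
  have hint : IsIntegral ℤ ((1 : ℂ) / p) := by
    have hp0 : (p : ℂ) ≠ 0 := Nat.cast_ne_zero.2 hp.ne_zero
    have e : (1 : ℂ) / p = -∑ χ ∈ Finset.univ.erase
        (⟨fun _ => 1, isIrrCharacter_one⟩ : IrrCharacter G),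
        (χ : G → ℂ) 1 * (χ : G → ℂ) g / p := by
      rw [← Finset.sum_div, ← neg_div]
      congr 1
      linear_combination hreg
    rw [e]
    refine (IsIntegral.sum _ fun χ hχ => ?_).neg
    obtain ⟨n, -, hn⟩ := IsIrr.degree χ.2
    by_cases hpn : p ∣ n
    · obtain ⟨c, rfl⟩ := hpn
      rw [hn, Nat.cast_mul, mul_assoc, mul_div_assoc, ← mul_div_assoc,
        mul_div_cancel_left₀ _ hp0]
      exact (isIntegral_algebraMap (R := ℤ) (x := (c : ℤ))).mul
        (IsChar.isIntegral (IsIrr.isCharacter χ.2) g) |> fun h => by simpa using h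
    · rw [hzero χ (fun e => Finset.ne_of_mem_erase hχ (Subtype.ext e)) n hn hpn, mul_zero,
        zero_div]
      exact isIntegral_zero
  exact hp.one_lt.ne' (Nat.dvd_one.1 (nat_dvd_of_isIntegral hp.ne_zero (by simpa using hint)))

/-- Burnside's `p^a q^b` theorem. -/
theorem isSolvable_of_card_eq (p q : ℕ) (hp : p.Prime) (hq : q.Prime) :
    ∀ (N : ℕ) (G : Type u) [Group G] [Finite G], Nat.card G = N →
      (∃ a b : ℕ, Nat.card G = p ^ a * q ^ b) → Group.IsSolvable G := by
  intro N
  induction N using Nat.strong_induction_on with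
  | _ N ih =>
    intro G _ _ hN hab
    obtain ⟨a, b, hcard⟩ := hab
    rcases subsingleton_or_nontrivial G with hs | hs
    · exact Group.isSolvable_of_comm fun a b => Subsingleton.elim _ _
    have hsub : ∀ (H : Type u) [Group H] [Finite H], Nat.card H ∣ Nat.card G →
        Nat.card H < N → Group.IsSolvable H := by
      intro H _ _ hd hlt
      obtain ⟨x, y, hx, hy, hxy⟩ := exists_dvd_and_dvd_of_dvd_mul (hcard ▸ hd)
      obtain ⟨i, -, rfl⟩ := (Nat.dvd_prime_pow hp).1 hx
      obtain ⟨j, -, rfl⟩ := (Nat.dvd_prime_pow hq).1 hy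
      exact ih _ hlt H rfl ⟨i, j, hxy⟩
    by_cases hsimple : IsSimpleGroup G
    · have hprime : (Nat.card G).Prime := by
        rcases Nat.eq_zero_or_pos a with rfl | ha
        · obtain ⟨g, hg, hgz⟩ : ∃ g : G, g ≠ 1 ∧ g ∈ Subgroup.center G := by
            have := Fact.mk hq
            have hP : IsPGroup q G := IsPGroup.of_card (by simpa using hcard)
            have := hP.center_nontrivial
            obtain ⟨⟨g, hgz⟩, hg⟩ := exists_ne (1 : Subgroup.center G)
            exact ⟨g, fun e => hg (Subtype.ext e), hgz⟩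
          refine prime_card_of_class_prime_pow q 0 hq g hg ?_
          rw [pow_zero, Subgroup.index_eq_one, Subgroup.centralizer_eq_top_iff_subset]
          simpa using hgz
        · have := Fact.mk hp
          obtain ⟨P⟩ : Nonempty (Sylow p G) := inferInstance
          have hne : (P : Subgroup G) ≠ ⊥ :=
            P.ne_bot_of_dvd_card (hcard ▸ Dvd.dvd.mul_right (dvd_pow_self p ha.ne') _)
          have : Nontrivial P := (Subgroup.nontrivial_iff_ne_bot _).2 hne
          have := P.2.center_nontrivial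
          obtain ⟨⟨⟨g, hgP⟩, hgz⟩, hg⟩ := exists_ne (1 : Subgroup.center P)
          have hg1 : g ≠ 1 := fun e => hg (Subtype.ext (Subtype.ext e))
          have hle : (P : Subgroup G) ≤ Subgroup.centralizer ({g} : Set G) := fun x hx => by
            rw [Subgroup.mem_centralizer_singleton_iff]
            exact congrArg Subtype.val (Subgroup.mem_center_iff.1 hgz ⟨x, hx⟩)
          have hdvd := Subgroup.index_dvd_of_le hle
          have hnp : ¬ p ∣ (P : Subgroup G).index := P.not_dvd_index
          by_cases hpq : p = q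
          · subst hpq
            obtain ⟨i, -, hi⟩ := (Nat.dvd_prime_pow hp).1
              ((Subgroup.index_dvd_card _).trans (hcard ▸ (pow_add p a b).symm.dvd) :
                (Subgroup.centralizer ({g} : Set G)).index ∣ p ^ (a + b))
            exact prime_card_of_class_prime_pow p i hp g hg1 hi
          · have hidx : (Subgroup.centralizer ({g} : Set G)).index ∣ q ^ b := by
              have hd : (Subgroup.centralizer ({g} : Set G)).index ∣ p ^ a * q ^ b :=
                hcard ▸ Subgroup.index_dvd_card _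
              refine Nat.Coprime.dvd_of_dvd_mul_left ?_ hd
              exact (Nat.Coprime.pow_left a ((hp.coprime_iff_not_dvd).2
                fun h => hnp (h.trans hdvd))).symm
            obtain ⟨i, -, hi⟩ := (Nat.dvd_prime_pow hq).1 hidx
            exact prime_card_of_class_prime_pow q i hq g hg1 hi
      have := Fact.mk hprime
      have : IsCyclic G := isCyclic_of_prime_card rfl
      exact Group.isSolvable_of_comm fun a b => by
        let : CommGroup G := IsCyclic.commGroup
        exact mul_comm a b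
    · obtain ⟨K, hK, hKb, hKt⟩ : ∃ K : Subgroup G, K.Normal ∧ K ≠ ⊥ ∧ K ≠ ⊤ := by
        by_contra! hall
        exact hsimple ⟨fun H hH => or_iff_not_imp_left.2 (hall H hH)⟩
      have h1 : Group.IsSolvable K := hsub K (Subgroup.card_subgroup_dvd_card K) (hN ▸
        lt_of_le_of_ne (Subgroup.card_le_card_group K) fun h => hKt (K.eq_top_of_card_eq h))
      have h2 : Group.IsSolvable (G ⧸ K) := hsub _ (Subgroup.card_quotient_dvd_card K) (by
        rw [← hN, ← Subgroup.index_eq_card, ← Subgroup.card_mul_index K]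
        exact lt_mul_of_one_lt_left (Nat.pos_of_ne_zero Subgroup.index_ne_zero_of_finite)
          ((Subgroup.one_lt_card_iff_ne_bot _).2 hKb))
      exact Group.isSolvable_of_ker_le_range K.subtype (QuotientGroup.mk' K) (by simp)

end Cfsg.Agent.Char
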