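import Cfsg.Agent.Char.KleinGroup
import Cfsg.Agent.Char.Gen
import Cfsg.Agent.Char.ClassAlg
import Cfsg.Agent.Blocks.Principal
import Cfsg.Agent.BlockChar.Support

/-!
# The section of an involution in the principal block, Klein four Sylow 2-subgroup
-/

namespace Cfsg.Agent.Char

open scoped ComplexConjugate

universe u

variable {G : Type u} [Group G] [Fintype G]

open scoped Classical in
/-- The principal 2-block consists of the characters with non-zero average on the section of an
involution, and these averages are the values at the involution. -/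
theorem klein_section (M : Ideal Cfsg.AlgInt) (hM : Cfsg.IsPModular 2 M) (g₀ : ℕ) (hg₀ : Odd g₀)
    (hG : Nat.card G = 4 * g₀) (hnc : ¬ ∃ N : Subgroup G, N.Normal ∧ Nat.card N = g₀)
    (P : Sylow 2 G) (J : G) (hJ : J ∈ (P : Subgroup G)) (hJ2 : orderOf J = 2) :
    ∃ a : IrrCharacter G → ℤ,
      (∀ χ ∈ Cfsg.principalBlock M G, a χ ≠ 0 ∧ (χ : G → ℂ) J = a χ) ∧
      (∑ χ : IrrCharacter G, if χ ∈ Cfsg.principalBlock M G then a χ ^ 2 else 0) = 4 := by
  classical
  have h2f : Fact (Nat.Prime 2) := ⟨Nat.prime_two⟩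
  set C := Subgroup.centralizer ({J} : Set G) with hC
  have hmemC : ∀ x : G, x ∈ C ↔ x * J = J * x := fun x => Subgroup.mem_centralizer_singleton_iff
  have hJJ : J * J = 1 := by rw [← sq, ← hJ2, pow_orderOf_eq_one]
  have hJinv : J⁻¹ = J := inv_eq_of_mul_eq_one_right hJJ
  have hJ1 : J ≠ 1 := fun h => by rw [h, orderOf_one] at hJ2; omega
  have hcomm : ∀ {a b : G}, a ∈ (P : Subgroup G) → b ∈ (P : Subgroup G) → a * b = b * a :=
    fun ha hb => sylow_four_comm hG hg₀ P ha hb
  have hPC : (P : Subgroup G) ≤ C := fun p hp => (hmemC p).2 (hcomm hp hJ)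
  have hinvol : ∀ z ∈ (P : Subgroup G), z ≠ 1 → orderOf z = 2 ∧ IsConj J z :=
    fun z hz hz1 => sylow_four_involutions hG hg₀ hnc P hJ hJ2 hz hz1
  have hPsq : ∀ z ∈ (P : Subgroup G), z * z = 1 := by
    intro z hz
    by_cases hz1 : z = 1
    · simp [hz1]
    · rw [← sq, ← (hinvol z hz hz1).1, pow_orderOf_eq_one]
  have hP4 := card_sylow_four hG hg₀ P
  -- the odd core of the centralizer
  have hJC : J ∈ C := (hmemC J).2 rfl
  obtain ⟨c₀, hc₀⟩ : 4 ∣ Nat.card C := hP4 ▸ Subgroup.card_dvd_of_le hPC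
  have hc₀odd : Odd c₀ := by
    refine hg₀.of_dvd_nat ?_
    have h := Subgroup.card_subgroup_dvd_card C
    rw [hG, hc₀] at h
    exact Nat.dvd_of_mul_dvd_mul_left (by norm_num) h
  let PC : Sylow 2 C := P.subtype hPC
  obtain ⟨N, hNn, hNcard, hNcompl⟩ := exists_complement_of_normalizer_le hc₀ hc₀odd PC (by
    intro n hn
    rw [Subgroup.mem_centralizer_iff]
    intro z hz
    have hnP : (n : G) ∈ Subgroup.normalizer ((P : Subgroup G) : Set G) := by
      rw [Subgroup.mem_normalizer_iff]
      intro y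
      constructor
      · intro hy
        exact (Subgroup.mem_normalizer_iff.1 hn ⟨y, hPC hy⟩).1 hy
      · intro hy
        have hyC : y ∈ C := by
          have h1 := C.mul_mem (C.mul_mem (C.inv_mem n.2) (hPC hy)) n.2
          have e : (n : G)⁻¹ * ((n : G) * y * (n : G)⁻¹) * n = y := by group
          rwa [e] at h1
        exact (Subgroup.mem_normalizer_iff.1 hn ⟨y, hyC⟩).2 hy
    have hfix : (n : G) * J * (n : G)⁻¹ = J := by rw [(hmemC n).1 n.2, mul_inv_cancel_right]
    exact Subtype.ext (mul_inv_eq_iff_eq_mul.1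
      (normalizer_fix_all hG hg₀ P hnP hJ hJ1 hfix (z := (z : G)) hz)).symm)
  set O : Subgroup G := N.map C.subtype with hO
  have hOC : O ≤ C := by rintro _ ⟨x, -, rfl⟩; exact x.2
  have hOcard : Nat.card O = c₀ := by
    rw [hO, Nat.card_congr (N.equivMapOfInjective _ C.subtype_injective).symm.toEquiv, hNcard]
  have hOodd : ∀ v ∈ O, ¬ 2 ∣ orderOf v := fun v hv h =>
    (Nat.two_dvd_ne_zero.2 (Nat.odd_iff.1 hc₀odd))
      (hOcard ▸ h.trans (Subgroup.orderOf_dvd_natCard _ hv))
  have hOn : ∀ g ∈ C, ∀ v ∈ O, g * v * g⁻¹ ∈ O := by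
    rintro g hg _ ⟨x, hx, rfl⟩
    exact ⟨⟨g, hg⟩ * x * ⟨g, hg⟩⁻¹, hNn.conj_mem x hx _, rfl⟩
  have hOP : ∀ v ∈ O, v ∈ (P : Subgroup G) → v = 1 := by
    intro v hv hvP
    by_contra h1
    exact hOodd v hv (by rw [(hinvol v hvP h1).1])
  have hdecomp : ∀ x ∈ C, ∃ v ∈ O, ∃ p ∈ (P : Subgroup G), x = v * p := by
    intro x hx
    obtain ⟨⟨a, b⟩, hab, -⟩ := hNcompl.existsUnique ⟨x, hx⟩
    exact ⟨(a.1 : G), ⟨a.1, a.2, rfl⟩, (b.1 : G), b.2, (congrArg Subtype.val hab).symm⟩
  have hJv : ∀ v ∈ O, J * v = v * J := fun v hv => ((hmemC v).1 (hOC hv)).symm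
  have hJsplit : ∀ v ∈ O, (J * v) ^ c₀ = J := by
    intro v hv
    have hv1 : v ^ c₀ = 1 := orderOf_dvd_iff_pow_eq_one.1
      (hOcard ▸ Subgroup.orderOf_dvd_natCard _ hv)
    obtain ⟨j, hj⟩ := hc₀odd
    rw [(show Commute J v from hJv v hv).mul_pow, hv1, mul_one, hj, pow_succ, pow_mul, sq, hJJ,
      one_pow, one_mul]
  set OF := Finset.univ.filter fun v : G => v ∈ O with hOF
  have hOFcard : OF.card = c₀ := by
    rw [hOF, ← hOcard, Nat.card_eq_fintype_card, Fintype.card_subtype]
  have hmemOF : ∀ v, v ∈ OF ↔ v ∈ O := fun v => by simp [hOF]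
  let T : IrrCharacter G → ℂ := fun χ => ∑ v ∈ OF, (χ : G → ℂ) (J * v)
  have hc₀0 : (c₀ : ℂ) ≠ 0 := Nat.cast_ne_zero.2 hc₀odd.pos.ne'
  -- `T` is an integral multiple of `c₀`
  let H : Subgroup G :=
    { carrier := {x | x ∈ O ∨ J * x ∈ O}
      one_mem' := Or.inl O.one_mem
      mul_mem' := by
        rintro a b (ha | ha) (hb | hb)
        · exact Or.inl (mul_mem ha hb)
        · refine Or.inr ?_
          have := mul_mem (hOn J hJC a ha) hb
          rwa [show J * a * J⁻¹ * (J * b) = J * (a * b) by group] at this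
        · refine Or.inr ?_
          rw [← mul_assoc]; exact mul_mem ha hb
        · refine Or.inl ?_
          have := mul_mem (hOn J hJC _ ha) hb
          rwa [show J * (J * a) * J⁻¹ * (J * b) = (J * J) * (a * b) by group, hJJ, one_mul] at this
      inv_mem' := by
        rintro a (ha | ha)
        · exact Or.inl (inv_mem ha)
        · refine Or.inr ?_
          have := hOn J hJC _ (inv_mem ha)
          rwa [show J * (J * a)⁻¹ * J⁻¹ = J * a⁻¹ * (J * J)⁻¹ by group, hJJ, inv_one,
            mul_one] at this }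
  have hTint : ∀ χ : IrrCharacter G, ∃ a : ℤ, T χ = (c₀ : ℂ) * a := by
    intro χ
    have := Fintype.ofFinite H
    have := Fintype.ofFinite O
    obtain ⟨i, hi⟩ := classInner_isCharacter_eq_natCast
      (isCharacter_res H (IsIrr.isCharacter χ.2)) (isCharacter_one (G := H))
    obtain ⟨j, hj⟩ := classInner_isCharacter_eq_natCast
      (isCharacter_res O (IsIrr.isCharacter χ.2)) (isCharacter_one (G := O))
    have hdisj : Disjoint OF (OF.image (J * ·)) := by
      rw [Finset.disjoint_left]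
      rintro _ hv hv'
      obtain ⟨w, hw, rfl⟩ := Finset.mem_image.1 hv'
      rw [hmemOF] at hv hw
      exact hJ1 (hOP J (by simpa using mul_mem hv (inv_mem hw)) hJ)
    have hHF : Finset.univ.filter (fun x : G => x ∈ H) = OF ∪ OF.image (J * ·) := by
      ext x
      simp only [Finset.mem_filter, Finset.mem_univ, true_and, Finset.mem_union, Finset.mem_image,
        hmemOF]
      show x ∈ O ∨ J * x ∈ O ↔ _
      refine or_congr_right ⟨fun h => ⟨J * x, h, by rw [← mul_assoc, hJJ, one_mul]⟩, ?_⟩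
      rintro ⟨v, hv, rfl⟩
      rwa [← mul_assoc, hJJ, one_mul]
    have hsumH : ∑ x : H, (χ : G → ℂ) x = ∑ v ∈ OF, (χ : G → ℂ) v + T χ := by
      rw [← Finset.sum_subtype (Finset.univ.filter fun x : G => x ∈ H) (fun x => by simp)
        (fun x : G => (χ : G → ℂ) x), hHF, Finset.sum_union hdisj,
        Finset.sum_image fun a _ b _ h => mul_left_cancel h]
    have hsumO : ∑ x : O, (χ : G → ℂ) x = ∑ v ∈ OF, (χ : G → ℂ) v :=
      (Finset.sum_subtype OF (fun x => hmemOF x) (fun x : G => (χ : G → ℂ) x)).symm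
    have hHcard : Nat.card H = 2 * c₀ := by
      rw [Nat.card_eq_fintype_card, Fintype.card_subtype, hHF, Finset.card_union_of_disjoint hdisj,
        Finset.card_image_of_injective _ (mul_right_injective J), hOFcard, two_mul]
    simp only [classInner, map_one, mul_one, hsumH, hsumO, hHcard, hOcard] at hi hj
    refine ⟨2 * (i : ℤ) - j, ?_⟩
    rw [inv_mul_eq_iff_eq_mul₀ hc₀0] at hj
    rw [inv_mul_eq_iff_eq_mul₀ (by rw [Nat.cast_mul]; exact mul_ne_zero two_ne_zero hc₀0)] at hi
    push_cast at hi ⊢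
    linear_combination hi - hj
  choose a ha using hTint
  have hTT : ∑ χ : IrrCharacter G, T χ * conj (T χ) = (Nat.card C : ℂ) * c₀ := by
    simp only [T, map_sum, Finset.sum_mul_sum]
    rw [Finset.sum_comm]
    have hrow : ∀ v ∈ OF, ∑ χ : IrrCharacter G, ∑ w ∈ OF,
        (χ : G → ℂ) (J * v) * conj ((χ : G → ℂ) (J * w)) = (Nat.card C : ℂ) := by
      intro v hv
      rw [hmemOF] at hv
      rw [Finset.sum_comm]
      simp only [second_orthogonality]
      rw [← Finset.sum_filter_add_sum_filter_not OF (fun w => IsConj (J * v) (J * w))]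
      refine Eq.trans (congrArg₂ (· + ·)
        (Finset.sum_congr rfl fun w hw => if_pos (Finset.mem_filter.1 hw).2)
        (Finset.sum_eq_zero fun w hw => if_neg (Finset.mem_filter.1 hw).2)) ?_
      rw [add_zero, Finset.sum_const, nsmul_eq_mul]
      set D := Subgroup.centralizer ({J * v} : Set G) with hD
      have hfixJ : ∀ w ∈ O, ∀ g : G, g * (J * v) * g⁻¹ = J * w → g ∈ C := by
        intro w hw g hg
        have h := congrArg (· ^ c₀) hg
        simp only [conj_pow, hJsplit v hv, hJsplit w hw] at h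
        exact (hmemC g).2 (mul_inv_eq_iff_eq_mul.1 h)
      have hDC : D ≤ C := fun g hg => hfixJ v hv g (by
        rw [hD, Subgroup.mem_centralizer_singleton_iff] at hg
        rw [hg, mul_inv_cancel_right])
      set CF := Finset.univ.filter fun g : G => g ∈ C with hCF
      set W := OF.filter fun w => IsConj (J * v) (J * w) with hW
      have hmapsto : ∀ g ∈ CF, g * v * g⁻¹ ∈ W := by
        intro g hg
        have hgC : g ∈ C := (Finset.mem_filter.1 hg).2
        refine Finset.mem_filter.2 ⟨(hmemOF _).2 (hOn g hgC v hv), isConj_iff.2 ⟨g, ?_⟩⟩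
        rw [← mul_assoc g J v, (hmemC g).1 hgC]; group
      have hfib : ∀ w ∈ W, (CF.filter fun g => g * v * g⁻¹ = w).card = Nat.card D := by
        intro w hw
        obtain ⟨hwO, hconj⟩ := Finset.mem_filter.1 hw
        obtain ⟨g₁, hg₁⟩ := isConj_iff.1 hconj
        have hg₁C := hfixJ w ((hmemOF w).1 hwO) g₁ hg₁
        rw [hCF, Finset.filter_filter, ← Fintype.card_subtype, ← Nat.card_eq_fintype_card]
        refine (Nat.card_congr (Equiv.subtypeEquiv (Equiv.mulLeft g₁) fun b => ?_)).symm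
        rw [Equiv.coe_mulLeft, C.mul_mem_cancel_left hg₁C, hD,
          Subgroup.mem_centralizer_singleton_iff]
        have hgv : g₁ * v * g₁⁻¹ = w := by
          refine mul_left_cancel (a := J) ?_
          rw [← hg₁, ← mul_assoc g₁ J v, (hmemC g₁).1 hg₁C]; group
        constructor
        · intro hb
          have hbC : b ∈ C := hDC (by rw [hD, Subgroup.mem_centralizer_singleton_iff]; exact hb)
          refine ⟨hbC, ?_⟩
          have hbv : b * v = v * b := by
            refine mul_left_cancel (a := J) ?_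
            rw [← mul_assoc, ← (hmemC b).1 hbC, mul_assoc, hb, mul_assoc]
          rw [← hgv]
          calc g₁ * b * v * (g₁ * b)⁻¹ = g₁ * (b * v) * b⁻¹ * g₁⁻¹ := by group
            _ = g₁ * v * g₁⁻¹ := by rw [hbv]; group
        · rintro ⟨hbC, hbv⟩
          rw [← hgv] at hbv
          have hbv' : b * v = v * b := by
            calc b * v = g₁⁻¹ * (g₁ * b * v * (g₁ * b)⁻¹) * (g₁ * b) := by group
              _ = v * b := by rw [hbv]; group
          rw [← mul_assoc, (hmemC b).1 hbC, mul_assoc, hbv', mul_assoc]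
      rw [← Nat.cast_mul, show Nat.card C = CF.card by
        rw [hCF, Nat.card_eq_fintype_card, Fintype.card_subtype],
        Finset.card_eq_sum_card_fiberwise hmapsto, Finset.sum_congr rfl hfib, Finset.sum_const,
        smul_eq_mul]
    rw [Finset.sum_congr rfl hrow, Finset.sum_const, hOFcard, nsmul_eq_mul, mul_comm]
  have haa : ∑ χ : IrrCharacter G, (a χ : ℤ) ^ 2 = 4 := by
    have h := hTT
    simp only [ha, map_mul, Complex.conj_natCast, map_intCast, hc₀] at h
    have h2 : (c₀ : ℂ) * (c₀ : ℂ) * ((∑ χ : IrrCharacter G, (a χ : ℤ) ^ 2 : ℤ) : ℂ) =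
        (c₀ : ℂ) * (c₀ : ℂ) * ((4 : ℤ) : ℂ) := by
      rw [Int.cast_sum, Finset.mul_sum]
      refine Eq.trans (Eq.trans (Finset.sum_congr rfl fun χ _ => ?_) h) ?_
      · push_cast; ring
      · push_cast; ring
    exact_mod_cast mul_left_cancel₀ (mul_ne_zero hc₀0 hc₀0) h2
  set B := Cfsg.principalBlock M G with hBdef
  have hBb := Blocks.isPBlock_principalBlock (G := G) M
  -- the values of the principal block at the section
  have := Fintype.ofFinite C
  have hsec : ∀ v ∈ OF, ∑ χ : IrrCharacter G,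
      (if χ ∈ B then (χ : G → ℂ) J * conj ((χ : G → ℂ) (J * v)) else 0) = 4 := by
    intro v hv
    rw [hmemOF] at hv
    have hx : ∃ e, orderOf J = 2 ^ e := ⟨1, by rw [hJ2]; rfl⟩
    have hH : ∀ x : G, x ∈ C ↔ J * x = x * J := fun x => (hmemC x).trans eq_comm
    have h := Blocks.section_identity (H := C) hM hx hH hBb (a := (1 : C)) (b := ⟨v, hOC hv⟩)
      (by simp) (by rw [Subgroup.orderOf_mk]; exact hOodd v hv)
    have hz : IsPGroup 2 (Subgroup.zpowers J) :=
      IsPGroup.of_card (n := 1) (by rw [Nat.card_zpowers, hJ2]; rfl)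
    rw [Blocks.inducing_principalBlock hM hz fun x => ?_] at h
    swap
    · rw [hH]
      refine ⟨fun h u hu => ?_, fun h => h J (Subgroup.mem_zpowers J)⟩
      obtain ⟨i, rfl⟩ := hu
      exact ((show Commute J x from h).zpow_left i).eq
    simp only [OneMemClass.coe_one, mul_one] at h
    have hidx : N.index = 2 ^ 2 := by
      have h1 := N.card_mul_index
      rw [hNcard, hc₀, mul_comm 4 c₀] at h1
      exact Nat.eq_of_mul_eq_mul_left hc₀odd.pos h1
    have hb := Blocks.blockCoeff_principalBlock_of_complement hM N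
      (by rw [hNcard]; exact Nat.two_dvd_ne_zero.2 (Nat.odd_iff.1 hc₀odd)) ⟨2, hidx⟩
      (⟨v, hOC hv⟩ : C)
    have hvN : (⟨v, hOC hv⟩ : C) ∈ N := by
      obtain ⟨w, hw, hwe⟩ := hv
      rwa [show (⟨v, hOC (hwe ▸ ⟨w, hw, rfl⟩)⟩ : C) = w from Subtype.ext hwe.symm]
    rw [if_pos hvN, Cfsg.blockCoeff, inv_mul_eq_iff_eq_mul₀ (Nat.cast_ne_zero.2 Nat.card_pos.ne'),
      hNcard, hc₀] at hb
    rw [hb, finsum_mem_eq_finite_toFinset_sum _ (Set.toFinite B)] at h
    rw [← Finset.sum_filter, show Finset.univ.filter (· ∈ B) = (Set.toFinite B).toFinset by ext; simp,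
      h]
    push_cast
    field_simp
  have haB : ∑ χ : IrrCharacter G, (if χ ∈ B then (χ : G → ℂ) J * (a χ : ℂ) else 0) = 4 := by
    refine mul_left_cancel₀ hc₀0 ?_
    rw [Finset.mul_sum]
    calc ∑ χ : IrrCharacter G, (c₀ : ℂ) * (if χ ∈ B then (χ : G → ℂ) J * (a χ : ℂ) else 0)
        = ∑ χ : IrrCharacter G, ∑ v ∈ OF,
            (if χ ∈ B then (χ : G → ℂ) J * conj ((χ : G → ℂ) (J * v)) else 0) := by
          refine Finset.sum_congr rfl fun χ _ => ?_
          split_ifs
          · have h1 : ∑ v ∈ OF, conj ((χ : G → ℂ) (J * v)) = (c₀ : ℂ) * a χ := by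
              have h2 := congrArg (starRingEnd ℂ) (ha χ)
              simp only [T, map_sum, map_mul, Complex.conj_natCast, map_intCast] at h2
              exact h2
            rw [← Finset.mul_sum, h1]; ring
          · simp
      _ = (c₀ : ℂ) * 4 := by
          rw [Finset.sum_comm, Finset.sum_congr rfl hsec, Finset.sum_const, hOFcard, nsmul_eq_mul]
  have hJJB : ∑ χ : IrrCharacter G,
      (if χ ∈ B then Complex.normSq ((χ : G → ℂ) J) else 0) = 4 := by
    have h := hsec 1 ((hmemOF 1).2 O.one_mem)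
    simp only [mul_one, Complex.mul_conj] at h
    have h' : ((∑ χ : IrrCharacter G,
        (if χ ∈ B then Complex.normSq ((χ : G → ℂ) J) else 0) : ℝ) : ℂ) = ((4 : ℝ) : ℂ) := by
      push_cast
      rw [← h]
      exact Finset.sum_congr rfl fun χ _ => by split_ifs <;> simp
    exact_mod_cast h'
  have haBre : ∑ χ : IrrCharacter G, (if χ ∈ B then ((χ : G → ℂ) J).re * (a χ : ℝ) else 0) = 4 := by
    have h := congrArg Complex.re haB
    rw [Complex.re_sum] at h
    rw [show (4 : ℂ).re = (4 : ℝ) by norm_num] at h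
    rw [← h]
    exact Finset.sum_congr rfl fun χ _ => by split_ifs <;> simp
  have haaR : ∑ χ : IrrCharacter G, (a χ : ℝ) ^ 2 = 4 := by exact_mod_cast haa
  have hale : ∑ χ : IrrCharacter G, (if χ ∈ B then (a χ : ℝ) ^ 2 else 0) ≤ 4 := haaR ▸
    Finset.sum_le_sum fun χ _ => by split_ifs <;> [exact le_refl _; positivity]
  have hdiff : ∑ χ : IrrCharacter G,
      (if χ ∈ B then Complex.normSq ((χ : G → ℂ) J - (a χ : ℂ)) else 0) =
      (∑ χ : IrrCharacter G, (if χ ∈ B then (a χ : ℝ) ^ 2 else 0)) - 4 := by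
    have e : ∀ χ : IrrCharacter G,
        (if χ ∈ B then Complex.normSq ((χ : G → ℂ) J - (a χ : ℂ)) else 0) =
          (if χ ∈ B then Complex.normSq ((χ : G → ℂ) J) else 0) -
            2 * (if χ ∈ B then ((χ : G → ℂ) J).re * (a χ : ℝ) else 0) +
            (if χ ∈ B then (a χ : ℝ) ^ 2 else 0) := fun χ => by
      split_ifs
      · rw [Complex.normSq_sub]; simp; ring
      · simp
    rw [Finset.sum_congr rfl fun χ _ => e χ, Finset.sum_add_distrib, Finset.sum_sub_distrib,
      ← Finset.mul_sum, hJJB, haBre]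
    ring
  have hnn : ∀ χ : IrrCharacter G,
      0 ≤ (if χ ∈ B then Complex.normSq ((χ : G → ℂ) J - (a χ : ℂ)) else 0) := fun χ => by
    split_ifs <;> [exact Complex.normSq_nonneg _; exact le_refl _]
  have hzero : ∑ χ : IrrCharacter G,
      (if χ ∈ B then Complex.normSq ((χ : G → ℂ) J - (a χ : ℂ)) else 0) = 0 :=
    le_antisymm (by linarith) (Finset.sum_nonneg fun χ _ => hnn χ)
  refine ⟨a, fun χ hχ => ⟨?_, ?_⟩, ?_⟩
  · -- the central character at the section is odd
    intro ha0
    obtain ⟨n, hn0, hn⟩ := IsIrr.degree χ.2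
    set f : G → ℂ := fun g => if ∃ k : G, J * (k * g * k⁻¹) ∈ O then 1 else 0 with hf
    have hfc : IsClassFunction G f := by
      intro g s
      refine if_congr ⟨?_, ?_⟩ rfl rfl
      · rintro ⟨k, hk⟩
        exact ⟨k * s, by rwa [show k * s * g * (k * s)⁻¹ = k * (s * g * s⁻¹) * k⁻¹ by group]⟩
      · rintro ⟨k, hk⟩
        exact ⟨k * s⁻¹, by rwa [show k * s⁻¹ * (s * g * s⁻¹) * (k * s⁻¹)⁻¹ = k * g * k⁻¹ by group]⟩
    have hfR : ∀ g, Cfsg.MemLocalRing M (f g) := fun g =>
      Blocks.memLocalRing_of_isIntegral hM (by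
        simp only [hf]
        split_ifs
        · exact isIntegral_one
        · exact isIntegral_zero)
    have hsb : Cfsg.SameBlock M (fun _ : G => (1 : ℂ)) (χ : G → ℂ) := hχ
    have hω := Blocks.memLocalIdeal_omega_sub hM isIrrCharacter_one χ.2 hfc hfR hsb
    have hkey : ∀ F : G → ℂ, IsClassFunction G F → ∑ g : G, f g * F g =
        (C.index : ℂ) * ∑ v ∈ OF, F (J * v) := by
      intro F hF
      have hfib : ∀ g : G, (((Finset.univ ×ˢ OF).filter
          fun kv : G × G => kv.1 * (J * kv.2) * kv.1⁻¹ = g).card : ℂ) = (Nat.card C : ℂ) * f g := by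
        intro g
        simp only [hf]
        by_cases hg : ∃ k : G, J * (k * g * k⁻¹) ∈ O
        · rw [if_pos hg, mul_one, Nat.cast_inj]
          obtain ⟨k, hk⟩ := hg
          set v := J * (k * g * k⁻¹) with hv
          have hkg : k⁻¹ * (J * v) * k⁻¹⁻¹ = g := by rw [hv, ← mul_assoc J J, hJJ]; group
          rw [Nat.card_eq_fintype_card, ← Finset.card_univ]
          symm
          refine Finset.card_bij (fun c _ => (k⁻¹ * (c : G), (c : G)⁻¹ * v * c)) ?_ ?_ ?_
          · intro c _
            refine Finset.mem_filter.2 ⟨Finset.mem_product.2 ⟨Finset.mem_univ _, ?_⟩, ?_⟩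
            · rw [hmemOF]
              have := hOn _ (C.inv_mem c.2) v hk
              rwa [inv_inv] at this
            · show k⁻¹ * (c : G) * (J * ((c : G)⁻¹ * v * c)) * (k⁻¹ * (c : G))⁻¹ = g
              rw [← hkg]
              have hcJ := (hmemC c).1 c.2
              calc k⁻¹ * (c : G) * (J * ((c : G)⁻¹ * v * c)) * (k⁻¹ * (c : G))⁻¹
                  = k⁻¹ * ((c : G) * J) * (c : G)⁻¹ * v * k⁻¹⁻¹ := by group
                _ = k⁻¹ * (J * v) * k⁻¹⁻¹ := by rw [hcJ]; group
          · intro c _ c' _ h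
            exact Subtype.ext (mul_left_cancel (congrArg Prod.fst h))
          · rintro ⟨k', w⟩ hkw
            obtain ⟨hkw1, hkw2⟩ := Finset.mem_filter.1 hkw
            have hw := (hmemOF w).1 (Finset.mem_product.1 hkw1).2
            have e1 : k * k' * (J * w) * (k * k')⁻¹ = J * v := by
              calc k * k' * (J * w) * (k * k')⁻¹ = k * (k' * (J * w) * k'⁻¹) * k⁻¹ := by group
                _ = J * v := by rw [hkw2, hv, ← mul_assoc J J, hJJ, one_mul]
            have hcC : k * k' ∈ C := by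
              have h := congrArg (· ^ c₀) e1
              simp only [conj_pow, hJsplit w hw, hJsplit v hk] at h
              exact (hmemC _).2 (mul_inv_eq_iff_eq_mul.1 h)
            refine ⟨⟨k * k', hcC⟩, Finset.mem_univ _, Prod.ext (by simp) ?_⟩
            have hcv : k * k' * w * (k * k')⁻¹ = v := by
              refine mul_left_cancel (a := J) ?_
              rw [← e1, ← mul_assoc (k * k') J w, (hmemC _).1 hcC]; group
            show (k * k')⁻¹ * v * (k * k') = w
            rw [← hcv]; group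
        · rw [if_neg hg, mul_zero, Nat.cast_eq_zero, Finset.card_eq_zero,
            Finset.filter_eq_empty_iff]
          rintro ⟨k', w⟩ hkw h
          have hw := (hmemOF w).1 (Finset.mem_product.1 hkw).2
          refine hg ⟨k'⁻¹, ?_⟩
          rw [← h, show k'⁻¹ * (k' * (J * w) * k'⁻¹) * k'⁻¹⁻¹ = J * w by group, ← mul_assoc, hJJ,
            one_mul]
          exact hw
      refine mul_left_cancel₀ (Nat.cast_ne_zero.2 (Nat.card_pos (α := C)).ne' :
        (Nat.card C : ℂ) ≠ 0) ?_
      rw [← mul_assoc, ← Nat.cast_mul, Subgroup.card_mul_index, Finset.mul_sum]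
      calc ∑ g : G, (Nat.card C : ℂ) * (f g * F g)
          = ∑ g : G, ∑ kv ∈ (Finset.univ ×ˢ OF).filter
              (fun kv : G × G => kv.1 * (J * kv.2) * kv.1⁻¹ = g), F g := by
            refine Finset.sum_congr rfl fun g _ => ?_
            rw [Finset.sum_const, nsmul_eq_mul, hfib, mul_assoc]
        _ = ∑ kv ∈ Finset.univ ×ˢ OF, F (kv.1 * (J * kv.2) * kv.1⁻¹) := by
            rw [← Finset.sum_fiberwise (Finset.univ ×ˢ OF) (fun kv : G × G =>
              kv.1 * (J * kv.2) * kv.1⁻¹) fun kv => F (kv.1 * (J * kv.2) * kv.1⁻¹)]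
            refine Finset.sum_congr rfl fun g _ => Finset.sum_congr rfl fun kv hkv => ?_
            rw [(Finset.mem_filter.1 hkv).2]
        _ = (Nat.card G : ℂ) * ∑ v ∈ OF, F (J * v) := by
            rw [Finset.sum_product, Finset.sum_congr rfl fun k _ => Finset.sum_congr rfl
              fun v _ => hF (J * v) k, Finset.sum_const, Finset.card_univ, nsmul_eq_mul,
              Nat.card_eq_fintype_card]
    simp only [Blocks.omega] at hω
    rw [hkey _ (isClassFunction_of_isIrr isIrrCharacter_one),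
      hkey _ (isClassFunction_of_isIrr χ.2)] at hω
    rw [show (∑ v ∈ OF, (χ : G → ℂ) (J * v)) = T χ from rfl, ha χ, ha0] at hω
    simp only [Finset.sum_const, hOFcard, nsmul_one, div_one, Int.cast_zero, mul_zero, zero_div,
      sub_zero, ← Nat.cast_mul] at hω
    rw [Blocks.memLocalIdeal_natCast_iff hM] at hω
    rcases Nat.prime_two.dvd_mul.1 hω with h | h
    · have hle : (P : Subgroup G) ≤ C := hPC
      exact P.not_dvd_index (h.trans (Subgroup.index_dvd_of_le hle))
    · exact (Nat.two_dvd_ne_zero.2 (Nat.odd_iff.1 hc₀odd)) h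
  · have h := (Finset.sum_eq_zero_iff_of_nonneg fun χ _ => hnn χ).1 hzero χ (Finset.mem_univ _)
    rw [if_pos hχ, Complex.normSq_eq_zero, sub_eq_zero] at h
    exact h
  · have h : ∑ χ : IrrCharacter G, (if χ ∈ B then (a χ : ℝ) ^ 2 else 0) = ((4 : ℤ) : ℝ) := by
      rw [Int.cast_ofNat]; linarith
    have h' : ((∑ χ : IrrCharacter G, (if χ ∈ B then a χ ^ 2 else 0) : ℤ) : ℝ) = ((4 : ℤ) : ℝ) := by
      rw [← h, Int.cast_sum]
      exact Finset.sum_congr rfl fun χ _ => by split_ifs <;> simp
    exact_mod_cast h'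

end Cfsg.Agent.Char
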