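import Cfsg.Agent.Char.Gen
import Mathlib.GroupTheory.Subgroup.Simple

/-!
# Conjugate characters and Clifford's theorem
-/

namespace Cfsg.Agent.Char

open scoped ComplexConjugate

universe u

variable {G : Type u} [Group G] {N : Subgroup G} [hN : N.Normal]

/-- The conjugate of a function on a normal subgroup: `n ↦ φ (g * n * g⁻¹)`. -/
def conjFun (g : G) (φ : N → ℂ) : N → ℂ :=
  fun n => φ ⟨g * n * g⁻¹, hN.conj_mem (n : G) n.2 g⟩

theorem conjFun_apply (g : G) (φ : N → ℂ) (n : N) :
    conjFun g φ n = φ ⟨g * n * g⁻¹, hN.conj_mem (n : G) n.2 g⟩ := rfl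

theorem conjFun_eq_comp (g : G) (φ : N → ℂ) :
    conjFun g φ = fun n => φ (MulAut.conjNormal g n) := rfl

@[simp] theorem conjFun_one (φ : N → ℂ) : conjFun 1 φ = φ := by
  funext n
  exact congrArg φ (Subtype.ext (by simp))

theorem conjFun_conjFun (g h : G) (φ : N → ℂ) : conjFun g (conjFun h φ) = conjFun (h * g) φ := by
  funext n
  exact congrArg φ (Subtype.ext (by simp [mul_assoc]))

theorem conjFun_inv_cancel (g : G) (φ : N → ℂ) : conjFun g⁻¹ (conjFun g φ) = φ := by
  rw [conjFun_conjFun, mul_inv_cancel, conjFun_one]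

theorem conjFun_cancel_inv (g : G) (φ : N → ℂ) : conjFun g (conjFun g⁻¹ φ) = φ := by
  rw [conjFun_conjFun, inv_mul_cancel, conjFun_one]

theorem conjFun_injective (g : G) : Function.Injective (conjFun (N := N) g) :=
  Function.LeftInverse.injective (conjFun_inv_cancel g)

theorem conjFun_of_mem {g : G} (hg : g ∈ N) {φ : N → ℂ} (hφ : IsClassFunction N φ) :
    conjFun g φ = φ := by
  funext n
  exact (congrArg φ (Subtype.ext rfl)).trans (hφ n ⟨g, hg⟩)

theorem isIrr_conjFun (g : G) {φ : N → ℂ} (h : IsIrrCharacter N φ) :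
    IsIrrCharacter N (conjFun g φ) :=
  (isIrrCharacter_comp_equiv (MulAut.conjNormal g)).2 h

theorem isCharacter_conjFun (g : G) {φ : N → ℂ} (h : IsCharacter N φ) :
    IsCharacter N (conjFun g φ) :=
  isCharacter_comp (MulAut.conjNormal g : MulAut N).toMonoidHom h

theorem conjFun_apply_one (g : G) (φ : N → ℂ) : conjFun g φ 1 = φ 1 :=
  congrArg φ (Subtype.ext (by simp))

theorem classInner_conjFun [Fintype N] (g : G) (φ ψ : N → ℂ) :
    classInner (conjFun g φ) (conjFun g ψ) = classInner φ ψ := by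
  simp only [classInner]
  congr 1
  exact Fintype.sum_equiv (MulAut.conjNormal g : MulAut N).toEquiv _ _ fun n => rfl

theorem conjFun_res (g : G) {χ : G → ℂ} (h : IsClassFunction G χ) :
    conjFun g (fun n : N => χ n) = fun n : N => χ n :=
  funext fun n => h n g

/-- The inertia subgroup of a function on a normal subgroup. -/
def inertia (φ : N → ℂ) : Subgroup G where
  carrier := {g | conjFun g φ = φ}
  one_mem' := conjFun_one φ
  mul_mem' := fun {a b} (ha : conjFun a φ = φ) (hb : conjFun b φ = φ) => by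
    show conjFun (a * b) φ = φ
    rw [← conjFun_conjFun, ha, hb]
  inv_mem' := fun {a} (ha : conjFun a φ = φ) => by
    show conjFun a⁻¹ φ = φ
    conv_lhs => rw [← ha]
    exact conjFun_inv_cancel a φ

@[simp] theorem mem_inertia {φ : N → ℂ} {g : G} : g ∈ inertia φ ↔ conjFun g φ = φ := Iff.rfl

theorem le_inertia {φ : N → ℂ} (h : IsClassFunction N φ) : N ≤ inertia φ :=
  fun _ hg => conjFun_of_mem hg h

section Fin

variable [Fintype G]

open scoped Classical in
/-- The orbit of a function under conjugation. -/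
noncomputable def orbit (φ : N → ℂ) : Finset (N → ℂ) :=
  Finset.univ.image fun g : G => conjFun g φ

theorem mem_orbit {φ ψ : N → ℂ} : ψ ∈ orbit φ ↔ ∃ g : G, conjFun g φ = ψ := by
  classical
  simp [orbit]

theorem self_mem_orbit (φ : N → ℂ) : φ ∈ orbit φ := mem_orbit.2 ⟨1, conjFun_one φ⟩

theorem card_orbit (φ : N → ℂ) : (orbit φ).card = (inertia φ).index := by
  classical
  rw [Subgroup.index_eq_card, ← Nat.card_eq_finsetCard]
  refine (Nat.card_eq_of_bijective (Quotient.lift
    (fun g : G => (⟨conjFun g⁻¹ φ, mem_orbit.2 ⟨g⁻¹, rfl⟩⟩ : orbit φ)) ?_) ⟨?_, ?_⟩).symm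
  · intro a b hab
    rw [← Quotient.eq_iff_equiv] at hab
    obtain hab : a⁻¹ * b ∈ inertia φ := QuotientGroup.eq.1 hab
    apply Subtype.ext
    show conjFun a⁻¹ φ = conjFun b⁻¹ φ
    conv_lhs => rw [← mem_inertia.1 ((inertia φ).inv_mem hab), conjFun_conjFun]
    simp [mul_assoc]
  · intro x y hxy
    obtain ⟨a, rfl⟩ := QuotientGroup.mk_surjective x
    obtain ⟨b, rfl⟩ := QuotientGroup.mk_surjective y
    refine QuotientGroup.eq.2 ?_
    have h : conjFun a⁻¹ φ = conjFun b⁻¹ φ := congrArg Subtype.val hxy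
    show conjFun (a⁻¹ * b) φ = φ
    rw [← conjFun_conjFun, h, conjFun_cancel_inv]
  · rintro ⟨ψ, hψ⟩
    obtain ⟨g, rfl⟩ := mem_orbit.1 hψ
    exact ⟨QuotientGroup.mk g⁻¹, Subtype.ext (by simp)⟩

theorem res_indFun_eq_sum (φ : N → ℂ) :
    (fun n : N => indFun N φ n) = (Nat.card N : ℂ)⁻¹ • ∑ g : G, conjFun g φ := by
  funext n
  simp only [Pi.smul_apply, Finset.sum_apply, smul_eq_mul, indFun_apply_coe_of_normal]
  congr 1
  refine Fintype.sum_equiv (Equiv.inv G) _ _ fun x => ?_
  exact congrArg φ (Subtype.ext (by simp))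

open scoped Classical in
/-- Inner product of two characters induced from irreducible characters of a normal subgroup. -/
theorem classInner_indFun_indFun [Fintype N] {φ ψ : N → ℂ} (hφ : IsIrrCharacter N φ)
    (hψ : IsIrrCharacter N ψ) :
    classInner (indFun N φ) (indFun N ψ) =
      (Nat.card N : ℂ)⁻¹ * (Nat.card {g : G // conjFun g φ = ψ} : ℂ) := by
  rw [classInner_indFun_right N ψ (isClassFunction_indFun N φ), res_indFun_eq_sum,
    classInner_smul_left, classInner_sum_left,
    Finset.sum_congr rfl fun g _ => classInner_irr (isIrr_conjFun g hφ) hψ,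
    Finset.sum_boole, ← Fintype.card_subtype, ← Nat.card_eq_fintype_card]

/-- An induced character from a normal subgroup is irreducible when the inertia subgroup is
the subgroup itself. -/
theorem isIrr_indFun_of_inertia [Fintype N] {φ : N → ℂ} (hφ : IsIrrCharacter N φ)
    (h : inertia φ = N) : IsIrrCharacter G (indFun N φ) := by
  classical
  rw [isIrr_iff_norm_one (isCharacter_indFun N (IsIrr.isCharacter hφ)),
    classInner_indFun_indFun hφ hφ]
  have : Nat.card {g : G // conjFun g φ = φ} = Nat.card N :=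
    (rfl : Nat.card {g : G // conjFun g φ = φ} = Nat.card (inertia φ)).trans
      (congrArg (fun K : Subgroup G => Nat.card K) h)
  rw [this, inv_mul_cancel₀ (Nat.cast_ne_zero.2 Nat.card_pos.ne')]

/-- A constituent of the restriction is conjugate to any other one. -/
theorem constituent_mem_orbit [Fintype N] {θ : G → ℂ} (hθ : IsIrrCharacter G θ) {φ η : N → ℂ}
    (hφ : IsIrrCharacter N φ) (hη : IsIrrCharacter N η)
    (h1 : classInner (fun n : N => θ n) φ ≠ 0) (h2 : classInner (fun n : N => θ n) η ≠ 0) :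
    η ∈ orbit φ := by
  classical
  have hind := isCharacter_indFun N (IsIrr.isCharacter hφ)
  have hc : classInner (indFun N φ) θ ≠ 0 := by
    rw [classInner_indFun_left N φ (isClassFunction_of_isIrr hθ), ← classInner_conj_symm]
    simpa using h1
  have hsub := isCharacter_res N (IsChar.sub_constituent hind hθ hc)
  obtain ⟨a, ha⟩ := classInner_isCharacter_eq_natCast
    (isCharacter_res N (IsIrr.isCharacter hθ)) (IsIrr.isCharacter hη)
  obtain ⟨b, hb⟩ := classInner_isCharacter_eq_natCast hsub (IsIrr.isCharacter hη)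
  have hsum : (a : ℂ) + b = classInner (fun n : N => indFun N φ n) η := by
    rw [← ha, ← hb, ← classInner_add_left]
    congr 1
    funext n
    simp
  by_contra hno
  rw [res_indFun_eq_sum, classInner_smul_left, classInner_sum_left, Finset.sum_eq_zero, mul_zero]
    at hsum
  · rw [ha] at h2
    have h3 : a + b = 0 := by exact_mod_cast hsum
    exact h2 (by simp [show a = 0 by omega])
  · intro g _
    exact classInner_irr_ne (isIrr_conjFun g hφ) hη fun e => hno (mem_orbit.2 ⟨g, e⟩)

/-- **Clifford's theorem**: the restriction of an irreducible character to a normal subgroup is a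
multiple of the sum over one orbit. -/
theorem clifford [Fintype N] {θ : G → ℂ} (hθ : IsIrrCharacter G θ) {φ : N → ℂ}
    (hφ : IsIrrCharacter N φ) (h : classInner (fun n : N => θ n) φ ≠ 0) :
    (fun n : N => θ n) = classInner (fun n : N => θ n) φ • ∑ ψ ∈ orbit φ, ψ := by
  classical
  have hres := isClassFunction_of_isIrr hθ
  have hval : ∀ ψ ∈ orbit φ, IsIrrCharacter N ψ ∧
      classInner (fun n : N => θ n) ψ = classInner (fun n : N => θ n) φ := by
    intro ψ hψ
    obtain ⟨g, rfl⟩ := mem_orbit.1 hψ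
    refine ⟨isIrr_conjFun g hφ, ?_⟩
    conv_lhs => rw [← conjFun_res g hres]
    exact classInner_conjFun g _ _
  conv_lhs => rw [classFun_expansion (isClassFunction_of_isCharacter
    (isCharacter_res N (IsIrr.isCharacter hθ)))]
  rw [Finset.smul_sum]
  have hstep : ∑ χ : IrrCharacter N, classInner (fun n : N => θ n) (χ : N → ℂ) • (χ : N → ℂ) =
      ∑ χ ∈ Finset.univ.filter (fun χ : IrrCharacter N => (χ : N → ℂ) ∈ orbit φ),
        classInner (fun n : N => θ n) (χ : N → ℂ) • (χ : N → ℂ) := by
    refine (Finset.sum_subset (Finset.filter_subset _ _) fun χ _ hχ => ?_).symm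
    have h0 : classInner (fun n : N => θ n) (χ : N → ℂ) = 0 := by
      by_contra h0
      exact hχ (Finset.mem_filter.2 ⟨Finset.mem_univ _, constituent_mem_orbit hθ hφ χ.2 h h0⟩)
    rw [h0, zero_smul]
  rw [hstep]
  refine Finset.sum_bij (fun χ _ => (χ : N → ℂ)) (fun χ hχ => (Finset.mem_filter.1 hχ).2)
    (fun a _ b _ e => Subtype.ext e)
    (fun ψ hψ => ⟨⟨ψ, (hval ψ hψ).1⟩, Finset.mem_filter.2 ⟨Finset.mem_univ _, hψ⟩, rfl⟩) ?_
  intro χ hχ
  rw [(hval _ (Finset.mem_filter.1 hχ).2).2]

theorem degree_eq_of_clifford [Fintype N] {θ : G → ℂ} (hθ : IsIrrCharacter G θ) {φ : N → ℂ}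
    (hφ : IsIrrCharacter N φ) (h : classInner (fun n : N => θ n) φ ≠ 0) :
    θ 1 = classInner (fun n : N => θ n) φ * ((inertia φ).index : ℂ) * φ 1 := by
  have h1 := congrFun (clifford hθ hφ h) 1
  simp only [Pi.smul_apply, Finset.sum_apply, smul_eq_mul, OneMemClass.coe_one] at h1
  rw [h1, Finset.sum_congr rfl fun ψ hψ => show ψ 1 = φ 1 by
    obtain ⟨g, rfl⟩ := mem_orbit.1 hψ
    exact conjFun_apply_one g φ, Finset.sum_const, card_orbit, nsmul_eq_mul, mul_assoc]

omit hN [Fintype G] in
theorem exists_constituent_res [Fintype N] {θ : G → ℂ} (hθ : IsIrrCharacter G θ) :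
    ∃ φ : IrrCharacter N, classInner (fun n : N => θ n) (φ : N → ℂ) ≠ 0 :=
  IsChar.exists_constituent (isCharacter_res N (IsIrr.isCharacter hθ))
    fun h => IsIrr.one_ne_zero hθ (congrFun h 1)

end Fin

end Cfsg.Agent.Char
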