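import Cfsg.Agent.Char.Gen
import Mathlib.GroupTheory.Abelianization.Defs
import Mathlib.LinearAlgebra.Determinant

/-!
# Kernels, quotients, linear characters, abelian groups
-/

namespace Cfsg.Agent.Char

open scoped ComplexConjugate
open Module

universe u

variable {G : Type u} [Group G]

section Kernel

variable {χ : G → ℂ}

theorem IsChar.mul_left_of_mem_kernel [Finite G] (h : IsCharacter G χ) {g : G}
    (hg : χ g = χ 1) (x : G) : χ (g * x) = χ x := by
  obtain ⟨n, ρ, rfl⟩ := h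
  rw [ρ.char_one, character_eq_finrank_iff] at hg
  show LinearMap.trace ℂ _ (ρ (g * x)) = LinearMap.trace ℂ _ (ρ x)
  rw [map_mul, hg]
  rfl

/-- The kernel of a character, as a subgroup. -/
def kerSubgroup [Finite G] {χ : G → ℂ} (h : IsCharacter G χ) : Subgroup G where
  carrier := {g | χ g = χ 1}
  one_mem' := rfl
  mul_mem' := fun {a b} ha hb => (IsChar.mul_left_of_mem_kernel h ha b).trans hb
  inv_mem' := fun {a} ha => by
    show χ a⁻¹ = χ 1
    rw [← IsChar.mul_left_of_mem_kernel h ha a⁻¹, mul_inv_cancel]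

@[simp] theorem mem_kerSubgroup [Finite G] (h : IsCharacter G χ) {g : G} :
    g ∈ kerSubgroup h ↔ χ g = χ 1 := Iff.rfl

instance kerSubgroup_normal [Finite G] (h : IsCharacter G χ) : (kerSubgroup h).Normal :=
  ⟨fun n hn g => by
    show χ (g * n * g⁻¹) = χ 1
    rw [isClassFunction_of_isCharacter h n g]; exact hn⟩

variable (N : Subgroup G) [N.Normal]

/-- A character with `N` in its kernel comes from a character of `G ⧸ N`. -/
theorem IsChar.exists_quotient [Finite G] (h : IsCharacter G χ) (hN : ∀ n ∈ N, χ n = χ 1) :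
    ∃ φ : G ⧸ N → ℂ, IsCharacter (G ⧸ N) φ ∧ ∀ g, χ g = φ (QuotientGroup.mk g) := by
  obtain ⟨n, ρ, rfl⟩ := h
  have hk : ∀ x ∈ N, ρ x = 1 := fun x hx => by
    have h1 := hN x hx
    rwa [ρ.char_one, character_eq_finrank_iff] at h1
  exact ⟨_, ⟨n, QuotientGroup.lift N ρ hk, rfl⟩, fun g => rfl⟩

/-- An irreducible character with `N` in its kernel comes from an irreducible character of
`G ⧸ N`. -/
theorem IsIrr.exists_quotient [Finite G] (h : IsIrrCharacter G χ) (hN : ∀ n ∈ N, χ n = χ 1) :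
    ∃ φ : G ⧸ N → ℂ, IsIrrCharacter (G ⧸ N) φ ∧ ∀ g, χ g = φ (QuotientGroup.mk g) := by
  obtain ⟨n, ρ, hρ, rfl⟩ := h
  have hk : ∀ x ∈ N, ρ x = 1 := fun x hx => by
    have h1 := hN x hx
    rwa [ρ.char_one, character_eq_finrank_iff] at h1
  refine ⟨_, ⟨n, QuotientGroup.lift N ρ hk, ?_, rfl⟩, fun g => rfl⟩
  rw [isIrreducible_iff] at hρ ⊢
  exact ⟨hρ.1, fun U hU => hρ.2 U fun g v hv => hU (QuotientGroup.mk g) v hv⟩

theorem isIrrCharacter_mk {φ : G ⧸ N → ℂ} (h : IsIrrCharacter (G ⧸ N) φ) :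
    IsIrrCharacter G (fun g => φ (QuotientGroup.mk g)) :=
  isIrrCharacter_comp (QuotientGroup.mk' N) (QuotientGroup.mk'_surjective N) h

/-- Irreducible characters of `G ⧸ N` as irreducible characters of `G` with `N` in the kernel. -/
noncomputable def quotientEquiv [Finite G] :
    IrrCharacter (G ⧸ N) ≃
      {χ : IrrCharacter G // ∀ n ∈ N, (χ : G → ℂ) n = (χ : G → ℂ) 1} :=
  Equiv.ofBijective
    (fun φ => ⟨⟨_, isIrrCharacter_mk N φ.2⟩, fun n hn => by
      show (φ : G ⧸ N → ℂ) (QuotientGroup.mk n) = (φ : G ⧸ N → ℂ) (QuotientGroup.mk 1)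
      rw [(QuotientGroup.eq_one_iff n).2 hn]; rfl⟩)
    ⟨fun φ ψ e => by
      apply Subtype.ext
      funext q
      obtain ⟨g, rfl⟩ := QuotientGroup.mk_surjective q
      exact congrFun (congrArg (fun x => (x.1 : G → ℂ)) e) g,
     fun χ => by
      obtain ⟨φ, hφ, he⟩ := IsIrr.exists_quotient N χ.1.2 χ.2
      exact ⟨⟨φ, hφ⟩, Subtype.ext (Subtype.ext (funext fun g => (he g).symm))⟩⟩

end Kernel

/-- An element in the kernel of every irreducible character is trivial. -/
theorem eq_one_of_forall_irr [Finite G] {g : G}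
    (h : ∀ χ : IrrCharacter G, (χ : G → ℂ) g = (χ : G → ℂ) 1) : g = 1 :=
  isConj_one_left.1 ((isConj_iff_forall_irr g 1).2 h)

theorem exists_irr_ne_at_one [Finite G] {g : G} (hg : g ≠ 1) :
    ∃ χ : IrrCharacter G, (χ : G → ℂ) g ≠ (χ : G → ℂ) 1 := by
  by_contra! h
  exact hg (eq_one_of_forall_irr h)

section Linear

variable {χ : G → ℂ}

/-- A character of degree one is a homomorphism to `ℂˣ`. -/
theorem IsChar.exists_hom (h : IsCharacter G χ) (h1 : χ 1 = 1) :
    ∃ f : G →* ℂˣ, χ = fun g => (f g : ℂ) := by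
  obtain ⟨n, ρ, rfl⟩ := h
  have hn : n = 1 := by
    rw [ρ.char_one, Module.finrank_fin_fun] at h1
    exact_mod_cast h1
  subst hn
  refine ⟨((LinearMap.det).comp ρ).toHomUnits, funext fun g => ?_⟩
  simp only [MonoidHom.coe_toHomUnits, MonoidHom.comp_apply]
  show LinearMap.trace ℂ _ (ρ g) = _
  rw [LinearMap.trace_eq_matrix_trace ℂ (Pi.basisFun ℂ (Fin 1)),
    ← LinearMap.det_toMatrix (Pi.basisFun ℂ (Fin 1))]
  simp [Matrix.trace, LinearMap.toMatrix'_apply]

theorem isLinear_iff : IsCharacter G χ ∧ χ 1 = 1 ↔ ∃ f : G →* ℂˣ, χ = fun g => (f g : ℂ) :=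
  ⟨fun h => IsChar.exists_hom h.1 h.2, fun ⟨f, hf⟩ => hf ▸ ⟨isCharacter_hom f, by simp⟩⟩

theorem IsChar.isIrr_of_degree_one (h : IsCharacter G χ) (h1 : χ 1 = 1) :
    IsIrrCharacter G χ := by
  obtain ⟨f, rfl⟩ := IsChar.exists_hom h h1
  exact isIrrCharacter_hom f

theorem hom_commutator_eq_one {M : Type*} [CommGroup M] (f : G →* M) {g : G}
    (hg : g ∈ commutator G) : f g = 1 :=
  MonoidHom.mem_ker.1 (Abelianization.commutator_subset_ker f hg)

theorem IsIrr.degree_one_of_isMulCommutative [IsMulCommutative G] (h : IsIrrCharacter G χ) :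
    χ 1 = 1 := by
  obtain ⟨n, ρ, hρ, rfl⟩ := h
  rw [ρ.char_one, Representation.IsIrreducible.finrank_eq_one_of_isMulCommutative ρ, Nat.cast_one]

theorem IsIrr.degree_one_of_comm (h : IsIrrCharacter G χ) (hc : ∀ a b : G, a * b = b * a) :
    χ 1 = 1 := by
  have : IsMulCommutative G := ⟨⟨hc⟩⟩
  exact IsIrr.degree_one_of_isMulCommutative h

theorem card_conjClasses_eq_card_iff [Finite G] :
    Nat.card (ConjClasses G) = Nat.card G ↔ ∀ a b : G, a * b = b * a := by
  constructor
  · intro h a b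
    have hinj := ((Nat.bijective_iff_surjective_and_card
      (ConjClasses.mk : G → ConjClasses G)).2 ⟨ConjClasses.mk_surjective, h.symm⟩).1
    have : a * b * a⁻¹ = b :=
      hinj (ConjClasses.mk_eq_mk_iff_isConj.2 (isConj_iff.2 ⟨a, rfl⟩).symm)
    calc a * b = a * b * a⁻¹ * a := by group
      _ = b * a := by rw [this]
  · intro hc
    refine (Nat.card_eq_of_bijective (ConjClasses.mk : G → ConjClasses G)
      ⟨fun a b hab => ?_, ConjClasses.mk_surjective⟩).symm
    obtain ⟨c, rfl⟩ := isConj_iff.1 (ConjClasses.mk_eq_mk_iff_isConj.1 hab)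
    rw [hc c a, mul_inv_cancel_right]

theorem forall_degree_one_iff [Finite G] :
    (∀ χ : IrrCharacter G, (χ : G → ℂ) 1 = 1) ↔ ∀ a b : G, a * b = b * a := by
  refine ⟨fun h => card_conjClasses_eq_card_iff.1 ?_, fun h χ => IsIrr.degree_one_of_comm χ.2 h⟩
  have hs := sum_sq_degree (G := G)
  simp only [h, one_pow, Finset.sum_const, Finset.card_univ, nsmul_eq_mul, mul_one,
    ← Nat.card_eq_fintype_card, card_irrCharacter] at hs
  exact_mod_cast hs

/-- The number of linear characters is the index of the commutator subgroup. -/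
theorem card_linear [Finite G] :
    Nat.card {χ : IrrCharacter G // (χ : G → ℂ) 1 = 1} = (commutator G).index := by
  have hcomm : ∀ a b : G ⧸ commutator G, a * b = b * a := fun a b => by
    obtain ⟨a, rfl⟩ := QuotientGroup.mk_surjective a
    obtain ⟨b, rfl⟩ := QuotientGroup.mk_surjective b
    exact mul_comm (Abelianization.of a) (Abelianization.of b)
  rw [Subgroup.index_eq_card, ← card_conjClasses_eq_card_iff.2 hcomm, ← card_irrCharacter,
    Nat.card_congr (quotientEquiv (commutator G))]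
  refine Nat.card_congr (Equiv.subtypeEquivRight fun χ => ⟨fun h n hn => ?_, fun h => ?_⟩)
  · obtain ⟨f, hf⟩ := IsChar.exists_hom (IsIrr.isCharacter χ.2) h
    rw [h, hf]
    simp [hom_commutator_eq_one f hn]
  · obtain ⟨φ, hφ, he⟩ := IsIrr.exists_quotient (commutator G) χ.2 h
    rw [he, QuotientGroup.mk_one]
    exact IsIrr.degree_one_of_comm hφ hcomm

end Linear

end Cfsg.Agent.Char
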