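import Cfsg.Agent.Char.Galois
import Mathlib.FieldTheory.IntermediateField.Adjoin.Basic
import Mathlib.Analysis.SpecialFunctions.Log.Basic

/-!
# Rationality, positivity over Galois-closed sets, averaging over a normal subgroup
-/

namespace Cfsg.Agent.Char

open scoped ComplexConjugate
open Module

universe u

/-- The field generated by the `m`-th roots of unity, inside `ℂ`. -/
noncomputable def cycField (m : ℕ) : IntermediateField ℚ ℂ :=
  IntermediateField.adjoin ℚ {z : ℂ | z ^ m = 1}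

/-- An element of the field of `m`-th roots of unity fixed by all field embeddings is rational. -/
theorem exists_rat_of_fixed {m : ℕ} (hm : m ≠ 0) {z : ℂ} (hz : z ∈ cycField m)
    (h : ∀ (k : ℕ) (σ : ℂ →+* ℂ), k.Coprime m → (∀ w : ℂ, w ^ m = 1 → σ w = w ^ k) → σ z = z) :
    ∃ q : ℚ, z = q := by
  classical
  let K := algebraicClosure ℚ ℂ
  have hK : Algebra.IsAlgebraic ℚ K := algebraicClosure.isAlgebraic ℚ ℂ
  have hle : cycField m ≤ K := IntermediateField.adjoin_le_iff.2 fun w hw =>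
    mem_algebraicClosure_iff.2 (IsIntegral.isAlgebraic (IsIntegral.of_pow
      (Nat.pos_of_ne_zero hm) (by rw [show w ^ m = 1 from hw]; exact isIntegral_one)))
  let z' : K := ⟨z, hle hz⟩
  have hint : IsIntegral ℚ z' := (Algebra.IsAlgebraic.isAlgebraic (R := ℚ) z').isIntegral
  set ζ : ℂ := Complex.exp (2 * Real.pi * Complex.I / m) with hζ
  have hprim : IsPrimitiveRoot ζ m := Complex.isPrimitiveRoot_exp m hm
  have : NeZero m := ⟨hm⟩
  have hall : ∀ β ∈ (minpoly ℚ z').rootSet ℂ, β = z := by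
    intro β hβ
    rw [← Algebra.IsAlgebraic.range_eval_eq_rootSet_minpoly (F := ℚ) (K := K) ℂ z'] at hβ
    obtain ⟨ψ, rfl⟩ := hβ
    have hζm : ζ ∈ cycField m := IntermediateField.subset_adjoin ℚ _ hprim.pow_eq_one
    have hψprim : IsPrimitiveRoot (ψ ⟨ζ, hle hζm⟩) m := by
      refine IsPrimitiveRoot.map_of_injective ?_ ψ.toRingHom.injective
      exact IsPrimitiveRoot.of_map_of_injective (f := algebraMap K ℂ)
        (by exact hprim) (algebraMap K ℂ).injective
    obtain ⟨k, -, hk, hψζ⟩ := (hprim.isPrimitiveRoot_iff).1 hψprim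
    obtain ⟨σ, hσ⟩ := exists_galois m k hm hk
    suffices heq : ∀ w (hw : w ∈ cycField m), ψ ⟨w, hle hw⟩ = σ w from
      (heq z hz).trans (h k σ hk hσ)
    intro w hw
    induction hw using IntermediateField.adjoin_induction with
    | mem x hx =>
      obtain ⟨i, -, hi⟩ := hprim.eq_pow_of_pow_eq_one hx
      subst hi
      rw [hσ _ hx]
      have : (⟨ζ ^ i, hle (IntermediateField.subset_adjoin ℚ _ hx)⟩ : K) = ⟨ζ, hle hζm⟩ ^ i :=
        Subtype.ext (by simp)
      rw [this, map_pow, ← hψζ, ← pow_mul, ← pow_mul, mul_comm]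
    | algebraMap q => exact (ψ.commutes q).trans (eq_ratCast (σ.comp (algebraMap ℚ ℂ)) q).symm
    | add x y _ _ hx hy =>
      rw [map_add, ← hx, ← hy, ← map_add]
      rfl
    | inv x _ hx =>
      rw [map_inv₀, ← hx, ← map_inv₀]
      rfl
    | mul x y _ _ hx hy =>
      rw [map_mul, ← hx, ← hy, ← map_mul]
      rfl
  have hdeg : (minpoly ℚ z').natDegree ≤ 1 := by
    rw [← Polynomial.card_rootSet_eq_natDegree (K := ℂ) (minpoly.irreducible hint).separable
      (IsAlgClosed.splits _)]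
    exact Fintype.card_le_one_iff_subsingleton.2
      ⟨fun a b => Subtype.ext ((hall _ a.2).trans (hall _ b.2).symm)⟩
  have hdeg' : (minpoly ℚ z').natDegree = 1 :=
    le_antisymm hdeg (minpoly.natDegree_pos hint)
  obtain ⟨q, hq⟩ := minpoly.natDegree_eq_one_iff.1 hdeg'
  exact ⟨q, (congrArg Subtype.val hq).symm⟩

variable {G : Type u} [Group G] [Finite G] {χ : G → ℂ}

theorem IsChar.mem_cycField (h : IsCharacter G χ) (g : G) : χ g ∈ cycField (Nat.card G) := by
  obtain ⟨n, ρ, rfl⟩ := h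
  obtain ⟨μ, b, -, hμ, hχ⟩ := exists_eigenbasis ρ g
  rw [hχ]
  refine sum_mem fun i _ => IntermediateField.subset_adjoin ℚ _ ?_
  obtain ⟨c, hc⟩ := orderOf_dvd_natCard g
  show μ i ^ Nat.card G = 1
  rw [hc, pow_mul, hμ, one_pow]

/-- A character value fixed by all `g ↦ g ^ k` is rational. -/
theorem IsChar.exists_rat (h : IsCharacter G χ) (g : G)
    (hfix : ∀ k : ℕ, k.Coprime (Nat.card G) → χ (g ^ k) = χ g) : ∃ q : ℚ, χ g = q :=
  exists_rat_of_fixed Nat.card_pos.ne' (IsChar.mem_cycField h g) fun k σ hk hσ => by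
    rw [galois_apply_pow σ hσ h (orderOf_dvd_natCard g), hfix k hk]

/-- Over a Galois-closed set where a character takes positive values, its sum is at least the
number of elements. -/
theorem card_le_sum_of_galois_closed (h : IsCharacter G χ) (S : Finset G)
    (hS : ∀ x ∈ S, ∀ k : ℕ, k.Coprime (Nat.card G) → x ^ k ∈ S)
    (hpos : ∀ x ∈ S, (χ x).im = 0 ∧ 0 < (χ x).re) :
    (S.card : ℝ) ≤ ∑ x ∈ S, (χ x).re := by
  classical
  set P : ℂ := ∏ x ∈ S, χ x with hP
  have hPre : P = ((∏ x ∈ S, (χ x).re : ℝ) : ℂ) := by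
    rw [hP, Complex.ofReal_prod]
    exact Finset.prod_congr rfl fun x hx => Complex.ext (by simp) (by simp [(hpos x hx).1])
  obtain ⟨q, hq⟩ := exists_rat_of_fixed (m := Nat.card G) Nat.card_pos.ne'
    (prod_mem fun x _ => IsChar.mem_cycField h x : P ∈ cycField (Nat.card G))
    (fun k σ hk hσ => by
      rw [map_prod]
      simp only [galois_apply_pow σ hσ h (orderOf_dvd_natCard _)]
      have hinj : Function.Injective fun x : G => x ^ k := (Nat.Coprime.pow_left_bijective hk.symm).1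
      exact Finset.prod_bij (fun x _ => x ^ k) (fun x hx => hS x hx k hk)
        (fun a _ b _ e => hinj e) (fun b hb => Finset.surj_on_of_inj_on_of_card_le (fun x _ => x ^ k)
          (fun x hx => hS x hx k hk) (fun _ _ _ _ e => hinj e) le_rfl b hb |>.imp fun a ⟨ha, e⟩ =>
            ⟨ha, e.symm⟩) (fun _ _ => rfl))
  obtain ⟨n, hn⟩ := exists_int_of_isIntegral_rat (q := q)
    (hq ▸ IsIntegral.prod _ fun x _ => IsChar.isIntegral h x)
  have hpos' : 0 < ∏ x ∈ S, (χ x).re := Finset.prod_pos fun x hx => (hpos x hx).2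
  have hre : (∏ x ∈ S, (χ x).re) = (q : ℝ) := by
    have h1 := congrArg Complex.re (hPre.symm.trans hq)
    rw [Complex.ofReal_re] at h1
    simpa using h1
  have h1 : (1 : ℝ) ≤ ∏ x ∈ S, (χ x).re := by
    rw [hre, ← hn] at hpos' ⊢
    push_cast at hpos' ⊢
    exact_mod_cast (by exact_mod_cast hpos' : 0 < n)
  have hlog : ∑ x ∈ S, Real.log (χ x).re ≤ ∑ x ∈ S, ((χ x).re - 1) :=
    Finset.sum_le_sum fun x hx => Real.log_le_sub_one_of_pos (hpos x hx).2
  rw [← Real.log_prod (fun x hx => (hpos x hx).2.ne'), Finset.sum_sub_distrib,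
    Finset.sum_const, nsmul_eq_mul, mul_one] at hlog
  have := Real.log_nonneg h1
  linarith

/-- Burnside: a non-linear irreducible character vanishes somewhere. -/
theorem IsIrr.exists_zero (h : IsIrrCharacter G χ) (h1 : χ 1 ≠ 1) : ∃ g : G, χ g = 0 := by
  classical
  have := Fintype.ofFinite G
  by_contra! hne
  have hψ := isCharacter_mul (IsIrr.isCharacter h) (isCharacter_conj (IsIrr.isCharacter h))
  have hval : ∀ x, ((χ * fun g => conj (χ g)) x).re = Complex.normSq (χ x) := fun x => by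
    simp [Complex.mul_conj]
  have hle := card_le_sum_of_galois_closed hψ (Finset.univ.erase 1) (fun x hx k hk => by
    refine Finset.mem_erase.2 ⟨fun e => (Finset.mem_erase.1 hx).1 ?_, Finset.mem_univ _⟩
    exact (Nat.Coprime.pow_left_bijective hk.symm).1 (e.trans (one_pow k).symm))
    (fun x _ => ⟨by simp [Complex.mul_conj], by rw [hval]; exact Complex.normSq_pos.2 (hne x)⟩)
  simp only [hval] at hle
  have hnorm : ∑ x, Complex.normSq (χ x) = Nat.card G := by
    have hs := classInner_irr_self h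
    rw [classInner_self_eq, Complex.ofReal_eq_one, inv_mul_eq_one₀
      (Nat.cast_ne_zero.2 Nat.card_pos.ne')] at hs
    exact hs.symm
  rw [← Finset.add_sum_erase _ _ (Finset.mem_univ (1 : G))] at hnorm
  obtain ⟨n, hn0, hn⟩ := IsIrr.degree h
  have hn1 : 2 ≤ n := by
    rcases Nat.lt_or_ge n 2 with hlt | hge
    · exact absurd (by rw [hn, show n = 1 by omega, Nat.cast_one]) h1
    · exact hge
  have h4 : (4 : ℝ) ≤ Complex.normSq (χ 1) := by
    rw [hn, Complex.normSq_natCast]
    have : (2 : ℝ) ≤ n := by exact_mod_cast hn1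
    nlinarith
  rw [Finset.card_erase_of_mem (Finset.mem_univ _), Finset.card_univ, ← Nat.card_eq_fintype_card,
    Nat.cast_sub Nat.card_pos, Nat.cast_one] at hle
  linarith

section Avg

variable [Fintype G] (N : Subgroup G) [N.Normal] [Fintype N]

omit [Finite G] in
/-- Averaging an irreducible character over cosets of a normal subgroup gives itself or zero. -/
theorem avg_irr (h : IsIrrCharacter G χ) :
    ∃ c : ℕ, ∀ g : G, (Nat.card N : ℂ)⁻¹ * ∑ n : N, χ ((n : G) * g) = c * χ g := by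
  classical
  obtain ⟨m, ρ, hρ, rfl⟩ := h
  obtain ⟨c, hc, -⟩ := sum_smul_rep_eq_scalar ρ hρ
    (f := fun x => if x ∈ N then (Nat.card N : ℂ)⁻¹ else 0) (fun x k => if_congr
      ⟨fun hh => by simpa [mul_assoc] using ‹N.Normal›.conj_mem _ hh k⁻¹,
        fun hh => ‹N.Normal›.conj_mem x hh k⟩ rfl rfl)
  set P : Module.End ℂ (Fin m → ℂ) :=
    ∑ x, (if x ∈ N then (Nat.card N : ℂ)⁻¹ else 0) • ρ x with hP
  have hPN : P = (Nat.card N : ℂ)⁻¹ • ∑ n : N, ρ n := by
    rw [hP, Finset.smul_sum]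
    simp only [ite_smul, zero_smul, ← Finset.sum_filter]
    rw [Finset.sum_subtype (F := ‹Fintype N›) (Finset.univ.filter (· ∈ N)) (p := (· ∈ N)) (by simp)]
  have hidem : P * P = P := by
    rw [hPN, smul_mul_smul_comm, Finset.sum_mul_sum]
    have : ∀ a : N, ∑ b : N, ρ (a : G) * ρ b = ∑ b : N, ρ b := fun a =>
      Fintype.sum_equiv (Equiv.mulLeft a) _ _ fun b => by rw [← map_mul]; rfl
    rw [Finset.sum_congr rfl fun a _ => this a, Finset.sum_const, Finset.card_univ,
      ← Nat.cast_smul_eq_nsmul ℂ, smul_smul, ← Nat.card_eq_fintype_card]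
    congr 1
    field_simp
  obtain ⟨hn, -⟩ := isIrreducible_iff.1 hρ
  have hc2 : c * c = c := by
    have h2 := hidem
    rw [hc] at h2
    obtain ⟨v, hv⟩ := exists_ne (0 : Fin m → ℂ)
    have h3 := LinearMap.congr_fun h2 v
    simp only [Module.End.mul_apply, LinearMap.smul_apply, LinearMap.id_apply, smul_smul] at h3
    exact smul_left_injective ℂ hv h3
  obtain ⟨c', hc'⟩ : ∃ c' : ℕ, c = c' := by
    rcases eq_or_ne c 0 with h0 | h0
    · exact ⟨0, by simp [h0]⟩
    · exact ⟨1, by rw [Nat.cast_one]; exact (mul_eq_left₀ h0).1 hc2⟩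
  refine ⟨c', fun g => ?_⟩
  have h4 : LinearMap.trace ℂ _ (P * ρ g) = c * ρ.character g := by
    rw [hc, smul_mul_assoc, map_smul, smul_eq_mul]
    rfl
  rw [hPN, smul_mul_assoc, map_smul, Finset.sum_mul, map_sum, smul_eq_mul] at h4
  rw [← hc', ← h4]
  congr 1
  exact Finset.sum_congr rfl fun n _ => by rw [← map_mul]; rfl

/-- The average of a character over cosets of a normal subgroup is a character. -/
theorem isCharacter_avg (h : IsCharacter G χ) :
    IsCharacter G (fun g => (Nat.card N : ℂ)⁻¹ * ∑ n : N, χ ((n : G) * g)) := by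
  obtain ⟨m, -, he, -⟩ := IsChar.exists_mult h
  choose c hc using fun ψ : IrrCharacter G => avg_irr N ψ.2
  have heq : (fun g => (Nat.card N : ℂ)⁻¹ * ∑ n : N, χ ((n : G) * g)) =
      ∑ ψ : IrrCharacter G, ((m ψ * c ψ : ℕ) : ℂ) • (ψ : G → ℂ) := by
    funext g
    conv_lhs => rw [he]
    simp only [Finset.sum_apply, Pi.smul_apply, smul_eq_mul, Nat.cast_mul]
    rw [Finset.sum_comm, Finset.mul_sum]
    refine Finset.sum_congr rfl fun ψ _ => ?_
    rw [mul_assoc, ← hc ψ g, ← Finset.mul_sum]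
    ring
  rw [heq]
  exact isCharacter_sum _ _ fun ψ _ => isCharacter_natCast_smul _ (IsIrr.isCharacter ψ.2)

end Avg

end Cfsg.Agent.Char
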