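import Mathlib
import Cfsg.Agent.Char.Zero
import Cfsg.Agent.Char.Linear
import Cfsg.Agent.Char.Clifford
import Cfsg.Agent.CharArith.Basic
import Cfsg.Agent.ProjExt.Ratio

/-!
# A bound on the number of classes of a group with abelian normal Sylow subgroup
-/

namespace Cfsg.Agent.Char

open scoped ComplexConjugate

universe u

variable {X : Type u} [Group X] [Finite X] {p : ℕ} [Fact p.Prime] (V : Subgroup X) [V.Normal]

theorem not_dvd_degree_of_abelian (hidx : ¬ p ∣ V.index) (hab : ∀ a ∈ V, ∀ b ∈ V, a * b = b * a)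
    (χ : IrrCharacter X) : ¬ p ∣ charDegree (χ : X → ℂ) := by
  have := Fintype.ofFinite X
  have := Fintype.ofFinite V
  obtain ⟨θ, hθ⟩ := exists_constituent_res (N := V) χ.2
  have h1 : (θ : V → ℂ) 1 = 1 :=
    IsIrr.degree_one_of_comm θ.2 fun a b => Subtype.ext (hab a a.2 b b.2)
  obtain ⟨k, hk, hdvd⟩ := ProjExt.exists_ratio_dvd_index χ.2 θ.2 hθ
  have hd : charDegree (χ : X → ℂ) = k := by
    simp [charDegree, hk, h1]
  exact fun h => hidx (h.trans (hd ▸ hdvd))

theorem class_bound (hVp : IsPGroup p V) (hidx : ¬ p ∣ V.index)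
    (hab : ∀ a ∈ V, ∀ b ∈ V, a * b = b * a) {v : X} (hv : v ∈ V) :
    Nat.card (ConjClasses X) + Nat.card (X ⧸ V) ≤
      Nat.card (Subgroup.centralizer ({v} : Set X)) + Nat.card (ConjClasses (X ⧸ V)) := by
  classical
  have := Fintype.ofFinite X
  let S : Finset X := Finset.univ.filter fun x => Subgroup.zpowers x = Subgroup.zpowers v
  have hmem : ∀ x ∈ S, Subgroup.zpowers x = Subgroup.zpowers v := fun x hx =>
    (Finset.mem_filter.1 hx).2
  have hne : ∀ (χ : IrrCharacter X), ∀ x ∈ S, (χ : X → ℂ) x ≠ 0 := by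
    intro χ x hx h0
    refine not_dvd_degree_of_abelian V hidx hab χ
      (CharArith.dvd_degree_of_eq_zero p (IsIrr.isCharacter χ.2) x ?_ h0)
    have hxV : x ∈ V := Subgroup.zpowers_le.2 hv (hmem x hx ▸ Subgroup.mem_zpowers x)
    obtain ⟨j, hj⟩ := (IsPGroup.iff_orderOf.1 hVp) ⟨x, hxV⟩
    exact ⟨j, by rwa [Subgroup.orderOf_mk] at hj⟩
  have hclosed : ∀ x ∈ S, ∀ k : ℕ, k.Coprime (Nat.card X) → x ^ k ∈ S := by
    intro x hx k hk
    refine Finset.mem_filter.2 ⟨Finset.mem_univ _, ?_⟩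
    rw [← hmem x hx]
    refine le_antisymm (Subgroup.zpowers_le.2 ⟨k, zpow_natCast x k⟩) (Subgroup.zpowers_le.2 ?_)
    obtain ⟨m, hm⟩ := exists_pow_eq_self_of_coprime (hk.coprime_dvd_right (orderOf_dvd_natCard x))
    exact ⟨m, by show (x ^ k) ^ (m : ℤ) = x; rw [zpow_natCast, hm]⟩
  have hlow : ∀ χ : IrrCharacter X,
      (if ∀ n ∈ V, (χ : X → ℂ) n = (χ : X → ℂ) 1 then
        (S.card : ℝ) * Complex.normSq ((χ : X → ℂ) 1) else (S.card : ℝ)) ≤
      ∑ x ∈ S, Complex.normSq ((χ : X → ℂ) x) := by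
    intro χ
    split_ifs with hker
    · rw [← nsmul_eq_mul, ← Finset.sum_const]
      refine le_of_eq (Finset.sum_congr rfl fun x hx => ?_)
      rw [hker x (Subgroup.zpowers_le.2 hv (hmem x hx ▸ Subgroup.mem_zpowers x))]
    · have h := card_le_sum_of_galois_closed
        (isCharacter_mul (IsIrr.isCharacter χ.2) (isCharacter_conj (IsIrr.isCharacter χ.2))) S hclosed
        fun x hx => by
          simp only [Pi.mul_apply, Complex.mul_conj, Complex.ofReal_im, Complex.ofReal_re, true_and]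
          exact Complex.normSq_pos.2 (hne χ x hx)
      refine h.trans (le_of_eq (Finset.sum_congr rfl fun x _ => ?_))
      simp only [Pi.mul_apply, Complex.mul_conj, Complex.ofReal_re]
  have horth : ∀ x ∈ S, ∑ χ : IrrCharacter X, Complex.normSq ((χ : X → ℂ) x) =
      (Nat.card (Subgroup.centralizer ({v} : Set X)) : ℝ) := by
    intro x hx
    have hC : Subgroup.centralizer ({x} : Set X) = Subgroup.centralizer ({v} : Set X) := by
      rw [← Subgroup.centralizer_closure, ← Subgroup.zpowers_eq_closure, hmem x hx,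
        Subgroup.zpowers_eq_closure, Subgroup.centralizer_closure]
    have h := second_orthogonality x x
    rw [if_pos (IsConj.refl x), hC] at h
    simp only [Complex.mul_conj, ← Complex.ofReal_sum] at h
    exact_mod_cast h
  have hsum := Finset.sum_le_sum (s := Finset.univ) fun χ _ => hlow χ
  rw [Finset.sum_comm, Finset.sum_congr rfl horth, Finset.sum_const, nsmul_eq_mul,
    Finset.sum_ite, Finset.sum_const, nsmul_eq_mul, ← Finset.mul_sum, mul_comm _ (S.card : ℝ),
    ← mul_add] at hsum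
  have hS : 0 < (S.card : ℝ) :=
    Nat.cast_pos.2 (Finset.card_pos.2 ⟨v, Finset.mem_filter.2 ⟨Finset.mem_univ _, rfl⟩⟩)
  have hsum' := le_of_mul_le_mul_left hsum hS
  -- the characters of the quotient
  let T : Finset (IrrCharacter X) :=
    Finset.univ.filter fun χ => ∀ n ∈ V, (χ : X → ℂ) n = (χ : X → ℂ) 1
  let e : IrrCharacter (X ⧸ V) ≃ T := (quotientEquiv V).trans
    (Equiv.subtypeEquivRight fun χ => by simp [T])
  have hT : T.card = Nat.card (ConjClasses (X ⧸ V)) := by
    rw [← card_irrCharacter, Nat.card_congr e, Nat.card_eq_fintype_card, Fintype.card_coe]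
  have hTsum : ∑ χ ∈ T, Complex.normSq ((χ : X → ℂ) 1) = (Nat.card (X ⧸ V) : ℝ) := by
    have := Fintype.ofFinite (X ⧸ V)
    have h1 := sum_sq_degree (G := X ⧸ V)
    have h2 : ∀ φ : IrrCharacter (X ⧸ V),
        (φ : X ⧸ V → ℂ) 1 ^ 2 = ((Complex.normSq ((φ : X ⧸ V → ℂ) 1) : ℝ) : ℂ) := by
      intro φ
      obtain ⟨d, -, hd⟩ := IsIrr.degree φ.2
      rw [hd, Complex.normSq_natCast]
      push_cast
      ring
    rw [Finset.sum_congr rfl fun φ _ => h2 φ, ← Complex.ofReal_sum] at h1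
    rw [← Finset.sum_coe_sort T]
    refine (Fintype.sum_equiv e (fun φ => Complex.normSq ((φ : X ⧸ V → ℂ) 1)) _ fun φ => ?_).symm.trans
      (by exact_mod_cast h1)
    exact (congrArg (fun q => Complex.normSq ((φ : X ⧸ V → ℂ) q)) (QuotientGroup.mk_one V)).symm
  have hrest : (Finset.univ.filter fun χ : IrrCharacter X =>
      ¬ ∀ n ∈ V, (χ : X → ℂ) n = (χ : X → ℂ) 1).card + T.card = Nat.card (ConjClasses X) := by
    rw [add_comm, Finset.card_filter_add_card_filter_not, Finset.card_univ, ← card_irrCharacter,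
      Nat.card_eq_fintype_card]
  change ∑ χ ∈ T, Complex.normSq ((χ : X → ℂ) 1) + _ ≤ _ at hsum'
  rw [hTsum] at hsum'
  have h3 := (Nat.cast_le (α := ℝ)).1 (by push_cast; exact hsum' :
    ((Nat.card (X ⧸ V) + (Finset.univ.filter fun χ : IrrCharacter X =>
      ¬ ∀ n ∈ V, (χ : X → ℂ) n = (χ : X → ℂ) 1).card : ℕ) : ℝ) ≤
      (Nat.card (Subgroup.centralizer ({v} : Set X)) : ℝ))
  omega

end Cfsg.Agent.Char
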