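import Mathlib
import Cfsg.Agent.Char.Linear
import Cfsg.Agent.CharArith.PrimeCodegree
import Cfsg.Agent.Char.ClassAlg

/-!
# Characters of a group whose derived subgroup is central of prime order
-/

namespace Cfsg.Agent.Char

open scoped ComplexConjugate commutatorElement

universe u

variable {Q : Type u} [Group Q] [Finite Q]

/-- A character with the derived subgroup in its kernel is linear. -/
theorem degree_one_of_commutator_le_ker {χ : Q → ℂ} (h : IsIrrCharacter Q χ)
    (hk : ∀ g ∈ commutator Q, χ g = χ 1) : χ 1 = 1 := by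
  obtain ⟨φ, hφ, he⟩ := IsIrr.exists_quotient (commutator Q) h hk
  rw [he 1]
  refine IsIrr.degree_one_of_comm hφ fun a b => ?_
  obtain ⟨a, rfl⟩ := QuotientGroup.mk_surjective a
  obtain ⟨b, rfl⟩ := QuotientGroup.mk_surjective b
  rw [← QuotientGroup.mk_mul, ← QuotientGroup.mk_mul, QuotientGroup.eq]
  rw [show (a * b)⁻¹ * (b * a) = ⁅b⁻¹, a⁻¹⁆ by rw [commutatorElement_def]; group]
  exact Subgroup.commutator_mem_commutator (Subgroup.mem_top _) (Subgroup.mem_top _)

/-- The derived subgroup lies in the kernel of a linear character. -/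
theorem apply_commutator_of_linear {χ : Q → ℂ} (h : IsCharacter Q χ) (h1 : χ 1 = 1) {t : Q}
    (ht : t ∈ commutator Q) : χ t = 1 := by
  obtain ⟨f, rfl⟩ := IsChar.exists_hom h h1
  have : commutator Q ≤ f.ker := Abelianization.commutator_subset_ker f
  simp [MonoidHom.mem_ker.1 (this ht)]

/-- Multiplication by a central element. -/
theorem apply_mul_central {χ : Q → ℂ} (h : IsIrrCharacter Q χ) {z : Q}
    (hz : z ∈ Subgroup.center Q) (g : Q) : χ 1 * χ (g * z) = χ z * χ g := by
  obtain ⟨d, ρ, hρ, rfl⟩ := h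
  obtain ⟨c, hc, hc'⟩ := commute_eq_scalar ρ hρ (ρ z) fun a => by
    rw [← map_mul, ← map_mul, Subgroup.mem_center_iff.1 hz a]
  show ρ.character 1 * LinearMap.trace ℂ _ (ρ (g * z)) = LinearMap.trace ℂ _ (ρ z) * ρ.character g
  rw [ρ.char_one, ← hc', map_mul, hc, mul_smul_comm, map_smul, smul_eq_mul,
    ← Module.End.one_eq_id, mul_one, Representation.character]
  ring

variable {p : ℕ} (hp : p.Prime) (hZ : commutator Q ≤ Subgroup.center Q)
  (hQ' : Nat.card (commutator Q) = p)

include hp hQ' in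
theorem apply_ne_of_nonlinear {χ : Q → ℂ} (h : IsIrrCharacter Q χ) (h1 : χ 1 ≠ 1) {t : Q}
    (ht : t ∈ commutator Q) (ht1 : t ≠ 1) : χ t ≠ χ 1 := by
  intro e
  have hk : commutator Q ≤ kerSubgroup (IsIrr.isCharacter h) := by
    have : Fact (Nat.card (commutator Q)).Prime := ⟨hQ' ▸ hp⟩
    rcases Subgroup.eq_bot_or_eq_top_of_prime_card
      ((kerSubgroup (IsIrr.isCharacter h)).subgroupOf (commutator Q)) with hb | htop
    · have : (⟨t, ht⟩ : commutator Q) ∈
          (kerSubgroup (IsIrr.isCharacter h)).subgroupOf (commutator Q) :=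
        Subgroup.mem_subgroupOf.2 e
      rw [hb, Subgroup.mem_bot] at this
      exact absurd (congrArg Subtype.val this) ht1
    · exact fun g hg => Subgroup.subgroupOf_eq_top.1 htop hg
  exact h1 (degree_one_of_commutator_le_ker h fun g hg => hk hg)

include hp hZ hQ' in
/-- A non-linear character vanishes outside the centre. -/
theorem apply_eq_zero_of_not_center {χ : Q → ℂ} (h : IsIrrCharacter Q χ) (h1 : χ 1 ≠ 1) {x : Q}
    (hx : x ∉ Subgroup.center Q) : χ x = 0 := by
  rw [Subgroup.mem_center_iff] at hx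
  push Not at hx
  obtain ⟨y, hy⟩ := hx
  have ht : ⁅y, x⁆ ∈ commutator Q :=
    Subgroup.commutator_mem_commutator (Subgroup.mem_top _) (Subgroup.mem_top _)
  have ht1 : ⁅y, x⁆ ≠ 1 := fun e => hy (commutatorElement_eq_one_iff_mul_comm.1 e)
  have e1 : x * ⁅y, x⁆ = y * x * y⁻¹ := by
    rw [Subgroup.mem_center_iff.1 (hZ ht) x, commutatorElement_def]; group
  have e2 := apply_mul_central h (hZ ht) x
  rw [e1, isClassFunction_of_isIrr h x y] at e2
  have hne := apply_ne_of_nonlinear hp hQ' h h1 ht ht1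
  by_contra hx0
  exact hne (mul_right_cancel₀ hx0 e2).symm

include hp hZ hQ' in
/-- The square of the degree of a non-linear character is the index of the centre. -/
theorem center_mul_sq {χ : Q → ℂ} (h : IsIrrCharacter Q χ) (h1 : χ 1 ≠ 1) :
    (Nat.card (Subgroup.center Q) : ℂ) * χ 1 ^ 2 = (Nat.card Q : ℂ) := by
  classical
  have := Fintype.ofFinite Q
  have hn : classInner χ χ = 1 := classInner_irr_self h
  rw [classInner, inv_mul_eq_iff_eq_mul₀ card_ne_zero, mul_one] at hn
  have hd : ∀ z ∈ Subgroup.center Q, χ z * conj (χ z) = χ 1 ^ 2 := by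
    intro z hz
    obtain ⟨d, -, hd⟩ := IsIrr.degree h
    have e : charDegree χ = d := by simp [charDegree, hd]
    rw [CharArith.center_mul_conj h hz, e, hd]
  rw [← hn, ← Finset.sum_subset (Finset.subset_univ (Finset.univ.filter fun x => x ∈ Subgroup.center Q))
    fun x _ hx => by
      rw [apply_eq_zero_of_not_center hp hZ hQ' h h1 (fun hc => hx (by simp [hc])), zero_mul],
    Finset.sum_congr rfl fun x hx => hd x (Finset.mem_filter.1 hx).2, Finset.sum_const, nsmul_eq_mul,
    ← Fintype.card_subtype, ← Nat.card_eq_fintype_card]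

include hp hZ hQ' in
/-- The number of non-linear characters. -/
theorem card_nonlinear :
    p * Nat.card {χ : IrrCharacter Q // (χ : Q → ℂ) 1 ≠ 1} =
      Nat.card (Subgroup.center Q) * (p - 1) := by
  classical
  have := Fintype.ofFinite Q
  let L : Finset (IrrCharacter Q) := Finset.univ.filter fun χ => (χ : Q → ℂ) 1 = 1
  let M : Finset (IrrCharacter Q) := Finset.univ.filter fun χ => ¬ (χ : Q → ℂ) 1 = 1
  have hM : M.card = Nat.card {χ : IrrCharacter Q // (χ : Q → ℂ) 1 ≠ 1} := by
    rw [Nat.card_eq_fintype_card, Fintype.card_subtype]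
  have hL : L.card = (commutator Q).index := by
    rw [← card_linear, Nat.card_eq_fintype_card, Fintype.card_subtype]
  have h := sum_sq_degree (G := Q)
  rw [← Finset.sum_filter_add_sum_filter_not Finset.univ
    (fun χ : IrrCharacter Q => (χ : Q → ℂ) 1 = 1)] at h
  change ∑ χ ∈ L, _ + ∑ χ ∈ M, _ = _ at h
  have hsum : (Nat.card (Subgroup.center Q) : ℂ) * ∑ χ ∈ M, (χ : Q → ℂ) 1 ^ 2 =
      (M.card : ℂ) * Nat.card Q := by
    rw [Finset.mul_sum, Finset.sum_congr rfl fun χ hχ =>
      center_mul_sq hp hZ hQ' χ.2 (Finset.mem_filter.1 hχ).2, Finset.sum_const, nsmul_eq_mul]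
  rw [Finset.sum_congr rfl fun χ hχ => by rw [(Finset.mem_filter.1 hχ).2, one_pow],
    Finset.sum_const, nsmul_eq_mul, mul_one] at h
  have hidx : (commutator Q).index * p = Nat.card Q := hQ' ▸ Subgroup.index_mul_card _
  have h2 : ((M.card * Nat.card Q + Nat.card (Subgroup.center Q) * L.card : ℕ) : ℂ) =
      ((Nat.card (Subgroup.center Q) * Nat.card Q : ℕ) : ℂ) := by
    push_cast
    rw [← hsum, ← h]
    ring
  have h3 : M.card * Nat.card Q + Nat.card (Subgroup.center Q) * L.card =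
      Nat.card (Subgroup.center Q) * Nat.card Q := by exact_mod_cast h2
  rw [hL, ← hidx] at h3
  have hi : 0 < (commutator Q).index := Nat.pos_of_ne_zero Subgroup.index_ne_zero_of_finite
  have h4 : M.card * p + Nat.card (Subgroup.center Q) = Nat.card (Subgroup.center Q) * p := by
    refine Nat.eq_of_mul_eq_mul_left hi ?_
    linarith
  rw [← hM, Nat.mul_sub, mul_one, mul_comm p]
  omega

theorem exists_nonlinear (h : commutator Q ≠ ⊥) : ∃ χ : IrrCharacter Q, (χ : Q → ℂ) 1 ≠ 1 := by
  by_contra! hall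
  refine h ((Subgroup.eq_bot_iff_forall _).2 fun t ht => eq_one_of_forall_irr fun χ => ?_)
  rw [hall χ, apply_commutator_of_linear (IsIrr.isCharacter χ.2) (hall χ) ht]

include hp hQ' in
/-- Non-linear characters with a common kernel are faithful. -/
theorem faithful_of_common_kernel
    (hk : ∀ χ ψ : IrrCharacter Q, (χ : Q → ℂ) 1 ≠ 1 → (ψ : Q → ℂ) 1 ≠ 1 →
      ∀ g, (χ : Q → ℂ) g = (χ : Q → ℂ) 1 → (ψ : Q → ℂ) g = (ψ : Q → ℂ) 1)
    (χ : IrrCharacter Q) (h1 : (χ : Q → ℂ) 1 ≠ 1) {g : Q}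
    (hg : (χ : Q → ℂ) g = (χ : Q → ℂ) 1) : g = 1 := by
  classical
  have := Fintype.ofFinite Q
  by_contra hg1
  have hne : commutator Q ≠ ⊥ := fun e => hp.ne_one (by rw [← hQ', e, Subgroup.card_bot])
  obtain ⟨t, ht, ht1⟩ := (Subgroup.bot_or_exists_ne_one _).resolve_left hne
  have hgt : g * t ≠ 1 := fun e => by
    have hgQ : g ∈ commutator Q := eq_inv_of_mul_eq_one_left e ▸ inv_mem ht
    exact apply_ne_of_nonlinear hp hQ' χ.2 h1 hgQ hg1 hg
  have e := (regular_eq_sum (g * t)).trans ((if_neg hgt).trans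
    (((regular_eq_sum g).trans (if_neg hg1)).symm))
  rw [← sub_eq_zero, ← Finset.sum_sub_distrib] at e
  have key : ∀ ψ : IrrCharacter Q,
      (ψ : Q → ℂ) 1 * (ψ : Q → ℂ) (g * t) - (ψ : Q → ℂ) 1 * (ψ : Q → ℂ) g =
        if (ψ : Q → ℂ) 1 = 1 then 0
        else (ψ : Q → ℂ) 1 * (ψ : Q → ℂ) t - (ψ : Q → ℂ) 1 ^ 2 := by
    intro ψ
    split_ifs with hψ
    · obtain ⟨f, hf⟩ := IsChar.exists_hom (IsIrr.isCharacter ψ.2) hψ
      have hft := apply_commutator_of_linear (IsIrr.isCharacter ψ.2) hψ ht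
      simp only [hf, map_mul, Units.val_mul] at hft ⊢
      rw [hft]; ring
    · have hψg := hk χ ψ h1 hψ g hg
      obtain ⟨d, ρ, hρ, hρ'⟩ := ψ.2
      rw [← hρ'] at hψg ⊢
      rw [ρ.char_one, character_eq_finrank_iff] at hψg
      have : ρ.character (g * t) = ρ.character t := by
        simp only [Representation.character, map_mul, hψg, ← Module.End.one_eq_id, one_mul]
      rw [this, show ρ.character g = ρ.character 1 by
        simp only [Representation.character, hψg, map_one, Module.End.one_eq_id]]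
      ring
  rw [Finset.sum_congr rfl fun ψ _ => key ψ, Finset.sum_ite, Finset.sum_const_zero, zero_add] at e
  have hlt : ∀ ψ ∈ Finset.univ.filter (fun ψ : IrrCharacter Q => ¬ (ψ : Q → ℂ) 1 = 1),
      ((ψ : Q → ℂ) 1 * (ψ : Q → ℂ) t - (ψ : Q → ℂ) 1 ^ 2).re < 0 := by
    intro ψ hψ
    have hψ1 := (Finset.mem_filter.1 hψ).2
    obtain ⟨d, hd0, hd⟩ := IsIrr.degree ψ.2
    have hne := apply_ne_of_nonlinear hp hQ' ψ.2 hψ1 ht ht1
    have hle : ‖(ψ : Q → ℂ) t‖ ≤ d := by
      have := IsChar.norm_le (IsIrr.isCharacter ψ.2) t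
      rw [hd] at this
      simpa using this
    have hre : ((ψ : Q → ℂ) t).re < d := by
      refine lt_of_le_of_ne ((Complex.re_le_norm _).trans hle) fun e => hne ?_
      rw [hd]
      have h2 : ‖(ψ : Q → ℂ) t‖ = ((ψ : Q → ℂ) t).re :=
        le_antisymm (e ▸ hle) (Complex.re_le_norm _)
      refine Complex.ext (by simpa using e) ?_
      have h3 := Complex.normSq_eq_norm_sq ((ψ : Q → ℂ) t)
      rw [h2, Complex.normSq_apply] at h3
      simp only [Complex.natCast_im]
      nlinarith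
    have hdpos : (0 : ℝ) < d := Nat.cast_pos.2 (Nat.pos_of_ne_zero fun e =>
      IsIrr.one_ne_zero ψ.2 (by rw [hd, e, Nat.cast_zero]))
    rw [hd, sq, Complex.sub_re, Complex.mul_re, Complex.mul_re]
    simp only [Complex.natCast_re, Complex.natCast_im, zero_mul, sub_zero, mul_zero]
    nlinarith
  have := Finset.sum_lt_sum_of_nonempty
    (s := Finset.univ.filter (fun ψ : IrrCharacter Q => ¬ (ψ : Q → ℂ) 1 = 1))
    ⟨χ, Finset.mem_filter.2 ⟨Finset.mem_univ _, h1⟩⟩ hlt
  rw [Finset.sum_const_zero, ← Complex.re_sum, e] at this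
  simp at this

/-- The central character of an irreducible character. -/
theorem exists_central_hom {χ : Q → ℂ} (h : IsIrrCharacter Q χ) :
    ∃ ω : Subgroup.center Q →* ℂˣ, ∀ z : Subgroup.center Q, χ z = χ 1 * (ω z : ℂ) := by
  have h0 := IsIrr.one_ne_zero h
  let f : Subgroup.center Q →* ℂ :=
    { toFun := fun z => χ z / χ 1
      map_one' := by simp [h0]
      map_mul' := fun a b => by
        show χ ((a : Q) * b) / χ 1 = χ a / χ 1 * (χ b / χ 1)
        have := apply_mul_central h b.2 (a : Q)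
        field_simp
        linear_combination this }
  refine ⟨f.toHomUnits, fun z => ?_⟩
  rw [MonoidHom.coe_toHomUnits]
  show χ z = χ 1 * (χ z / χ 1)
  rw [mul_div_cancel₀ _ h0]

include hp hQ' in
/-- Non-linear characters with a common kernel force a cyclic centre. -/
theorem isCyclic_center_of_common_kernel
    (hk : ∀ χ ψ : IrrCharacter Q, (χ : Q → ℂ) 1 ≠ 1 → (ψ : Q → ℂ) 1 ≠ 1 →
      ∀ g, (χ : Q → ℂ) g = (χ : Q → ℂ) 1 → (ψ : Q → ℂ) g = (ψ : Q → ℂ) 1) :
    IsCyclic (Subgroup.center Q) := by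
  obtain ⟨χ, h1⟩ := exists_nonlinear (Q := Q) fun e => hp.ne_one (by rw [← hQ', e, Subgroup.card_bot])
  obtain ⟨ω, hω⟩ := exists_central_hom χ.2
  refine isCyclic_of_injective_ringHom ((Units.coeHom ℂ).comp ω)
    (fun a b e => ?_)
  have e' : ω a = ω b := Units.ext e
  refine mul_inv_eq_one.1 (Subtype.ext ?_)
  refine faithful_of_common_kernel hp hQ' hk χ h1 ?_
  rw [hω, map_mul, map_inv, e', mul_inv_cancel, Units.val_one, mul_one]

end Cfsg.Agent.Char
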