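import Mathlib
import Cfsg.Agent.Char.DerivedPrime
import Cfsg.Agent.Char.Induced
import Cfsg.Agent.Char.Gen
import Cfsg.Agent.Fusion.Extraspecial

/-!
# Characters of extraspecial groups
-/

namespace Cfsg.Agent.Char

open scoped ComplexConjugate commutatorElement

universe u

variable {P : Type u} [Group P] [Finite P] {p n : ℕ} [Fact p.Prime]

theorem extraspecial_commutator (hP : IsExtraspecial p P) :
    commutator P ≤ Subgroup.center P ∧ Nat.card (commutator P) = p :=
  ⟨hP.1.2.2.le, by rw [hP.1.2.2]; exact hP.2⟩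

theorem extraspecial_degree (hP : IsExtraspecial p P) (hcard : Nat.card P = p ^ (2 * n + 1))
    (χ : IrrCharacter P) (h1 : (χ : P → ℂ) 1 ≠ 1) : (χ : P → ℂ) 1 = (p : ℂ) ^ n := by
  obtain ⟨hZ, hQ⟩ := extraspecial_commutator hP
  have h := center_mul_sq (Fact.out : p.Prime) hZ hQ χ.2 h1
  obtain ⟨d, -, hd⟩ := IsIrr.degree χ.2
  rw [hd, hP.2, hcard] at h
  rw [hd]
  have h' : p * d ^ 2 = p ^ (2 * n + 1) := by exact_mod_cast h
  rw [show p ^ (2 * n + 1) = p * (p ^ n) ^ 2 by ring] at h'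
  have hp : p ≠ 0 := (Fact.out : p.Prime).ne_zero
  exact_mod_cast Nat.pow_left_injective two_ne_zero (Nat.eq_of_mul_eq_mul_left (Nat.pos_of_ne_zero hp) h')

theorem extraspecial_exponent_pos (hP : IsExtraspecial p P) (hcard : Nat.card P = p ^ (2 * n + 1)) :
    1 ≤ n := by
  refine Nat.one_le_iff_ne_zero.2 fun h0 => ?_
  subst h0
  have htop : Subgroup.center P = ⊤ :=
    Subgroup.eq_top_of_card_eq _ (by rw [hP.2, hcard]; simp)
  have h0 : commutator P = ⊥ := (commutator_eq_bot_iff_center_eq_top P).2 htop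
  have h1 := (extraspecial_commutator hP).2
  rw [h0, Subgroup.card_bot] at h1
  exact (Fact.out : p.Prime).ne_one h1.symm

theorem extraspecial_card (hP : IsExtraspecial p P) (hcard : Nat.card P = p ^ (2 * n + 1)) :
    Nat.card {χ : IrrCharacter P // (χ : P → ℂ) 1 = (p : ℂ) ^ n} = p - 1 := by
  obtain ⟨hZ, hQ⟩ := extraspecial_commutator hP
  have hpp : p.Prime := Fact.out
  have h := card_nonlinear hpp hZ hQ
  rw [hP.2] at h
  rw [← Nat.eq_of_mul_eq_mul_left hpp.pos h]
  refine Nat.card_congr (Equiv.subtypeEquivRight fun χ => ⟨fun e e1 => ?_, extraspecial_degree hP hcard χ⟩)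
  rw [e] at e1
  have h2 : p ^ n = 1 := by exact_mod_cast e1
  rcases Nat.pow_eq_one.1 h2 with h3 | h3
  · exact hpp.ne_one h3
  · have := extraspecial_exponent_pos hP hcard; omega

theorem extraspecial_induced [Fintype P] (hP : IsExtraspecial p P)
    (hcard : Nat.card P = p ^ (2 * n + 1)) (A : Subgroup P) (hA : Nat.card A = p ^ (n + 1))
    (lam : A → ℂ) (hlam : IsCharacter A lam ∧ lam 1 = 1)
    (hZ : ∃ a : A, (a : P) ∈ Subgroup.center P ∧ lam a ≠ 1) :
    IsIrrCharacter P (indFun A lam) ∧ ∀ x : P, x ∉ Subgroup.center P → indFun A lam x = 0 := by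
  classical
  obtain ⟨hZc, hQ⟩ := extraspecial_commutator hP
  have hpp : p.Prime := Fact.out
  have : Fintype A := Fintype.ofFinite _
  obtain ⟨f, rfl⟩ := IsChar.exists_hom hlam.1 hlam.2
  obtain ⟨a, haZ, ha⟩ := hZ
  set η := indFun A (fun g => ((f g : ℂˣ) : ℂ)) with hη
  have hηc : IsCharacter P η := isCharacter_indFun A hlam.1
  have hη1 : η 1 = (p : ℂ) ^ n := by
    rw [hη, indFun_apply_one]
    have h := Subgroup.index_mul_card A
    rw [hA, hcard, show p ^ (2 * n + 1) = p ^ n * p ^ (n + 1) by ring] at h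
    rw [Nat.eq_of_mul_eq_mul_right (pow_pos hpp.pos (n + 1)) h]
    simp
  obtain ⟨χ, hχ⟩ := IsChar.exists_constituent hηc fun e => by
    have := congrFun e 1
    rw [hη1] at this
    simp [hpp.ne_zero] at this
  have hrec : classInner (fun g : A => (χ : P → ℂ) g) (fun g => ((f g : ℂˣ) : ℂ)) ≠ 0 := by
    intro e
    apply hχ
    rw [hη, classInner_indFun_left A _ (isClassFunction_of_isIrr χ.2), ← classInner_conj_symm, e, map_zero]
  have hne1 : (χ : P → ℂ) 1 ≠ 1 := by
    intro h1
    obtain ⟨g, hg⟩ := IsChar.exists_hom (IsIrr.isCharacter χ.2) h1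
    have e1 : g.comp A.subtype = f := by
      by_contra hne
      apply hrec
      rw [hg]
      exact classInner_irr_ne (isIrrCharacter_hom (g.comp A.subtype)) (isIrrCharacter_hom f)
        fun e => hne (MonoidHom.ext fun x => Units.ext (congrFun e x))
    have haQ : (a : P) ∈ commutator P := by rw [hP.1.2.2]; exact haZ
    apply ha
    show ((f a : ℂˣ) : ℂ) = 1
    rw [← e1]
    have := apply_commutator_of_linear (IsIrr.isCharacter χ.2) h1 haQ
    rw [hg] at this
    exact this
  have hdeg : η 1 = (χ : P → ℂ) 1 := by rw [hη1, extraspecial_degree hP hcard χ hne1]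
  have heq : η = (χ : P → ℂ) := by
    have h0 := IsChar.sub_constituent hηc χ.2 hχ
    have h1 : (η - (χ : P → ℂ)) 1 = 0 := by rw [Pi.sub_apply, hdeg, sub_self]
    exact sub_eq_zero.1 ((IsChar.eq_zero_iff h0).2 h1)
  rw [heq]
  exact ⟨χ.2, fun x hx => apply_eq_zero_of_not_center hpp hZc hQ χ.2 hne1 hx⟩

end Cfsg.Agent.Char
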