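import Mathlib
import Cfsg.Agent.Char.Extraspecial
import Cfsg.Agent.Char.ClassBound
import Cfsg.Agent.Core.PCore
import Cfsg.Agent.Fusion.PGroup
import Cfsg.Agent.Fusion.Critical

/-!
# Nilpotent groups with one character of degree divisible by a prime
-/

namespace Cfsg.Agent.Char

open scoped ComplexConjugate commutatorElement

universe u

variable {G : Type u} [Group G] [Finite G]

/-- Multiplying an irreducible character by a linear one. -/
theorem isIrr_mul_hom {χ : G → ℂ} (h : IsIrrCharacter G χ) (f : G →* ℂˣ) :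
    IsIrrCharacter G (fun g => χ g * (f g : ℂ)) := by
  have := Fintype.ofFinite G
  refine (isIrr_iff_norm_one (isCharacter_mul (IsIrr.isCharacter h) (isCharacter_hom f))).2 ?_
  rw [← classInner_irr_self h]
  simp only [classInner, Pi.mul_apply]
  congr 1
  refine Finset.sum_congr rfl fun g _ => ?_
  have h1 : ((f g : ℂˣ) : ℂ) * conj ((f g : ℂˣ) : ℂ) = 1 := by
    rw [Complex.mul_conj, Complex.normSq_eq_norm_sq, Complex.norm_eq_one_of_pow_eq_one
      (n := Nat.card G) (by rw [← Units.val_pow_eq_pow_val, ← map_pow, pow_card_eq_one', map_one,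
        Units.val_one]) Nat.card_pos.ne']
    simp
  rw [map_mul]
  linear_combination (χ g * conj (χ g)) * h1

theorem charDegree_eq_natCast {χ : G → ℂ} {d : ℕ} (h : χ 1 = d) : charDegree χ = d := by
  simp [charDegree, h]

variable {p : ℕ} [hp : Fact p.Prime]

/-- In a `p`-group the degree of a non-linear character is divisible by `p`. -/
theorem dvd_degree_of_pGroup (hG : IsPGroup p G) {χ : G → ℂ} (h : IsIrrCharacter G χ)
    (h1 : χ 1 ≠ 1) : p ∣ charDegree χ := by
  have := Fintype.ofFinite G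
  obtain ⟨d, -, hd⟩ := IsIrr.degree h
  rw [charDegree_eq_natCast hd]
  obtain ⟨m, hm⟩ := IsPGroup.iff_card.1 hG
  obtain ⟨k, -, rfl⟩ := (Nat.dvd_prime_pow hp.out).1 (hm ▸ IsIrr.degree_dvd_card h hd)
  rcases k with _ | k
  · simp [hd] at h1
  · exact dvd_pow_self p k.succ_ne_zero

theorem exists_linear_ne_one [Nontrivial G] (hG : Group.IsSolvable G) :
    ∃ f : G →* ℂˣ, f ≠ 1 := by
  have := hG
  have hne : (commutator G).index ≠ 1 := fun e =>
    (Group.IsSolvable.commutator_lt_top_of_nontrivial G).ne (Subgroup.index_eq_one.1 e)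
  rw [← card_linear] at hne
  by_contra! hall
  refine hne (Nat.card_eq_one_iff_unique.2 ⟨⟨fun a b => ?_⟩, ⟨⟨_, isIrrCharacter_one⟩, rfl⟩⟩)
  obtain ⟨f, hf⟩ := IsChar.exists_hom (IsIrr.isCharacter a.1.2) a.2
  obtain ⟨g, hg⟩ := IsChar.exists_hom (IsIrr.isCharacter b.1.2) b.2
  exact Subtype.ext (Subtype.ext (hf.trans (by rw [hall f, ← hall g]; exact hg.symm)))

omit hp in
theorem coprime_card_pPrimeCore_sylow [Fact p.Prime] (P : Sylow p G) :
    (P : Subgroup G) ⊓ pPrimeCore p G = ⊥ := by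
  refine Subgroup.inf_eq_bot_of_coprime ?_
  obtain ⟨m, hm⟩ := IsPGroup.iff_card.1 P.2
  rw [hm]
  exact (Nat.Coprime.pow_left _ Core.coprime_card_pPrimeCore.symm)

/-- The `p'`-core of a nilpotent group has `p`-power index. -/
theorem isPGroup_quotient_pPrimeCore [Group.IsNilpotent G] :
    IsPGroup p (G ⧸ pPrimeCore p G) := by
  set H := pPrimeCore p G
  have hall : ∀ q : ℕ, q.Prime → q ∣ Nat.card (G ⧸ H) → q = p := by
    intro q hq hdvd
    by_contra hne
    have := Fact.mk hq
    obtain ⟨Q⟩ : Nonempty (Sylow q G) := inferInstance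
    have hn : (Q : Subgroup G).Normal :=
      (Group.isNilpotent_of_finite_tfae.out 0 3 rfl rfl).mp inferInstance q inferInstance Q
    obtain ⟨m, hm⟩ := IsPGroup.iff_card.1 Q.2
    have hle : (Q : Subgroup G) ≤ H := Core.le_pPrimeCore (hN := hn)
      (hm ▸ Nat.Coprime.pow_left _ ((Nat.coprime_primes hq hp.out).2 hne))
    exact Q.not_dvd_index ((hdvd.trans (dvd_of_eq (Subgroup.index_eq_card (H := H)).symm)).trans
      (Subgroup.index_dvd_of_le hle))
  exact IsPGroup.iff_card.2 ⟨_, Nat.eq_prime_pow_of_unique_prime_dvd Nat.card_pos.ne'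
    fun {q} hq hdvd => hall q hq hdvd⟩

/-- A group with a unique non-linear character has derived subgroup of prime order. -/
theorem card_commutator_of_unique (hG : IsPGroup p G) (χ : IrrCharacter G)
    (h1 : (χ : G → ℂ) 1 ≠ 1) (huniq : ∀ ψ : IrrCharacter G, (ψ : G → ℂ) 1 ≠ 1 → ψ = χ) :
    Nat.card (commutator G) = p := by
  have hne : commutator G ≠ ⊥ := fun e =>
    h1 (IsIrr.degree_one_of_comm χ.2 fun a b => commutatorElement_eq_one_iff_mul_comm.1
      ((Subgroup.eq_bot_iff_forall _).1 e _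
        (Subgroup.commutator_mem_commutator (Subgroup.mem_top a) (Subgroup.mem_top b))))
  obtain ⟨L, hLG, -, hLn, hL⟩ := Fusion.exists_central_card_prime hG (commutator G) hne
  rcases hLG.eq_or_lt with e | hlt
  · rw [← e]; exact hL
  exfalso
  have := hLn
  obtain ⟨φ, hφ⟩ := exists_nonlinear (Q := G ⧸ L) fun e => hlt.not_ge (by
    rw [← QuotientGroup.ker_mk' L, ← Subgroup.map_eq_bot_iff, commutator_def,
      Subgroup.map_commutator, Subgroup.map_top_of_surjective _ (QuotientGroup.mk'_surjective L),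
      ← commutator_def, e])
  have hker : ∀ ψ : IrrCharacter G, ∀ l ∈ L, (ψ : G → ℂ) l = (ψ : G → ℂ) 1 := by
    intro ψ l hl
    by_cases hψ : (ψ : G → ℂ) 1 = 1
    · rw [hψ, apply_commutator_of_linear (IsIrr.isCharacter ψ.2) hψ (hLG hl)]
    · let φ' : IrrCharacter G := ⟨_, isIrrCharacter_mk L φ.2⟩
      have e : ψ = φ' := (huniq ψ hψ).trans (huniq φ' hφ).symm
      rw [e]
      show (φ : G ⧸ L → ℂ) (QuotientGroup.mk l) = (φ : G ⧸ L → ℂ) (QuotientGroup.mk 1)
      rw [(QuotientGroup.eq_one_iff l).2 hl]; rfl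
  have hbot : L = ⊥ := (Subgroup.eq_bot_iff_forall _).2 fun l hl =>
    eq_one_of_forall_irr fun ψ => hker ψ l hl
  rw [hbot, Subgroup.card_bot] at hL
  exact hp.out.ne_one hL.symm

/-- A nilpotent group with exactly one character of degree divisible by `p`. -/
theorem extraspecial_of_unique [Group.IsNilpotent G]
    (h : Nat.card {χ : IrrCharacter G // p ∣ charDegree (χ : G → ℂ)} = 1) :
    p = 2 ∧ IsExtraspecial 2 G := by
  obtain ⟨hsub, ⟨⟨χ, hχ⟩⟩⟩ := Nat.card_eq_one_iff_unique.1 h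
  have huniq : ∀ ψ : IrrCharacter G, p ∣ charDegree (ψ : G → ℂ) → ψ = χ := fun ψ hψ =>
    congrArg Subtype.val (hsub.elim ⟨ψ, hψ⟩ ⟨χ, hχ⟩)
  obtain ⟨P⟩ : Nonempty (Sylow p G) := inferInstance
  have hPn : (P : Subgroup G).Normal :=
    (Group.isNilpotent_of_finite_tfae.out 0 3 rfl rfl).mp inferInstance p inferInstance P
  set H := pPrimeCore p G with hH
  have hPH := coprime_card_pPrimeCore_sylow P
  have hquot : IsPGroup p (G ⧸ H) := isPGroup_quotient_pPrimeCore
  -- a non-linear character of the `p`-quotient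
  have hnab : commutator (G ⧸ H) ≠ ⊥ := by
    intro e
    have hcomm : ∀ a b : G ⧸ H, a * b = b * a := fun a b =>
      commutatorElement_eq_one_iff_mul_comm.1 ((Subgroup.eq_bot_iff_forall _).1 e _
        (Subgroup.commutator_mem_commutator (Subgroup.mem_top a) (Subgroup.mem_top b)))
    have hab : ∀ a ∈ (P : Subgroup G), ∀ b ∈ (P : Subgroup G), a * b = b * a := by
      intro a ha b hb
      have hm : ((a * b)⁻¹ * (b * a)) ∈ (P : Subgroup G) ⊓ H := by
        refine ⟨(P : Subgroup G).mul_mem ((P : Subgroup G).inv_mem ((P : Subgroup G).mul_mem ha hb))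
          ((P : Subgroup G).mul_mem hb ha), ?_⟩
        show (a * b)⁻¹ * (b * a) ∈ H
        rw [← QuotientGroup.eq]
        simp only [QuotientGroup.mk_mul]
        exact hcomm _ _
      rw [hPH, Subgroup.mem_bot, inv_mul_eq_one] at hm
      exact hm
    exact not_dvd_degree_of_abelian (P : Subgroup G) P.not_dvd_index hab χ hχ
  obtain ⟨φ, hφ⟩ := exists_nonlinear hnab
  let φ' : IrrCharacter G := ⟨_, isIrrCharacter_mk H φ.2⟩
  have hφ'd : p ∣ charDegree (φ' : G → ℂ) := dvd_degree_of_pGroup hquot φ.2 hφ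
  have hHbot : H = ⊥ := by
    by_contra hne
    have hPtop : (P : Subgroup G) ≠ ⊤ := fun e => hne (by rwa [e, top_inf_eq] at hPH)
    have : Nontrivial (G ⧸ (P : Subgroup G)) := QuotientGroup.nontrivial_iff.2 hPtop
    obtain ⟨f, hf⟩ := exists_linear_ne_one (G := G ⧸ (P : Subgroup G))
      (Group.isSolvable_of_surjective (f := QuotientGroup.mk' (P : Subgroup G))
        (QuotientGroup.mk'_surjective _))
    let f' : G →* ℂˣ := f.comp (QuotientGroup.mk' (P : Subgroup G))
    let ψ : IrrCharacter G := ⟨_, isIrr_mul_hom φ'.2 f'⟩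
    have hψd : p ∣ charDegree (ψ : G → ℂ) := by
      have e : (ψ : G → ℂ) 1 = (φ' : G → ℂ) 1 := by
        show (φ' : G → ℂ) 1 * ((f' 1 : ℂˣ) : ℂ) = _
        rw [map_one, Units.val_one, mul_one]
      rw [charDegree, e]
      exact hφ'd
    have e : ψ = φ' := (huniq ψ hψd).trans (huniq φ' hφ'd).symm
    apply hf
    have hH1 : ∀ g ∈ H, f' g = 1 := by
      intro g hg
      have e1 : (φ' : G → ℂ) g * ((f' g : ℂˣ) : ℂ) = (φ' : G → ℂ) g :=
        congrFun (congrArg (fun x : IrrCharacter G => (x : G → ℂ)) e) g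
      have e2 : (φ' : G → ℂ) g = (φ : G ⧸ H → ℂ) 1 := by
        show (φ : G ⧸ H → ℂ) (QuotientGroup.mk g) = _
        rw [(QuotientGroup.eq_one_iff g).2 hg]
      rw [e2] at e1
      exact Units.ext (mul_left_cancel₀ (IsIrr.one_ne_zero φ.2) (e1.trans (mul_one _).symm))
    have hker : f'.ker = ⊤ := by
      refine eq_top_iff.2 ?_
      have hsup : (P : Subgroup G) ⊔ H = ⊤ := by
        refine Subgroup.index_eq_one.1 (Nat.eq_one_of_dvd_coprimes ?_
          (Subgroup.index_dvd_of_le (le_sup_left (b := H)))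
          (Subgroup.index_dvd_of_le (le_sup_right (a := (P : Subgroup G)))))
        obtain ⟨m, hm⟩ := IsPGroup.iff_card.1 hquot
        rw [Subgroup.index_eq_card (H := H), hm]
        exact (Nat.Coprime.pow_left _ ((hp.out.coprime_iff_not_dvd).2 P.not_dvd_index)).symm
      rw [← hsup]
      refine sup_le (fun g hg => ?_) fun g hg => hH1 g hg
      show f (QuotientGroup.mk g) = 1
      rw [(QuotientGroup.eq_one_iff g).2 hg, map_one]
    refine MonoidHom.ext fun q => ?_
    obtain ⟨g, rfl⟩ := QuotientGroup.mk_surjective q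
    exact MonoidHom.mem_ker.1 (hker.ge (Subgroup.mem_top g) : g ∈ f'.ker)
  have hGp : IsPGroup p G :=
    hquot.of_equiv ((QuotientGroup.quotientMulEquivOfEq hHbot).trans QuotientGroup.quotientBot)
  have hφ'1 : (φ' : G → ℂ) 1 ≠ 1 := hφ
  have huniq' : ∀ ψ : IrrCharacter G, (ψ : G → ℂ) 1 ≠ 1 → ψ = φ' := fun ψ hψ =>
    (huniq ψ (dvd_degree_of_pGroup hGp ψ.2 hψ)).trans (huniq φ' hφ'd).symm
  have hc := card_commutator_of_unique hGp φ' hφ'1 huniq'
  have hcn : (commutator G) ≤ Subgroup.center G := Fusion.le_center_of_card_eq_prime hGp _ hc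
  have hcount := card_nonlinear hp.out hcn hc
  have hone : Nat.card {ψ : IrrCharacter G // (ψ : G → ℂ) 1 ≠ 1} = 1 :=
    Nat.card_eq_one_iff_unique.2 ⟨⟨fun a b => Subtype.ext
      ((huniq' a.1 a.2).trans (huniq' b.1 b.2).symm)⟩, ⟨⟨φ', hφ'1⟩⟩⟩
  rw [hone, mul_one] at hcount
  have hp2 : p = 2 := by
    have h2 := hp.out.two_le
    rcases (Nat.dvd_prime hp.out).1 (Dvd.intro_left _ hcount.symm) with h3 | h3 <;> omega
  subst hp2
  rw [show (2 : ℕ) - 1 = 1 from rfl, mul_one] at hcount
  have hZ : commutator G = Subgroup.center G :=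
    Subgroup.eq_of_le_of_card_ge hcn (by rw [hc, ← hcount])
  refine ⟨rfl, ⟨hGp, le_antisymm ?_ ?_, hZ⟩, hcount.symm⟩
  · refine Fusion.frattini_le_of_elementary (p := 2) _ hcn fun x => Subgroup.mem_center_iff.2 fun y => ?_
    have hy : ⁅x, y⁆ ∈ commutator G :=
      Subgroup.commutator_mem_commutator (Subgroup.mem_top x) (Subgroup.mem_top y)
    have h2 : ⁅x ^ 2, y⁆ = 1 := by
      rw [Fusion.commutatorElement_pow_left_of_le_center hcn]
      have h4 := pow_card_eq_one' (x := (⟨_, hy⟩ : commutator G))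
      rw [hc] at h4
      exact congrArg Subtype.val h4
    exact (commutatorElement_eq_one_iff_mul_comm.1 h2).symm
  · have : Group.IsNilpotent G := inferInstance
    rw [← hZ]
    exact Core.commutator_le_frattini

theorem unique_of_extraspecial (h : IsExtraspecial 2 G) :
    Nat.card {χ : IrrCharacter G // 2 ∣ charDegree (χ : G → ℂ)} = 1 := by
  have : Fact (Nat.Prime 2) := ⟨Nat.prime_two⟩
  obtain ⟨hZ, hQ⟩ := extraspecial_commutator h
  have hc := card_nonlinear Nat.prime_two hZ hQ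
  rw [h.2] at hc
  have h1 : Nat.card {χ : IrrCharacter G // (χ : G → ℂ) 1 ≠ 1} = 1 := by omega
  rw [← h1]
  refine Nat.card_congr (Equiv.subtypeEquivRight fun χ => ⟨fun h2 e => ?_,
    dvd_degree_of_pGroup h.1.1 χ.2⟩)
  rw [charDegree_eq_natCast (d := 1) (by rw [e, Nat.cast_one])] at h2
  omega

end Cfsg.Agent.Char
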