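import Cfsg.Agent.Char.Brauer
import Mathlib.GroupTheory.SchurZassenhaus

/-!
# Artin's induction theorem and characters of defect zero
-/

namespace Cfsg.Agent.Char

open scoped ComplexConjugate

universe u

variable {G : Type u} [Group G]

open scoped Classical in
/-- The function with value `|C|` at the generators of a group `C`, and `0` elsewhere. -/
noncomputable def genFun (C : Type u) [Group C] : C → ℂ :=
  fun a => if Subgroup.zpowers a = ⊤ then (Nat.card C : ℂ) else 0

theorem sum_indFun_genFun [Fintype G] [Fintype (Subgroup G)] :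
    (∑ C : Subgroup G, indFun C (genFun C)) = fun _ => (Nat.card G : ℂ) := by
  classical
  funext g
  have key : ∀ (C : Subgroup G) (y : G), extendByZero C (genFun C) y =
      if Subgroup.zpowers y = C then (Nat.card C : ℂ) else 0 := by
    intro C y
    by_cases hy : y ∈ C
    · rw [extendByZero_of_mem C _ hy, genFun]
      refine if_congr ?_ rfl rfl
      rw [← (Subgroup.map_injective C.subtype_injective).eq_iff, MonoidHom.map_zpowers,
        ← MonoidHom.range_eq_map, Subgroup.range_subtype]
      rfl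
    · rw [extendByZero_of_not_mem C _ hy, if_neg]
      rintro rfl
      exact hy (Subgroup.mem_zpowers y)
  simp only [Finset.sum_apply, indFun_apply, key, Finset.mul_sum]
  rw [Finset.sum_comm]
  have h1 : ∀ x : G, (∑ C : Subgroup G, (Nat.card C : ℂ)⁻¹ *
      if Subgroup.zpowers (x⁻¹ * g * x) = C then (Nat.card C : ℂ) else 0) = 1 := by
    intro x
    simp only [mul_ite, mul_zero, Finset.sum_ite_eq, Finset.mem_univ, if_true]
    exact inv_mul_cancel₀ (Nat.cast_ne_zero.2 Nat.card_pos.ne')
  rw [Finset.sum_congr rfl fun x _ => h1 x]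
  simp only [Finset.sum_const, Finset.card_univ, Nat.card_eq_fintype_card, nsmul_one]

theorem isClassFunction_genFun (C : Type u) [Group C] : IsClassFunction C (genFun C) := by
  classical
  intro a b
  simp only [genFun]
  refine if_congr ?_ rfl rfl
  rw [← (Subgroup.map_injective (f := (MulAut.conj b).toMonoidHom)
    (MulAut.conj b).injective).eq_iff (a := Subgroup.zpowers a), MonoidHom.map_zpowers,
    Subgroup.map_top_of_surjective (MulAut.conj b).toMonoidHom (MulAut.conj b).surjective]
  rfl

theorem isGeneralized_genFun :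
    ∀ (n : ℕ) (C : Type u) [Group C] [Fintype C], Nat.card C = n →
      IsGeneralizedCharacter C (genFun C) := by
  intro n
  induction n using Nat.strong_induction_on with
  | _ n ih =>
    intro C _ _ hn
    classical
    have := Fintype.ofFinite (Subgroup C)
    have h := sum_indFun_genFun (G := C)
    rw [← Finset.add_sum_erase _ _ (Finset.mem_univ (⊤ : Subgroup C))] at h
    have htop : indFun (⊤ : Subgroup C) (genFun (⊤ : Subgroup C)) = genFun C := by
      have e : genFun (⊤ : Subgroup C) = fun x : (⊤ : Subgroup C) => genFun C x := by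
        funext x
        simp only [genFun, Subgroup.card_top]
        refine if_congr ?_ rfl rfl
        rw [← (Subgroup.map_injective (Subgroup.subtype_injective ⊤)).eq_iff,
          MonoidHom.map_zpowers, ← MonoidHom.range_eq_map, Subgroup.range_subtype]
        rfl
      funext g
      rw [indFun_top _ (isClassFunction_genFun _), e]
    rw [htop] at h
    rw [eq_sub_of_add_eq h]
    refine isGeneralized_sub ?_ (isGeneralized_sum _ _ fun D hD => ?_)
    · exact isGeneralized_of_isCharacter (by
        have := isCharacter_natCast_smul (Nat.card C) (isCharacter_one (G := C))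
        simpa [Pi.smul_def] using this)
    · have := Fintype.ofFinite D
      exact isGeneralized_indFun D (ih _ (hn ▸ lt_of_le_of_ne (Subgroup.card_le_card_group _)
        fun e => (Finset.mem_erase.1 hD).1 (Subgroup.eq_top_of_card_eq _ e)) D rfl)

theorem genFun_eq_zero {C : Type u} [Group C] (h : ¬ IsCyclic C) : genFun C = 0 := by
  classical
  funext a
  exact if_neg fun ha => h (isCyclic_iff_exists_zpowers_eq_top.2 ⟨a, ha⟩)

/-- Integer combinations of linear characters induced from cyclic subgroups. -/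
def cycSpan [Fintype G] : AddSubgroup (G → ℂ) :=
  AddSubgroup.closure {f | ∃ (C : Subgroup G) (lam : C →* ℂˣ),
    IsCyclic C ∧ f = indFun C (fun c => (lam c : ℂ))}

/-- **Artin's induction theorem**. -/
theorem artin_induction [Fintype G] {χ : G → ℂ} (hχ : IsCharacter G χ) :
    (Nat.card G : ℂ) • χ ∈ cycSpan := by
  classical
  have := Fintype.ofFinite (Subgroup G)
  have e : (Nat.card G : ℂ) • χ = ∑ C : Subgroup G, indFun C (genFun C * fun c : C => χ c) := by
    have h1 : (Nat.card G : ℂ) • χ = (∑ C : Subgroup G, indFun C (genFun C)) * χ := by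
      rw [sum_indFun_genFun]; rfl
    rw [h1, Finset.sum_mul]
    exact Finset.sum_congr rfl fun C _ =>
      (indFun_mul_res C _ (isClassFunction_of_isCharacter hχ)).symm
  rw [e]
  refine sum_mem fun C _ => ?_
  by_cases hc : IsCyclic C
  · have := Fintype.ofFinite C
    obtain ⟨m, -, he, -⟩ := IsGen.exists_mult (isGeneralized_mul (isGeneralized_genFun _ C rfl)
      (isGeneralized_of_isCharacter (isCharacter_res C hχ)))
    rw [he, indFun_sum]
    refine sum_mem fun η _ => ?_
    rw [indFun_smul, Int.cast_smul_eq_zsmul]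
    refine zsmul_mem (AddSubgroup.subset_closure ?_) _
    have h1 : (η : C → ℂ) 1 = 1 := IsIrr.degree_one_of_comm η.2 fun a b =>
      (IsCyclic.commGroup (α := C)).mul_comm a b
    obtain ⟨f, hf⟩ := IsChar.exists_hom (IsIrr.isCharacter η.2) h1
    exact ⟨C, f, hc, by rw [hf]⟩
  · rw [genFun_eq_zero hc, zero_mul, indFun_zero]
    exact zero_mem _

theorem commute_of_nilpotent_coprime [Finite G] [hnil : Group.IsNilpotent G] {a b : G}
    (h : (orderOf a).Coprime (orderOf b)) : Commute a b := by
  obtain ⟨e⟩ := ((Group.isNilpotent_of_finite_tfae (G := G)).out 0 4).mp hnil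
  have key : ∀ z w : (∀ r : (Nat.card G).primeFactors, ∀ S : Sylow r G, S),
      Nat.Coprime (orderOf z) (orderOf w) → Commute z w := by
    intro z w hzw
    refine funext fun r => funext fun S => ?_
    have := Fact.mk (Nat.prime_of_mem_primeFactors r.2)
    have h1 := orderOf_map_dvd ((Pi.evalMonoidHom (fun S : Sylow r G => (S : Subgroup G)) S).comp
      (Pi.evalMonoidHom _ r)) z
    have h2 := orderOf_map_dvd ((Pi.evalMonoidHom (fun S : Sylow r G => (S : Subgroup G)) S).comp
      (Pi.evalMonoidHom _ r)) w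
    simp only [MonoidHom.coe_comp, Function.comp_apply, Pi.evalMonoidHom_apply] at h1 h2
    obtain ⟨i, hi⟩ := IsPGroup.iff_orderOf.mp S.2 (z r S)
    obtain ⟨j, hj⟩ := IsPGroup.iff_orderOf.mp S.2 (w r S)
    have h12 := (hzw.coprime_dvd_left h1).coprime_dvd_right h2
    rw [hi, hj] at h12
    simp only [Pi.mul_apply]
    rcases i with _ | i
    · rw [pow_zero, orderOf_eq_one_iff] at hi
      simp [hi]
    rcases j with _ | j
    · rw [pow_zero, orderOf_eq_one_iff] at hj
      simp [hj]
    exact absurd h12 (Nat.Prime.not_coprime_iff_dvd.mpr ⟨_, Fact.out,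
      dvd_pow_self _ i.succ_ne_zero, dvd_pow_self _ j.succ_ne_zero⟩)
  have := (key (e.symm a) (e.symm b) (by rwa [MulEquiv.orderOf_eq, MulEquiv.orderOf_eq])).map e
  simpa using this

/-- A finite nilpotent group has a subgroup consisting of the elements of order prime to `p`. -/
theorem exists_pRegular_subgroup [Finite G] [Group.IsNilpotent G] (p : ℕ) [Fact p.Prime]
    (P : Sylow p G) : ∃ K : Subgroup G, (∀ g : G, g ∈ K ↔ ¬ p ∣ orderOf g) ∧
      Nat.card K * Nat.card (P : Subgroup G) = Nat.card G := by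
  have hp : p.Prime := Fact.out
  have hPn : (P : Subgroup G).Normal :=
    ((Group.isNilpotent_of_finite_tfae (G := G)).out 0 3 rfl rfl).mp ‹_› p inferInstance P
  have hcop : (Nat.card (P : Subgroup G)).Coprime (P : Subgroup G).index := P.card_coprime_index
  obtain ⟨K, hK⟩ := Subgroup.exists_right_complement'_of_coprime hcop
  have hKcard : Nat.card K = (P : Subgroup G).index := by
    have h1 := hK.card_mul
    rw [← (P : Subgroup G).card_mul_index] at h1
    exact Nat.eq_of_mul_eq_mul_left Nat.card_pos h1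
  have hKo : ∀ g ∈ K, ¬ p ∣ orderOf g := fun g hg hd =>
    P.not_dvd_index (hKcard ▸ hd.trans (Subgroup.orderOf_dvd_natCard K hg))
  have hKn : K.Normal := by
    refine Subgroup.normalizer_eq_top_iff.1 (top_unique ?_)
    rw [← hK.sup_eq_top, sup_le_iff]
    refine ⟨fun u hu => ?_, Subgroup.le_normalizer⟩
    obtain ⟨i, hi⟩ := IsPGroup.iff_orderOf.mp P.2 ⟨u, hu⟩
    rw [Subgroup.orderOf_mk] at hi
    have hc : ∀ k ∈ K, Commute u k := fun k hk => commute_of_nilpotent_coprime (by
      rw [hi]; exact (hp.coprime_iff_not_dvd.2 (hKo k hk)).pow_left i)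
    rw [Subgroup.mem_normalizer_iff]
    intro k
    constructor
    · intro hk
      rwa [(hc k hk).eq, mul_inv_cancel_right]
    · intro hk
      have h1 : (u * k * u⁻¹) = k := by
        have h2 := (hc _ hk).eq
        calc u * k * u⁻¹ = u⁻¹ * (u * (u * k * u⁻¹)) := by group
          _ = u⁻¹ * ((u * k * u⁻¹) * u) := by rw [h2]
          _ = k := by group
      rwa [h1] at hk
  refine ⟨K, fun g => ⟨hKo g, fun hg => ?_⟩, ?_⟩
  · rw [← QuotientGroup.eq_one_iff (N := K)]
    have h1 : orderOf (g : G ⧸ K) ∣ orderOf g := orderOf_map_dvd (QuotientGroup.mk' K) g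
    have h2 : orderOf (g : G ⧸ K) ∣ Nat.card (P : Subgroup G) := by
      have h3 : Nat.card (G ⧸ K) = Nat.card (P : Subgroup G) := by
        have h4 := K.card_mul_index
        rw [← hK.card_mul, mul_comm] at h4
        exact Nat.eq_of_mul_eq_mul_right Nat.card_pos h4
      exact h3 ▸ orderOf_dvd_natCard _
    obtain ⟨j, hj⟩ := P.2.exists_card_eq
    rw [hj] at h2
    refine orderOf_eq_one_iff.1 (Nat.eq_one_of_dvd_coprimes ?_ h2 h1)
    exact (hp.coprime_iff_not_dvd.2 hg).pow_left j
  · rw [mul_comm, hKcard, Subgroup.card_mul_index]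

open scoped Classical in
/-- An irreducible character of defect zero vanishes on `p`-singular elements. -/
theorem defect_zero [Fintype G] {χ : G → ℂ} (hχ : IsIrrCharacter G χ) {p n d : ℕ} (hp : p.Prime)
    (hn : p ^ n ∣ Nat.card G) (hn' : ¬ p ^ (n + 1) ∣ Nat.card G) (hd : χ 1 = d)
    (hdeg : p ^ n ∣ d) (x : G) (hx : p ∣ orderOf x) : χ x = 0 := by
  have := Fact.mk hp
  obtain ⟨m, hm⟩ := hn
  have hpm : ¬ p ∣ m := fun h => hn' (by
    rw [hm, pow_succ]; exact Nat.mul_dvd_mul_left _ h)
  obtain ⟨e, he⟩ := hdeg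
  have hd0 : d ≠ 0 := fun h0 => IsIrr.one_ne_zero hχ (by rw [hd, h0, Nat.cast_zero])
  have hint : ∀ g : G, IsIntegral ℤ (χ g) := IsChar.isIntegral (IsIrr.isCharacter hχ)
  -- divisibility of values by the `p`-part of a centraliser
  have hdiv : ∀ (g : G) (k : ℕ), p ^ k ∣ Nat.card (Subgroup.centralizer ({g} : Set G)) →
      IsIntegral ℤ (χ g / (p ^ k : ℕ)) := by
    intro g k hk
    set C := Subgroup.centralizer ({g} : Set G)
    obtain ⟨c, hc⟩ := hk
    have h1 := ((centralCharacter_isIntegral hχ g).mul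
      (isIntegral_algebraMap (R := ℤ) (A := ℂ) (x := (e * c : ℕ))))
    have hidx : (C.index : ℂ) * ((p ^ k : ℕ) * (c : ℂ)) = ((p ^ n : ℕ) : ℂ) * m := by
      rw [← Nat.cast_mul, ← hc, ← Nat.cast_mul, ← Nat.cast_mul, mul_comm, C.card_mul_index, hm]
    have he0 : (e : ℂ) ≠ 0 := Nat.cast_ne_zero.2 fun h => hd0 (by rw [he, h, mul_zero])
    have hpn0 : ((p ^ n : ℕ) : ℂ) ≠ 0 := Nat.cast_ne_zero.2 (pow_ne_zero _ hp.ne_zero)
    have hpk0 : ((p ^ k : ℕ) : ℂ) ≠ 0 := Nat.cast_ne_zero.2 (pow_ne_zero _ hp.ne_zero)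
    have h2 : IsIntegral ℤ ((m : ℂ) * (χ g / (p ^ k : ℕ))) := by
      refine Eq.subst (motive := IsIntegral ℤ) ?_ h1
      rw [hd, he, Nat.cast_mul, map_natCast, Nat.cast_mul]
      field_simp
      linear_combination (χ g) * hidx
    obtain ⟨a, b, hab⟩ := Nat.isCoprime_iff_coprime.2
      ((hp.coprime_iff_not_dvd.2 hpm).pow_left k)
    have h3 : χ g / (p ^ k : ℕ) = (a : ℂ) * χ g + (b : ℂ) * ((m : ℂ) * (χ g / (p ^ k : ℕ))) := by
      have hab' : (a : ℂ) * (p ^ k : ℕ) + (b : ℂ) * m = 1 := by exact_mod_cast hab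
      field_simp
      linear_combination (-(χ g)) * hab'
    rw [h3]
    exact (isIntegral_algebraMap.mul (hint g)).add (isIntegral_algebraMap.mul h2)
  let θ : G → ℂ := fun g => if p ∣ orderOf g then 0 else χ g
  have hθc : IsClassFunction G θ := by
    intro g a
    have ho : orderOf (a * g * a⁻¹) = orderOf g := MulEquiv.orderOf_eq (MulAut.conj a) g
    show (if p ∣ orderOf (a * g * a⁻¹) then (0 : ℂ) else χ (a * g * a⁻¹)) = _
    rw [ho, isClassFunction_of_isIrr hχ g a]
  have hθ : IsGeneralizedCharacter G θ := by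
    refine isGeneralized_of_elementary hθc fun E q hq hE => ?_
    have := Fintype.ofFinite E
    have := IsElementary.isNilpotent hq hE
    obtain ⟨P⟩ : Nonempty (Sylow p E) := inferInstance
    obtain ⟨K, hKmem, hKcard⟩ := exists_pRegular_subgroup p P
    obtain ⟨k, hk⟩ := P.2.exists_card_eq
    have := Fintype.ofFinite K
    refine isGeneralized_iff.2 ⟨fun g a => hθc g a, fun ψ => ?_⟩
    set c := classInner (fun g : E => θ g) (ψ : E → ℂ) with hc
    obtain ⟨z, hz⟩ := classInner_isCharacter_eq_natCast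
      (isCharacter_res K (isCharacter_res E (IsIrr.isCharacter hχ)))
      (isCharacter_res K (IsIrr.isCharacter ψ.2))
    -- the sum over `p`-regular elements
    set S : ℂ := ∑ g : K, χ ((g : E) : G) * conj ((ψ : E → ℂ) g) with hS
    have hsum : (∑ g : E, θ g * conj ((ψ : E → ℂ) g)) = S := by
      rw [hS, ← Finset.sum_subtype (Finset.univ.filter fun g : E => g ∈ K)
        (fun g => by simp) (fun g : E => χ g * conj ((ψ : E → ℂ) g)), Finset.sum_filter]
      refine Finset.sum_congr rfl fun g _ => ?_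
      have ho : orderOf (g : G) = orderOf g := orderOf_injective E.subtype E.subtype_injective g
      by_cases hg : g ∈ K
      · rw [if_pos hg]
        show (if p ∣ orderOf (g : G) then (0 : ℂ) else χ g) * _ = _
        rw [if_neg (ho ▸ (hKmem g).1 hg)]
      · rw [if_neg hg]
        show (if p ∣ orderOf (g : G) then (0 : ℂ) else χ g) * _ = _
        rw [if_pos (ho ▸ not_not.1 fun h => hg ((hKmem g).2 h)), zero_mul]
    have hK0 : (Nat.card K : ℂ) ≠ 0 := Nat.cast_ne_zero.2 Nat.card_pos.ne'
    have hSz : S = (Nat.card K : ℂ) * z := by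
      rw [← hz]
      simp only [classInner]
      rw [mul_inv_cancel_left₀ hK0]
    have hSint : IsIntegral ℤ (S / (p ^ k : ℕ)) := by
      rw [hS, Finset.sum_div]
      refine IsIntegral.sum _ fun g _ => ?_
      rw [mul_div_right_comm]
      refine (hdiv _ k ?_).mul ?_
      · rw [← hk, Nat.card_congr ((P : Subgroup E).equivMapOfInjective E.subtype
          E.subtype_injective).toEquiv]
        refine Subgroup.card_dvd_of_le ?_
        rintro _ ⟨u, hu, rfl⟩
        obtain ⟨i, hi⟩ := IsPGroup.iff_orderOf.mp P.2 ⟨u, hu⟩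
        rw [Subgroup.orderOf_mk] at hi
        have hcomm : Commute u (g : E) := commute_of_nilpotent_coprime (by
          rw [hi]; exact (hp.coprime_iff_not_dvd.2 ((hKmem g).1 g.2)).pow_left i)
        exact Subgroup.mem_centralizer_singleton_iff.2 (congrArg Subtype.val hcomm.eq)
      · exact IsChar.inv_eq_conj (IsIrr.isCharacter ψ.2) (g : E) ▸
          IsChar.isIntegral (IsIrr.isCharacter ψ.2) (g : E)⁻¹
    have hcS : c = S / ((Nat.card K : ℂ) * (p ^ k : ℕ)) := by
      rw [hc, classInner, hsum, ← Nat.cast_mul, ← hk, hKcard, inv_mul_eq_div]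
    have hcop : (Nat.card K).Coprime (p ^ k) := by
      refine Nat.Coprime.symm (Nat.Coprime.pow_left _ (hp.coprime_iff_not_dvd.2 ?_))
      intro h
      obtain ⟨g, hg⟩ := exists_prime_orderOf_dvd_card' (G := K) p h
      refine (hKmem g).1 g.2 ?_
      rw [← hg]
      exact (orderOf_injective K.subtype K.subtype_injective g).symm ▸ dvd_rfl
    obtain ⟨a, b, hab⟩ := Nat.isCoprime_iff_coprime.2 hcop
    have hab' : (a : ℂ) * (Nat.card K : ℂ) + (b : ℂ) * (p ^ k : ℕ) = 1 := by exact_mod_cast hab
    have hcint : IsIntegral ℤ c := by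
      have : c = (a : ℂ) * (S / (p ^ k : ℕ)) + (b : ℂ) * (z : ℕ) := by
        rw [hcS, hSz]
        have : ((p ^ k : ℕ) : ℂ) ≠ 0 := Nat.cast_ne_zero.2 (pow_ne_zero _ hp.ne_zero)
        field_simp
        linear_combination (-(z : ℂ)) * hab'
      rw [this]
      exact (isIntegral_algebraMap.mul hSint).add (isIntegral_algebraMap.mul isIntegral_algebraMap)
    have hcrat : c = (((z : ℚ) / (p ^ k : ℕ) : ℚ) : ℂ) := by
      rw [hcS, hSz, Rat.cast_div, Rat.cast_natCast, Rat.cast_natCast,
        mul_div_mul_left _ _ hK0]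
    obtain ⟨i, hi⟩ := exists_int_of_isIntegral_rat (hcrat ▸ hcint)
    exact ⟨i, by rw [hcrat, ← hi]; simp⟩
  have hθθ : classInner θ χ = classInner θ θ := by
    simp only [classInner]
    congr 1
    refine Finset.sum_congr rfl fun g _ => ?_
    by_cases hg : p ∣ orderOf g <;> simp [θ, hg]
  have hψ0 : classInner (χ - θ) θ = 0 := by
    rw [classInner_sub_left, ← hθθ, ← classInner_conj_symm θ χ, hθθ, classInner_conj_symm θ θ,
      sub_self]
  obtain ⟨μ, -, -, hμ⟩ := IsGen.exists_mult hθ
  obtain ⟨ν, -, -, hν⟩ := IsGen.exists_mult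
    (isGeneralized_sub (isGeneralized_of_isCharacter (IsIrr.isCharacter hχ)) hθ)
  have htot : classInner θ θ + classInner (χ - θ) (χ - θ) = 1 := by
    rw [classInner_sub_right (φ := χ - θ), hψ0, sub_zero, classInner_sub_left,
      classInner_irr_self hχ, hθθ]
    ring
  have h1 : classInner θ θ ≠ 0 := fun h => by
    have h2 := congrFun ((classInner_self_eq_zero _).1 h) 1
    simp only [θ, orderOf_one, Nat.dvd_one, hp.ne_one, if_false, Pi.zero_apply] at h2
    exact IsIrr.one_ne_zero hχ h2
  rw [hμ, hν] at htot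
  have htot' : (∑ ψ, μ ψ ^ 2) + (∑ ψ, ν ψ ^ 2) = 1 := by exact_mod_cast htot
  have hμ0 : (∑ ψ, μ ψ ^ 2) ≠ 0 := fun h => h1 (by rw [hμ, h, Int.cast_zero])
  have hν0 : (∑ ψ, ν ψ ^ 2) = 0 := by
    have := Finset.sum_nonneg (s := Finset.univ) fun ψ _ => sq_nonneg (μ ψ)
    have := Finset.sum_nonneg (s := Finset.univ) fun ψ _ => sq_nonneg (ν ψ)
    omega
  have heq : χ - θ = 0 := (classInner_self_eq_zero _).1 (by rw [hν, hν0, Int.cast_zero])
  have := congrFun (sub_eq_zero.1 heq) x
  simpa [θ, hx] using this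

end Cfsg.Agent.Char
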