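import Cfsg.Agent.Char.Integral
import Mathlib.FieldTheory.IsAlgClosed.Classification
import Mathlib.RingTheory.AlgebraicIndependent.Adjoin
import Mathlib.RingTheory.Polynomial.Cyclotomic.Roots
import Mathlib.RingTheory.RootsOfUnity.Complex

/-!
# Galois action on characters
-/

namespace Cfsg.Agent.Char

open scoped ComplexConjugate
open Module

universe u

/-- For `k` coprime to `m` there is a field embedding of `ℂ` into itself raising every `m`-th root
of unity to the `k`-th power. -/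
theorem exists_galois (m k : ℕ) (hm : m ≠ 0) (hk : k.Coprime m) :
    ∃ σ : ℂ →+* ℂ, ∀ z : ℂ, z ^ m = 1 → σ z = z ^ k := by
  classical
  set ζ : ℂ := Complex.exp (2 * Real.pi * Complex.I / m) with hζ
  have hprim : IsPrimitiveRoot ζ m := Complex.isPrimitiveRoot_exp m hm
  have hprimk : IsPrimitiveRoot (ζ ^ k) m := hprim.pow_of_coprime k hk
  let K := algebraicClosure ℚ ℂ
  have : Algebra.IsAlgebraic ℚ K := algebraicClosure.isAlgebraic ℚ ℂ
  have hζK : ζ ∈ K := mem_algebraicClosure_iff.2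
    ((hprim.isIntegral (Nat.pos_of_ne_zero hm)).tower_top.isAlgebraic : IsAlgebraic ℚ ζ)
  let ζ' : K := ⟨ζ, hζK⟩
  have hroot : ζ ^ k ∈ (minpoly ℚ ζ').rootSet ℂ := by
    rw [Polynomial.mem_rootSet_of_ne (minpoly.ne_zero
      (Algebra.IsAlgebraic.isAlgebraic (R := ℚ) ζ').isIntegral)]
    rw [← minpoly.algebraMap_eq (A := ℚ) (B := K) (algebraMap K ℂ).injective ζ',
      show algebraMap K ℂ ζ' = ζ from rfl,
      ← Polynomial.cyclotomic_eq_minpoly_rat hprim (Nat.pos_of_ne_zero hm),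
      Polynomial.cyclotomic_eq_minpoly_rat hprimk (Nat.pos_of_ne_zero hm)]
    exact minpoly.aeval ℚ _
  rw [← Algebra.IsAlgebraic.range_eval_eq_rootSet_minpoly (F := ℚ) (K := K) ℂ ζ'] at hroot
  obtain ⟨ψ, hψ⟩ := hroot
  have hψK : ∀ x, ψ x ∈ K := fun x => mem_algebraicClosure_iff.2
    ((Algebra.IsAlgebraic.isAlgebraic (R := ℚ) x).algHom ψ)
  let ψ' : K →+* K := ψ.toRingHom.codRestrict K.toSubfield hψK
  obtain ⟨T, hT⟩ := exists_isTranscendenceBasis K ℂ
  let L := IntermediateField.adjoin K (Set.range ((↑) : T → ℂ))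
  have : Algebra.IsAlgebraic L ℂ := hT.isAlgebraic_field
  let g : MvPolynomial T K →+* ℂ :=
    (MvPolynomial.aeval ((↑) : T → ℂ) : MvPolynomial T K →ₐ[K] ℂ).toRingHom.comp
      (MvPolynomial.map ψ')
  have hg : Function.Injective g :=
    (algebraicIndependent_iff_injective_aeval.1 hT.1).comp
      (MvPolynomial.map_injective ψ' ψ'.injective)
  let f : L →+* ℂ :=
    (IsFractionRing.lift (K := FractionRing (MvPolynomial T K)) hg).comp
      hT.1.aevalEquivField.symm.toRingEquiv.toRingHom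
  obtain ⟨φ, hφ⟩ := IsAlgClosed.surjective_domRestrict_of_isAlgebraic (K := ℚ) (L := L) (E := ℂ)
    (M := ℂ) { f with commutes' := fun q => eq_ratCast (f.comp (algebraMap ℚ L)) q }
  refine ⟨φ.toRingHom, fun z hz => ?_⟩
  have : NeZero m := ⟨hm⟩
  obtain ⟨i, -, rfl⟩ := hprim.eq_pow_of_pow_eq_one hz
  rw [map_pow, ← pow_mul, mul_comm i, pow_mul]
  congr 1
  let ζL : L := algebraMap K L ζ'
  have h1 : φ ((ζL : L) : ℂ) = f ζL := DFunLike.congr_fun hφ ζL
  show φ ζ = ζ ^ k
  rw [show (ζ : ℂ) = ((ζL : L) : ℂ) from rfl, h1]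
  show IsFractionRing.lift hg (hT.1.aevalEquivField.symm (algebraMap K L ζ')) = _
  rw [AlgEquiv.commutes, IsScalarTower.algebraMap_apply K (MvPolynomial T K)
    (FractionRing (MvPolynomial T K)), IsFractionRing.lift_algebraMap]
  simp only [g, RingHom.comp_apply, MvPolynomial.algebraMap_eq, MvPolynomial.map_C]
  show MvPolynomial.aeval _ (MvPolynomial.C (ψ' ζ')) = _
  rw [MvPolynomial.aeval_C]
  exact hψ

variable {G : Type u} [Group G] [Finite G]

/-- Applying a field embedding to the values of a character gives a character. -/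
theorem isCharacter_map (σ : ℂ →+* ℂ) {χ : G → ℂ} (h : IsCharacter G χ) :
    IsCharacter G (fun g => σ (χ g)) := by
  classical
  obtain ⟨n, ρ, rfl⟩ := h
  let M : G →* Matrix (Fin n) (Fin n) ℂ :=
    (σ.mapMatrix.toMonoidHom).comp ((LinearMap.toMatrixAlgEquiv'.toRingEquiv.toMonoidHom).comp ρ)
  refine ⟨n, (Matrix.toLinAlgEquiv'.toRingEquiv.toMonoidHom).comp M, funext fun g => ?_⟩
  show LinearMap.trace ℂ _ (Matrix.toLinAlgEquiv' (M g)) = σ (LinearMap.trace ℂ _ (ρ g))
  rw [LinearMap.trace_eq_matrix_trace ℂ (Pi.basisFun ℂ (Fin n)),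
    LinearMap.trace_eq_matrix_trace ℂ (Pi.basisFun ℂ (Fin n))]
  simp only [LinearMap.toMatrix_eq_toMatrix', M]
  refine Eq.trans ?_ (AddMonoidHom.map_trace σ.toAddMonoidHom _).symm
  exact congrArg Matrix.trace (LinearMap.toMatrix'_toLin' _)

theorem classInner_map [Fintype G] (σ : ℂ →+* ℂ) {χ η : G → ℂ} (hη : IsCharacter G η) :
    classInner (fun g => σ (χ g)) (fun g => σ (η g)) = σ (classInner χ η) := by
  simp only [classInner, map_mul, map_inv₀, map_natCast, map_sum]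
  congr 1
  refine Finset.sum_congr rfl fun g _ => ?_
  rw [← IsChar.inv_eq_conj hη g, ← IsChar.inv_eq_conj (isCharacter_map σ hη) g]

theorem isIrr_map (σ : ℂ →+* ℂ) {χ : G → ℂ} (h : IsIrrCharacter G χ) :
    IsIrrCharacter G (fun g => σ (χ g)) := by
  have := Fintype.ofFinite G
  rw [isIrr_iff_norm_one (isCharacter_map σ (IsIrr.isCharacter h)),
    classInner_map σ (IsIrr.isCharacter h), classInner_irr_self h, map_one]

/-- A field embedding that is the `k`-th power on roots of unity sends `χ g` to `χ (g ^ k)`. -/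
theorem galois_apply_pow (σ : ℂ →+* ℂ) {m k : ℕ} (hσ : ∀ z : ℂ, z ^ m = 1 → σ z = z ^ k)
    {χ : G → ℂ} (h : IsCharacter G χ) {g : G} (hg : orderOf g ∣ m) :
    σ (χ g) = χ (g ^ k) := by
  obtain ⟨n, ρ, rfl⟩ := h
  obtain ⟨μ, b, hb, hμ, hχ⟩ := exists_eigenbasis ρ g
  have hpow : ∀ i, ρ (g ^ k) (b i) = μ i ^ k • b i := by
    intro i
    rw [map_pow]
    suffices hall : ∀ j : ℕ, ((ρ g) ^ j) (b i) = μ i ^ j • b i from hall k
    intro j
    induction j with
    | zero => simp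
    | succ j ih => rw [pow_succ', Module.End.mul_apply, ih, map_smul, hb, smul_smul, pow_succ]
  rw [hχ, map_sum]
  refine Eq.trans ?_ (trace_eq_sum_of_eigenbasis _ b _ hpow).symm
  refine Finset.sum_congr rfl fun i _ => hσ _ ?_
  obtain ⟨c, rfl⟩ := hg
  rw [pow_mul, hμ, one_pow]

theorem exists_galois_pow (k : ℕ) (hk : k.Coprime (Nat.card G)) :
    ∃ σ : ℂ →+* ℂ, ∀ {χ : G → ℂ}, IsCharacter G χ → ∀ g : G, σ (χ g) = χ (g ^ k) := by
  obtain ⟨σ, hσ⟩ := exists_galois (Nat.card G) k Nat.card_pos.ne' hk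
  exact ⟨σ, fun h g => galois_apply_pow σ hσ h (orderOf_dvd_natCard g)⟩

theorem isIrr_comp_pow (k : ℕ) (hk : k.Coprime (Nat.card G)) {χ : G → ℂ}
    (h : IsIrrCharacter G χ) : IsIrrCharacter G (fun g => χ (g ^ k)) := by
  obtain ⟨σ, hσ⟩ := exists_galois_pow (G := G) k hk
  have he : (fun g => χ (g ^ k)) = fun g => σ (χ g) :=
    funext fun g => (hσ (IsIrr.isCharacter h) g).symm
  exact he ▸ isIrr_map σ h

end Cfsg.Agent.Char
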