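import Cfsg.Agent.Char.Clifford
import Cfsg.Agent.Char.Integral

/-!
# Brauer's permutation lemma, real characters
-/

namespace Cfsg.Agent.Char

open scoped ComplexConjugate

universe u

variable {G : Type u} [Group G] [Finite G]

/-- **Brauer's permutation lemma**, for compatible maps on irreducible characters and classes. -/
theorem brauer_permutation (σ : IrrCharacter G → IrrCharacter G)
    (τ : ConjClasses G → ConjClasses G)
    (h : ∀ (χ : IrrCharacter G) (g g' : G), τ (ConjClasses.mk g) = ConjClasses.mk g' →
      (σ χ : G → ℂ) g = (χ : G → ℂ) g') :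
    Nat.card {χ : IrrCharacter G // σ χ = χ} = Nat.card {C : ConjClasses G // τ C = C} := by
  classical
  have := Fintype.ofFinite G
  have : Finite (ConjClasses G) := Quotient.finite _
  have := Fintype.ofFinite (ConjClasses G)
  suffices hc : (Nat.card {χ : IrrCharacter G // σ χ = χ} : ℂ) =
      (Nat.card {C : ConjClasses G // τ C = C} : ℂ) by exact_mod_cast hc
  have hL : ∑ χ : IrrCharacter G, classInner (σ χ : G → ℂ) (χ : G → ℂ) =
      (Nat.card {χ : IrrCharacter G // σ χ = χ} : ℂ) := by
    simp [classInner_irrChar, Nat.card_eq_fintype_card, Fintype.card_subtype]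
  rw [← hL]
  simp only [classInner, ← Finset.mul_sum]
  rw [Finset.sum_comm, ← Finset.sum_fiberwise Finset.univ ConjClasses.mk, Finset.mul_sum,
    Nat.card_eq_fintype_card (α := {C : ConjClasses G // τ C = C}), Fintype.card_subtype,
    ← Finset.sum_boole]
  refine Finset.sum_congr rfl fun C _ => ?_
  obtain ⟨g, rfl⟩ := ConjClasses.mk_surjective C
  obtain ⟨g', hg'⟩ := ConjClasses.mk_surjective (τ (ConjClasses.mk g))
  have hfib : Finset.univ.filter (fun x => ConjClasses.mk x = ConjClasses.mk g) =
      Finset.univ.filter (IsConj g) := by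
    ext x
    simp only [Finset.mem_filter, Finset.mem_univ, true_and, ConjClasses.mk_eq_mk_iff_isConj]
    exact isConj_comm
  have hterm : ∀ x ∈ Finset.univ.filter (IsConj g),
      ∑ χ : IrrCharacter G, (σ χ : G → ℂ) x * conj ((χ : G → ℂ) x) =
        if IsConj g' g then (Nat.card (Subgroup.centralizer ({g'} : Set G)) : ℂ) else 0 := by
    intro x hx
    have hgx := (Finset.mem_filter.1 hx).2
    rw [← second_orthogonality g' g]
    refine Finset.sum_congr rfl fun χ _ => ?_
    rw [← classFun_isConj (isClassFunction_of_isIrr χ.2) hgx,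
      h χ x g' (by rw [hg']; congr 1; exact ConjClasses.mk_eq_mk_iff_isConj.2 hgx.symm)]
  rw [hfib, Finset.sum_congr rfl hterm, Finset.sum_const, nsmul_eq_mul, ← Fintype.card_subtype,
    ← Nat.card_eq_fintype_card, card_isConj_eq_index]
  by_cases hfix : τ (ConjClasses.mk g) = ConjClasses.mk g
  · have hc : IsConj g' g := ConjClasses.mk_eq_mk_iff_isConj.1 (hg'.trans hfix)
    have he : Nat.card (Subgroup.centralizer ({g'} : Set G)) =
        Nat.card (Subgroup.centralizer ({g} : Set G)) := by
      have h1 := Subgroup.card_mul_index (Subgroup.centralizer ({g'} : Set G))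
      have h2 := Subgroup.card_mul_index (Subgroup.centralizer ({g} : Set G))
      have h3 : (Subgroup.centralizer ({g'} : Set G)).index =
          (Subgroup.centralizer ({g} : Set G)).index := by
        rw [← card_isConj_eq_index, ← card_isConj_eq_index]
        exact Nat.card_congr (Equiv.subtypeEquivRight fun x => ⟨hc.symm.trans, hc.trans⟩)
      rw [h3, ← h2] at h1
      exact Nat.eq_of_mul_eq_mul_right (Nat.pos_of_ne_zero Subgroup.index_ne_zero_of_finite) h1
    rw [if_pos hc, if_pos hfix, he, mul_comm ((_ : ℕ) : ℂ) (Nat.card _ : ℂ), ← Nat.cast_mul,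
      Subgroup.card_mul_index, inv_mul_cancel₀ card_ne_zero]
  · rw [if_neg fun e => hfix (hg'.symm.trans (ConjClasses.mk_eq_mk_iff_isConj.2 e)), if_neg hfix,
      mul_zero, mul_zero]

/-- Complex conjugation on irreducible characters. -/
noncomputable def conjIrr (χ : IrrCharacter G) : IrrCharacter G :=
  ⟨fun g => conj ((χ : G → ℂ) g), by
    have hc := isCharacter_conj (IsIrr.isCharacter χ.2)
    have := Fintype.ofFinite G
    rw [isIrr_iff_norm_one hc]
    have : classInner (fun g => conj ((χ : G → ℂ) g)) (fun g => conj ((χ : G → ℂ) g)) =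
        conj (classInner (χ : G → ℂ) (χ : G → ℂ)) := by simp [classInner]
    rw [this, classInner_irr_self χ.2, map_one]⟩

@[simp] theorem conjIrr_apply (χ : IrrCharacter G) (g : G) :
    (conjIrr χ : G → ℂ) g = conj ((χ : G → ℂ) g) := rfl

theorem conjIrr_conjIrr (χ : IrrCharacter G) : conjIrr (conjIrr χ) = χ :=
  Subtype.ext (funext fun g => by simp)

/-- In a group of odd order the only real irreducible character is the trivial one. -/
theorem real_irr_eq_one (hodd : Odd (Nat.card G)) {χ : G → ℂ} (hχ : IsIrrCharacter G χ)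
    (hreal : ∀ g : G, (χ g).im = 0) : χ = fun _ => 1 := by
  classical
  have := Fintype.ofFinite G
  by_contra hne
  obtain ⟨n, -, hn⟩ := IsIrr.degree hχ
  have hno : Odd n := hodd.of_dvd_nat (IsIrr.degree_dvd_card hχ hn)
  have hinv : ∀ g : G, χ g⁻¹ = χ g := fun g => by
    rw [IsChar.inv_eq_conj (IsIrr.isCharacter hχ), Complex.conj_eq_iff_im.2 (hreal g)]
  have hfix : ∀ g : G, g⁻¹ = g → g = 1 := by
    intro g hg
    have h2 : g ^ 2 = 1 := by rw [sq]; nth_rw 1 [← hg]; exact inv_mul_cancel g
    have h3 := (orderOf_dvd_of_pow_eq_one h2)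
    have h4 : Odd (orderOf g) := hodd.of_dvd_nat (orderOf_dvd_natCard g)
    rcases (Nat.dvd_prime Nat.prime_two).1 h3 with h5 | h5
    · exact orderOf_eq_one_iff.1 h5
    · rw [h5] at h4; exact absurd h4 (by decide)
  have h0 := classInner_irr_ne hχ isIrrCharacter_one hne
  simp only [classInner, map_one, mul_one, mul_eq_zero, inv_eq_zero, card_ne_zero, false_or] at h0
  let e := Fintype.equivFin G
  set P := Finset.univ.filter fun g : G => e g < e g⁻¹ with hP
  have hsplit : ∑ g, χ g = χ 1 + 2 * ∑ g ∈ P, χ g := by
    rw [← Finset.add_sum_erase _ _ (Finset.mem_univ (1 : G)),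
      ← Finset.sum_filter_add_sum_filter_not (Finset.univ.erase 1) (fun g => e g < e g⁻¹)]
    have h1 : (Finset.univ.erase (1 : G)).filter (fun g => e g < e g⁻¹) = P := by
      ext g
      simp only [hP, Finset.mem_filter, Finset.mem_erase, Finset.mem_univ, and_true, true_and,
        and_iff_right_iff_imp]
      rintro h rfl
      simp at h
    have h2 : ∑ g ∈ (Finset.univ.erase (1 : G)).filter (fun g => ¬ e g < e g⁻¹), χ g =
        ∑ g ∈ P, χ g := by
      refine Finset.sum_bij (fun g _ => g⁻¹) ?_ (fun a _ b _ h => inv_injective h) ?_ ?_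
      · intro g hg
        simp only [Finset.mem_filter, Finset.mem_erase, Finset.mem_univ, and_true, not_lt] at hg
        simp only [hP, Finset.mem_filter, Finset.mem_univ, true_and, inv_inv]
        exact lt_of_le_of_ne hg.2 fun h => hg.1 (hfix g (e.injective h))
      · intro g hg
        simp only [hP, Finset.mem_filter, Finset.mem_univ, true_and] at hg
        refine ⟨g⁻¹, ?_, inv_inv g⟩
        simp only [Finset.mem_filter, Finset.mem_erase, Finset.mem_univ, and_true, not_lt, inv_inv]
        refine ⟨fun h => ?_, hg.le⟩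
        rw [inv_eq_one] at h
        subst h
        simp at hg
      · intro g _; rw [hinv]
    rw [h1, h2]
    ring
  rw [hsplit, hn] at h0
  have hint : IsIntegral ℤ ((n : ℂ) / (2 : ℕ)) := by
    have : (n : ℂ) / (2 : ℕ) = -∑ g ∈ P, χ g := by
      rw [Nat.cast_ofNat, div_eq_iff two_ne_zero]
      linear_combination h0
    rw [this]
    exact (IsIntegral.sum _ fun g _ => IsChar.isIntegral (IsIrr.isCharacter hχ) g).neg
  exact (Nat.not_even_iff_odd.2 hno) ((even_iff_two_dvd).2 (nat_dvd_of_isIntegral two_ne_zero hint))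

end Cfsg.Agent.Char
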