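import Cfsg.Agent.Char.Linear
import Mathlib.GroupTheory.Complement

/-!
# Frobenius' kernel theorem
-/

namespace Cfsg.Agent.Char

open scoped ComplexConjugate

universe u

variable {G : Type u} [Group G]

/-- Induction from a malnormal subgroup does not change a class function vanishing at `1`, on the
subgroup itself. -/
theorem indFun_malnormal [Fintype G] (H : Subgroup G)
    (hH : ∀ g : G, g ∉ H → ∀ h ∈ H, g * h * g⁻¹ ∈ H → h = 1) {α : H → ℂ}
    (hα : IsClassFunction H α) (h1 : α 1 = 0) (h : H) : indFun H α (h : G) = α h := by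
  classical
  by_cases hh : h = 1
  · subst hh; simp [indFun_apply_one, h1]
  have hx : ∀ x : G, extendByZero H α (x⁻¹ * h * x) = if x ∈ H then α h else 0 := by
    intro x
    split_ifs with hx
    · rw [extendByZero_of_mem H α (H.mul_mem (H.mul_mem (H.inv_mem hx) h.2) hx)]
      rw [← hα h ⟨x⁻¹, H.inv_mem hx⟩]
      exact congrArg α (Subtype.ext (by simp))
    · refine extendByZero_of_not_mem H α fun hm => hh ?_
      exact Subtype.ext (hH x⁻¹ (fun h' => hx (by simpa using H.inv_mem h')) h h.2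
        (by simpa using hm))
  have : (Nat.card H : ℂ) ≠ 0 := Nat.cast_ne_zero.2 Nat.card_pos.ne'
  rw [indFun_apply, Finset.sum_congr rfl fun x _ => hx x, ← Finset.sum_filter, Finset.sum_const,
    nsmul_eq_mul, ← Fintype.card_subtype, ← Nat.card_eq_fintype_card]
  field_simp

/-- Every irreducible character of a malnormal subgroup extends to the group, with value its
degree on all elements not conjugate into the subgroup. -/
theorem malnormal_extend [Finite G] (H : Subgroup G)
    (hH : ∀ g : G, g ∉ H → ∀ h ∈ H, g * h * g⁻¹ ∈ H → h = 1) {φ : H → ℂ}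
    (hφ : IsIrrCharacter H φ) :
    ∃ ψ : G → ℂ, IsIrrCharacter G ψ ∧ (∀ h : H, ψ h = φ h) ∧
      ∀ g : G, (∀ x : G, x⁻¹ * g * x ∉ H) → ψ g = φ 1 := by
  have := Fintype.ofFinite G
  have := Fintype.ofFinite H
  obtain ⟨d, hd0, hd⟩ := IsIrr.degree hφ
  by_cases htriv : φ = fun _ => 1
  · subst htriv
    exact ⟨fun _ => 1, isIrrCharacter_one, fun h => rfl, fun g _ => rfl⟩
  set α : H → ℂ := φ - (d : ℂ) • (fun _ => 1) with hα
  have hαgen : IsGeneralizedCharacter H α :=
    ⟨φ, (d : ℂ) • (fun _ => 1), IsIrr.isCharacter hφ, isCharacter_natCast_smul d isCharacter_one,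
      rfl⟩
  have hα1 : α 1 = 0 := by simp [hα, hd]
  have hres : (fun h : H => indFun H α (h : G)) = α :=
    funext (indFun_malnormal H hH (IsGen.isClassFunction hαgen) hα1)
  set ψ : G → ℂ := indFun H α + (d : ℂ) • (fun _ => 1) with hψ
  have hψgen : IsGeneralizedCharacter G ψ := isGeneralized_add (isGeneralized_indFun H hαgen)
    (isGeneralized_of_isCharacter (isCharacter_natCast_smul d isCharacter_one))
  have e1 : classInner φ (fun _ : H => (1 : ℂ)) = 0 :=
    classInner_irr_ne hφ isIrrCharacter_one htriv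
  have e2 : classInner (fun _ : H => (1 : ℂ)) φ = 0 :=
    classInner_irr_ne isIrrCharacter_one hφ (Ne.symm htriv)
  have e3 : classInner α (fun _ : H => (1 : ℂ)) = -(d : ℂ) := by
    rw [hα, classInner_sub_left, classInner_smul_left, e1,
      classInner_irr_self isIrrCharacter_one]
    ring
  have e4 : classInner α α = 1 + (d : ℂ) * d := by
    simp only [hα, classInner_sub_left, classInner_sub_right, classInner_smul_left,
      classInner_smul_right, e1, e2, classInner_irr_self hφ,
      classInner_irr_self (isIrrCharacter_one (G := H)), Complex.conj_natCast]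
    ring
  have e6 : classInner (indFun H α) (fun _ : G => (1 : ℂ)) = -(d : ℂ) := by
    rw [classInner_indFun_left H α (isClassFunction_of_isIrr isIrrCharacter_one)]
    exact e3
  have e7 : classInner (fun _ : G => (1 : ℂ)) (indFun H α) = -(d : ℂ) := by
    rw [← classInner_conj_symm, e6, map_neg, Complex.conj_natCast]
  have hnorm : classInner ψ ψ = 1 := by
    simp only [hψ, classInner_add_left, classInner_add_right, classInner_smul_left,
      classInner_smul_right, e6, e7, classInner_irr_self (isIrrCharacter_one (G := G)),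
      Complex.conj_natCast]
    rw [classInner_indFun_left H α (isClassFunction_indFun H α), hres, e4]
    ring
  refine ⟨ψ, IsGen.isIrr_of_norm_one hψgen hnorm ?_, fun h => ?_, fun g hg => ?_⟩
  · simp only [hψ, Pi.add_apply, Pi.smul_apply, smul_eq_mul, mul_one, indFun_apply_one, hα1,
      mul_zero, zero_add, Complex.natCast_re]
    exact_mod_cast hd0
  · have h2 := congrFun hres h
    simp only [hψ, Pi.add_apply, h2]
    simp [hα]
  · simp [hψ, indFun_apply_eq_zero H α hg, hd]

/-- **Frobenius' theorem**: a malnormal subgroup has a normal complement, made of `1` and the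
elements with no conjugate in the subgroup. -/
theorem frobenius_kernel [Finite G] (H : Subgroup G)
    (hH : ∀ g : G, g ∉ H → ∀ h ∈ H, g * h * g⁻¹ ∈ H → h = 1) :
    ∃ N : Subgroup G, N.Normal ∧ Subgroup.IsComplement' N H ∧
      ∀ g : G, g ∈ N ↔ g = 1 ∨ ∀ x : G, x⁻¹ * g * x ∉ H := by
  classical
  have := Fintype.ofFinite G
  let N : Subgroup G :=
    { carrier := {g | ∀ ψ : IrrCharacter G,
        (∀ x : G, (∀ y : G, y⁻¹ * x * y ∉ H) → (ψ : G → ℂ) x = (ψ : G → ℂ) 1) →
          (ψ : G → ℂ) g = (ψ : G → ℂ) 1}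
      one_mem' := fun ψ _ => rfl
      mul_mem' := fun {a b} ha hb ψ hψ =>
        (IsChar.mul_left_of_mem_kernel (IsIrr.isCharacter ψ.2) (ha ψ hψ) b).trans (hb ψ hψ)
      inv_mem' := fun {a} ha ψ hψ => by
        show (ψ : G → ℂ) a⁻¹ = (ψ : G → ℂ) 1
        rw [IsChar.inv_eq_conj (IsIrr.isCharacter ψ.2), ha ψ hψ]
        obtain ⟨n, -, e⟩ := IsIrr.degree ψ.2
        simp [e] }
  have hN : N.Normal := ⟨fun n hn g ψ hψ => by
    rw [isClassFunction_of_isIrr ψ.2 n g]; exact hn ψ hψ⟩
  have hsub : ∀ g : G, (g = 1 ∨ ∀ x : G, x⁻¹ * g * x ∉ H) → g ∈ N := by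
    rintro g (rfl | hg)
    · exact N.one_mem
    · exact fun ψ hψ => hψ g hg
  have hinter : ∀ h : G, h ∈ H → h ∈ N → h = 1 := by
    intro h hh hhN
    refine congrArg Subtype.val (eq_one_of_forall_irr (g := (⟨h, hh⟩ : H)) fun φ => ?_)
    obtain ⟨ψ, hψ, hψH, hψout⟩ := malnormal_extend H hH φ.2
    have hψ1 : ψ 1 = (φ : H → ℂ) 1 := hψH 1
    have h1 := hhN ⟨ψ, hψ⟩ fun x hx => (hψout x hx).trans hψ1.symm
    simp only [hψ1] at h1
    exact (hψH ⟨h, hh⟩).symm.trans h1
  have hdisj : ∀ a b : N, ∀ c d : H, (a : G) * c = b * d → a = b ∧ c = d := by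
    intro a b c d e
    have h1 : (b : G)⁻¹ * a = d * (c : G)⁻¹ := by
      rw [inv_mul_eq_iff_eq_mul, ← mul_assoc, ← e, mul_inv_cancel_right]
    have h2 : (b : G)⁻¹ * a = 1 :=
      hinter _ (h1 ▸ H.mul_mem d.2 (H.inv_mem c.2)) (N.mul_mem (N.inv_mem b.2) a.2)
    refine ⟨Subtype.ext (inv_mul_eq_one.1 h2).symm, Subtype.ext ?_⟩
    rw [h2] at h1
    exact (mul_inv_eq_one.1 h1.symm).symm
  have hinj : Function.Injective fun p : N × H => (p.1 : G) * p.2 := by
    rintro ⟨a, c⟩ ⟨b, d⟩ e
    obtain ⟨rfl, rfl⟩ := hdisj a b c d e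
    rfl
  have hle : Nat.card N * Nat.card H ≤ Nat.card G := by
    rw [← Nat.card_prod]; exact Nat.card_le_card_of_injective _ hinj
  -- elements with a non-trivial conjugate in `H` are few
  let T := {g : G // g ≠ 1 ∧ ∃ x : G, x⁻¹ * g * x ∈ H}
  let cv : (G ⧸ H) × {h : H // h ≠ 1} → T := fun p =>
    ⟨p.1.out * (p.2.1 : G) * p.1.out⁻¹, by
      simpa [mul_inv_eq_one, mul_eq_left] using fun h => p.2.2 h,
      ⟨p.1.out, by simp [mul_assoc]⟩⟩
  have hsurj : Function.Surjective cv := by
    rintro ⟨g, hg1, x, hx⟩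
    set o := (QuotientGroup.mk (s := H) x).out with ho
    obtain ⟨k, hk⟩ := QuotientGroup.mk_out_eq_mul H x
    have hm : o⁻¹ * g * o ∈ H := by
      rw [ho, hk, mul_inv_rev]
      have := H.mul_mem (H.mul_mem (H.inv_mem k.2) hx) k.2
      simpa [mul_assoc] using this
    refine ⟨(QuotientGroup.mk x, ⟨⟨o⁻¹ * g * o, hm⟩, fun h => hg1 ?_⟩), Subtype.ext ?_⟩
    · have h' : o⁻¹ * g * o = 1 := congrArg Subtype.val h
      calc g = o * (o⁻¹ * g * o) * o⁻¹ := by group
        _ = 1 := by rw [h']; group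
    · show o * (o⁻¹ * g * o) * o⁻¹ = g
      group
  have hT : Nat.card T ≤ H.index * (Nat.card H - 1) := by
    refine (Nat.card_le_card_of_surjective cv hsurj).trans (le_of_eq ?_)
    rw [Nat.card_prod, Subgroup.index_eq_card]
    congr 1
    rw [Nat.card_eq_fintype_card (α := {h : H // h ≠ 1}), Fintype.card_subtype_compl,
      Fintype.card_subtype_eq, Nat.card_eq_fintype_card]
  have hge : Nat.card G ≤ Nat.card N + Nat.card T := by
    rw [← Nat.card_congr (Equiv.sumCompl (fun g : G => g ∈ N)), Nat.card_sum]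
    refine Nat.add_le_add le_rfl (Nat.card_le_card_of_injective (fun g => (⟨g.1, ?_⟩ : T)) ?_)
    · have := mt (hsub g.1) g.2
      push Not at this
      exact this
    · intro a b e
      exact Subtype.ext (congrArg (fun t : T => t.1) e)
  have hcard : Nat.card N = H.index := by
    refine le_antisymm (Nat.le_of_mul_le_mul_right (hle.trans ?_) Nat.card_pos) ?_
    · rw [mul_comm H.index, Subgroup.card_mul_index]
    · have := Subgroup.card_mul_index H
      have hpos : 1 ≤ Nat.card H := Nat.card_pos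
      have : H.index * (Nat.card H - 1) + H.index = Nat.card G := by
        rw [← Nat.mul_succ, Nat.succ_eq_add_one, Nat.sub_add_cancel hpos, mul_comm, this]
      omega
  have hcompl : Subgroup.IsComplement' N H :=
    Subgroup.isComplement'_of_card_mul_and_disjoint
      (by rw [hcard, mul_comm, Subgroup.card_mul_index])
      (Subgroup.disjoint_def.2 fun h1 h2 => hinter _ h2 h1)
  refine ⟨N, hN, hcompl, fun g => ⟨fun hg => ?_, hsub g⟩⟩
  by_contra! h
  obtain ⟨hg1, x, hx⟩ := h
  have h1 := hinter _ hx (by simpa using hN.conj_mem g hg x⁻¹)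
  refine hg1 ?_
  calc g = x * (x⁻¹ * g * x) * x⁻¹ := by group
    _ = 1 := by rw [h1]; group

end Cfsg.Agent.Char
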