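import Cfsg.Agent.Char.CliffordCorr
import Cfsg.Agent.Char.Linear
import Cfsg.Agent.Char.Integral
import Mathlib.GroupTheory.Nilpotent

/-!
# Nilpotent groups are monomial
-/

namespace Cfsg.Agent.Char

open scoped ComplexConjugate commutatorElement
open Module

universe u

variable {G : Type u} [Group G]

theorem indFun_congr [Fintype G] {H K : Subgroup G} (h : H = K) {φ : H → ℂ} {ψ : K → ℂ}
    (he : ∀ x : H, φ x = ψ ⟨x, h ▸ x.2⟩) : indFun H φ = indFun K ψ := by
  subst h
  rw [show φ = ψ from funext he]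

/-- Induction in stages, from a subgroup of a subgroup. -/
theorem indFun_map [Fintype G] (T : Subgroup G) [Fintype T] (E : Subgroup T) (ψ : E → ℂ) :
    indFun T (indFun E ψ) =
      indFun (E.map T.subtype)
        (fun x => ψ ((E.equivMapOfInjective T.subtype T.subtype_injective).symm x)) := by
  classical
  rw [← indFun_indFun (E.map T.subtype) T (Subgroup.map_subtype_le E)]
  congr 1
  refine indFun_congr (Subgroup.comap_map_eq_self_of_injective T.subtype_injective E).symm
    fun x => congrArg ψ ?_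
  apply (E.equivMapOfInjective T.subtype T.subtype_injective).injective
  rw [MulEquiv.apply_symm_apply]
  rfl

theorem isMonomial_of_isNilpotent :
    ∀ (n : ℕ) (G : Type u) [Group G] [Fintype G] [Group.IsNilpotent G], Nat.card G = n →
      ∀ χ : G → ℂ, IsIrrCharacter G χ →
        ∃ (H : Subgroup G) (lam : H →* ℂˣ), χ = indFun H (fun h => (lam h : ℂ)) := by
  intro n
  induction n using Nat.strong_induction_on with
  | _ n ih =>
    intro G _ _ _ hn χ hχ
    classical
    obtain ⟨m, ρ, hρ, rfl⟩ := id hχ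
    obtain ⟨N, hN, hNmem⟩ := exists_normal_of_scalar ρ
    obtain ⟨hnt, hsub⟩ := isIrreducible_iff.1 hρ
    by_cases hNtop : N = ⊤
    · have h1 : ρ.character 1 = 1 := by
        obtain ⟨v, hv⟩ := exists_ne (0 : Fin m → ℂ)
        rcases hsub (ℂ ∙ v) (fun g w hw => by
          obtain ⟨ω, hω⟩ := (hNmem g).1 (hNtop ▸ Subgroup.mem_top g)
          rw [hω]; exact Submodule.smul_mem _ ω hw) with h | h
        · exact absurd (Submodule.span_singleton_eq_bot.1 h) hv
        · rw [ρ.char_one, ← finrank_top, ← h, finrank_span_singleton hv, Nat.cast_one]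
      obtain ⟨f, hf⟩ := IsChar.exists_hom (IsIrr.isCharacter hχ) h1
      refine ⟨⊤, f.comp (Subgroup.subtype ⊤), ?_⟩
      funext g
      rw [indFun_top _ (isClassFunction_of_isCharacter (isCharacter_hom _))]
      simp [hf]
    -- an element central modulo `N`
    have : Nontrivial (G ⧸ N) := QuotientGroup.nontrivial_iff.2 hNtop
    have := Group.nilpotent_quotient_of_nilpotent N
    have : Nontrivial (Subgroup.center (G ⧸ N)) :=
      (Subgroup.nontrivial_iff_ne_bot _).2 (Group.IsNilpotent.center_ne_bot _)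
    obtain ⟨⟨q, hq⟩, hq1⟩ := exists_ne (1 : Subgroup.center (G ⧸ N))
    obtain ⟨x, rfl⟩ := QuotientGroup.mk_surjective q
    have hxN : x ∉ N := fun h => hq1 (Subtype.ext ((QuotientGroup.eq_one_iff x).2 h))
    set A := (Subgroup.zpowers (x : G ⧸ N)).comap (QuotientGroup.mk' N) with hA
    have hZn : (Subgroup.zpowers (x : G ⧸ N)).Normal := ⟨fun a ha g => by
      have hc : a ∈ Subgroup.center (G ⧸ N) :=
        (Subgroup.zpowers_le.2 hq : Subgroup.zpowers (x : G ⧸ N) ≤ _) ha
      rwa [(Subgroup.mem_center_iff.1 hc g), mul_inv_cancel_right]⟩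
    have hAn : A.Normal := hZn.comap _
    have hform : ∀ a ∈ A, ∃ (i : ℤ) (ω : ℂ), ρ a = ω • ρ (x ^ i) := by
      rintro a ⟨i, hi⟩
      refine ⟨i, ?_⟩
      have hmem : (x ^ i)⁻¹ * a ∈ N := QuotientGroup.eq.1 (by rw [QuotientGroup.mk_zpow]; exact hi)
      obtain ⟨ω, hω⟩ := (hNmem _).1 hmem
      refine ⟨ω, ?_⟩
      calc ρ a = ρ (x ^ i) * ρ ((x ^ i)⁻¹ * a) := by rw [← map_mul, mul_inv_cancel_left]
        _ = ω • ρ (x ^ i) := by rw [hω]; ext v; simp
    have hcomm : ∀ a ∈ A, ∀ b ∈ A, ρ a * ρ b = ρ b * ρ a := by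
      intro a ha b hb
      obtain ⟨i, ω, ha'⟩ := hform a ha
      obtain ⟨j, η, hb'⟩ := hform b hb
      rw [ha', hb', smul_mul_smul_comm, smul_mul_smul_comm, mul_comm ω, ← map_mul, ← map_mul,
        ← zpow_add, ← zpow_add, add_comm i]
    have := Fintype.ofFinite A
    obtain ⟨lam, hlam⟩ := exists_constituent_res (N := A) hχ
    have hkill : ∀ z ∈ commutator A, (lam : A → ℂ) z = (lam : A → ℂ) 1 := by
      intro z hz
      refine IsChar.constituent_kernel (isCharacter_res A (IsIrr.isCharacter hχ)) lam.2 hlam ?_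
      have hle : commutator A ≤ MonoidHom.ker (MonoidHom.toHomUnits (ρ.comp A.subtype)) := by
        rw [commutator_eq_closure, Subgroup.closure_le]
        rintro _ ⟨a, b, rfl⟩
        rw [SetLike.mem_coe, MonoidHom.mem_ker, map_commutatorElement,
          commutatorElement_eq_one_iff_mul_comm]
        exact Units.ext (hcomm a a.2 b b.2)
      have h1 : ρ (z : G) = 1 := congrArg Units.val (MonoidHom.mem_ker.1 (hle hz))
      show ρ.character (z : G) = ρ.character ((1 : A) : G)
      rw [OneMemClass.coe_one]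
      show LinearMap.trace ℂ _ (ρ (z : G)) = LinearMap.trace ℂ _ (ρ 1)
      rw [h1, map_one ρ]
    have hl1 : (lam : A → ℂ) 1 = 1 := by
      obtain ⟨φ, hφ, he⟩ := IsIrr.exists_quotient (commutator A) lam.2 hkill
      rw [he, QuotientGroup.mk_one]
      refine IsIrr.degree_one_of_comm hφ fun a b => ?_
      obtain ⟨a, rfl⟩ := QuotientGroup.mk_surjective a
      obtain ⟨b, rfl⟩ := QuotientGroup.mk_surjective b
      exact mul_comm (Abelianization.of a) (Abelianization.of b)
    have hne : inertia (lam : A → ℂ) ≠ ⊤ := by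
      intro htop
      have horb : orbit (lam : A → ℂ) = {(lam : A → ℂ)} := by
        ext ψ
        simp only [mem_orbit, Finset.mem_singleton]
        exact ⟨fun ⟨g, hg⟩ => hg ▸ (mem_inertia.1 (htop ▸ Subgroup.mem_top g)),
          fun h => ⟨1, by rw [h, conjFun_one]⟩⟩
      have hcl := clifford hχ lam.2 hlam
      rw [horb, Finset.sum_singleton] at hcl
      have hxA : x ∈ A := Subgroup.mem_zpowers (x : G ⧸ N)
      have h1 := congrFun hcl ⟨x, hxA⟩
      have h2 := congrFun hcl 1
      simp only [Pi.smul_apply, smul_eq_mul, OneMemClass.coe_one, hl1, mul_one] at h1 h2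
      refine hxN ((hNmem x).2 ((norm_character_eq_iff ρ x).1 ?_))
      obtain ⟨f, hf⟩ := IsChar.exists_hom (IsIrr.isCharacter lam.2) hl1
      have hnorm : ‖(lam : A → ℂ) ⟨x, hxA⟩‖ = 1 := by
        rw [hf]
        refine Complex.norm_eq_one_of_pow_eq_one (n := Nat.card A) ?_ Nat.card_pos.ne'
        rw [← Units.val_pow_eq_pow_val, ← map_pow, pow_card_eq_one', map_one, Units.val_one]
      rw [h1, norm_mul, hnorm, mul_one, ← h2, ρ.char_one, Complex.norm_natCast]
    obtain ⟨ψ, hψ, hind, -⟩ := clifford_correspondence hχ lam.2 hlam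
    have := Fintype.ofFinite (inertia (lam : A → ℂ))
    have hlt : Nat.card (inertia (lam : A → ℂ)) < n := hn ▸
      lt_of_le_of_ne (Subgroup.card_le_card_group _) fun h => hne (Subgroup.eq_top_of_card_eq _ h)
    obtain ⟨H, f, rfl⟩ := ih _ hlt (inertia (lam : A → ℂ)) rfl ψ hψ
    refine ⟨H.map (inertia (lam : A → ℂ)).subtype, f.comp
      (H.equivMapOfInjective _ (Subgroup.subtype_injective _)).symm.toMonoidHom, ?_⟩
    rw [← hind, indFun_map]
    rfl

theorem exists_monomial [Fintype G] [Group.IsNilpotent G] {χ : G → ℂ} (hχ : IsIrrCharacter G χ) :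
    ∃ (H : Subgroup G) (lam : H →* ℂˣ), χ = indFun H (fun h => (lam h : ℂ)) :=
  isMonomial_of_isNilpotent _ G rfl χ hχ

end Cfsg.Agent.Char
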