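import Cfsg.Agent.Char.QuasiElem
import Cfsg.Agent.Char.Monomial
import Cfsg.Agent.S0873

/-!
# Brauer's induction theorem and characterisation of characters
-/

namespace Cfsg.Agent.Char

open scoped ComplexConjugate

universe u w

variable {G : Type u} [Group G]

theorem IsElementary.of_equiv {p : ℕ} {E : Type u} [Group E] {F : Type w} [Group F] (e : E ≃* F)
    (h : IsElementary p E) : IsElementary p F := by
  obtain ⟨x, hx, hcop, k, hk⟩ := h
  refine ⟨e x, ?_, by rwa [MulEquiv.orderOf_eq], k, ?_⟩
  · rw [Subgroup.mem_center_iff] at hx ⊢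
    intro y
    obtain ⟨z, rfl⟩ := e.surjective y
    rw [← map_mul, ← map_mul, hx z]
  · rw [← MulEquiv.coe_toMonoidHom, ← MonoidHom.map_zpowers, ← hk]
    exact Subgroup.index_map_of_bijective e.bijective _

theorem IsElementary.subgroup [Finite G] {p : ℕ} (hp : p.Prime) (h : IsElementary p G)
    (U : Subgroup G) : IsElementary p U := by
  obtain ⟨x, hx, hcop, k, hk⟩ := h
  have hcyc : IsCyclic ((Subgroup.zpowers x).subgroupOf U) :=
    isCyclic_of_injective
      (({ toFun := fun u => ⟨((u : U) : G), u.2⟩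
          map_one' := rfl
          map_mul' := fun _ _ => rfl } : ((Subgroup.zpowers x).subgroupOf U) →* Subgroup.zpowers x))
      fun a b h => Subtype.ext (Subtype.ext (congrArg (fun z : Subgroup.zpowers x => (z : G)) h))
  obtain ⟨⟨y, hy⟩, hy'⟩ := hcyc.exists_generator
  have hZ : Subgroup.zpowers y = (Subgroup.zpowers x).subgroupOf U := by
    refine le_antisymm (Subgroup.zpowers_le.2 hy) fun z hz => ?_
    obtain ⟨i, hi⟩ := hy' ⟨z, hz⟩
    exact ⟨i, congrArg Subtype.val hi⟩
  refine ⟨y, ?_, ?_, ?_⟩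
  · rw [Subgroup.mem_center_iff]
    intro z
    have hyc : (y : G) ∈ Subgroup.center G :=
      (Subgroup.zpowers_le.2 hx : Subgroup.zpowers x ≤ Subgroup.center G)
        (Subgroup.mem_subgroupOf.1 hy)
    exact Subtype.ext (Subgroup.mem_center_iff.1 hyc z)
  · refine hcop.of_dvd_left ?_
    rw [← orderOf_injective U.subtype U.subtype_injective y, ← Nat.card_zpowers x]
    exact Subgroup.orderOf_dvd_natCard _ (Subgroup.mem_subgroupOf.1 hy)
  · rw [hZ]
    have : (Subgroup.zpowers x).Normal := ⟨fun a ha g => by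
      have hc : a ∈ Subgroup.center G :=
        (Subgroup.zpowers_le.2 hx : Subgroup.zpowers x ≤ _) ha
      rwa [(Subgroup.mem_center_iff.1 hc g), mul_inv_cancel_right]⟩
    have hd : ((Subgroup.zpowers x).subgroupOf U).index ∣ p ^ k := by
      have hk' : (Subgroup.zpowers x).subgroupOf U =
          ((QuotientGroup.mk' (Subgroup.zpowers x)).comp U.subtype).ker := by
        ext u; simp [Subgroup.mem_subgroupOf, QuotientGroup.eq_one_iff, MonoidHom.mem_ker]
      rw [hk', Subgroup.index_ker, ← hk, Subgroup.index_eq_card]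
      exact Subgroup.card_subgroup_dvd_card _
    obtain ⟨i, -, hi⟩ := (Nat.dvd_prime_pow hp).1 hd
    exact ⟨i, hi⟩

theorem IsElementary.isNilpotent [Finite G] {p : ℕ} (hp : p.Prime) (h : IsElementary p G) :
    Group.IsNilpotent G := by
  obtain ⟨x, hx, -, k, hk⟩ := h
  have : (Subgroup.zpowers x).Normal := ⟨fun a ha g => by
    have hc : a ∈ Subgroup.center G :=
      (Subgroup.zpowers_le.2 hx : Subgroup.zpowers x ≤ _) ha
    rwa [(Subgroup.mem_center_iff.1 hc g), mul_inv_cancel_right]⟩
  have := Fact.mk hp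
  have : IsPGroup p (G ⧸ Subgroup.zpowers x) :=
    IsPGroup.of_card (by rwa [← Subgroup.index_eq_card])
  have := this.isNilpotent
  exact Subgroup.isNilpotent_of_ker_le_center (QuotientGroup.mk' (Subgroup.zpowers x))
    (by rw [QuotientGroup.ker_mk']; exact Subgroup.zpowers_le.2 hx)

/-- Integer combinations of characters induced from `p`-elementary subgroups. -/
def elemSpan [Fintype G] (p : ℕ) : AddSubgroup (G → ℂ) :=
  AddSubgroup.closure
    {f | ∃ (E : Subgroup G) (ψ : E → ℂ), IsElementary p E ∧ IsCharacter E ψ ∧ f = indFun E ψ}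

theorem isGeneralized_of_mem_elemSpan [Fintype G] {p : ℕ} {f : G → ℂ}
    (hf : f ∈ elemSpan p) : IsGeneralizedCharacter G f := by
  induction hf using AddSubgroup.closure_induction with
  | mem f hf =>
    obtain ⟨E, ψ, -, hψ, rfl⟩ := hf
    exact isGeneralized_of_isCharacter (isCharacter_indFun E hψ)
  | zero => exact isGeneralized_zero
  | add a b _ _ ha hb => exact isGeneralized_add ha hb
  | neg a _ ha => exact isGeneralized_neg ha

theorem mul_mem_elemSpan [Fintype G] {p : ℕ} {f χ : G → ℂ} (hf : f ∈ elemSpan p)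
    (hχ : IsCharacter G χ) : f * χ ∈ elemSpan p := by
  induction hf using AddSubgroup.closure_induction with
  | mem f hf =>
    obtain ⟨E, ψ, hE, hψ, rfl⟩ := hf
    refine AddSubgroup.subset_closure ⟨E, ψ * (fun e : E => χ e), hE,
      isCharacter_mul hψ (isCharacter_res E hχ),
      (indFun_mul_res E ψ (isClassFunction_of_isCharacter hχ)).symm⟩
  | zero => rw [zero_mul]; exact zero_mem _
  | add a b _ _ ha hb => rw [add_mul]; exact add_mem ha hb
  | neg a _ ha => rw [neg_mul]; exact neg_mem ha

theorem indFun_mem_elemSpan [Fintype G] {p : ℕ} (T : Subgroup G) [Fintype T] {f : T → ℂ}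
    (hf : f ∈ elemSpan p) : indFun T f ∈ elemSpan p := by
  induction hf using AddSubgroup.closure_induction with
  | mem f hf =>
    obtain ⟨E, ψ, hE, hψ, rfl⟩ := hf
    rw [indFun_map]
    exact AddSubgroup.subset_closure ⟨_, _,
      IsElementary.of_equiv (E.equivMapOfInjective _ T.subtype_injective) hE,
      isCharacter_comp (E.equivMapOfInjective T.subtype T.subtype_injective).symm.toMonoidHom hψ,
      rfl⟩
  | zero => rw [indFun_zero]; exact zero_mem _
  | add a b _ _ ha hb => rw [indFun_add]; exact add_mem ha hb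
  | neg a _ ha => rw [indFun_neg]; exact neg_mem ha

/-- The trivial character of a quasi-elementary group comes from elementary subgroups. -/
theorem one_mem_elemSpan_quasi (p : ℕ) (hp : p.Prime) :
    ∀ (n : ℕ) (H : Type u) [Group H] [Fintype H], Nat.card H = n →
      (∃ C : Subgroup H, C.Normal ∧ IsCyclic C ∧ Nat.Coprime (Nat.card C) p ∧
        ∃ k : ℕ, C.index = p ^ k) → (fun _ : H => (1 : ℂ)) ∈ elemSpan p := by
  intro n
  induction n using Nat.strong_induction_on with
  | _ n ih =>
    intro H _ _ hn ⟨C, hCn, hcyc, hcop, k, hk⟩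
    classical
    have := Fact.mk hp
    obtain ⟨P⟩ : Nonempty (Sylow p H) := inferInstance
    have hCP : C ⊔ (P : Subgroup H) = ⊤ := by
      refine Subgroup.index_eq_one.1 (Nat.eq_one_of_dvd_coprimes (?_ : Nat.Coprime (p ^ k)
        (P : Subgroup H).index) (hk ▸ Subgroup.index_dvd_of_le le_sup_left)
        (Subgroup.index_dvd_of_le le_sup_right))
      exact ((hp.coprime_iff_not_dvd.2 P.not_dvd_index).pow_left k)
    set C' := C ⊓ Subgroup.centralizer ((P : Subgroup H) : Set H) with hC'
    have hCcomm : ∀ a ∈ C, ∀ b ∈ C, a * b = b * a := fun a ha b hb =>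
      congrArg Subtype.val ((IsCyclic.commGroup (α := C)).mul_comm ⟨a, ha⟩ ⟨b, hb⟩)
    have hcent : C' ≤ Subgroup.center H := by
      intro c hc
      rw [Subgroup.mem_center_iff]
      intro g
      obtain ⟨a, ha, b, hb, rfl⟩ : ∃ a ∈ C, ∃ b ∈ (P : Subgroup H), a * b = g := by
        have hg : g ∈ ((C ⊔ (P : Subgroup H) : Subgroup H) : Set H) := by rw [hCP]; trivial
        rw [Subgroup.normal_mul] at hg
        exact hg
      rw [mul_assoc, Subgroup.mem_centralizer_iff.1 hc.2 b hb, ← mul_assoc, hCcomm a ha c hc.1,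
        mul_assoc]
    have hC'n : C'.Normal := ⟨fun c hc g => by
      rwa [(Subgroup.mem_center_iff.1 (hcent hc) g), mul_inv_cancel_right]⟩
    set E := C' ⊔ (P : Subgroup H) with hE
    have hEelem : IsElementary p E := by
      have hc'cyc : IsCyclic C' := isCyclic_of_injective
        (Subgroup.inclusion (inf_le_left : C' ≤ C)) (Subgroup.inclusion_injective _)
      obtain ⟨⟨y, hy⟩, hy'⟩ := hc'cyc.exists_generator
      refine ⟨⟨y, Subgroup.mem_sup_left hy⟩, Subgroup.mem_center_iff.2 fun z => Subtype.ext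
        (Subgroup.mem_center_iff.1 (hcent hy) z), ?_, ?_⟩
      · rw [← orderOf_injective E.subtype E.subtype_injective]
        exact hcop.of_dvd_left (Subgroup.orderOf_dvd_natCard _ hy.1)
      · have hZ : Subgroup.zpowers (⟨y, Subgroup.mem_sup_left hy⟩ : E) = C'.subgroupOf E := by
          refine le_antisymm (Subgroup.zpowers_le.2 (Subgroup.mem_subgroupOf.2 hy)) fun z hz => ?_
          obtain ⟨i, hi⟩ := hy' ⟨z, Subgroup.mem_subgroupOf.1 hz⟩
          refine ⟨i, Subtype.ext ?_⟩
          simpa using congrArg (fun w : C' => (w : H)) hi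
        rw [hZ]
        obtain ⟨j, hj⟩ := P.2.exists_card_eq
        have hd : (C'.subgroupOf E).index ∣ p ^ j := by
          rw [← Subgroup.relIndex, hE, Subgroup.relIndex_sup_left, ← hj]
          exact Subgroup.relIndex_dvd_card _ _
        obtain ⟨i, -, hi⟩ := (Nat.dvd_prime_pow hp).1 hd
        exact ⟨i, hi⟩
    have := Fintype.ofFinite C
    have := Fintype.ofFinite E
    have hindE : indFun E (fun _ => (1 : ℂ)) ∈ elemSpan p :=
      AddSubgroup.subset_closure ⟨E, _, hEelem, isCharacter_one, rfl⟩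
    have hπ := isCharacter_indFun E (isCharacter_one (G := E))
    have hc1 : classInner (indFun E (fun _ => (1 : ℂ))) (fun _ => 1) = 1 := by
      rw [classInner_indFun_left E _ (isClassFunction_of_isIrr isIrrCharacter_one),
        classInner_irr_self isIrrCharacter_one]
    have hψ := IsChar.sub_constituent hπ isIrrCharacter_one (by rw [hc1]; exact one_ne_zero)
    set ψ : H → ℂ := indFun E (fun _ => (1 : ℂ)) - fun _ => 1 with hψd
    suffices hmem : ψ ∈ elemSpan p by
      have e : (fun _ : H => (1 : ℂ)) = indFun E (fun _ => (1 : ℂ)) - ψ := by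
        funext g; simp [hψd]
      rw [e]
      exact sub_mem hindE hmem
    obtain ⟨m, hm, he, -⟩ := IsChar.exists_mult hψ
    rw [he]
    refine sum_mem fun φ _ => ?_
    by_cases hm0 : m φ = 0
    · simp [hm0]
    rw [Nat.cast_smul_eq_nsmul]
    refine nsmul_mem ?_ _
    have hcφ : classInner ψ (φ : H → ℂ) ≠ 0 := by rw [hm]; exact_mod_cast hm0
    have hφ1 : (φ : H → ℂ) ≠ fun _ => 1 := fun e => hcφ (by
      rw [e, hψd, classInner_sub_left, hc1, classInner_irr_self isIrrCharacter_one, sub_self])
    have hEπ : classInner (fun e : E => (φ : H → ℂ) e) (fun _ => 1) ≠ 0 := by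
      intro h0
      apply hcφ
      rw [hψd, classInner_sub_left, classInner_irr_ne isIrrCharacter_one φ.2 (Ne.symm hφ1),
        sub_zero, classInner_indFun_left E _ (isClassFunction_of_isIrr φ.2), ← classInner_conj_symm,
        h0, map_zero]
    have hφC' : ∀ c ∈ C', (φ : H → ℂ) c = (φ : H → ℂ) 1 := by
      intro c hc
      refine IsChar.constituent_kernel hψ φ.2 hcφ ?_
      have hcn : ∀ x : H, x⁻¹ * c * x = x⁻¹ * 1 * x * c := fun x => by
        rw [mul_assoc x⁻¹ c x, ← Subgroup.mem_center_iff.1 (hcent hc) x, ← mul_assoc]; group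
      simp only [hψd, Pi.sub_apply, indFun_apply]
      congr 2
      refine Finset.sum_congr rfl fun x _ => ?_
      rw [hcn]
      have h1 : x⁻¹ * 1 * x = 1 := by group
      rw [h1, one_mul, extendByZero_of_mem E _ (Subgroup.mem_sup_left hc),
        extendByZero_of_mem E _ E.one_mem]
    obtain ⟨lam, hlam⟩ := exists_constituent_res (N := C) φ.2
    have hl1 : (lam : C → ℂ) 1 = 1 :=
      IsIrr.degree_one_of_comm lam.2 fun a b => Subtype.ext (hCcomm a a.2 b b.2)
    have hlne : (lam : C → ℂ) ≠ fun _ => 1 := by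
      intro hl
      have hcl := clifford φ.2 lam.2 hlam
      have horb : orbit (lam : C → ℂ) = {(lam : C → ℂ)} := by
        ext η
        simp only [mem_orbit, Finset.mem_singleton]
        exact ⟨fun ⟨g, hg⟩ => by rw [← hg, hl]; rfl, fun h => ⟨1, by rw [h, conjFun_one]⟩⟩
      rw [horb, Finset.sum_singleton, hl] at hcl
      have hker : ∀ c ∈ C, (φ : H → ℂ) c = (φ : H → ℂ) 1 := fun c hc =>
        (congrFun hcl ⟨c, hc⟩).trans (congrFun hcl 1).symm
      obtain ⟨φb, hφb, hφe⟩ := IsIrr.exists_quotient C φ.2 hker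
      have hsurj : Function.Surjective ((QuotientGroup.mk' C).comp E.subtype) := by
        intro q
        obtain ⟨g, rfl⟩ := QuotientGroup.mk_surjective q
        obtain ⟨a, ha, b, hb, rfl⟩ : ∃ a ∈ C, ∃ b ∈ (P : Subgroup H), a * b = g := by
          have hg : g ∈ ((C ⊔ (P : Subgroup H) : Subgroup H) : Set H) := by rw [hCP]; trivial
          rw [Subgroup.normal_mul] at hg
          exact hg
        refine ⟨⟨b, Subgroup.mem_sup_right hb⟩, QuotientGroup.eq.2 ?_⟩
        simpa [mul_assoc] using hCn.conj_mem a ha b⁻¹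
      have hirr : IsIrrCharacter E (fun e : E => (φ : H → ℂ) e) := by
        have h1 := isIrrCharacter_comp ((QuotientGroup.mk' C).comp E.subtype) hsurj hφb
        have h2 : (fun e : E => φb (((QuotientGroup.mk' C).comp E.subtype) e)) =
            fun e : E => (φ : H → ℂ) e := funext fun e => (hφe e).symm
        exact h2 ▸ h1
      have hone : (fun e : E => (φ : H → ℂ) e) = fun _ => 1 := by
        by_contra hne
        exact hEπ (classInner_irr_ne hirr isIrrCharacter_one hne)
      refine hφ1 (funext fun g => ?_)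
      obtain ⟨e, he'⟩ := hsurj (QuotientGroup.mk g)
      rw [hφe g, ← he']
      exact (hφe e).symm.trans (congrFun hone e)
    have hlC' : ∀ c : C, (c : H) ∈ Subgroup.centralizer ((P : Subgroup H) : Set H) →
        (lam : C → ℂ) c = 1 := by
      intro c hc
      rw [← hl1]
      refine IsChar.constituent_kernel (isCharacter_res C (IsIrr.isCharacter φ.2)) lam.2 hlam ?_
      exact hφC' c ⟨c.2, hc⟩
    have hT : inertia (lam : C → ℂ) ≠ ⊤ := by
      intro htop
      refine hlne (Cfsg.Agent.S0873.result p C (P : Subgroup H) P.2 hcop hCP (lam : C → ℂ)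
        ⟨IsIrr.isCharacter lam.2, hl1⟩ (fun g c => ?_) hlC')
      exact congrFun (mem_inertia.1 (htop ▸ Subgroup.mem_top g)) c
    obtain ⟨φ', hφ', hind, -⟩ := clifford_correspondence φ.2 lam.2 hlam
    have := Fintype.ofFinite (inertia (lam : C → ℂ))
    rw [← hind]
    refine indFun_mem_elemSpan _ ?_
    have hone : (fun _ : inertia (lam : C → ℂ) => (1 : ℂ)) ∈ elemSpan p := by
      refine ih _ (hn ▸ lt_of_le_of_ne (Subgroup.card_le_card_group _)
        fun h => hT (Subgroup.eq_top_of_card_eq _ h)) _ rfl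
        ⟨C.subgroupOf _, inferInstance, ?_, ?_, ?_⟩
      · exact isCyclic_of_surjective
          (Subgroup.subgroupOfEquivOfLe (le_inertia (isClassFunction_of_isIrr lam.2))).symm
          (MulEquiv.surjective _)
      · rwa [Nat.card_congr
          (Subgroup.subgroupOfEquivOfLe (le_inertia (isClassFunction_of_isIrr lam.2))).toEquiv]
      · obtain ⟨i, -, hi⟩ := (Nat.dvd_prime_pow hp).1
          (hk ▸ Subgroup.relIndex_dvd_index_of_normal C (inertia (lam : C → ℂ)))
        exact ⟨i, hi⟩
    have e : φ' = (fun _ => (1 : ℂ)) * φ' := by funext g; simp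
    rw [e]
    exact mul_mem_elemSpan hone (IsIrr.isCharacter hφ')

/-- A constant prime to `p` is a combination of characters induced from `p`-elementary
subgroups. -/
theorem exists_const_mem_elemSpan [Fintype G] (p : ℕ) (hp : p.Prime) :
    ∃ m : ℤ, ¬ (p : ℤ) ∣ m ∧ (fun _ : G => (m : ℂ)) ∈ elemSpan p := by
  classical
  obtain ⟨m, a, hm, ha, he⟩ := solomon (G := G) p hp
  refine ⟨m, hm, he ▸ sum_mem fun H _ => ?_⟩
  by_cases h0 : a H = 0
  · simp [h0]
  rw [Int.cast_smul_eq_zsmul]
  refine zsmul_mem (indFun_mem_elemSpan H (one_mem_elemSpan_quasi p hp _ H rfl ?_)) _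
  obtain ⟨C, hCH, hN, hcyc, hcop, k, hk⟩ := ha H h0
  exact ⟨C.subgroupOf H, Subgroup.normal_subgroupOf_of_le_normalizer hN,
    isCyclic_of_surjective (Subgroup.subgroupOfEquivOfLe hCH).symm (MulEquiv.surjective _),
    by rwa [Nat.card_congr (Subgroup.subgroupOfEquivOfLe hCH).toEquiv], k, hk⟩

/-- Integer combinations of linear characters of elementary subgroups, induced. -/
def monoSpan [Fintype G] : AddSubgroup (G → ℂ) :=
  AddSubgroup.closure {f | ∃ (E : Subgroup G) (lam : E →* ℂˣ),
    (∃ p : ℕ, p.Prime ∧ IsElementary p E) ∧ f = indFun E (fun e => (lam e : ℂ))}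

theorem elemSpan_le_monoSpan [Fintype G] (p : ℕ) (hp : p.Prime) :
    elemSpan (G := G) p ≤ monoSpan := by
  rw [elemSpan, AddSubgroup.closure_le]
  rintro _ ⟨E, ψ, hE, hψ, rfl⟩
  classical
  have := Fintype.ofFinite E
  have := IsElementary.isNilpotent hp hE
  obtain ⟨m, -, he, -⟩ := IsChar.exists_mult hψ
  rw [he, SetLike.mem_coe, indFun_sum]
  refine sum_mem fun η _ => ?_
  rw [indFun_smul, Nat.cast_smul_eq_nsmul]
  refine nsmul_mem (AddSubgroup.subset_closure ?_) _
  obtain ⟨F, lam, hη⟩ := exists_monomial η.2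
  refine ⟨F.map E.subtype, lam.comp
    (F.equivMapOfInjective _ E.subtype_injective).symm.toMonoidHom, ⟨p, hp,
      IsElementary.of_equiv (F.equivMapOfInjective _ E.subtype_injective)
        (IsElementary.subgroup hp hE F)⟩, ?_⟩
  rw [hη, indFun_map]
  rfl

/-- The constant `1` is a combination of monomial characters from elementary subgroups. -/
theorem one_mem_monoSpan [Fintype G] : (fun _ : G => (1 : ℂ)) ∈ monoSpan := by
  let M : AddSubgroup ℤ :=
    { carrier := {m | (fun _ : G => (m : ℂ)) ∈ monoSpan}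
      zero_mem' := by
        show (fun _ : G => ((0 : ℤ) : ℂ)) ∈ monoSpan
        rw [Int.cast_zero]; exact zero_mem monoSpan
      add_mem' := fun {a b} ha hb => by
        show (fun _ : G => ((a + b : ℤ) : ℂ)) ∈ monoSpan
        have h := add_mem (show (fun _ : G => (a : ℂ)) ∈ monoSpan from ha)
          (show (fun _ : G => (b : ℂ)) ∈ monoSpan from hb)
        simpa [Pi.add_def] using h
      neg_mem' := fun {a} ha => by
        show (fun _ : G => ((-a : ℤ) : ℂ)) ∈ monoSpan
        have h := neg_mem (show (fun _ : G => (a : ℂ)) ∈ monoSpan from ha)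
        simpa [Pi.neg_def] using h }
  obtain ⟨n, hn⟩ := Int.subgroup_cyclic M
  have hdvd : ∀ a ∈ M, n ∣ a := fun a ha => by
    rw [hn, ← AddSubgroup.zmultiples_eq_closure] at ha
    exact Int.mem_zmultiples_iff.1 ha
  have hn1 : n.natAbs = 1 := by
    by_contra hne
    obtain ⟨q, hq, hqn⟩ := Nat.exists_prime_and_dvd hne
    obtain ⟨m, hm, hmem⟩ := exists_const_mem_elemSpan (G := G) q hq
    exact hm ((Int.natCast_dvd.2 hqn).trans (hdvd m (elemSpan_le_monoSpan q hq hmem)))
  have h1 : (1 : ℤ) ∈ M := by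
    rw [hn, ← AddSubgroup.zmultiples_eq_closure, Int.mem_zmultiples_iff]
    exact Int.natAbs_dvd.1 (by rw [hn1]; exact one_dvd _)
  simpa using (show (fun _ : G => ((1 : ℤ) : ℂ)) ∈ monoSpan from h1)

/-- **Brauer's induction theorem**. -/
theorem brauer_induction [Fintype G] {χ : G → ℂ} (hχ : IsCharacter G χ) : χ ∈ monoSpan := by
  classical
  suffices H : ∀ f ∈ monoSpan (G := G), f * χ ∈ monoSpan by
    have h := H _ one_mem_monoSpan
    have e : χ = (fun _ : G => (1 : ℂ)) * χ := by funext g; simp
    exact e ▸ h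
  intro f hf
  induction hf using AddSubgroup.closure_induction with
  | mem f hf =>
    obtain ⟨E, lam, ⟨p, hp, hE⟩, rfl⟩ := hf
    refine elemSpan_le_monoSpan p hp (AddSubgroup.subset_closure ⟨E, _, hE,
      isCharacter_mul (isCharacter_hom lam) (isCharacter_res E hχ),
      (indFun_mul_res E _ (isClassFunction_of_isCharacter hχ)).symm⟩)
  | zero => rw [zero_mul]; exact zero_mem _
  | add a b _ _ ha hb => rw [add_mul]; exact add_mem ha hb
  | neg a _ ha => rw [neg_mul]; exact neg_mem ha

/-- **Brauer's characterisation of characters**. -/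
theorem isGeneralized_of_elementary [Finite G] {θ : G → ℂ} (hθ : IsClassFunction G θ)
    (hE : ∀ (E : Subgroup G) (p : ℕ), p.Prime → IsElementary p E →
      IsGeneralizedCharacter E (fun e : E => θ e)) : IsGeneralizedCharacter G θ := by
  classical
  have := Fintype.ofFinite G
  suffices H : ∀ f ∈ monoSpan (G := G), IsGeneralizedCharacter G (f * θ) by
    have h := H _ one_mem_monoSpan
    have e : θ = (fun _ : G => (1 : ℂ)) * θ := by funext g; simp
    exact e ▸ h
  intro f hf
  induction hf using AddSubgroup.closure_induction with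
  | mem f hf =>
    obtain ⟨E, lam, ⟨p, hp, hEp⟩, rfl⟩ := hf
    rw [← indFun_mul_res E _ hθ]
    exact isGeneralized_indFun E
      (isGeneralized_mul (isGeneralized_of_isCharacter (isCharacter_hom lam)) (hE E p hp hEp))
  | zero => rw [zero_mul]; exact isGeneralized_zero
  | add a b _ _ ha hb => rw [add_mul]; exact isGeneralized_add ha hb
  | neg a _ ha => rw [neg_mul]; exact isGeneralized_neg ha

/-- An element of the closure of a set of images is the sum of a list of signed images. -/
theorem exists_list_of_mem_closure {ι : Type*} {M : Type*} [AddCommGroup M] [Module ℂ M]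
    (F : ι → M) (P : ι → Prop) {S : Set M} (hS : ∀ x ∈ S, ∃ i, P i ∧ x = F i) {x : M}
    (hx : x ∈ AddSubgroup.closure S) :
    ∃ l : List (ι × ℤ), (∀ t ∈ l, P t.1) ∧
      x = (l.map fun t => (t.2 : ℂ) • F t.1).sum := by
  induction hx using AddSubgroup.closure_induction with
  | mem y hy =>
    obtain ⟨i, hi, rfl⟩ := hS y hy
    exact ⟨[(i, 1)], by simpa using hi, by simp⟩
  | zero => exact ⟨[], by simp, by simp⟩
  | add a b _ _ ha hb =>
    obtain ⟨l, hl, rfl⟩ := ha
    obtain ⟨l', hl', rfl⟩ := hb
    exact ⟨l ++ l', fun t ht => (List.mem_append.1 ht).elim (hl t) (hl' t), by simp⟩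
  | neg a _ ha =>
    obtain ⟨l, hl, rfl⟩ := ha
    refine ⟨l.map fun t => (t.1, -t.2), fun t ht => ?_, ?_⟩
    · obtain ⟨s, hs, rfl⟩ := List.mem_map.1 ht
      exact hl s hs
    · have key : ∀ l : List (ι × ℤ), -(l.map fun t => (t.2 : ℂ) • F t.1).sum =
          ((l.map fun t => (t.1, -t.2)).map fun t => (t.2 : ℂ) • F t.1).sum := by
        intro l
        induction l with
        | nil => simp
        | cons t l ih => simp only [List.map_cons, List.sum_cons, ← ih, Int.cast_neg, neg_smul, neg_add]
      exact key l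

end Cfsg.Agent.Char
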