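import Cfsg.Agent.Char.Zero

/-!
# Gallagher's lemmas on extensions
-/

namespace Cfsg.Agent.Char

open scoped ComplexConjugate

universe u

variable {G : Type u} [Group G] [Fintype G] (N : Subgroup G) [N.Normal] [Fintype N]
variable {χ : G → ℂ}

/-- If the restriction of `χ` to `N` is irreducible, the average of `|χ|²` on each coset is one. -/
theorem avg_normSq_eq_one (hχ : IsIrrCharacter G χ) (hN : IsIrrCharacter N (fun n : N => χ n))
    (g : G) : (Nat.card N : ℂ)⁻¹ * ∑ n : N, χ ((n : G) * g) * conj (χ ((n : G) * g)) = 1 := by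
  have hη := isCharacter_avg N
    (isCharacter_mul (IsIrr.isCharacter hχ) (isCharacter_conj (IsIrr.isCharacter hχ)))
  set η : G → ℂ := fun g =>
    (Nat.card N : ℂ)⁻¹ * ∑ n : N, (χ * fun x => conj (χ x)) ((n : G) * g) with hηd
  have h1 : η 1 = 1 := by
    have := classInner_irr_self hN
    simpa [hηd, classInner] using this
  have hsum : classInner η (fun _ => 1) = 1 := by
    have h : ∀ n : N, ∑ x, (χ * fun x => conj (χ x)) ((n : G) * x) = (Nat.card G : ℂ) := fun n => by
      rw [Fintype.sum_equiv (Equiv.mulLeft (n : G))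
        (fun x => (χ * fun x => conj (χ x)) ((n : G) * x)) (χ * fun x => conj (χ x)) fun x => rfl]
      have h1 := classInner_irr_self hχ
      rw [classInner, inv_mul_eq_one₀ card_ne_zero] at h1
      exact h1.symm
    simp only [hηd, classInner, map_one, mul_one, ← Finset.mul_sum]
    rw [Finset.sum_comm, Finset.sum_congr rfl fun n _ => h n, Finset.sum_const, Finset.card_univ,
      nsmul_eq_mul, ← Nat.card_eq_fintype_card (α := N)]
    have := card_ne_zero (G := G)
    have := card_ne_zero (G := N)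
    field_simp
  have hsub := IsChar.sub_constituent hη isIrrCharacter_one (by rw [hsum]; exact one_ne_zero)
  have h0 : η - (fun _ => (1 : ℂ)) = 0 := (IsChar.eq_zero_iff hsub).2 (by simp [h1])
  have h2 := congrFun h0 g
  simpa [hηd, sub_eq_zero] using h2

/-- Gallagher: with irreducible restriction, products with characters of the quotient are
irreducible. -/
theorem isIrr_mul_of_res_irr (hχ : IsIrrCharacter G χ) (hN : IsIrrCharacter N (fun n : N => χ n))
    {β : G → ℂ} (hβ : IsIrrCharacter G β) (hβN : ∀ n ∈ N, β n = β 1) :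
    IsIrrCharacter G (β * χ) := by
  rw [isIrr_iff_norm_one (isCharacter_mul (IsIrr.isCharacter hβ) (IsIrr.isCharacter hχ))]
  have hconst : ∀ (n : N) g, β ((n : G) * g) = β g := fun n g =>
    IsChar.mul_left_of_mem_kernel (IsIrr.isCharacter hβ) (hβN n n.2) g
  have key : ∀ F : G → ℂ, ∑ n : N, ∑ g, F ((n : G) * g) = (Nat.card N : ℂ) * ∑ g, F g := by
    intro F
    have h : ∀ n : N, ∑ g, F ((n : G) * g) = ∑ g, F g := fun n =>
      Fintype.sum_equiv (Equiv.mulLeft (n : G)) _ _ fun g => rfl
    rw [Finset.sum_congr rfl fun n _ => h n, Finset.sum_const, Finset.card_univ, nsmul_eq_mul,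
      ← Nat.card_eq_fintype_card]
  have hNne : (Nat.card N : ℂ) ≠ 0 := card_ne_zero
  have h1 := key fun g => (β * χ) g * conj ((β * χ) g)
  rw [Finset.sum_comm] at h1
  have h2 : ∀ g, ∑ n : N, (β * χ) ((n : G) * g) * conj ((β * χ) ((n : G) * g)) =
      (Nat.card N : ℂ) * (β g * conj (β g)) := by
    intro g
    have h3 := avg_normSq_eq_one N hχ hN g
    rw [inv_mul_eq_iff_eq_mul₀ hNne, mul_one] at h3
    rw [← h3, Finset.sum_mul]
    refine Finset.sum_congr rfl fun n _ => ?_
    simp only [Pi.mul_apply, map_mul, hconst]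
    ring
  rw [Finset.sum_congr rfl fun g _ => h2 g, ← Finset.mul_sum] at h1
  rw [← classInner_irr_self hβ]
  simp only [classInner]
  rw [mul_left_cancel₀ hNne h1]

/-- The average of `ψ χ̄` over cosets of `N`. -/
noncomputable def galEta (χ ψ : G → ℂ) : G → ℂ :=
  fun g => (Nat.card N : ℂ)⁻¹ * ∑ n : N, ψ ((n : G) * g) * conj (χ ((n : G) * g))

/-- Gallagher: an irreducible character over the restriction is a product with an inflated one. -/
theorem gallagher (hχ : IsIrrCharacter G χ) (hN : IsIrrCharacter N (fun n : N => χ n))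
    {ψ : G → ℂ} (hψ : IsIrrCharacter G ψ) :
    (classInner (fun n : N => ψ n) (fun n : N => χ n) ≠ 0 →
      IsIrrCharacter G (galEta N χ ψ) ∧ (∀ n ∈ N, galEta N χ ψ n = galEta N χ ψ 1) ∧
        ψ = galEta N χ ψ * χ) ∧
    (classInner (fun n : N => ψ n) (fun n : N => χ n) = 0 → galEta N χ ψ = 0) := by
  have hη : IsCharacter G (galEta N χ ψ) := isCharacter_avg N
    (isCharacter_mul (IsIrr.isCharacter hψ) (isCharacter_conj (IsIrr.isCharacter hχ)))
  have hη1 : galEta N χ ψ 1 = classInner (fun n : N => ψ n) (fun n : N => χ n) := by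
    simp [galEta, classInner]
  have hker : ∀ n ∈ N, galEta N χ ψ n = galEta N χ ψ 1 := fun n hn => by
    simp only [galEta, mul_one]
    congr 1
    exact Fintype.sum_equiv (Equiv.mulRight (⟨n, hn⟩ : N)) _ _ fun a => rfl
  refine ⟨fun hne => ?_, fun h0 => (IsChar.eq_zero_iff hη).2 (hη1.trans h0)⟩
  obtain ⟨β, hβ⟩ := IsChar.exists_constituent hη fun h => hne (by rw [← hη1, h]; rfl)
  have hβN : ∀ n ∈ N, (β : G → ℂ) n = (β : G → ℂ) 1 := fun n hn =>
    IsChar.constituent_kernel hη β.2 hβ (hker n hn)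
  have hconst : ∀ (n : N) g, (β : G → ℂ) ((n : G) * g) = (β : G → ℂ) g := fun n g =>
    IsChar.mul_left_of_mem_kernel (IsIrr.isCharacter β.2) (hβN n n.2) g
  have hprod : ψ = (β : G → ℂ) * χ := by
    by_contra hne'
    have h0 := classInner_irr_ne hψ (isIrr_mul_of_res_irr N hχ hN β.2 hβN) hne'
    apply hβ
    simp only [classInner, mul_eq_zero, inv_eq_zero, card_ne_zero, false_or] at h0 ⊢
    simp only [galEta, Finset.mul_sum, Finset.sum_mul]
    rw [Finset.sum_comm]
    refine Finset.sum_eq_zero fun n _ => ?_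
    rw [← mul_eq_zero_of_right ((Nat.card N : ℂ)⁻¹) h0, Finset.mul_sum]
    refine Fintype.sum_equiv (Equiv.mulLeft (n : G)) _ _ fun g => ?_
    simp only [Equiv.coe_mulLeft, Pi.mul_apply, map_mul, hconst]
    ring
  have hηβ : galEta N χ ψ = β := by
    funext g
    have h3 := avg_normSq_eq_one N hχ hN g
    simp only [galEta, hprod, Pi.mul_apply, hconst, mul_assoc, ← Finset.mul_sum]
    rw [mul_left_comm, h3, mul_one]
  rw [hηβ]
  exact ⟨β.2, hβN, hprod⟩

end Cfsg.Agent.Char
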