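import Cfsg.Prelude.Def_Characters
import Mathlib.LinearAlgebra.Eigenspace.Semisimple
import Mathlib.LinearAlgebra.Eigenspace.Triangularizable
import Mathlib.LinearAlgebra.Trace
import Mathlib.FieldTheory.Separable
import Mathlib.Analysis.Complex.Polynomial.Basic
import Mathlib.RepresentationTheory.Maschke

/-!
# Ordinary characters: basic facts

Eigenvalues of group elements, character values, closure properties of `Cfsg.IsCharacter`,
linearity of `Cfsg.classInner`.
-/

namespace Cfsg.Agent.Char

open scoped ComplexConjugate TensorProduct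
open Module

universe u v w

/-- Transport of a representation along a linear equivalence. -/
noncomputable def transport {G : Type u} [Monoid G] {V : Type v} {W : Type w}
    [AddCommGroup V] [Module ℂ V] [AddCommGroup W] [Module ℂ W]
    (e : V ≃ₗ[ℂ] W) (ρ : Representation ℂ G V) : Representation ℂ G W where
  toFun g := e.conj (ρ g)
  map_one' := by simp [LinearEquiv.conj_apply, Module.End.one_eq_id]
  map_mul' a b := by
    ext x
    simp [LinearEquiv.conj_apply, Module.End.mul_apply]

section Transport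

variable {G : Type u} [Monoid G] {V : Type v} {W : Type w}
    [AddCommGroup V] [Module ℂ V] [AddCommGroup W] [Module ℂ W]

@[simp] theorem transport_apply (e : V ≃ₗ[ℂ] W) (ρ : Representation ℂ G V) (g : G) :
    transport e ρ g = e.conj (ρ g) := rfl

theorem transport_apply_apply (e : V ≃ₗ[ℂ] W) (ρ : Representation ℂ G V) (g : G) (x : W) :
    transport e ρ g x = e (ρ g (e.symm x)) := by
  simp [LinearEquiv.conj_apply]

theorem character_transport (e : V ≃ₗ[ℂ] W) (ρ : Representation ℂ G V) :
    (transport e ρ).character = ρ.character := by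
  funext g
  exact LinearMap.trace_conj' (ρ g) e

/-- A representation is irreducible iff the space is nontrivial and there is no invariant subspace
besides the two trivial ones. -/
theorem isIrreducible_iff {ρ : Representation ℂ G V} :
    ρ.IsIrreducible ↔ Nontrivial V ∧
      ∀ U : Submodule ℂ V, (∀ g : G, ∀ v ∈ U, ρ g v ∈ U) → U = ⊥ ∨ U = ⊤ := by
  constructor
  · intro h
    refine ⟨?_, fun U hU => ?_⟩
    · by_contra hn
      rw [not_nontrivial_iff_subsingleton] at hn
      obtain ⟨x, y, hxy⟩ := h.toNontrivial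
      exact hxy (Subrepresentation.toSubmodule_injective (Subsingleton.elim _ _))
    · rcases h.eq_bot_or_eq_top ⟨U, fun g v hv => hU g v hv⟩ with h1 | h1
      · left; exact congrArg Subrepresentation.toSubmodule h1
      · right; exact congrArg Subrepresentation.toSubmodule h1
  · rintro ⟨hn, h⟩
    have hne : (⊥ : Subrepresentation ρ) ≠ ⊤ := by
      intro h0
      have : (⊥ : Submodule ℂ V) = ⊤ := congrArg Subrepresentation.toSubmodule h0
      exact bot_ne_top this
    have : Nontrivial (Subrepresentation ρ) := ⟨⟨⊥, ⊤, hne⟩⟩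
    exact ⟨fun S => (h S.toSubmodule fun g v hv => S.apply_mem_toSubmodule g hv).imp
      (fun e => Subrepresentation.toSubmodule_injective e)
      (fun e => Subrepresentation.toSubmodule_injective e)⟩

theorem isIrreducible_transport (e : V ≃ₗ[ℂ] W) {ρ : Representation ℂ G V}
    (h : ρ.IsIrreducible) : (transport e ρ).IsIrreducible := by
  rw [isIrreducible_iff] at h ⊢
  obtain ⟨hn, h⟩ := h
  refine ⟨e.symm.toEquiv.nontrivial, fun U hU => ?_⟩
  have hsurj : Function.Surjective (e : V →ₗ[ℂ] W) := e.surjective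
  rcases h (U.comap (e : V →ₗ[ℂ] W)) (fun g v hv => by
      have h1 := hU g _ hv
      rw [transport_apply_apply] at h1
      simpa using h1) with h1 | h1
  · left
    rw [← Submodule.map_comap_eq_of_surjective hsurj U, h1, Submodule.map_bot]
  · right
    rw [← Submodule.map_comap_eq_of_surjective hsurj U, h1, Submodule.map_top,
      LinearMap.range_eq_top.2 hsurj]

end Transport

section Group

variable {G : Type u} [Group G]

/-- The character of any finite-dimensional representation is a character. -/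
theorem isCharacter_of_rep {V : Type v} [AddCommGroup V] [Module ℂ V] [FiniteDimensional ℂ V]
    (ρ : Representation ℂ G V) : IsCharacter G ρ.character :=
  ⟨finrank ℂ V, transport (Module.finBasis ℂ V).equivFun ρ, character_transport _ _⟩

/-- The character of any finite-dimensional irreducible representation is irreducible. -/
theorem isIrrCharacter_of_rep {V : Type v} [AddCommGroup V] [Module ℂ V] [FiniteDimensional ℂ V]
    (ρ : Representation ℂ G V) (h : ρ.IsIrreducible) : IsIrrCharacter G ρ.character :=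
  ⟨finrank ℂ V, transport (Module.finBasis ℂ V).equivFun ρ, isIrreducible_transport _ h,
    character_transport _ _⟩

theorem IsIrr.isCharacter {χ : G → ℂ} (h : IsIrrCharacter G χ) :
    IsCharacter G χ :=
  let ⟨n, ρ, _, hρ⟩ := h
  ⟨n, ρ, hρ⟩

theorem isClassFunction_of_isCharacter {χ : G → ℂ} (h : IsCharacter G χ) :
    IsClassFunction G χ := by
  obtain ⟨n, ρ, rfl⟩ := h
  intro g k
  exact ρ.char_conj g k

theorem isClassFunction_of_isIrr {χ : G → ℂ} (h : IsIrrCharacter G χ) : IsClassFunction G χ :=
  isClassFunction_of_isCharacter (IsIrr.isCharacter h)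

theorem classFun_isConj {χ : G → ℂ} (h : IsClassFunction G χ) {x y : G} (hxy : IsConj x y) :
    χ x = χ y := by
  obtain ⟨c, rfl⟩ := isConj_iff.1 hxy
  exact (h x c).symm

theorem classFun_mul_comm {χ : G → ℂ} (h : IsClassFunction G χ) (x y : G) :
    χ (x * y) = χ (y * x) := by
  have h1 := h (y * x) x
  rwa [show x * (y * x) * x⁻¹ = x * y by group] at h1

theorem isCharacter_zero : IsCharacter G (0 : G → ℂ) :=
  ⟨0, 1, by funext g; simp [Representation.character]⟩

end Group

section Eigen

variable {V : Type v} [AddCommGroup V] [Module ℂ V] [FiniteDimensional ℂ V]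

/-- An endomorphism of finite order has a basis of eigenvectors, with roots of unity as
eigenvalues. -/
theorem exists_eigenbasis_of_pow_eq_one (f : Module.End ℂ V) {n : ℕ} (hn : n ≠ 0)
    (hf : f ^ n = 1) :
    ∃ (μ : Fin (finrank ℂ V) → ℂ) (b : Basis (Fin (finrank ℂ V)) ℂ V),
      (∀ i, f (b i) = μ i • b i) ∧ ∀ i, μ i ^ n = 1 := by
  classical
  have hsq : Squarefree (Polynomial.X ^ n - Polynomial.C (1 : ℂ)) :=
    (Polynomial.separable_X_pow_sub_C (1 : ℂ) (Nat.cast_ne_zero.2 hn) one_ne_zero).squarefree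
  have hss : f.IsSemisimple := by
    refine Module.End.isSemisimple_of_squarefree_aeval_eq_zero hsq ?_
    simp [hf]
  have hint : DirectSum.IsInternal f.eigenspace :=
    DirectSum.isInternal_submodule_of_iSupIndep_of_iSup_eq_top
      f.eigenspaces_iSupIndep hss.iSup_eigenspace_eq_top
  let b₀ := hint.collectedBasis fun μ => Module.Free.chooseBasis ℂ (f.eigenspace μ)
  let e := b₀.indexEquiv (Module.finBasis ℂ V)
  let b := b₀.reindex e
  let μ : Fin (finrank ℂ V) → ℂ := fun i => (e.symm i).1
  have hb : ∀ i, f (b i) = μ i • b i := by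
    intro i
    have := hint.collectedBasis_mem (fun μ => Module.Free.chooseBasis ℂ (f.eigenspace μ)) (e.symm i)
    rw [Module.End.mem_eigenspace_iff] at this
    simp only [b, Basis.reindex_apply]
    exact this
  refine ⟨μ, b, hb, fun i => ?_⟩
  have hpow : ∀ m : ℕ, (f ^ m) (b i) = μ i ^ m • b i := by
    intro m
    induction m with
    | zero => simp
    | succ m ih => rw [pow_succ', Module.End.mul_apply, ih, map_smul, hb, smul_smul, pow_succ]
  have h1 := hpow n
  rw [hf, Module.End.one_apply] at h1
  have h2 : (μ i ^ n - 1) • b i = 0 := by rw [sub_smul, one_smul, ← h1, sub_self]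
  exact sub_eq_zero.1 ((smul_eq_zero.1 h2).resolve_right (b.ne_zero i))

omit [FiniteDimensional ℂ V] in
theorem trace_eq_sum_of_eigenbasis {ι : Type*} [Fintype ι] (f : Module.End ℂ V)
    (b : Basis ι ℂ V) (μ : ι → ℂ) (hb : ∀ i, f (b i) = μ i • b i) :
    LinearMap.trace ℂ V f = ∑ i, μ i := by
  classical
  rw [LinearMap.trace_eq_matrix_trace ℂ b, Matrix.trace]
  refine Finset.sum_congr rfl fun i _ => ?_
  simp [Matrix.diag, LinearMap.toMatrix_apply, hb]

variable {G : Type u} [Group G] [Finite G] (ρ : Representation ℂ G V)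

/-- An eigenbasis for `ρ g`, with the trace of `ρ g` as the sum of the eigenvalues. -/
theorem exists_eigenbasis (g : G) :
    ∃ (μ : Fin (finrank ℂ V) → ℂ) (b : Basis (Fin (finrank ℂ V)) ℂ V),
      (∀ i, ρ g (b i) = μ i • b i) ∧ (∀ i, μ i ^ orderOf g = 1) ∧
        ρ.character g = ∑ i, μ i := by
  obtain ⟨μ, b, hb, hμ⟩ := exists_eigenbasis_of_pow_eq_one (ρ g)
    (orderOf_pos g).ne' (by rw [← map_pow, pow_orderOf_eq_one, map_one])
  exact ⟨μ, b, hb, hμ, trace_eq_sum_of_eigenbasis _ b μ hb⟩

theorem character_inv (g : G) : ρ.character g⁻¹ = conj (ρ.character g) := by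
  obtain ⟨μ, b, hb, hμ, hχ⟩ := exists_eigenbasis ρ g
  have h1 : ∀ i, ‖μ i‖ = 1 := fun i => Complex.norm_eq_one_of_pow_eq_one (hμ i) (orderOf_pos g).ne'
  have hne : ∀ i, μ i ≠ 0 := fun i h => by simpa [h] using h1 i
  have hb' : ∀ i, ρ g⁻¹ (b i) = conj (μ i) • b i := by
    intro i
    have h2 : ρ g⁻¹ (ρ g (b i)) = b i := ρ.inv_self_apply g (b i)
    rw [hb, map_smul] at h2
    rw [← Complex.inv_eq_conj (h1 i), eq_inv_smul_iff₀ (hne i)]
    exact h2
  rw [hχ, map_sum]
  exact trace_eq_sum_of_eigenbasis _ b _ hb'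

theorem norm_character_le (g : G) : ‖ρ.character g‖ ≤ finrank ℂ V := by
  obtain ⟨μ, b, hb, hμ, hχ⟩ := exists_eigenbasis ρ g
  rw [hχ]
  refine (norm_sum_le _ _).trans ?_
  simp [fun i => Complex.norm_eq_one_of_pow_eq_one (hμ i) (orderOf_pos g).ne']

theorem character_isIntegral (g : G) : IsIntegral ℤ (ρ.character g) := by
  obtain ⟨μ, b, hb, hμ, hχ⟩ := exists_eigenbasis ρ g
  rw [hχ]
  exact IsIntegral.sum _ fun i _ => IsIntegral.of_pow (orderOf_pos g) (by rw [hμ i]; exact isIntegral_one)

/-- If a character value attains its maximal absolute value, the element acts as a scalar. -/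
theorem scalar_of_norm_character_eq (g : G) (h : ‖ρ.character g‖ = (finrank ℂ V : ℝ)) :
    ∃ ω : ℂ, ρ g = ω • (LinearMap.id : V →ₗ[ℂ] V) ∧
      ρ.character g = ω * (finrank ℂ V : ℂ) := by
  obtain ⟨μ, b, hb, hμ, hχ⟩ := exists_eigenbasis ρ g
  have h1 : ∀ i, ‖μ i‖ = 1 := fun i => Complex.norm_eq_one_of_pow_eq_one (hμ i) (orderOf_pos g).ne'
  rcases eq_or_ne (finrank ℂ V) 0 with h0 | h0
  · have : Subsingleton V := Module.finrank_zero_iff.1 h0
    exact ⟨1, by ext x; exact Subsingleton.elim _ _, by
      rw [Representation.character, Subsingleton.elim (ρ g) 0, map_zero, h0]; simp⟩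
  have hS0 : ρ.character g ≠ 0 := by
    intro hS
    rw [hS, norm_zero] at h
    exact h0 (by exact_mod_cast h.symm)
  set S := ρ.character g with hS
  set ω : ℂ := S / (finrank ℂ V : ℂ) with hω
  have hω1 : ‖ω‖ = 1 := by
    rw [hω, norm_div, h, Complex.norm_natCast, div_self (Nat.cast_ne_zero.2 h0)]
  have hsum : ∑ i, (μ i * conj ω).re = ∑ _i : Fin (finrank ℂ V), (1 : ℝ) := by
    rw [← Complex.re_sum, ← Finset.sum_mul, ← hχ]
    have hSω : S = ω * (finrank ℂ V : ℂ) := by
      rw [hω, div_mul_cancel₀]
      exact_mod_cast h0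
    rw [hSω, mul_assoc, mul_comm (finrank ℂ V : ℂ), ← mul_assoc, Complex.mul_conj,
      Complex.normSq_eq_norm_sq, hω1]
    simp
  have hall : ∀ i, μ i = ω := by
    intro i
    have hle : ∀ j ∈ Finset.univ, (μ j * conj ω).re ≤ (1 : ℝ) := fun j _ => by
      refine (Complex.re_le_norm _).trans ?_
      simp [h1 j, hω1]
    have hre := (Finset.sum_eq_sum_iff_of_le hle).1 hsum i (Finset.mem_univ _)
    have hn : ‖μ i * conj ω‖ = 1 := by simp [h1 i, hω1]
    have hz : μ i * conj ω = 1 := by
      have h3 := Complex.normSq_eq_norm_sq (μ i * conj ω)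
      rw [hn, Complex.normSq_apply, hre] at h3
      apply Complex.ext
      · simpa using hre
      · simp only [Complex.one_im]
        nlinarith [h3]
    have hne : conj ω ≠ 0 := by
      intro h2
      rw [h2] at hz
      simp at hz
    apply mul_right_cancel₀ hne
    rw [hz, Complex.mul_conj, Complex.normSq_eq_norm_sq, hω1]
    simp
  refine ⟨ω, b.ext fun i => by simp [hb, hall], ?_⟩
  rw [hω, div_mul_cancel₀]
  exact_mod_cast h0

theorem norm_character_eq_iff (g : G) :
    ‖ρ.character g‖ = (finrank ℂ V : ℝ) ↔ ∃ ω : ℂ, ρ g = ω • (LinearMap.id : V →ₗ[ℂ] V) := by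
  constructor
  · intro h
    obtain ⟨ω, hω, -⟩ := scalar_of_norm_character_eq ρ g h
    exact ⟨ω, hω⟩
  · rintro ⟨ω, hω⟩
    obtain ⟨μ, b, hb, hμ, hχ⟩ := exists_eigenbasis ρ g
    rcases eq_or_ne (finrank ℂ V) 0 with h0 | h0
    · have : Subsingleton V := Module.finrank_zero_iff.1 h0
      rw [Representation.character, Subsingleton.elim (ρ g) 0, map_zero, h0]
      simp
    have hμω : ∀ i, μ i = ω := by
      intro i
      have h1 := hb i
      rw [hω, LinearMap.smul_apply, LinearMap.id_apply] at h1
      exact (smul_left_injective ℂ (b.ne_zero i) h1).symm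
    have hω1 : ‖ω‖ = 1 := by
      rw [← hμω ⟨0, Nat.pos_of_ne_zero h0⟩]
      exact Complex.norm_eq_one_of_pow_eq_one (hμ _) (orderOf_pos g).ne'
    simp [hχ, hμω, hω1]

theorem character_eq_finrank_iff (g : G) :
    ρ.character g = (finrank ℂ V : ℂ) ↔ ρ g = LinearMap.id := by
  constructor
  · intro h
    obtain ⟨ω, hω, hω'⟩ := scalar_of_norm_character_eq ρ g (by simp [h])
    rcases eq_or_ne (finrank ℂ V) 0 with h0 | h0
    · have : Subsingleton V := Module.finrank_zero_iff.1 h0
      exact Subsingleton.elim _ _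
    rw [h] at hω'
    have : ω = 1 := (mul_eq_right₀ (Nat.cast_ne_zero.2 h0)).1 hω'.symm
    rw [hω, this, one_smul]
  · intro h
    simp [Representation.character, h]

end Eigen

section CharFun

variable {G : Type u} [Group G] [Finite G] {χ : G → ℂ}

theorem IsChar.inv_eq_conj (h : IsCharacter G χ) (g : G) : χ g⁻¹ = conj (χ g) := by
  obtain ⟨n, ρ, rfl⟩ := h
  exact character_inv ρ g

theorem IsChar.isIntegral (h : IsCharacter G χ) (g : G) : IsIntegral ℤ (χ g) := by
  obtain ⟨n, ρ, rfl⟩ := h
  exact character_isIntegral ρ g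

omit [Finite G] in
theorem IsChar.degree (h : IsCharacter G χ) : ∃ n : ℕ, χ 1 = n := by
  obtain ⟨n, ρ, rfl⟩ := h
  exact ⟨n, by simp⟩

omit [Finite G] in
theorem IsIrr.degree (h : IsIrrCharacter G χ) : ∃ n : ℕ, 0 < n ∧ χ 1 = n := by
  obtain ⟨n, ρ, hρ, rfl⟩ := h
  obtain ⟨hn, -⟩ := isIrreducible_iff.1 hρ
  refine ⟨finrank ℂ (Fin n → ℂ), Module.finrank_pos, ρ.char_one⟩

omit [Finite G] in
theorem IsIrr.one_ne_zero (h : IsIrrCharacter G χ) : χ 1 ≠ 0 := by
  obtain ⟨n, hn, e⟩ := IsIrr.degree h
  rw [e]; exact_mod_cast hn.ne'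

theorem IsChar.norm_le (h : IsCharacter G χ) (g : G) : ‖χ g‖ ≤ (χ 1).re := by
  obtain ⟨n, ρ, rfl⟩ := h
  have := norm_character_le ρ g
  simpa using this

end CharFun

section Constructions

variable {G : Type u} [Group G] {χ ψ : G → ℂ}

theorem isCharacter_add (hχ : IsCharacter G χ) (hψ : IsCharacter G ψ) :
    IsCharacter G (χ + ψ) := by
  obtain ⟨n, ρ, rfl⟩ := hχ
  obtain ⟨m, σ, rfl⟩ := hψ
  have : (ρ.prod σ).character = ρ.character + σ.character := by
    funext g
    exact LinearMap.trace_prodMap' (ρ g) (σ g)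
  exact this ▸ isCharacter_of_rep _

theorem isCharacter_mul (hχ : IsCharacter G χ) (hψ : IsCharacter G ψ) :
    IsCharacter G (χ * ψ) := by
  obtain ⟨n, ρ, rfl⟩ := hχ
  obtain ⟨m, σ, rfl⟩ := hψ
  exact Representation.char_tensor ρ σ ▸ isCharacter_of_rep _

theorem isCharacter_inv (hχ : IsCharacter G χ) : IsCharacter G (fun g => χ g⁻¹) := by
  obtain ⟨n, ρ, rfl⟩ := hχ
  have : ρ.dual.character = fun g => ρ.character g⁻¹ := funext fun g => ρ.char_dual g
  exact this ▸ isCharacter_of_rep _

theorem isCharacter_conj [Finite G] (hχ : IsCharacter G χ) :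
    IsCharacter G (fun g => conj (χ g)) := by
  have : (fun g => conj (χ g)) = fun g => χ g⁻¹ := funext fun g => (IsChar.inv_eq_conj hχ g).symm
  exact this ▸ isCharacter_inv hχ

/-- The representation on `ℂ` given by a linear character. -/
noncomputable def linRep (f : G →* ℂˣ) : Representation ℂ G ℂ :=
  (algebraMap ℂ (Module.End ℂ ℂ)).toMonoidHom.comp ((Units.coeHom ℂ).comp f)

theorem character_linRep (f : G →* ℂˣ) : (linRep f).character = fun g => (f g : ℂ) := by
  funext g
  show LinearMap.trace ℂ ℂ (algebraMap ℂ (Module.End ℂ ℂ) (f g : ℂ)) = (f g : ℂ)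
  simp [Algebra.algebraMap_eq_smul_one]

theorem isIrreducible_of_finrank_one {V : Type v} [AddCommGroup V] [Module ℂ V]
    (ρ : Representation ℂ G V) (h : finrank ℂ V = 1) : ρ.IsIrreducible := by
  rw [isIrreducible_iff]
  have : IsSimpleOrder (Submodule ℂ V) := is_simple_module_of_finrank_eq_one h
  exact ⟨nontrivial_of_finrank_eq_succ h, fun U _ => eq_bot_or_eq_top U⟩

theorem isIrrCharacter_hom (f : G →* ℂˣ) : IsIrrCharacter G (fun g => (f g : ℂ)) :=
  character_linRep f ▸ isIrrCharacter_of_rep _ (isIrreducible_of_finrank_one _ (finrank_self ℂ))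

theorem isCharacter_hom (f : G →* ℂˣ) : IsCharacter G (fun g => (f g : ℂ)) :=
  IsIrr.isCharacter (isIrrCharacter_hom f)

theorem isIrrCharacter_one : IsIrrCharacter G (fun _ => (1 : ℂ)) := by
  simpa using isIrrCharacter_hom (1 : G →* ℂˣ)

theorem isCharacter_one : IsCharacter G (fun _ => (1 : ℂ)) :=
  IsIrr.isCharacter isIrrCharacter_one

theorem isCharacter_nsmul (k : ℕ) (hχ : IsCharacter G χ) : IsCharacter G (k • χ) := by
  induction k with
  | zero => simpa using isCharacter_zero
  | succ k ih => rw [succ_nsmul]; exact isCharacter_add ih hχ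

theorem isCharacter_natCast_smul (k : ℕ) (hχ : IsCharacter G χ) :
    IsCharacter G ((k : ℂ) • χ) := by
  rw [Nat.cast_smul_eq_nsmul]; exact isCharacter_nsmul k hχ

theorem isCharacter_sum {ι : Type*} (s : Finset ι) (f : ι → G → ℂ)
    (h : ∀ i ∈ s, IsCharacter G (f i)) : IsCharacter G (∑ i ∈ s, f i) :=
  Finset.sum_induction f (IsCharacter G) (fun _ _ => isCharacter_add) isCharacter_zero h

theorem isCharacter_pow (k : ℕ) (hχ : IsCharacter G χ) : IsCharacter G (χ ^ k) := by
  induction k with
  | zero => rw [pow_zero]; exact isCharacter_one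
  | succ k ih => rw [pow_succ]; exact isCharacter_mul ih hχ

variable {H : Type w} [Group H]

theorem isCharacter_comp (f : H →* G) (hχ : IsCharacter G χ) :
    IsCharacter H (fun h => χ (f h)) := by
  obtain ⟨n, ρ, rfl⟩ := hχ
  exact ⟨n, ρ.comp f, rfl⟩

theorem isCharacter_res (K : Subgroup G) (hχ : IsCharacter G χ) :
    IsCharacter K (fun k : K => χ k) :=
  isCharacter_comp K.subtype hχ

theorem isIrrCharacter_comp (f : H →* G) (hf : Function.Surjective f)
    (hχ : IsIrrCharacter G χ) : IsIrrCharacter H (fun h => χ (f h)) := by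
  obtain ⟨n, ρ, hρ, rfl⟩ := hχ
  refine ⟨n, ρ.comp f, ?_, rfl⟩
  rw [isIrreducible_iff] at hρ ⊢
  refine ⟨hρ.1, fun U hU => hρ.2 U fun g v hv => ?_⟩
  obtain ⟨h, rfl⟩ := hf g
  exact hU h v hv

theorem isIrrCharacter_comp_equiv (f : H ≃* G) :
    IsIrrCharacter H (fun h => χ (f h)) ↔ IsIrrCharacter G χ := by
  refine ⟨fun h => ?_, isIrrCharacter_comp f.toMonoidHom f.surjective⟩
  simpa using isIrrCharacter_comp f.symm.toMonoidHom f.symm.surjective h

end Constructions

section Inner

variable {G : Type u} [Group G] [Fintype G] (φ ψ θ : G → ℂ) (c : ℂ)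

theorem classInner_add_left : classInner (φ + ψ) θ = classInner φ θ + classInner ψ θ := by
  simp [classInner, add_mul, Finset.sum_add_distrib, mul_add]

theorem classInner_add_right : classInner φ (ψ + θ) = classInner φ ψ + classInner φ θ := by
  simp [classInner, mul_add, Finset.sum_add_distrib]

theorem classInner_sub_left : classInner (φ - ψ) θ = classInner φ θ - classInner ψ θ := by
  simp [classInner, sub_mul, Finset.sum_sub_distrib, mul_sub]

theorem classInner_sub_right : classInner φ (ψ - θ) = classInner φ ψ - classInner φ θ := by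
  simp [classInner, mul_sub, Finset.sum_sub_distrib]

theorem classInner_neg_left : classInner (-φ) θ = -classInner φ θ := by
  simp [classInner]

theorem classInner_neg_right : classInner φ (-θ) = -classInner φ θ := by
  simp [classInner]

theorem classInner_smul_left : classInner (c • φ) θ = c * classInner φ θ := by
  simp only [classInner, Pi.smul_apply, smul_eq_mul, mul_assoc, ← Finset.mul_sum]
  ring

theorem classInner_smul_right : classInner φ (c • θ) = conj c * classInner φ θ := by
  simp only [classInner, Pi.smul_apply, smul_eq_mul, map_mul, Finset.mul_sum]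
  exact Finset.sum_congr rfl fun g _ => by ring

theorem classInner_zero_left : classInner 0 θ = 0 := by simp [classInner]

theorem classInner_zero_right : classInner φ 0 = 0 := by simp [classInner]

theorem classInner_sum_left {ι : Type*} (s : Finset ι) (f : ι → G → ℂ) :
    classInner (∑ i ∈ s, f i) θ = ∑ i ∈ s, classInner (f i) θ := by
  classical
  induction s using Finset.induction with
  | empty => simp [classInner_zero_left]
  | insert a s ha ih => simp [Finset.sum_insert ha, classInner_add_left, ih]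

theorem classInner_sum_right {ι : Type*} (s : Finset ι) (f : ι → G → ℂ) :
    classInner φ (∑ i ∈ s, f i) = ∑ i ∈ s, classInner φ (f i) := by
  classical
  induction s using Finset.induction with
  | empty => simp [classInner_zero_right]
  | insert a s ha ih => simp [Finset.sum_insert ha, classInner_add_right, ih]

theorem classInner_conj_symm : conj (classInner φ ψ) = classInner ψ φ := by
  simp [classInner, mul_comm]

theorem classInner_self_eq :
    classInner φ φ = (((Nat.card G : ℝ)⁻¹ * ∑ g, Complex.normSq (φ g) : ℝ) : ℂ) := by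
  simp [classInner, Complex.mul_conj]

theorem classInner_self_eq_zero : classInner φ φ = 0 ↔ φ = 0 := by
  rw [classInner_self_eq, Complex.ofReal_eq_zero, mul_eq_zero]
  simp [Finset.sum_eq_zero_iff_of_nonneg fun g _ => Complex.normSq_nonneg (φ g), funext_iff]

/-- `classInner` does not depend on the `Fintype` instance. -/
theorem classInner_eq_finsum :
    classInner φ ψ = (Nat.card G : ℂ)⁻¹ * ∑ᶠ g : G, φ g * conj (ψ g) := by
  rw [finsum_eq_sum_of_fintype]; rfl

theorem card_ne_zero : (Nat.card G : ℂ) ≠ 0 := Nat.cast_ne_zero.2 Nat.card_pos.ne'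

end Inner

end Cfsg.Agent.Char
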