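import Mathlib
import Cfsg.Agent.Char.Galois

/-!
# Field automorphisms of the complex numbers with prescribed action on roots of unity
-/

set_option autoImplicit false

namespace Cfsg.Agent.Char

/-- For `k` coprime to `m` there is a field automorphism of `ℂ` raising every `m`-th root of
unity to the `k`-th power. -/
theorem exists_galois_equiv (m k : ℕ) (hm : m ≠ 0) (hk : k.Coprime m) :
    ∃ σ : ℂ ≃+* ℂ, ∀ z : ℂ, z ^ m = 1 → σ z = z ^ k := by
  classical
  obtain ⟨τ, hτ⟩ := exists_galois m k hm hk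
  let K := algebraicClosure ℚ ℂ
  have : Algebra.IsAlgebraic ℚ K := algebraicClosure.isAlgebraic ℚ ℂ
  have hτK : ∀ x : K, τ x ∈ K := fun x => mem_algebraicClosure_iff.2
    (((Algebra.IsAlgebraic.isAlgebraic (R := ℚ) x).algHom K.val).algHom
      τ.toRatAlgHom)
  let t : K →+* K := (τ.comp (algebraMap K ℂ)).codRestrict K.toSubfield hτK
  let e : K ≃+* K := RingEquiv.ofBijective t
    (Algebra.IsAlgebraic.algHom_bijective t.toRatAlgHom)
  obtain ⟨T, hT⟩ := exists_isTranscendenceBasis K ℂ
  let L := IntermediateField.adjoin K (Set.range ((↑) : T → ℂ))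
  have : Algebra.IsAlgebraic L ℂ := hT.isAlgebraic_field
  have : IsAlgClosure L ℂ := ⟨inferInstance, inferInstance⟩
  let f : L ≃+* L :=
    (hT.1.aevalEquivField.symm.toRingEquiv.trans
      (IsFractionRing.ringEquivOfRingEquiv (MvPolynomial.mapEquiv T e))).trans
      hT.1.aevalEquivField.toRingEquiv
  refine ⟨IsAlgClosure.equivOfEquiv ℂ ℂ f, fun z hz => ?_⟩
  have hzK : z ∈ K := mem_algebraicClosure_iff.2
    ⟨Polynomial.X ^ m - 1, Polynomial.X_pow_sub_C_ne_zero (Nat.pos_of_ne_zero hm) 1, by simp [hz]⟩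
  let ζ : K := ⟨z, hzK⟩
  have h1 : f (algebraMap K L ζ) = algebraMap K L (e ζ) := by
    show hT.1.aevalEquivField (IsFractionRing.ringEquivOfRingEquiv (MvPolynomial.mapEquiv T e)
      (hT.1.aevalEquivField.symm (algebraMap K L ζ))) = _
    rw [AlgEquiv.commutes, IsScalarTower.algebraMap_apply K (MvPolynomial T K)
      (FractionRing (MvPolynomial T K)), IsFractionRing.ringEquivOfRingEquiv_algebraMap,
      MvPolynomial.algebraMap_eq, MvPolynomial.mapEquiv_apply, MvPolynomial.map_C,
      ← MvPolynomial.algebraMap_eq, ← IsScalarTower.algebraMap_apply, AlgEquiv.commutes]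
    rfl
  have h2 := IsAlgClosure.equivOfEquiv_algebraMap ℂ ℂ f (algebraMap K L ζ)
  rw [h1] at h2
  rw [← IsScalarTower.algebraMap_apply K L ℂ, ← IsScalarTower.algebraMap_apply K L ℂ] at h2
  exact h2.trans (hτ z hz)

end Cfsg.Agent.Char
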