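import Cfsg.Agent.Char.Gallagher
import Cfsg.Agent.Char.Galois
import Cfsg.Agent.Char.Perm
import Cfsg.Agent.Char.FS
import Cfsg.Agent.ProjExt.Data
import Cfsg.Agent.ProjExt.Linear
import Cfsg.Agent.ProjExt.CliffordCorr
import Mathlib.GroupTheory.IndexNormal

/-!
# Galois-fixed characters over a Galois-fixed character of a normal subgroup of odd index

`σ` is a field endomorphism of `ℂ` raising the `m`-th roots of unity to the `k`-th power and we
assume that `g ^ (k + 1)` lies in the normal subgroup, so that `σ` inverts the values of the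
characters of the quotient.
-/

namespace Cfsg.Agent.Char

open scoped ComplexConjugate

universe u

variable {σ : ℂ →+* ℂ} {m k : ℕ}

/-- A character with values fixed by `σ`. -/
def SigmaFixed {X : Type*} (σ : ℂ →+* ℂ) (χ : X → ℂ) : Prop := ∀ x, σ (χ x) = χ x

section Basic

variable {G : Type u} [Group G] [Fintype G] (N : Subgroup G) [N.Normal] [Fintype N]

/-- Gallagher: the factor is recovered by averaging. -/
theorem galEta_mul {χ β : G → ℂ} (hχ : IsIrrCharacter G χ)
    (hN : IsIrrCharacter N (fun n : N => χ n)) (hβ : IsCharacter G β)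
    (hβN : ∀ n ∈ N, β n = β 1) : galEta N χ (β * χ) = β := by
  funext g
  have h3 := avg_normSq_eq_one N hχ hN g
  have hconst : ∀ (n : N) g, β ((n : G) * g) = β g := fun n g =>
    IsChar.mul_left_of_mem_kernel hβ (hβN n n.2) g
  simp only [galEta, Pi.mul_apply, hconst, mul_assoc, ← Finset.mul_sum]
  rw [mul_left_comm, h3, mul_one]

omit [Fintype N] in
/-- A `σ`-fixed irreducible character of a quotient of odd order is principal. -/
theorem eq_one_of_sigmaFixed (hσ : ∀ z : ℂ, z ^ m = 1 → σ z = z ^ k) (hGm : Nat.card G ∣ m)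
    (hodd : Odd N.index) (hN1 : ∀ g : G, g ^ (k + 1) ∈ N) {β : G → ℂ}
    (hβ : IsIrrCharacter G β) (hker : ∀ n ∈ N, β n = β 1) (hfix : SigmaFixed σ β) :
    β = fun _ => 1 := by
  have hc := IsIrr.isCharacter hβ
  have hreal : ∀ g : G, (β g).im = 0 := fun g => by
    have h1 := IsChar.mul_left_of_mem_kernel hc (hker _ (hN1 g)) g⁻¹
    rw [pow_succ, mul_inv_cancel_right] at h1
    rw [← Complex.conj_eq_iff_im, ← IsChar.inv_eq_conj hc, ← h1,
      ← galois_apply_pow σ hσ hc ((orderOf_dvd_natCard g).trans hGm), hfix]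
  obtain ⟨φ, hφ, he⟩ := IsIrr.exists_quotient N hβ hker
  have hφ1 := real_irr_eq_one (G := G ⧸ N) (by rwa [← Subgroup.index_eq_card]) hφ fun q => by
    obtain ⟨g, rfl⟩ := QuotientGroup.mk_surjective q
    rw [← he]; exact hreal g
  funext g
  rw [he, hφ1]

/-- Uniqueness of a `σ`-fixed character over an irreducible restriction. -/
theorem eq_of_sigmaFixed (hσ : ∀ z : ℂ, z ^ m = 1 → σ z = z ^ k) (hGm : Nat.card G ∣ m)
    (hodd : Odd N.index) (hN1 : ∀ g : G, g ^ (k + 1) ∈ N) {χ ψ : G → ℂ}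
    (hχ : IsIrrCharacter G χ) (hres : IsIrrCharacter N (fun n : N => χ n))
    (hψ : IsIrrCharacter G ψ)
    (hcon : classInner (fun n : N => ψ n) (fun n : N => χ n) ≠ 0)
    (hfχ : SigmaFixed σ χ) (hfψ : SigmaFixed σ ψ) : ψ = χ := by
  obtain ⟨hβ, hker, he⟩ := (gallagher N hχ hres hψ).1 hcon
  set β := galEta N χ ψ with hβdef
  have hfix : SigmaFixed σ β := by
    have h2 : (fun x => σ (β x)) * χ = ψ := funext fun g => by
      rw [Pi.mul_apply, ← hfχ g, ← map_mul]
      show σ ((β * χ) g) = ψ g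
      rw [← he, hfψ]
    have h3 := galEta_mul N hχ hres (isCharacter_map σ (IsIrr.isCharacter hβ))
      fun n hn => by rw [hker n hn]
    rw [h2, ← hβdef] at h3
    exact fun g => (congrFun h3 g).symm
  rw [he, eq_one_of_sigmaFixed N hσ hGm hodd hN1 hβ hker hfix]
  funext g
  simp

/-- If some extension exists then a `σ`-fixed one exists. -/
theorem exists_fixed_of_extension (hσ : ∀ z : ℂ, z ^ m = 1 → σ z = z ^ k)
    (hGm : Nat.card G ∣ m) (hodd : Odd N.index) (hN1 : ∀ g : G, g ^ (k + 1) ∈ N) {θ : N → ℂ}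
    (hθ : IsIrrCharacter N θ) (hfix : SigmaFixed σ θ) {χ₀ : G → ℂ} (hχ₀ : IsIrrCharacter G χ₀)
    (hres : ∀ n : N, χ₀ n = θ n) :
    ∃ χ : G → ℂ, IsIrrCharacter G χ ∧ (∀ n : N, χ n = θ n) ∧ SigmaFixed σ χ := by
  have hres' : (fun n : N => χ₀ n) = θ := funext hres
  set ψ : G → ℂ := fun g => σ (χ₀ g) with hψ
  have hψres : (fun n : N => ψ n) = θ := funext fun n => by simp [hψ, hres, hfix n]
  have hψi := isIrr_map σ hχ₀
  obtain ⟨hβ, hker, he⟩ := (gallagher N hχ₀ (hres'.symm ▸ hθ) hψi).1 (by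
    rw [hψres, hres', classInner_irr_self hθ]; exact one_ne_zero)
  have hβ1 : galEta N χ₀ ψ 1 = 1 := by
    have h1 : σ (χ₀ 1) = galEta N χ₀ ψ 1 * χ₀ 1 := congrFun he 1
    rw [show σ (χ₀ 1) = χ₀ 1 by rw [show χ₀ 1 = θ 1 from hres 1, hfix]] at h1
    exact (mul_eq_right₀ (IsIrr.one_ne_zero hχ₀)).1 h1.symm
  obtain ⟨lam, hlam⟩ := IsChar.exists_hom (IsIrr.isCharacter hβ) hβ1
  have hlamN : ∀ n : N, lam n = 1 := fun n => Units.ext (by
    have h := hker n n.2
    rw [hlam] at h
    simpa using h)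
  have hpow := ProjExt.hom_pow_index_eq_one N lam hlamN
  obtain ⟨r, hr⟩ := hodd
  set μ := lam ^ (r + 1) with hμ
  have hμμ : μ * μ = lam := by
    refine MonoidHom.ext fun g => ?_
    rw [hμ, MonoidHom.mul_apply, MonoidHom.pow_apply, ← pow_add,
      show r + 1 + (r + 1) = N.index + 1 by omega, pow_succ, ← MonoidHom.pow_apply, hpow,
      MonoidHom.one_apply, one_mul]
  have hμN : ∀ n : N, μ n = 1 := fun n => by rw [hμ, MonoidHom.pow_apply, hlamN, one_pow]
  have hσμ : ∀ g, σ (μ g : ℂ) = ((μ g)⁻¹ : ℂˣ) := by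
    intro g
    have hm : (μ g : ℂ) ^ m = 1 := by
      obtain ⟨c, hc⟩ := (orderOf_dvd_natCard g).trans hGm
      rw [← Units.val_pow_eq_pow_val, ← map_pow, hc, pow_mul, pow_orderOf_eq_one, one_pow, map_one,
        Units.val_one]
    rw [hσ _ hm, ← Units.val_pow_eq_pow_val]
    refine congrArg Units.val (eq_inv_of_mul_eq_one_left ?_)
    rw [← pow_succ, ← map_pow]
    exact hμN ⟨_, hN1 g⟩
  have hirr : IsIrrCharacter G ((fun g => (μ g : ℂ)) * χ₀) := by
    obtain ⟨hc, h1⟩ := isLinear_iff.2 ⟨μ, rfl⟩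
    exact isIrr_mul_of_res_irr N hχ₀ (hres'.symm ▸ hθ) (IsChar.isIrr_of_degree_one hc h1)
      fun n hn => by simp [hμN ⟨n, hn⟩]
  refine ⟨_, hirr, fun n => by simp [hμN n, hres n], fun g => ?_⟩
  rw [Pi.mul_apply, map_mul, hσμ, show σ (χ₀ g) = galEta N χ₀ ψ g * χ₀ g from congrFun he g,
    hlam, ← hμμ]
  simp [mul_assoc, (μ g).ne_zero]

end Basic

/-- `σ`-fixed extensions over a quotient of odd prime power order. -/
theorem exists_fixed_pgroup (hσ : ∀ z : ℂ, z ^ m = 1 → σ z = z ^ k) {p : ℕ} (hp : p.Prime)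
    (hpodd : Odd p) : ∀ (e : ℕ) (G : Type u) [Group G] [Fintype G] (N : Subgroup G) [N.Normal]
      [Fintype N], Nat.card G ∣ m → N.index = p ^ e → (∀ g : G, g ^ (k + 1) ∈ N) →
      ∀ θ : N → ℂ, IsIrrCharacter N θ → SigmaFixed σ θ → (∀ g : G, conjFun g θ = θ) →
      ∃ χ : G → ℂ, IsIrrCharacter G χ ∧ (∀ n : N, χ n = θ n) ∧ SigmaFixed σ χ := by
  intro e
  induction e with
  | zero =>
    intro G _ _ N _ _ _ hidx _ θ hθ hfix _
    rw [pow_zero, Subgroup.index_eq_one] at hidx
    subst hidx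
    refine ⟨fun g => θ ⟨g, trivial⟩, ?_, fun n => rfl, fun g => hfix _⟩
    exact (isIrrCharacter_comp_equiv Subgroup.topEquiv.symm).2 hθ
  | succ e ih =>
    intro G _ _ N _ _ hGm hidx hN1 θ hθ hfix hinv
    classical
    have hpf : Fact p.Prime := ⟨hp⟩
    -- a normal subgroup of index `p` over `N`
    obtain ⟨M₀, hM₀⟩ := Sylow.exists_subgroup_card_pow_prime (G := G ⧸ N) p (n := e) (by
      rw [← Subgroup.index_eq_card, hidx]; exact pow_dvd_pow _ (Nat.le_succ e))
    have hM₀idx : M₀.index = p := by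
      have h := M₀.card_mul_index
      rw [hM₀, ← Subgroup.index_eq_card, hidx, pow_succ] at h
      exact Nat.eq_of_mul_eq_mul_left (pow_pos hp.pos e) h
    have hM₀n : M₀.Normal := Subgroup.normal_of_index_eq_minFac_card (by
      rw [hM₀idx, ← Subgroup.index_eq_card, hidx, Nat.pow_minFac (Nat.succ_ne_zero e), hp.minFac_eq])
    set M := M₀.comap (QuotientGroup.mk' N) with hMdef
    have hNM : N ≤ M := fun n hn => by
      rw [hMdef, Subgroup.mem_comap, QuotientGroup.mk'_apply, (QuotientGroup.eq_one_iff n).2 hn]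
      exact M₀.one_mem
    have hMn : M.Normal := hM₀n.comap _
    have hMidx : M.index = p := by
      rw [hMdef, Subgroup.index_comap_of_surjective _ (QuotientGroup.mk'_surjective N), hM₀idx]
    let θ' : N.subgroupOf M → ℂ := fun n => θ (Subgroup.subgroupOfEquivOfLe hNM n)
    have := Fintype.ofFinite (N.subgroupOf M)
    obtain ⟨η, hη, hηres, hηfix⟩ := ih M (N.subgroupOf M)
      ((Subgroup.card_subgroup_dvd_card M).trans hGm) (by
        have h := Subgroup.relIndex_mul_index hNM
        rw [hMidx, hidx, pow_succ] at h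
        exact Nat.eq_of_mul_eq_mul_right hp.pos h) (fun g => by
        rw [Subgroup.mem_subgroupOf]; exact hN1 g) θ' ((isIrrCharacter_comp_equiv _).2 hθ) (fun n => hfix _)
      (fun g => funext fun n => congrFun (hinv g) (Subgroup.subgroupOfEquivOfLe hNM n))
    have hηinv : ∀ g : G, conjFun g η = η := by
      intro g
      refine eq_of_sigmaFixed (N.subgroupOf M) hσ ((Subgroup.card_subgroup_dvd_card M).trans hGm)
        ?_ (fun x => by rw [Subgroup.mem_subgroupOf]; exact hN1 x) hη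
        (by rw [show (fun n : N.subgroupOf M => η (n : M)) = θ' from funext hηres]
            exact (isIrrCharacter_comp_equiv _).2 hθ)
        (isIrr_conjFun g hη) ?_ hηfix (fun x => hηfix _)
      · rw [Subgroup.index]
        have h := Subgroup.relIndex_mul_index hNM
        rw [hidx] at h
        exact (hpodd.pow).of_dvd_nat ⟨_, h.symm⟩
      · have e1 : (fun n : N.subgroupOf M => conjFun g η (n : M)) =
          fun n : N.subgroupOf M => η (n : M) := by
          funext n
          rw [hηres n]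
          refine Eq.trans (hηres ⟨⟨g * ((n : M) : G) * g⁻¹, hMn.conj_mem _ n.1.2 g⟩, ?_⟩) ?_
          · rw [Subgroup.mem_subgroupOf]
            exact (inferInstance : N.Normal).conj_mem _ n.2 g
          · exact congrFun (hinv g) (Subgroup.subgroupOfEquivOfLe hNM n)
        rw [e1, show (fun n : N.subgroupOf M => η (n : M)) = θ' from funext hηres,
          classInner_irr_self ((isIrrCharacter_comp_equiv _).2 hθ)]
        exact one_ne_zero
    obtain ⟨D⟩ := ProjExt.exists_data hη (fun g x => congrFun (hηinv g) x)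
    have hcyc : IsCyclic (G ⧸ M) := isCyclic_of_prime_card (p := p) (by
      rw [← Subgroup.index_eq_card, hMidx])
    obtain ⟨χ₀, hχ₀, hχ₀res⟩ := D.exists_extension_of_splits
      (D.cocycle.splits_of_cyclic hcyc fun y j hj => by
        obtain ⟨z, hz⟩ := IsAlgClosed.exists_pow_nat_eq (y : ℂ) hj
        have hz0 : z ≠ 0 := by
          rintro rfl
          rw [zero_pow hj.ne'] at hz
          exact y.ne_zero hz.symm
        exact ⟨Units.mk0 z hz0, Units.ext (by simpa using hz)⟩)
    have := Fintype.ofFinite M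
    obtain ⟨χ, hχ, hχres, hχfix⟩ := exists_fixed_of_extension M hσ hGm (by rw [hMidx]; exact hpodd)
      (fun g => hNM (hN1 g)) hη hηfix hχ₀ hχ₀res
    refine ⟨χ, hχ, fun n => ?_, hχfix⟩
    have h := hχres ⟨n, hNM n.2⟩
    exact h.trans (hηres ⟨⟨n, hNM n.2⟩, n.2⟩)

variable {G : Type u} [Group G] [Fintype G] (N : Subgroup G) [N.Normal] [Fintype N]

/-- An invariant `σ`-fixed character has a `σ`-fixed extension. -/
theorem exists_fixed_extension (hσ : ∀ z : ℂ, z ^ m = 1 → σ z = z ^ k) (hGm : Nat.card G ∣ m)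
    (hodd : Odd N.index) (hN1 : ∀ g : G, g ^ (k + 1) ∈ N) {θ : N → ℂ}
    (hθ : IsIrrCharacter N θ) (hfix : SigmaFixed σ θ) (hinv : ∀ g : G, conjFun g θ = θ) :
    ∃ χ : G → ℂ, IsIrrCharacter G χ ∧ (∀ n : N, χ n = θ n) ∧ SigmaFixed σ χ := by
  classical
  obtain ⟨D⟩ := ProjExt.exists_data hθ (fun g n => congrFun (hinv g) n)
  obtain ⟨χ₀, hχ₀, hres⟩ := D.exists_extension_of_splits (ProjExt.splits_of_forall_prime
    D.cocycle.index_mem_splitExp Subgroup.index_ne_zero_of_finite fun p hp hpd => by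
      have : Fact p.Prime := ⟨hp⟩
      obtain ⟨P₀⟩ : Nonempty (Sylow p (G ⧸ N)) := inferInstance
      set Q := (P₀ : Subgroup (G ⧸ N)).comap (QuotientGroup.mk' N) with hQ
      have hNQ : N ≤ Q := fun n hn => by
        rw [hQ, Subgroup.mem_comap, QuotientGroup.mk'_apply, (QuotientGroup.eq_one_iff n).2 hn]
        exact (P₀ : Subgroup (G ⧸ N)).one_mem
      have hQidx : Q.index = (P₀ : Subgroup (G ⧸ N)).index :=
        Subgroup.index_comap_of_surjective _ (QuotientGroup.mk'_surjective N)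
      refine ⟨Q.index, D.cocycle.splits_index hNQ ?_, hQidx ▸ P₀.not_dvd_index⟩
      let θ' : N.subgroupOf Q → ℂ := fun n => θ (Subgroup.subgroupOfEquivOfLe hNQ n)
      have := Fintype.ofFinite (N.subgroupOf Q)
      obtain ⟨j, hj⟩ := IsPGroup.iff_card.1 P₀.2
      have hrel : (N.subgroupOf Q).index = p ^ j := by
        have h := Subgroup.relIndex_mul_index hNQ
        rw [hQidx, Subgroup.index_eq_card N, ← Subgroup.card_mul_index (P₀ : Subgroup (G ⧸ N)),
          hj] at h
        exact Nat.eq_of_mul_eq_mul_right (Nat.pos_of_ne_zero Subgroup.index_ne_zero_of_finite) h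
      obtain ⟨η, hη, hηres, -⟩ := exists_fixed_pgroup hσ hp (hodd.of_dvd_nat hpd) j Q
        (N.subgroupOf Q) ((Subgroup.card_subgroup_dvd_card Q).trans hGm) hrel
        (fun g => by rw [Subgroup.mem_subgroupOf]; exact hN1 g) θ' ((isIrrCharacter_comp_equiv _).2 hθ)
        (fun n => hfix _)
        (fun g => funext fun n => congrFun (hinv g) (Subgroup.subgroupOfEquivOfLe hNQ n))
      exact D.splits_of_extension hNQ (IsIrr.isCharacter hη)
        fun n => hηres ⟨⟨n, hNQ n.2⟩, n.2⟩)
  exact exists_fixed_of_extension N hσ hGm hodd hN1 hθ hfix hχ₀ hres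

/-- There is exactly one `σ`-fixed irreducible character over a `σ`-fixed one; in the invariant
case it is an extension. -/
theorem exists_unique_fixed_over (hσ : ∀ z : ℂ, z ^ m = 1 → σ z = z ^ k) (hGm : Nat.card G ∣ m)
    (hodd : Odd N.index) (hN1 : ∀ g : G, g ^ (k + 1) ∈ N) {θ : N → ℂ}
    (hθ : IsIrrCharacter N θ) (hfix : SigmaFixed σ θ) :
    ∃ χ : G → ℂ, (IsIrrCharacter G χ ∧ SigmaFixed σ χ ∧ classInner (fun n : N => χ n) θ ≠ 0 ∧
        ((∀ g : G, conjFun g θ = θ) → ∀ n : N, χ n = θ n)) ∧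
      ∀ χ' : G → ℂ, IsIrrCharacter G χ' → SigmaFixed σ χ' →
        classInner (fun n : N => χ' n) θ ≠ 0 → χ' = χ := by
  classical
  set T := inertia (G := G) θ with hT
  have hNT : N ≤ T := le_inertia (isClassFunction_of_isIrr hθ)
  have := Fintype.ofFinite (N.subgroupOf T)
  have hTm : Nat.card T ∣ m := (Subgroup.card_subgroup_dvd_card T).trans hGm
  have hToddidx : Odd (N.subgroupOf T).index := hodd.of_dvd_nat
    ⟨T.index, (Subgroup.relIndex_mul_index hNT).symm⟩
  let θ' : N.subgroupOf T → ℂ := fun n => θ (Subgroup.subgroupOfEquivOfLe hNT n)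
  have hθ' : IsIrrCharacter (N.subgroupOf T) θ' := (isIrrCharacter_comp_equiv _).2 hθ
  obtain ⟨ψ, hψ, hψres, hψfix⟩ := exists_fixed_extension (N.subgroupOf T) hσ hTm hToddidx
    (fun g => by rw [Subgroup.mem_subgroupOf]; exact hN1 g) hθ' (fun n => hfix _)
    (fun g => funext fun n => congrFun (mem_inertia.1 g.2) (Subgroup.subgroupOfEquivOfLe hNT n))
  have hψN : ∀ n : N, ψ ⟨n, hNT n.2⟩ = θ n := fun n => hψres ⟨⟨n, hNT n.2⟩, n.2⟩
  have h2 : classInner (fun n : N => ψ ⟨n, hNT n.2⟩) θ ≠ 0 := by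
    rw [show (fun n : N => ψ ⟨n, hNT n.2⟩) = θ from funext hψN, classInner_irr_self hθ]
    exact one_ne_zero
  set χ := indFun T ψ with hχdef
  have hχ : IsIrrCharacter G χ := ProjExt.exists_induced hθ hT.symm hNT hψ h2
  have hσind : ∀ (f : T → ℂ) (g : G), σ (indFun T f g) = indFun T (fun x => σ (f x)) g := by
    intro f g
    simp only [indFun_apply, map_mul, map_inv₀, map_natCast, map_sum]
    congr 1
    refine Finset.sum_congr rfl fun x _ => ?_
    by_cases hx : x⁻¹ * g * x ∈ T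
    · rw [extendByZero_of_mem _ _ hx, extendByZero_of_mem _ _ hx]
    · rw [extendByZero_of_not_mem _ _ hx, extendByZero_of_not_mem _ _ hx, map_zero]
  have hχfix : SigmaFixed σ χ := fun g => by
    rw [hχdef, hσind, show (fun x => σ (ψ x)) = ψ from funext hψfix]
  have h1 : classInner (fun t : T => χ t) ψ ≠ 0 := by
    have h := classInner_indFun_left T ψ (isClassFunction_of_isIrr hχ)
    rw [← hχdef, classInner_irr_self hχ, ← classInner_conj_symm] at h
    intro h0
    rw [h0, map_zero] at h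
    exact one_ne_zero h
  have hmult := (ProjExt.clifford_core hθ hT.symm hNT hχ hψ h1 h2).2
  refine ⟨χ, ⟨hχ, hχfix, hmult ▸ h2, fun hinv n => ?_⟩, fun χ' hχ' hfix' hc' => ?_⟩
  · -- in the invariant case the inertia group is everything
    have htop : T = ⊤ := by rw [hT, Subgroup.eq_top_iff']; exact fun g => mem_inertia.2 (hinv g)
    have hdeg : χ 1 = ψ 1 := by
      rw [hχdef, indFun_apply_one, Subgroup.index_eq_one.2 htop, Nat.cast_one, one_mul]
    have hres1 := (ProjExt.degree_over_invariant (T := T) hNT hθ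
      (fun t => hinv t) hψ h2).1
    have hsub := IsChar.sub_constituent (isCharacter_res N (IsIrr.isCharacter hχ)) hθ (hmult ▸ h2)
    have h0 := (IsChar.eq_zero_iff hsub).2 (by
      rw [Pi.sub_apply, OneMemClass.coe_one, hdeg, ← hψN 1]
      exact sub_self _)
    exact sub_eq_zero.1 (congrFun h0 n)
  · obtain ⟨ψ', hψ', hind, hc2⟩ := ProjExt.exists_correspondent hθ hT.symm hNT hχ' hc'
    have hψ'2 : classInner (fun n : N => ψ' ⟨n, hNT n.2⟩) θ ≠ 0 := hc2 ▸ hc'
    have hψ'fix : SigmaFixed σ ψ' := by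
      have hσψ' : classInner (fun n : N => σ (ψ' ⟨n, hNT n.2⟩)) θ ≠ 0 := by
        have h := classInner_map σ (χ := fun n : N => ψ' ⟨n, hNT n.2⟩) (IsIrr.isCharacter hθ)
        rw [show (fun n : N => σ (θ n)) = θ from funext hfix] at h
        rw [h]
        exact (map_ne_zero σ).2 hψ'2
      have h := ProjExt.indFun_injective hθ hT.symm hNT (isIrr_map σ hψ') hψ' hσψ' hψ'2 (by
        funext g
        rw [← hσind ψ' g, hind, hfix'])
      exact congrFun h
    have := eq_of_sigmaFixed (N.subgroupOf T) hσ hTm hToddidx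
      (fun g => by rw [Subgroup.mem_subgroupOf]; exact hN1 g) hψ
      (by rw [show (fun n : N.subgroupOf T => ψ (n : T)) = θ' from funext hψres]; exact hθ') hψ'
      (by rw [show (fun n : N.subgroupOf T => ψ (n : T)) = θ' from funext hψres]
          exact fun h0 => hψ'2 (Eq.trans
            (ProjExt.classInner_subgroupOf N T hNT (fun n : N => ψ' ⟨n, hNT n.2⟩) θ).symm h0)) hψfix hψ'fix
    rw [← hind, this]

end Cfsg.Agent.Char
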