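import Cfsg.Agent.ProjExt.Criteria
import Cfsg.Agent.ProjExt.Ratio
import Cfsg.Agent.Fusion.Residual
import Cfsg.Agent.Blocks.Congr
import Cfsg.Agent.Char.Clifford
import Cfsg.Agent.Char.Linear

/-!
# The order of `O^p(G)` modulo `p` from the characters of `p'`-degree and `p'`-determinantal order
-/

namespace Cfsg.Agent.Char

universe u

variable {G : Type u} [Group G]

/-- A linear character of a group generated by `p'`-elements has `p'`-order. -/
theorem not_dvd_orderOf_hom_of_pResidual_eq_top {K : Type u} [Group K] [Finite K] {p : ℕ}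
    (hp : p.Prime) (h : Cfsg.pResidual p K = ⊤) (ν : K →* ℂˣ) : ¬ p ∣ orderOf ν := by
  set m := ordCompl[p] (Nat.card K) with hm
  have hle : Subgroup.closure {g : K | Nat.Coprime (orderOf g) p} ≤ (ν ^ m).ker := by
    refine (Subgroup.closure_le _).2 fun g (hg : Nat.Coprime (orderOf g) p) => ?_
    have hdvd : orderOf g ∣ m := by
      have h1 : orderOf g ∣ ordProj[p] (Nat.card K) * m := by
        rw [hm, Nat.ordProj_mul_ordCompl_eq_self]
        exact orderOf_dvd_natCard g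
      exact (hg.pow_right _).dvd_of_dvd_mul_left h1
    show (ν ^ m) g = 1
    rw [MonoidHom.pow_apply, ← map_pow, orderOf_dvd_iff_pow_eq_one.1 hdvd, map_one]
  have h1 : ν ^ m = 1 := MonoidHom.ext fun x => by
    rw [Cfsg.pResidual] at h
    exact hle (h ▸ Subgroup.mem_top x : x ∈ Subgroup.closure _)
  exact fun hd => Nat.not_dvd_ordCompl hp Nat.card_pos.ne'
    (hd.trans (orderOf_dvd_of_pow_eq_one h1))

/-- The order of `O^p(G)` is congruent modulo `p` to the sum of the squares of the degrees of the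
irreducible characters of `p'`-degree and `p'`-determinantal order. -/
theorem card_pResidual_modEq [Fintype G] {p : ℕ} (hp : p.Prime) :
    (Nat.card (Cfsg.pResidual p G) : ℤ) ≡ (∑ᶠ χ ∈ {χ : Cfsg.IrrCharacter G |
      ¬ p ∣ Cfsg.charDegree (χ : G → ℂ) ∧ ¬ p ∣ Cfsg.detOrder (χ : G → ℂ)},
        (Cfsg.charDegree (χ : G → ℂ) : ℤ) ^ 2) [ZMOD p] := by
  classical
  have : Fact p.Prime := ⟨hp⟩
  obtain ⟨K, hK, hKn⟩ : ∃ K : Subgroup G, K = Cfsg.pResidual p G ∧ K.Normal :=
    ⟨_, rfl, inferInstance⟩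
  have := Fintype.ofFinite K
  rw [← hK]
  obtain ⟨k, hidx⟩ : ∃ k, K.index = p ^ k := hK ▸ Fusion.index_pResidual_eq_pow
  have hKgen : Cfsg.pResidual p K = ⊤ := hK ▸ Fusion.pResidual_pResidual
  have hord : ∀ ν : K →* ℂˣ, Nat.Coprime K.index (orderOf ν) := fun ν => by
    rw [hidx]
    exact (hp.coprime_iff_not_dvd.2 (not_dvd_orderOf_hom_of_pResidual_eq_top hp hKgen ν)).pow_left k
  set d : IrrCharacter K → ℕ := fun θ => Cfsg.charDegree (θ : K → ℂ) with hd
  have hdK : ∀ θ : IrrCharacter K, (θ : K → ℂ) 1 = d θ := fun θ => by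
    obtain ⟨n, -, hn⟩ := IsIrr.degree θ.2
    rw [hd]; simp only
    rw [Blocks.charDegree_eq hn, hn]
  have hdG : ∀ χ : IrrCharacter G, (χ : G → ℂ) 1 = Cfsg.charDegree (χ : G → ℂ) := fun χ => by
    obtain ⟨n, -, hn⟩ := IsIrr.degree χ.2
    rw [Blocks.charDegree_eq hn, hn]
  set S := Finset.univ.filter fun χ : IrrCharacter G =>
    ¬ p ∣ Cfsg.charDegree (χ : G → ℂ) ∧ ¬ p ∣ Cfsg.detOrder (χ : G → ℂ) with hS
  rw [finsum_mem_eq_sum_of_inter_support_eq _ (t := S)
    (by rw [hS, Finset.coe_filter]; simp [Set.setOf_and])]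
  set T := Finset.univ.filter fun θ : IrrCharacter K =>
    ¬ p ∣ d θ ∧ ∀ g : G, conjFun g (θ : K → ℂ) = θ with hT
  -- the restrictions are irreducible
  have hres : ∀ χ ∈ S, ∃ θ : IrrCharacter K, (fun n : K => (χ : G → ℂ) n) = θ ∧ θ ∈ T ∧
      d θ = Cfsg.charDegree (χ : G → ℂ) := by
    intro χ hχ
    rw [hS, Finset.mem_filter] at hχ
    obtain ⟨θ, hθ⟩ := exists_constituent_res (N := K) χ.2
    obtain ⟨r, hr, hrd⟩ := ProjExt.exists_ratio_dvd_index χ.2 θ.2 hθ
    rw [hdG, hdK, ← Nat.cast_mul, Nat.cast_inj] at hr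
    have hr1 : r = 1 := by
      rw [hidx] at hrd
      obtain ⟨i, -, rfl⟩ := (Nat.dvd_prime_pow hp).1 hrd
      cases i with
      | zero => simp
      | succ i => exact absurd (hr ▸ (dvd_pow_self p i.succ_ne_zero).mul_right _) hχ.2.1
    rw [hr1, one_mul] at hr
    have heq : (fun n : K => (χ : G → ℂ) n) = θ := by
      have hc := IsChar.sub_constituent (isCharacter_res K (IsIrr.isCharacter χ.2)) θ.2 hθ
      refine sub_eq_zero.1 ((IsChar.eq_zero_iff hc).2 ?_)
      simp [hdG, hdK, hr]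
    refine ⟨θ, heq, Finset.mem_filter.2 ⟨Finset.mem_univ _, hr ▸ hχ.2.1, fun g => ?_⟩, hr.symm⟩
    rw [← heq]
    exact conjFun_res g (isClassFunction_of_isIrr χ.2)
  choose r hr1 hr2 hr3 using hres
  have hbij : ∑ χ ∈ S, (Cfsg.charDegree (χ : G → ℂ) : ℤ) ^ 2 = ∑ θ ∈ T, (d θ : ℤ) ^ 2 := by
    refine Finset.sum_bij r hr2 ?_ ?_ fun χ hχ => by rw [hr3 χ hχ]
    · intro χ hχ χ' hχ' he
      have hres' : ∀ n : K, (χ' : G → ℂ) n = (χ : G → ℂ) n := fun n => by
        rw [congrFun (hr1 χ' hχ') n, ← he, ← congrFun (hr1 χ hχ) n]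
      have hcd := hr3 χ hχ
      rw [hS, Finset.mem_filter] at hχ hχ'
      obtain ⟨ν, hν⟩ := ProjExt.exists_detChar_hom (IsIrr.isCharacter χ.2)
      obtain ⟨ν', hν'⟩ := ProjExt.exists_detChar_hom (IsIrr.isCharacter χ'.2)
      have hoν : Nat.Coprime K.index (orderOf ν) := by
        rw [hidx]
        refine (hp.coprime_iff_not_dvd.2 ?_).pow_left k
        have := hχ.2.2
        rwa [Cfsg.detOrder, hν, ProjExt.orderOf_hom_coe] at this
      have hoν' : Nat.Coprime K.index (orderOf ν') := by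
        rw [hidx]
        refine (hp.coprime_iff_not_dvd.2 ?_).pow_left k
        have := hχ'.2.2
        rwa [Cfsg.detOrder, hν', ProjExt.orderOf_hom_coe] at this
      have hνN : ∀ n : K, (ν n : ℂ) = Cfsg.detChar (fun m : K => (χ : G → ℂ) m) n := fun n => by
        rw [← congrFun hν (n : G)]
        exact (congrFun (ProjExt.detChar_comp (IsIrr.isCharacter χ.2) K.subtype) n).symm
      have hνN' : ∀ n : K, ν' n = ν n := fun n => Units.ext (by
        rw [hνN, ← congrFun hν' (n : G), show (fun m : K => (χ : G → ℂ) m) =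
          fun m : K => (χ' : G → ℂ) m from funext fun m => (hres' m).symm]
        exact (congrFun (ProjExt.detChar_comp (IsIrr.isCharacter χ'.2) K.subtype) n).symm)
      obtain ⟨μ, -, -, huniq⟩ := ProjExt.exists_ext_of_coprime K (ν.comp K.subtype)
        (ProjExt.orderOf_pos_hom _) (fun g n => by
          show ν (g * n * g⁻¹) = ν n
          rw [map_mul, map_mul, map_inv, mul_inv_eq_iff_eq_mul, mul_comm]) (hord _)
      have hνν : ν' = ν := (huniq ν' hνN' hoν').trans (huniq ν (fun n => rfl) hoν).symm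
      have hcop : Nat.Coprime K.index (Cfsg.charDegree (χ : G → ℂ)) := by
        rw [hidx]; exact (hp.coprime_iff_not_dvd.2 hχ.2.1).pow_left k
      have hirr : IsIrrCharacter K (fun m : K => (χ : G → ℂ) m) := by
        rw [hr1 χ (by rw [hS, Finset.mem_filter]; exact hχ)]; exact (r χ _).2
      obtain ⟨ω, -, hω⟩ := ProjExt.exists_unique_det K hirr
        (d := Cfsg.charDegree (χ : G → ℂ)) (by simp [hdG]) hcop (IsIrr.isCharacter χ.2)
        (fun n => rfl) ν hνN
      exact Subtype.ext ((hω _ (IsIrr.isCharacter χ.2) (fun n => rfl) hν).trans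
        (hω _ (IsIrr.isCharacter χ'.2) hres' (hνν ▸ hν')).symm)
    · intro θ hθ
      rw [hT, Finset.mem_filter] at hθ
      obtain ⟨ν, hν⟩ := ProjExt.exists_detChar_hom (IsIrr.isCharacter θ.2)
      have hinv : ∀ (g : G) (n : K),
          (θ : K → ℂ) ⟨g * n * g⁻¹, hKn.conj_mem (n : G) n.2 g⟩ = (θ : K → ℂ) n :=
        fun g n => congrFun (hθ.2.2 g) n
      have hνinv : ∀ (g : G) (n : K), ν ⟨g * n * g⁻¹, hKn.conj_mem (n : G) n.2 g⟩ = ν n := by
        intro g n
        refine Units.ext ?_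
        have h1 := congrFun (ProjExt.detChar_comp (IsIrr.isCharacter θ.2)
          (MulAut.conjNormal g : MulAut K).toMonoidHom) n
        have h2 : (fun x : K => (θ : K → ℂ) ((MulAut.conjNormal g : MulAut K) x)) = θ :=
          funext fun x => hinv g x
        simp only [MulEquiv.coe_toMonoidHom] at h1
        rw [h2] at h1
        rw [← congrFun hν n, ← congrFun hν, h1]
        rfl
      obtain ⟨μ, hμ, hμo, -⟩ := ProjExt.exists_ext_of_coprime K ν (ProjExt.orderOf_pos_hom _)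
        hνinv (hord ν)
      have hcop : Nat.Coprime K.index (d θ) := by
        rw [hidx]; exact (hp.coprime_iff_not_dvd.2 hθ.2.1).pow_left k
      have hμdet : ∀ n : K, (μ n : ℂ) = Cfsg.detChar (θ : K → ℂ) n := fun n => by
        rw [hμ n, congrFun hν n]
      obtain ⟨η, hη, hηres⟩ := ProjExt.extends_of_det K θ.2 hinv (hdK θ) hcop μ hμdet
      obtain ⟨χ, ⟨hχ, hχres, hχdet⟩, -⟩ := ProjExt.exists_unique_det K θ.2 (hdK θ) hcop
        (IsIrr.isCharacter hη) hηres μ hμdet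
      have hdeg : Cfsg.charDegree χ = d θ :=
        Blocks.charDegree_eq (by rw [← hdK, ← hχres 1]; rfl)
      have hmem : (⟨χ, hχ⟩ : IrrCharacter G) ∈ S := by
        rw [hS, Finset.mem_filter]
        refine ⟨Finset.mem_univ _, by rw [hdeg]; exact hθ.2.1, ?_⟩
        rw [Cfsg.detOrder, hχdet, ProjExt.orderOf_hom_coe, hμo]
        exact not_dvd_orderOf_hom_of_pResidual_eq_top hp hKgen ν
      refine ⟨⟨χ, hχ⟩, hmem, Subtype.ext ?_⟩
      rw [← hr1 _ hmem]
      exact funext hχres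
  rw [hbij]
  -- the other characters of `K`
  have htot : (Nat.card K : ℤ) = ∑ θ : IrrCharacter K, (d θ : ℤ) ^ 2 := by
    have h := sum_sq_degree (G := K)
    simp only [hdK] at h
    exact_mod_cast h.symm
  rw [htot, ← Finset.sum_filter_add_sum_filter_not Finset.univ
    (fun θ : IrrCharacter K => ¬ p ∣ d θ ∧ ∀ g : G, conjFun g (θ : K → ℂ) = θ), ← hT]
  refine Int.ModEq.symm (Int.modEq_iff_dvd.2 ?_)
  rw [add_sub_cancel_left]
  set U := Finset.univ.filter fun θ : IrrCharacter K =>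
    ¬ (¬ p ∣ d θ ∧ ∀ g : G, conjFun g (θ : K → ℂ) = θ) with hU
  rw [← Finset.sum_fiberwise_of_maps_to (t := U.image fun θ : IrrCharacter K => orbit (G := G) (θ : K → ℂ))
    (g := fun θ : IrrCharacter K => orbit (G := G) (θ : K → ℂ)) fun θ hθ => Finset.mem_image_of_mem _ hθ]
  refine Finset.dvd_sum fun O hO => ?_
  obtain ⟨θ, hθ, rfl⟩ := Finset.mem_image.1 hO
  rw [hU, Finset.mem_filter] at hθ
  by_cases hdvd : p ∣ d θ
  · refine Finset.dvd_sum fun θ' hθ' => ?_
    obtain ⟨-, he⟩ := Finset.mem_filter.1 hθ'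
    obtain ⟨g, hg⟩ := mem_orbit.1 (he ▸ self_mem_orbit (θ' : K → ℂ))
    have h1 : (θ' : K → ℂ) 1 = (θ : K → ℂ) 1 := by rw [← hg, conjFun_apply_one]
    rw [hdK, hdK, Nat.cast_inj] at h1
    rw [h1]
    exact dvd_pow (Int.natCast_dvd_natCast.2 hdvd) two_ne_zero
  · have hfix : ¬ ∀ g : G, conjFun g (θ : K → ℂ) = θ := fun h => hθ.2 ⟨hdvd, h⟩
    have hcard : p ∣ (orbit (G := G) (θ : K → ℂ)).card := by
      rw [card_orbit]
      have h1 : (inertia (θ : K → ℂ)).index ∣ p ^ k :=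
        hidx ▸ Subgroup.index_dvd_of_le (le_inertia (isClassFunction_of_isIrr θ.2))
      obtain ⟨i, -, hi⟩ := (Nat.dvd_prime_pow hp).1 h1
      cases i with
      | zero =>
        refine absurd (fun g => ?_) hfix
        rw [pow_zero, Subgroup.index_eq_one] at hi
        exact mem_inertia.1 (hi ▸ Subgroup.mem_top g)
      | succ i => rw [hi]; exact dvd_pow_self p i.succ_ne_zero
    have hfib : (U.filter fun θ' : IrrCharacter K =>
        orbit (G := G) (θ' : K → ℂ) = orbit (θ : K → ℂ)).card =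
        (orbit (G := G) (θ : K → ℂ)).card := by
      refine Finset.card_bij (fun θ' _ => (θ' : K → ℂ))
        (fun θ' hθ' => (Finset.mem_filter.1 hθ').2 ▸ self_mem_orbit _)
        (fun a _ b _ e => Subtype.ext e) fun ψ hψ => ?_
      obtain ⟨g, hg⟩ := mem_orbit.1 hψ
      have horb : orbit (G := G) ψ = orbit (θ : K → ℂ) := by
        ext φ
        simp only [mem_orbit, ← hg, conjFun_conjFun]
        exact ⟨fun ⟨x, hx⟩ => ⟨g * x, hx⟩, fun ⟨x, hx⟩ => ⟨g⁻¹ * x, by simpa using hx⟩⟩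
      have hψi : IsIrrCharacter K ψ := hg ▸ isIrr_conjFun g θ.2
      refine ⟨⟨ψ, hψi⟩, Finset.mem_filter.2 ⟨Finset.mem_filter.2 ⟨Finset.mem_univ _, ?_⟩, horb⟩,
        rfl⟩
      intro hc
      refine hfix fun x => ?_
      have e : (θ : K → ℂ) = conjFun g⁻¹ ψ := by rw [← hg, conjFun_inv_cancel]
      rw [e, hc.2 g⁻¹, hc.2 x]
    have hconst : ∀ θ' ∈ U.filter (fun θ' : IrrCharacter K =>
        orbit (G := G) (θ' : K → ℂ) = orbit (θ : K → ℂ)), (d θ' : ℤ) ^ 2 = (d θ : ℤ) ^ 2 := by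
      intro θ' hθ'
      obtain ⟨g, hg⟩ := mem_orbit.1 ((Finset.mem_filter.1 hθ').2 ▸ self_mem_orbit (θ' : K → ℂ))
      have h1 : (θ' : K → ℂ) 1 = (θ : K → ℂ) 1 := by rw [← hg, conjFun_apply_one]
      rw [hdK, hdK, Nat.cast_inj] at h1
      rw [h1]
    rw [Finset.sum_congr rfl hconst, Finset.sum_const, nsmul_eq_mul, hfib]
    exact (Int.natCast_dvd_natCast.2 hcard).mul_right _

/-- Thompson: if `p` divides every nonlinear character degree then `O^p(G)` is a `p'`-group. -/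
theorem not_dvd_card_pResidual [Fintype G] {p : ℕ} (hp : p.Prime)
    (hdeg : ∀ χ : Cfsg.IrrCharacter G, Cfsg.charDegree (χ : G → ℂ) ≠ 1 →
      p ∣ Cfsg.charDegree (χ : G → ℂ)) : ¬ p ∣ Nat.card (Cfsg.pResidual p G) := by
  classical
  intro hdvd
  have hfinH : Finite (G →* ℂˣ) := by
    refine Finite.of_injective (fun f : G →* ℂˣ => (⟨fun g => (f g : ℂ),
      IsChar.isIrr_of_degree_one (isLinear_iff.2 ⟨f, rfl⟩).1 (isLinear_iff.2 ⟨f, rfl⟩).2⟩ :
        IrrCharacter G)) fun a b h => ?_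
    exact ProjExt.hom_eq_of_coe (congrArg Subtype.val h)
  set m := ordCompl[p] (Nat.card G) with hm
  have hm0 : ¬ p ∣ m := Nat.not_dvd_ordCompl hp Nat.card_pos.ne'
  set L : Subgroup (G →* ℂˣ) := (powMonoidHom m).ker with hL
  have hmemL : ∀ f : G →* ℂˣ, f ∈ L ↔ ¬ p ∣ orderOf f := by
    intro f
    rw [hL, MonoidHom.mem_ker, powMonoidHom_apply, ← orderOf_dvd_iff_pow_eq_one]
    refine ⟨fun h hd => hm0 (hd.trans h), fun h => ?_⟩
    have h1 : orderOf f ∣ ordProj[p] (Nat.card G) * m := by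
      rw [hm, Nat.ordProj_mul_ordCompl_eq_self]
      exact orderOf_dvd_of_pow_eq_one (MonoidHom.ext fun g => by
        rw [MonoidHom.pow_apply, ← map_pow, pow_card_eq_one', map_one, MonoidHom.one_apply])
    exact ((hp.coprime_iff_not_dvd.2 h).symm.pow_right _).dvd_of_dvd_mul_left h1
  have hLp : ¬ p ∣ Nat.card L := by
    intro h
    have : Fact p.Prime := ⟨hp⟩
    obtain ⟨f, hf⟩ := exists_prime_orderOf_dvd_card' (G := L) p h
    rw [← Subgroup.orderOf_coe] at hf
    exact (hmemL f).1 f.2 (by rw [hf])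
  have hlin : ∀ χ : IrrCharacter G, ¬ p ∣ Cfsg.charDegree (χ : G → ℂ) →
      ∃ f : G →* ℂˣ, (χ : G → ℂ) = (fun g => (f g : ℂ)) ∧ Cfsg.charDegree (χ : G → ℂ) = 1 := by
    intro χ h
    obtain ⟨n, -, hn⟩ := IsIrr.degree χ.2
    have h1 : Cfsg.charDegree (χ : G → ℂ) = 1 := by_contra fun hne => h (hdeg χ hne)
    obtain ⟨f, hf⟩ := IsChar.exists_hom (IsIrr.isCharacter χ.2) (by
      rw [hn, ← Blocks.charDegree_eq hn, h1, Nat.cast_one])
    exact ⟨f, hf, h1⟩
  have hdet : ∀ f : G →* ℂˣ, Cfsg.detOrder (fun g => (f g : ℂ)) = orderOf f := by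
    intro f
    rw [Cfsg.detOrder, ← ProjExt.orderOf_hom_coe f]
    refine congrArg orderOf ?_
    rw [ProjExt.detChar_eq_det (χ := fun g => (f g : ℂ))
      ((algebraMap ℂ (Module.End ℂ ℂ)).toMonoidHom.comp ((Units.coeHom ℂ).comp f)) (funext fun g => ?_)]
    · funext g
      simp [Algebra.algebraMap_eq_smul_one]
    · simp [Representation.character, Algebra.algebraMap_eq_smul_one]
  have key := card_pResidual_modEq (G := G) hp
  set S := Finset.univ.filter fun χ : IrrCharacter G =>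
    ¬ p ∣ Cfsg.charDegree (χ : G → ℂ) ∧ ¬ p ∣ Cfsg.detOrder (χ : G → ℂ) with hS
  rw [finsum_mem_eq_sum_of_inter_support_eq _ (t := S)
    (by rw [hS, Finset.coe_filter]; simp [Set.setOf_and])] at key
  rw [Finset.sum_congr (s₁ := S) rfl fun χ hχ => show (Cfsg.charDegree (χ : G → ℂ) : ℤ) ^ 2 = 1 by
    obtain ⟨f, -, h1⟩ := hlin χ (Finset.mem_filter.1 hχ).2.1
    rw [h1]; norm_num, Finset.sum_const, nsmul_eq_mul, mul_one] at key
  have hcardS : S.card = Nat.card L := by
    rw [← Nat.card_eq_finsetCard]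
    refine (Nat.card_eq_of_bijective (fun f : L => (⟨⟨fun g => ((f : G →* ℂˣ) g : ℂ),
      IsChar.isIrr_of_degree_one (isLinear_iff.2 ⟨(f : G →* ℂˣ), rfl⟩).1
        (isLinear_iff.2 ⟨(f : G →* ℂˣ), rfl⟩).2⟩, ?_⟩ :
        S)) ⟨fun a b h => ?_, fun χ => ?_⟩).symm
    · rw [hS, Finset.mem_filter]
      refine ⟨Finset.mem_univ _, ?_, ?_⟩
      · rw [Blocks.charDegree_eq (n := 1) (by simp)]
        exact hp.not_dvd_one
      · rw [hdet]; exact (hmemL _).1 f.2
    · exact Subtype.ext (ProjExt.hom_eq_of_coe (congrArg Subtype.val (congrArg Subtype.val h)))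
    · have hχ := χ.2
      simp only [hS, Finset.mem_filter] at hχ
      obtain ⟨f, hf, -⟩ := hlin χ.1 hχ.2.1
      refine ⟨⟨f, (hmemL f).2 ?_⟩, Subtype.ext (Subtype.ext hf.symm)⟩
      have := hχ.2.2
      rwa [hf, hdet] at this
  rw [hcardS] at key
  exact hLp (Int.natCast_dvd_natCast.1
    ((Int.ModEq.dvd_iff key).1 (Int.natCast_dvd_natCast.2 hdvd)))

end Cfsg.Agent.Char
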