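import Mathlib
import Cfsg.Agent.Char.ClassBound
import Cfsg.Agent.Blocks.Congr
import Cfsg.Agent.Layer.PConstraint
import Cfsg.Agent.Core.MinimalNormal
import Cfsg.Agent.Thompson.Offender.Action
import Cfsg.Agent.ProjExt.Ratio
import Cfsg.Agent.S4035

/-!
# The Itô-Michler theorem for `p`-solvable groups
-/

set_option autoImplicit false

namespace Cfsg.Agent.Char

open Subgroup

universe u

variable {G : Type u} [Group G] [Finite G] {p : ℕ}

theorem charDegree_spec' (χ : IrrCharacter G) :
    (χ : G → ℂ) 1 = (Cfsg.charDegree (χ : G → ℂ) : ℂ) := by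
  obtain ⟨n, -, hn⟩ := IsIrr.degree χ.2
  rw [Blocks.charDegree_eq hn, hn]

theorem exists_over [Fintype G] (N : Subgroup G) [Fintype N] (θ : IrrCharacter N) :
    ∃ χ : IrrCharacter G, classInner (fun n : N => (χ : G → ℂ) n) (θ : N → ℂ) ≠ 0 := by
  obtain ⟨χ, hχ⟩ := IsChar.exists_constituent (isCharacter_indFun N (IsIrr.isCharacter θ.2))
    (fun h => by
      have h1 := congrFun h 1
      rw [indFun_apply_one, Pi.zero_apply, mul_eq_zero] at h1
      rcases h1 with h1 | h1
      · exact Subgroup.index_ne_zero_of_finite (by exact_mod_cast h1)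
      · exact IsIrr.one_ne_zero θ.2 h1)
  refine ⟨χ, ?_⟩
  rw [classInner_indFun_left N _ (isClassFunction_of_isIrr χ.2)] at hχ
  intro h
  rw [← classInner_conj_symm, h, map_zero] at hχ
  exact hχ rfl

/-- The hypothesis on degrees passes to normal subgroups. -/
theorem not_dvd_degree_normal (hdeg : ∀ χ : IrrCharacter G, ¬ p ∣ Cfsg.charDegree (χ : G → ℂ))
    (N : Subgroup G) [N.Normal] (θ : IrrCharacter N) :
    ¬ p ∣ Cfsg.charDegree (θ : N → ℂ) := by
  have := Fintype.ofFinite G
  have := Fintype.ofFinite N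
  obtain ⟨χ, hχ⟩ := exists_over N θ
  obtain ⟨k, hk, -⟩ := ProjExt.exists_ratio_dvd_index χ.2 θ.2 hχ
  rw [charDegree_spec', charDegree_spec', ← Nat.cast_mul, Nat.cast_inj] at hk
  exact fun h => hdeg χ (hk ▸ h.mul_left k)

/-- The hypothesis on degrees passes to quotients. -/
theorem not_dvd_degree_quotient (hdeg : ∀ χ : IrrCharacter G, ¬ p ∣ Cfsg.charDegree (χ : G → ℂ))
    (N : Subgroup G) [N.Normal] (θ : IrrCharacter (G ⧸ N)) :
    ¬ p ∣ Cfsg.charDegree (θ : G ⧸ N → ℂ) := by
  have h := hdeg ⟨_, isIrrCharacter_comp (QuotientGroup.mk' N) (QuotientGroup.mk'_surjective N) θ.2⟩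
  have e : Cfsg.charDegree (fun g => (θ : G ⧸ N → ℂ) (QuotientGroup.mk' N g)) =
      Cfsg.charDegree (θ : G ⧸ N → ℂ) := by
    simp [Cfsg.charDegree]
  exact fun hd => h (e.symm ▸ hd)

theorem isMinNormal_card [Fact p.Prime] (hsol : Cfsg.IsPSolvable p G) {N : Subgroup G}
    (hN : Core.IsMinNormal N) : IsPGroup p N ∨ (Nat.card N).Coprime p := by
  classical
  obtain ⟨n, H, h0, hl, hm, hn, hi⟩ := hsol
  have key : ∀ i : Fin (n + 1), N ⊓ H i = ⊥ ∨ IsPGroup p N ∨ (Nat.card N).Coprime p := by
    intro i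
    induction i using Fin.induction with
    | zero => exact Or.inl (by rw [h0, inf_bot_eq])
    | succ j ih =>
      rcases ih with ih | ih
      · haveI := hn j.succ
        rcases hN.le_or_inf_eq_bot (H j.succ) with hle | hb
        · right
          haveI := hn j.castSucc
          have hd : Nat.card N ∣ (H j.castSucc).relIndex (H j.succ) := by
            refine dvd_trans (dvd_of_eq ?_) (Layer.relIndex_dvd_relIndex_of_le hle)
            rw [← inf_relIndex_right, inf_comm, ih, relIndex_bot_left]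
          rcases hi j with ⟨m, hm'⟩ | hc
          · obtain ⟨a, -, ha⟩ := (Nat.dvd_prime_pow (Fact.out : p.Prime)).1 (hm' ▸ hd)
            exact Or.inl (IsPGroup.of_card ha)
          · exact Or.inr (hc.coprime_dvd_left hd)
        · exact Or.inl hb
      · exact Or.inr ih
  rcases key (Fin.last n) with h | h
  · rw [hl, inf_top_eq] at h
    exact absurd h hN.ne_bot
  · exact h

/-- A normal `p'`-subgroup of `p`-power index is centralised by a Sylow subgroup when all degrees
are prime to `p`. -/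
theorem le_centralizer_sylow [Fact p.Prime]
    (hdeg : ∀ χ : IrrCharacter G, ¬ p ∣ Cfsg.charDegree (χ : G → ℂ)) (N : Subgroup G) [hN : N.Normal]
    (hcop : (Nat.card N).Coprime p) {k : ℕ} (hidx : N.index = p ^ k) (P : Sylow p G) :
    N ≤ centralizer ((P : Subgroup G) : Set G) := by
  classical
  have := Fintype.ofFinite G
  have := Fintype.ofFinite N
  have hp : p.Prime := Fact.out
  have hfix : ∀ (g : G) (θ : IrrCharacter N), conjFun g (θ : N → ℂ) = θ := by
    intro g θ
    obtain ⟨χ, hχ⟩ := exists_over N θ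
    have h1 := degree_eq_of_clifford χ.2 θ.2 hχ
    obtain ⟨e, he⟩ := classInner_isCharacter_eq_natCast
      (isCharacter_res N (IsIrr.isCharacter χ.2)) (IsIrr.isCharacter θ.2)
    rw [he, charDegree_spec', charDegree_spec', ← Nat.cast_mul, ← Nat.cast_mul, Nat.cast_inj] at h1
    have hd : (inertia (θ : N → ℂ)).index ∣ N.index :=
      Subgroup.index_dvd_of_le (le_inertia (isClassFunction_of_isIrr θ.2))
    rw [hidx] at hd
    obtain ⟨a, -, ha⟩ := (Nat.dvd_prime_pow hp).1 hd
    rcases Nat.eq_zero_or_pos a with rfl | hpos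
    · rw [pow_zero] at ha
      have : g ∈ inertia (θ : N → ℂ) := by rw [Subgroup.index_eq_one.1 ha]; exact mem_top g
      exact this
    · refine absurd ?_ (hdeg χ)
      rw [h1, ha]
      exact ((dvd_pow_self p hpos.ne').mul_left e).mul_right _
  -- every class of `N` is a class of `G`
  have hconj : ∀ (g : G) (n : N), IsConj n ⟨g * n * g⁻¹, hN.conj_mem n n.2 g⟩ := fun g n =>
    (isConj_iff_forall_irr _ _).2 fun θ => (congrFun (hfix g θ) n).symm
  have hcover : ∀ n : N, ∃ c : N, c⁻¹ * n * c ∈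
      (centralizer ((P : Subgroup G) : Set G)).subgroupOf N := by
    intro n
    have hC : ¬ p ∣ (centralizer ({(n : G)} : Set G)).index := by
      rw [← card_isConj_eq_index]
      have e : Nat.card {x : G // IsConj (n : G) x} = Nat.card {x : N // IsConj n x} :=
        Nat.card_congr
          { toFun := fun x => ⟨⟨x.1, by
              obtain ⟨c, hc⟩ := isConj_iff.1 x.2
              exact hc ▸ hN.conj_mem n n.2 c⟩, by
              obtain ⟨c, hc⟩ := isConj_iff.1 x.2
              have := hconj c n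
              simp only [hc] at this
              exact this⟩
            invFun := fun x => ⟨x.1, N.subtype.map_isConj x.2⟩
            left_inv := fun x => rfl
            right_inv := fun x => rfl }
      rw [e, card_isConj_eq_index]
      exact fun h => (hp.coprime_iff_not_dvd.1 hcop.symm)
        (h.trans (Subgroup.index_dvd_card _))
    obtain ⟨Q⟩ : Nonempty (Sylow p (centralizer ({(n : G)} : Set G))) := inferInstance
    have hQi : ¬ p ∣ ((Q : Subgroup _).map (centralizer ({(n : G)} : Set G)).subtype).index := by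
      rw [Subgroup.index_map_subtype]
      exact fun h => (hp.dvd_mul.1 h).elim Q.not_dvd_index hC
    obtain ⟨g, hg⟩ := MulAction.exists_smul_eq G P
      ((Q.isPGroup'.map (centralizer ({(n : G)} : Set G)).subtype).toSylow hQi)
    obtain ⟨c, hc⟩ := isConj_iff.1 (hconj g⁻¹ n)
    refine ⟨c⁻¹, ?_⟩
    rw [inv_inv, hc, mem_subgroupOf, mem_centralizer_iff]
    intro x hx
    have hgx : g * x * g⁻¹ ∈ centralizer ({(n : G)} : Set G) := by
      have : g * x * g⁻¹ ∈ ((g • P : Sylow p G) : Subgroup G) := by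
        rw [Sylow.coe_subgroup_smul]
        exact ⟨x, hx, rfl⟩
      rw [hg] at this
      obtain ⟨y, -, hy⟩ := this
      exact hy ▸ y.2
    rw [mem_centralizer_singleton_iff] at hgx
    simp only [inv_inv]
    calc x * (g⁻¹ * n * g) = g⁻¹ * (g * x * g⁻¹ * n) * g := by group
      _ = g⁻¹ * (n * (g * x * g⁻¹)) * g := by rw [hgx]
      _ = g⁻¹ * n * g * x := by group
  exact subgroupOf_eq_top.1 (S4035.eq_top_of_cover _ hcover)

/-- **Itô-Michler** for `p`-solvable groups. -/
theorem exists_normal_abelian_sylow : ∀ (n : ℕ) (G : Type u) [Group G] [Finite G], Nat.card G = n →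
    ∀ {p : ℕ} [Fact p.Prime], Cfsg.IsPSolvable p G →
    (∀ χ : IrrCharacter G, ¬ p ∣ Cfsg.charDegree (χ : G → ℂ)) →
    ∃ P : Subgroup G, P.Normal ∧ (∀ x ∈ P, ∀ y ∈ P, x * y = y * x) ∧ IsPGroup p P ∧
      ¬ p ∣ P.index := by
  intro n
  induction n using Nat.strong_induction_on with
  | _ n IH =>
  intro G _ _ hn p _ hsol hdeg
  subst hn
  have hp : p.Prime := Fact.out
  by_cases hB : ∃ K : Subgroup G, K.Normal ∧ K ≠ ⊤ ∧ ¬ p ∣ K.index
  · obtain ⟨K, hK, hKt, hKi⟩ := hB
    have hlt : Nat.card K < Nat.card G :=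
      lt_of_le_of_ne (Subgroup.card_le_card_group K) fun e => hKt (Subgroup.eq_top_of_card_eq K e)
    obtain ⟨P, hPn, hPc, hPp, hPi⟩ := IH _ hlt K rfl
      (Offender.isPSolvable_subgroup hsol K) (not_dvd_degree_normal hdeg K)
    have hchar : P.Characteristic :=
      Sylow.characteristic_of_normal (hPp.toSylow hPi) hPn
    refine ⟨P.map K.subtype, inferInstance, ?_, hPp.map _, ?_⟩
    · rintro _ ⟨x, hx, rfl⟩ _ ⟨y, hy, rfl⟩
      rw [← map_mul, ← map_mul, hPc x hx y hy]
    · rw [Subgroup.index_map_subtype]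
      exact fun h => (hp.dvd_mul.1 h).elim hPi hKi
  push Not at hB
  rcases subsingleton_or_nontrivial G with hs | hs
  · refine ⟨⊥, inferInstance, fun x _ y _ => Subsingleton.elim _ _, IsPGroup.of_bot, ?_⟩
    rw [Subgroup.index_bot, Nat.card_eq_one_iff_unique.2 ⟨hs, ⟨1⟩⟩]
    exact hp.not_dvd_one
  obtain ⟨N, hN⟩ := Core.exists_isMinNormal (G := G)
  haveI := hN.normal
  obtain ⟨Pb, hPbn, hPbc, hPbp, hPbi⟩ := IH _ (Core.card_quotient_lt hN.ne_bot) (G ⧸ N) rfl
    (Layer.isPSolvable_of_surjective hsol (QuotientGroup.mk'_surjective N))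
    (not_dvd_degree_quotient hdeg N)
  have hPbt : Pb = ⊤ := by
    by_contra hne
    refine hPbi ?_
    rw [← Subgroup.index_comap_of_surjective Pb (QuotientGroup.mk'_surjective N)]
    refine hB _ inferInstance fun e => hne ?_
    rw [← Subgroup.map_comap_eq_self_of_surjective (QuotientGroup.mk'_surjective N) Pb, e,
      Subgroup.map_top_of_surjective _ (QuotientGroup.mk'_surjective N)]
  subst hPbt
  obtain ⟨k, hk⟩ : ∃ k, N.index = p ^ k := by
    obtain ⟨k, hk⟩ := IsPGroup.iff_card.1 hPbp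
    exact ⟨k, by rw [Subgroup.index_eq_card, ← hk, Subgroup.card_top]⟩
  rcases isMinNormal_card hsol hN with hNp | hNc
  · have hG : IsPGroup p G := by
      obtain ⟨a, ha⟩ := IsPGroup.iff_card.1 hNp
      exact IsPGroup.of_card (n := a + k) (by rw [← N.card_mul_index, ha, hk, pow_add])
    have hab : ∀ a b : G, a * b = b * a := forall_degree_one_iff.1 fun χ => by
      obtain ⟨a, ha⟩ := IsPGroup.iff_card.1 hG
      obtain ⟨m, -, hm⟩ := (Nat.dvd_prime_pow hp).1
        (ha ▸ IsIrr.degree_dvd_card χ.2 (charDegree_spec' χ))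
      rcases Nat.eq_zero_or_pos m with rfl | hm0
      · rw [charDegree_spec', hm, pow_zero, Nat.cast_one]
      · exact absurd (hm ▸ dvd_pow_self p hm0.ne') (hdeg χ)
    refine ⟨⊤, inferInstance, fun x _ y _ => hab x y, hG.to_subgroup _, ?_⟩
    rw [Subgroup.index_top]
    exact hp.not_dvd_one
  · obtain ⟨P⟩ : Nonempty (Sylow p G) := inferInstance
    have hcen := le_centralizer_sylow hdeg N hNc hk P
    have hinf : (P : Subgroup G) ⊓ N = ⊥ := Layer.inf_eq_bot_of_isPGroup P.isPGroup' hNc
    have hsup : (P : Subgroup G) ⊔ N = ⊤ := by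
      rw [← Subgroup.index_eq_one]
      have h1 : ((P : Subgroup G) ⊔ N).index ∣ p ^ k := hk ▸ Subgroup.index_dvd_of_le le_sup_right
      have h2 : ¬ p ∣ ((P : Subgroup G) ⊔ N).index := fun h =>
        P.not_dvd_index (h.trans (Subgroup.index_dvd_of_le le_sup_left))
      obtain ⟨a, -, ha⟩ := (Nat.dvd_prime_pow hp).1 h1
      rcases Nat.eq_zero_or_pos a with rfl | ha0
      · simpa using ha
      · exact absurd (ha ▸ dvd_pow_self p ha0.ne') h2
    have hn' : (P : Subgroup G).Normal := by
      rw [← normalizer_eq_top_iff, eq_top_iff, ← hsup]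
      exact sup_le le_normalizer (hcen.trans (Subgroup.centralizer_le_normalizer _))
    refine ⟨P, hn', fun x hx y hy => ?_, P.isPGroup', P.not_dvd_index⟩
    have hq : (QuotientGroup.mk' N) (x * y * x⁻¹ * y⁻¹) = 1 := by
      rw [map_mul, map_mul, map_mul, hPbc _ (mem_top _) _ (mem_top (QuotientGroup.mk' N y))]
      simp
    have hm : x * y * x⁻¹ * y⁻¹ ∈ (P : Subgroup G) ⊓ N :=
      ⟨mul_mem (mul_mem (mul_mem hx hy) ((P : Subgroup G).inv_mem hx)) ((P : Subgroup G).inv_mem hy),
        (QuotientGroup.eq_one_iff _).1 hq⟩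
    rw [hinf, mem_bot] at hm
    calc x * y = x * y * x⁻¹ * y⁻¹ * (y * x) := by group
      _ = y * x := by rw [hm, one_mul]

end Cfsg.Agent.Char
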