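import Cfsg.Agent.Char.Clifford
import Cfsg.Agent.Char.Linear
import Cfsg.Agent.Char.NormalAbelianSylow
import Cfsg.Agent.ProjExt.Ratio
import Mathlib

/-!
# Degrees of faithful characters of solvable groups with a non-normal Sylow subgroup
-/

set_option autoImplicit false

namespace Cfsg.Agent.Char

open scoped ComplexConjugate

universe u

variable {G : Type u} [Group G] [Fintype G]

/-- A character irreducible on a subgroup of `H` is irreducible on `H`. -/
theorem isIrr_of_res_irr {χ : G → ℂ} (hχ : IsCharacter G χ) {L H : Subgroup G} (hLH : L ≤ H)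
    (hirr : IsIrrCharacter L (fun l : L => χ l)) : IsIrrCharacter H (fun h : H => χ h) := by
  classical
  have := Fintype.ofFinite H
  have := Fintype.ofFinite L
  obtain ⟨η, hη⟩ := IsChar.exists_constituent (isCharacter_res H hχ)
    fun e => IsIrr.one_ne_zero hirr (congrFun e 1 :)
  have hsub := IsChar.sub_constituent (isCharacter_res H hχ) η.2 hη
  have hres : ∀ {ψ : H → ℂ}, IsCharacter H ψ →
      IsCharacter L (fun l : L => ψ ⟨l, hLH l.2⟩) := fun h => isCharacter_comp (Subgroup.inclusion hLH) h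
  obtain ⟨a, ha⟩ := classInner_isCharacter_eq_natCast (hres hsub) (IsIrr.isCharacter hirr)
  obtain ⟨b, hb⟩ := classInner_isCharacter_eq_natCast (hres (IsIrr.isCharacter η.2))
    (IsIrr.isCharacter hirr)
  have hab : a + b = 1 := by
    have h : (a : ℂ) + b = 1 := by
      rw [← ha, ← hb, ← classInner_add_left, ← classInner_irr_self hirr]
      congr 1
      funext l
      simp
    exact_mod_cast h
  have hb1 : (fun l : L => (η : H → ℂ) ⟨l, hLH l.2⟩) = (b : ℂ) • fun l : L => χ l := by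
    rw [classFun_expansion (isClassFunction_of_isCharacter (hres (IsIrr.isCharacter η.2))),
      Finset.sum_eq_single (⟨_, hirr⟩ : IrrCharacter L) (fun μ _ hμ => ?_) (by simp), hb]
    obtain ⟨a', ha'⟩ := classInner_isCharacter_eq_natCast (hres hsub) (IsIrr.isCharacter μ.2)
    obtain ⟨b', hb'⟩ := classInner_isCharacter_eq_natCast (hres (IsIrr.isCharacter η.2))
      (IsIrr.isCharacter μ.2)
    have h0 : (a' : ℂ) + b' = 0 := by
      rw [← ha', ← hb', ← classInner_add_left,
        ← classInner_irr_ne hirr μ.2 fun e => hμ (Subtype.ext e.symm)]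
      congr 1
      funext l
      simp
    have h1 : a' + b' = 0 := by exact_mod_cast h0
    rw [hb', show b' = 0 by omega, Nat.cast_zero, zero_smul]
  have hb0 : b ≠ 0 := fun e => IsIrr.one_ne_zero η.2 (by
    have h := congrFun hb1 1
    rw [e, Nat.cast_zero, zero_smul] at h
    exact h)
  have h1 := congrFun hb1 1
  rw [show b = 1 by omega, Nat.cast_one, one_smul] at h1
  replace h1 : (η : H → ℂ) 1 = χ 1 := h1
  have h0 := (IsChar.eq_zero_iff hsub).2 (by simpa [sub_eq_zero] using h1.symm)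
  exact (sub_eq_zero.1 h0) ▸ η.2

/-- If the Sylow `p`-subgroup is normal modulo the kernel of every constituent of a faithful
character on a normal subgroup, it is normal. -/
theorem sylow_normal_of_constituents {p : ℕ} [hp : Fact p.Prime] {χ : G → ℂ}
    (hχ : IsCharacter G χ) (hfaith : ∀ g : G, χ g = χ 1 → g = 1) (M : Subgroup G) [Fintype M]
    (h : ∀ θ : IrrCharacter M, classInner (fun m : M => χ m) (θ : M → ℂ) ≠ 0 →
      ∀ P : Sylow p (M ⧸ kerSubgroup (IsIrr.isCharacter θ.2)),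
        (P : Subgroup (M ⧸ kerSubgroup (IsIrr.isCharacter θ.2))).Normal)
    (Q : Sylow p M) : (Q : Subgroup M).Normal := by
  classical
  obtain ⟨k, hk⟩ := Q.isPGroup'.exists_card_eq
  set H := Subgroup.normalClosure ((Q : Subgroup M) : Set M) with hH
  have hHp : IsPGroup p H := by
    intro x
    refine ⟨k, Subtype.ext (Subtype.ext (hfaith _ ?_))⟩
    obtain ⟨m, hm, he, -⟩ := IsChar.exists_mult (isCharacter_res M hχ)
    have h1 := congrFun he ((x : M) ^ p ^ k)
    have h2 := congrFun he 1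
    simp only [Subgroup.coe_one] at h2
    refine h1.trans (Eq.trans ?_ h2.symm)
    simp only [Finset.sum_apply, Pi.smul_apply, smul_eq_mul]
    refine Finset.sum_congr rfl fun θ _ => ?_
    by_cases h0 : m θ = 0
    · simp [h0]
    congr 1
    have hθ : classInner (fun m : M => χ m) (θ : M → ℂ) ≠ 0 := by
      rw [hm θ, Nat.cast_ne_zero]; exact h0
    set K := kerSubgroup (IsIrr.isCharacter θ.2) with hK
    obtain ⟨P⟩ : Nonempty (Sylow p (M ⧸ K)) := inferInstance
    have hPn := h θ hθ P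
    have hQP : (Q : Subgroup M).map (QuotientGroup.mk' K) ≤ P := by
      obtain ⟨P', hP'⟩ := (Q.isPGroup'.map (QuotientGroup.mk' K)).exists_le_sylow
      let _ : Unique (Sylow p (M ⧸ K)) := Sylow.unique_of_normal P hPn
      rwa [Subsingleton.elim P' P] at hP'
    have hHP : H ≤ (P : Subgroup (M ⧸ K)).comap (QuotientGroup.mk' K) :=
      Subgroup.normalClosure_le_normal (Subgroup.map_le_iff_le_comap.1 hQP)
    have hxk : ((x : M) : M ⧸ K) ^ p ^ k = 1 := by
      obtain ⟨a, ha⟩ := P.isPGroup'.exists_card_eq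
      have hak : a ≤ k := by
        have h3 : p ^ a ∣ Nat.card M := ha ▸ (Subgroup.card_subgroup_dvd_card _).trans
          ((K.card_eq_card_quotient_mul_card_subgroup) ▸ Dvd.intro _ rfl)
        have h4 : Nat.card (Q : Subgroup M) = p ^ (Nat.card M).factorization p :=
          Q.card_eq_multiplicity
        have h5 := (hp.out.pow_dvd_iff_le_factorization Nat.card_pos.ne').1 h3
        have h6 := Nat.pow_right_injective hp.out.two_le (hk.symm.trans h4)
        omega
      have hx : ((x : M) : M ⧸ K) ∈ (P : Subgroup (M ⧸ K)) := hHP x.2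
      have h7 : (⟨_, hx⟩ : (P : Subgroup (M ⧸ K))) ^ p ^ k = 1 := by
        rw [← orderOf_dvd_iff_pow_eq_one]
        exact (orderOf_dvd_natCard _).trans (ha ▸ Nat.pow_dvd_pow p hak)
      exact congrArg Subtype.val h7
    exact (QuotientGroup.eq_one_iff (N := K) ((x : M) ^ p ^ k)).1 (by rw [QuotientGroup.mk_pow]; exact hxk)
  have hQH : (Q : Subgroup M) ≤ H := Subgroup.subset_normalClosure
  rw [← Q.is_maximal' hHp hQH]
  infer_instance

/-- The dichotomy for an invariant constituent over an abelian chief factor: the squared ratio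
is `1` or the index. -/
theorem sq_ratio_of_invariant {M L : Subgroup G} [M.Normal] [L.Normal] [Fintype M] [Fintype L]
    (hLM : L ≤ M) (hab : ∀ a ∈ M, ∀ b ∈ M, a * b * a⁻¹ * b⁻¹ ∈ L)
    (hmax : ∀ B : Subgroup G, B.Normal → L ≤ B → B ≤ M → B = L ∨ B = M)
    {θ : M → ℂ} (hθ : IsIrrCharacter M θ) (hθG : ∀ g : G, conjFun g θ = θ)
    {φ : L → ℂ} (hφ : IsIrrCharacter L φ) {e : ℕ}
    (hres : ∀ l : L, θ ⟨l, hLM l.2⟩ = e * φ l) : e ^ 2 = 1 ∨ e ^ 2 = L.relIndex M := by
  classical
  have hMcard : Nat.card M = Nat.card L * L.relIndex M := by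
    rw [← Subgroup.card_mul_index (L.subgroupOf M),
      Nat.card_congr (Subgroup.subgroupOfEquivOfLe hLM).toEquiv]
    rfl
  -- linear characters of `M ⧸ L` fixing `θ`
  let Lam : Set (M →* ℂˣ) :=
    {f | (∀ l : M, (l : G) ∈ L → f l = 1) ∧ ∀ m : M, (f m : ℂ) * θ m = θ m}
  let K0 : Subgroup M := ⨅ f ∈ Lam, f.ker
  have hK0 : ∀ m : M, m ∈ K0 ↔ ∀ f ∈ Lam, f m = 1 := fun m => by simp [K0, Subgroup.mem_iInf]
  let B : Subgroup G := K0.map M.subtype
  have hBn : B.Normal := ⟨fun b hb g => by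
    obtain ⟨m, hm, rfl⟩ := hb
    refine ⟨⟨g * m * g⁻¹, ‹M.Normal›.conj_mem m m.2 g⟩, (hK0 _).2 fun f hf => ?_, rfl⟩
    let f' : M →* ℂˣ := f.comp (MulAut.conjNormal g : M ≃* M).toMonoidHom
    have hf' : f' ∈ Lam := ⟨fun l hl => hf.1 _ (by
        simpa using ‹L.Normal›.conj_mem _ hl g), fun x => by
      have h1 := hf.2 (MulAut.conjNormal g x)
      have h2 : θ (MulAut.conjNormal g x) = θ x := by
        conv_rhs => rw [← hθG g]
        rw [conjFun_apply]
        exact congrArg θ (Subtype.ext (by simp))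
      rw [h2] at h1
      exact h1⟩
    have h3 := (hK0 m).1 hm f' hf'
    refine Eq.trans (congrArg f (Subtype.ext ?_)) h3
    simp⟩
  have hLB : L ≤ B := fun l hl =>
    ⟨⟨l, hLM hl⟩, (hK0 _).2 fun f hf => hf.1 _ hl, rfl⟩
  have hnorm : ∑ m : M, Complex.normSq (θ m) = (Nat.card M : ℝ) := by
    have hs := classInner_irr_self hθ
    rw [classInner_self_eq, Complex.ofReal_eq_one, inv_mul_eq_one₀
      (Nat.cast_ne_zero.2 Nat.card_pos.ne')] at hs
    exact hs.symm
  have hLnorm : ∑ m : M, (if (m : G) ∈ L then Complex.normSq (θ m) else 0) =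
      (e : ℝ) ^ 2 * Nat.card L := by
    have hs := classInner_irr_self hφ
    rw [classInner_self_eq, Complex.ofReal_eq_one, inv_mul_eq_one₀
      (Nat.cast_ne_zero.2 Nat.card_pos.ne')] at hs
    rw [hs, Finset.mul_sum, ← Finset.sum_filter]
    refine (Finset.sum_bij (fun (l : L) _ => (⟨l, hLM l.2⟩ : M)) (fun l _ => by simp)
      (fun a _ b _ h => Subtype.ext (congrArg (fun x : M => (x : G)) h))
      (fun m hm => ⟨⟨m, (Finset.mem_filter.1 hm).2⟩, Finset.mem_univ _, rfl⟩) fun l _ => ?_).symm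
    rw [hres, Complex.normSq_mul, Complex.normSq_natCast]
    ring
  rcases hmax B hBn hLB (Subgroup.map_subtype_le _) with hB | hB
  · -- `θ` vanishes off `L`
    right
    have hvan : ∀ m : M, (m : G) ∉ L → θ m = 0 := by
      intro m hm
      have : m ∉ K0 := fun h => hm (hB ▸ ⟨m, h, rfl⟩)
      rw [hK0] at this
      push Not at this
      obtain ⟨f, hf, hfm⟩ := this
      by_contra h0
      exact hfm (Units.ext (mul_right_cancel₀ h0 ((hf.2 m).trans (one_mul _).symm)))
    have h : (e : ℝ) ^ 2 * Nat.card L = Nat.card M := by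
      rw [← hnorm, ← hLnorm]
      refine Finset.sum_congr rfl fun m _ => ?_
      split_ifs with hm
      · rfl
      · rw [hvan m hm, map_zero]
    rw [hMcard] at h
    have h' : e ^ 2 * Nat.card L = Nat.card L * L.relIndex M := by exact_mod_cast h
    rw [mul_comm] at h'
    exact Nat.eq_of_mul_eq_mul_left Nat.card_pos h'
  · -- the averaged norm is constant on cosets
    left
    set N := L.subgroupOf M with hN
    have hcomm : ∀ a b : M ⧸ N, a * b = b * a := by
      intro a b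
      obtain ⟨a, rfl⟩ := QuotientGroup.mk_surjective a
      obtain ⟨b, rfl⟩ := QuotientGroup.mk_surjective b
      have : ((a * b * a⁻¹ * b⁻¹ : M) : M ⧸ N) = 1 := (QuotientGroup.eq_one_iff _).2 (hab a a.2 b b.2)
      rw [QuotientGroup.mk_mul, QuotientGroup.mk_mul, QuotientGroup.mk_mul, QuotientGroup.mk_inv,
        QuotientGroup.mk_inv, mul_inv_eq_one, mul_inv_eq_iff_eq_mul] at this
      exact this
    have := Fintype.ofFinite (M ⧸ N)
    let F : M ⧸ N → ℂ := fun c => ∑ m : M, if (m : M ⧸ N) = c then (Complex.normSq (θ m) : ℂ) else 0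
    have hF : IsClassFunction (M ⧸ N) F := fun a b => congrArg F (by rw [hcomm b a, mul_inv_cancel_right])
    have hconst : ∀ c, F c = F 1 := by
      have hexp := classFun_expansion hF
      intro c
      rw [congrFun hexp c, congrFun hexp 1]
      simp only [Finset.sum_apply, Pi.smul_apply, smul_eq_mul]
      refine Finset.sum_congr rfl fun μ _ => ?_
      by_cases h0 : classInner F (μ : M ⧸ N → ℂ) = 0
      · rw [h0, zero_mul, zero_mul]
      congr 1
      obtain ⟨f, hf⟩ := IsChar.exists_hom (IsIrr.isCharacter μ.2) (IsIrr.degree_one_of_comm μ.2 hcomm)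
      set g : M →* ℂˣ := f.comp (QuotientGroup.mk' N) with hg
      have hgL : g ∈ Lam := by
        refine ⟨fun l hl => by
          show f (l : M ⧸ N) = 1
          rw [(QuotientGroup.eq_one_iff l).2 hl, map_one], fun m => ?_⟩
        by_contra hne
        refine h0 ?_
        have hirr : IsIrrCharacter M (fun m => (g m : ℂ) * θ m) := by
          have hc : IsCharacter M (fun m => (g m : ℂ) * θ m) :=
            isCharacter_mul (isCharacter_hom g) (IsIrr.isCharacter hθ)
          rw [isIrr_iff_norm_one hc]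
          rw [← classInner_irr_self hθ]
          simp only [classInner]
          refine congrArg _ (Finset.sum_congr rfl fun x _ => ?_)
          have hu : ‖(g x : ℂ)‖ = 1 := by
            refine Complex.norm_eq_one_of_pow_eq_one (n := Nat.card M) ?_ Nat.card_pos.ne'
            rw [← Units.val_pow_eq_pow_val, ← map_pow, pow_card_eq_one', map_one, Units.val_one]
          rw [map_mul, mul_mul_mul_comm, Complex.mul_conj', hu]
          simp
        have h1 := classInner_irr_ne hθ hirr fun e => hne (congrFun e m).symm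
        have h2 : classInner F (μ : M ⧸ N → ℂ) =
            (Nat.card (M ⧸ N) : ℂ)⁻¹ * ((Nat.card M : ℂ) * classInner θ (fun m => (g m : ℂ) * θ m)) := by
          simp only [classInner, F, Finset.sum_mul, ite_mul, zero_mul]
          rw [Finset.sum_comm, mul_inv_cancel_left₀ card_ne_zero]
          refine congrArg _ (Finset.sum_congr rfl fun x _ => ?_)
          rw [Finset.sum_ite_eq, if_pos (Finset.mem_univ _), hf, Complex.normSq_eq_conj_mul_self,
            map_mul]
          show conj (θ x) * θ x * conj (f (x : M ⧸ N) : ℂ) = θ x * (conj (f (x : M ⧸ N) : ℂ) * conj (θ x))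
          ring
        rw [h2, h1, mul_zero, mul_zero]
      obtain ⟨m, rfl⟩ := QuotientGroup.mk_surjective c
      have hm : m ∈ K0 := by
        obtain ⟨m', hm', e'⟩ := (hB.symm ▸ m.2 : (m : G) ∈ B)
        exact (Subtype.ext e' : m' = m) ▸ hm'
      rw [hf]
      show (f (m : M ⧸ N) : ℂ) = (f 1 : ℂ)
      rw [show f (m : M ⧸ N) = g m from rfl, (hK0 m).1 hm g hgL, map_one]
    have hF1 : F 1 = ((e : ℝ) ^ 2 * Nat.card L : ℝ) := by
      rw [← hLnorm, Complex.ofReal_sum]
      refine Finset.sum_congr rfl fun m _ => ?_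
      by_cases hm : (m : G) ∈ L
      · rw [if_pos ((QuotientGroup.eq_one_iff m).2 hm), if_pos hm]
      · rw [if_neg fun h => hm ((QuotientGroup.eq_one_iff m).1 h), if_neg hm, Complex.ofReal_zero]
    have htot : ∑ c, F c = (Nat.card M : ℂ) := by
      simp only [F]
      rw [Finset.sum_comm, ← Complex.ofReal_natCast, ← hnorm, Complex.ofReal_sum]
      simp
    rw [Finset.sum_congr rfl fun c _ => hconst c, Finset.sum_const, Finset.card_univ,
      ← Nat.card_eq_fintype_card, ← Subgroup.index_eq_card, nsmul_eq_mul, hF1, hMcard] at htot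
    push_cast at htot
    have h : (((e ^ 2 * Nat.card L) * L.relIndex M : ℕ) : ℂ) = ((1 * Nat.card L) * L.relIndex M : ℕ) := by
      push_cast
      rw [one_mul]
      rw [show (N.index : ℂ) = (L.relIndex M : ℂ) from rfl] at htot
      linear_combination htot
    have h' := Nat.eq_of_mul_eq_mul_right (Nat.pos_of_ne_zero fun h0 => by
      rw [h0, mul_zero] at hMcard; exact Nat.card_pos.ne' hMcard) (Nat.cast_inj.1 h)
    exact Nat.eq_of_mul_eq_mul_right Nat.card_pos h'

omit [Fintype G] in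
theorem normal_of_forall_conj_mem {H : Subgroup G} (h : ∀ g : G, ∀ x ∈ H, g * x * g⁻¹ ∈ H) :
    H.Normal := ⟨fun x hx g => h g x hx⟩

omit [Fintype G] in
/-- In a group, an element of prime power class in an abelian chief factor. -/
theorem exists_relIndex_prime_pow [Finite G] {M L : Subgroup G} [M.Normal] [L.Normal] (hLM : L < M)
    (hab : ∀ a ∈ M, ∀ b ∈ M, a * b * a⁻¹ * b⁻¹ ∈ L)
    (hmax : ∀ B : Subgroup G, B.Normal → L ≤ B → B ≤ M → B = L ∨ B = M) :
    ∃ q k : ℕ, q.Prime ∧ 0 < k ∧ L.relIndex M = q ^ k := by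
  classical
  set N := L.subgroupOf M with hN
  have hne : L.relIndex M ≠ 1 := fun h => hLM.not_ge (Subgroup.relIndex_eq_one.1 h)
  obtain ⟨q, hq, hqd⟩ := Nat.exists_prime_and_dvd hne
  have hqf : Fact q.Prime := ⟨hq⟩
  have hcomm : ∀ a b : M ⧸ N, a * b = b * a := by
    intro a b
    obtain ⟨a, rfl⟩ := QuotientGroup.mk_surjective a
    obtain ⟨b, rfl⟩ := QuotientGroup.mk_surjective b
    have : ((a * b * a⁻¹ * b⁻¹ : M) : M ⧸ N) = 1 := (QuotientGroup.eq_one_iff _).2 (hab a a.2 b b.2)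
    rw [QuotientGroup.mk_mul, QuotientGroup.mk_mul, QuotientGroup.mk_mul, QuotientGroup.mk_inv,
      QuotientGroup.mk_inv, mul_inv_eq_one, mul_inv_eq_iff_eq_mul] at this
    exact this
  have hmem : ∀ (a : M) (n : ℕ), (a : M ⧸ N) ^ n = 1 ↔ (a : G) ^ n ∈ L := fun a n => by
    rw [← QuotientGroup.mk_pow, QuotientGroup.eq_one_iff, Subgroup.mem_subgroupOf,
      SubmonoidClass.coe_pow]
  let B : Subgroup G :=
    { carrier := {x | ∃ h : x ∈ M, ∃ j : ℕ, ((⟨x, h⟩ : M) : M ⧸ N) ^ q ^ j = 1}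
      one_mem' := ⟨M.one_mem, 0, by
        show ((1 : M) : M ⧸ N) ^ q ^ 0 = 1
        rw [QuotientGroup.mk_one, one_pow]⟩
      mul_mem' := fun {a b} ha hb => by
        obtain ⟨ha, i, hi⟩ := ha
        obtain ⟨hb, j, hj⟩ := hb
        refine ⟨M.mul_mem ha hb, i + j, ?_⟩
        show (((⟨a, ha⟩ * ⟨b, hb⟩ : M)) : M ⧸ N) ^ q ^ (i + j) = 1
        rw [QuotientGroup.mk_mul, (show Commute _ _ from hcomm _ _).mul_pow]
        have h1 : ((⟨a, ha⟩ : M) : M ⧸ N) ^ q ^ (i + j) = 1 := by rw [pow_add, pow_mul, hi, one_pow]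
        have h2 : ((⟨b, hb⟩ : M) : M ⧸ N) ^ q ^ (i + j) = 1 := by
          rw [add_comm, pow_add, pow_mul, hj, one_pow]
        rw [h1, h2, one_mul]
      inv_mem' := fun {a} ha => by
        obtain ⟨ha, i, hi⟩ := ha
        refine ⟨M.inv_mem ha, i, ?_⟩
        show ((((⟨a, ha⟩ : M)⁻¹ : M)) : M ⧸ N) ^ q ^ i = 1
        rw [QuotientGroup.mk_inv, inv_pow, hi, inv_one] }
  have hBn : B.Normal := ⟨fun b ⟨hb, i, hi⟩ g => by
    refine ⟨‹M.Normal›.conj_mem b hb g, i, (hmem _ _).2 ?_⟩
    show (g * b * g⁻¹) ^ q ^ i ∈ L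
    rw [conj_pow]
    exact ‹L.Normal›.conj_mem _ ((hmem _ _).1 hi) g⟩
  have hLB : L ≤ B := fun l hl => ⟨hLM.le hl, 0, (hmem _ _).2 (by
    show l ^ q ^ 0 ∈ L
    rw [pow_zero, pow_one]; exact hl)⟩
  rcases hmax B hBn hLB (fun x hx => hx.1) with h | h
  · exfalso
    obtain ⟨c, hc⟩ := exists_prime_orderOf_dvd_card' (G := M ⧸ N) q hqd
    obtain ⟨a, rfl⟩ := QuotientGroup.mk_surjective c
    have h2 : (a : M ⧸ N) ^ q ^ 1 = 1 := by rw [pow_one, ← hc]; exact pow_orderOf_eq_one _
    have h3 : (a : G) ∈ L := h ▸ (⟨a.2, 1, h2⟩ : (a : G) ∈ B)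
    rw [(QuotientGroup.eq_one_iff a).2 h3, orderOf_one] at hc
    exact hq.one_lt.ne hc
  · have hp : IsPGroup q (M ⧸ N) := by
      intro c
      obtain ⟨a, rfl⟩ := QuotientGroup.mk_surjective c
      obtain ⟨_, j, hj⟩ := (h.symm ▸ a.2 : (a : G) ∈ B)
      exact ⟨j, hj⟩
    obtain ⟨k, hk⟩ := hp.exists_card_eq
    have hk' : L.relIndex M = q ^ k := hk
    exact ⟨q, k, hq, Nat.pos_of_ne_zero fun e => hne (by rw [hk', e, pow_zero]), hk'⟩

/-- An abelian group with a character of degree one and trivial kernel. -/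
theorem comm_of_faithful_linear {χ : G → ℂ} (hχ : IsCharacter G χ)
    (hfaith : ∀ g : G, χ g = χ 1 → g = 1) (h1 : χ 1 = 1) : ∀ a b : G, a * b = b * a := by
  intro a b
  obtain ⟨f, hf⟩ := IsChar.exists_hom hχ h1
  have h : a * b * a⁻¹ * b⁻¹ = 1 := hfaith _ (by simp [hf, mul_comm])
  rwa [mul_inv_eq_one, mul_inv_eq_iff_eq_mul] at h

/-- Congruence from a square. -/
theorem cong_of_sq {p : ℕ} (hp : p.Prime) {e : ℕ} (h : e ^ 2 ≡ 1 [MOD p]) :
    (e : ℤ) ≡ -1 [ZMOD p] ∨ (e : ℤ) ≡ 1 [ZMOD p] := by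
  have := Fact.mk hp
  have h' : ((e : ZMod p)) ^ 2 = 1 := by
    have := (ZMod.natCast_eq_natCast_iff _ _ _).2 h
    simpa using this
  rw [← ZMod.intCast_eq_intCast_iff, ← ZMod.intCast_eq_intCast_iff]
  push_cast
  exact (sq_eq_one_iff.1 h').symm

omit [Fintype G] in
/-- **Solvable groups with a non-normal Sylow subgroup**: degrees of faithful characters. -/
theorem exists_primePow_dvd_degree : ∀ (N : ℕ) (G : Type u) [Group G] [Fintype G],
    Nat.card G = N → Group.IsSolvable G → ∀ (χ : IrrCharacter G),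
    (∀ g : G, (χ : G → ℂ) g = (χ : G → ℂ) 1 → g = 1) → ∀ (p : ℕ) [Fact p.Prime] (P : Sylow p G),
    ¬ (P : Subgroup G).Normal → ∃ q : ℕ, IsPrimePow q ∧ q ∣ Cfsg.charDegree (χ : G → ℂ) ∧
      ((q : ℤ) ≡ -1 [ZMOD p] ∨ (q : ℤ) ≡ 0 [ZMOD p] ∨ (q : ℤ) ≡ 1 [ZMOD p]) := by
  intro N
  induction N using Nat.strong_induction_on with
  | _ N ih => ?_
  intro G _ _ hN hsolv χ hfaith p hp P hP
  classical
  subst hN
  set n := Cfsg.charDegree (χ : G → ℂ) with hn
  by_contra hno
  push Not at hno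
  have hpn : ¬ p ∣ n := fun h => (hno p hp.out.isPrimePow h).2.1 (by
    rw [Int.modEq_zero_iff_dvd])
  -- all Sylow subgroups fail to be normal
  have hPall : ∀ Q : Sylow p G, ¬ (Q : Subgroup G).Normal := fun Q hQ => hP (by
    let _ : Unique (Sylow p G) := Sylow.unique_of_normal Q hQ
    rwa [Subsingleton.elim P Q])
  -- proper normal subgroups have normal Sylow `p`-subgroups
  have hsmall : ∀ M : Subgroup G, M.Normal → M ≠ ⊤ → ∀ Q : Sylow p M, (Q : Subgroup M).Normal := by
    intro M hM hMtop Q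
    have := Fintype.ofFinite M
    refine sylow_normal_of_constituents (IsIrr.isCharacter χ.2) hfaith M (fun θ hθ P' => ?_) Q
    by_contra hP'
    set K := kerSubgroup (IsIrr.isCharacter θ.2) with hK
    obtain ⟨θ', hθ', he⟩ := IsIrr.exists_quotient K θ.2 fun x hx => hx
    have hlt : Nat.card (M ⧸ K) < Nat.card G := by
      refine lt_of_le_of_lt (Nat.card_le_card_of_surjective _ QuotientGroup.mk_surjective) ?_
      exact lt_of_le_of_ne (Nat.le_of_dvd Nat.card_pos M.card_subgroup_dvd_card)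
        fun e => hMtop (Subgroup.eq_top_of_card_eq _ e)
    have := Fintype.ofFinite (M ⧸ K)
    obtain ⟨q, hq, hqd, hqc⟩ := ih _ hlt (M ⧸ K) rfl inferInstance ⟨θ', hθ'⟩ (fun g hg => by
      obtain ⟨x, rfl⟩ := QuotientGroup.mk_surjective g
      replace hg : θ' (x : M ⧸ K) = θ' ((1 : M) : M ⧸ K) := hg
      rw [← he, ← he] at hg
      exact (QuotientGroup.eq_one_iff x).2 hg) p P' hP'
    have hdeg : Cfsg.charDegree (θ' : M ⧸ K → ℂ) = Cfsg.charDegree (θ : M → ℂ) := by
      show ⌊(θ' 1).re⌋₊ = ⌊((θ : M → ℂ) 1).re⌋₊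
      rw [he 1]
      rfl
    have h1 := degree_eq_of_clifford χ.2 θ.2 hθ
    obtain ⟨c, hc⟩ := classInner_isCharacter_eq_natCast
      (isCharacter_res M (IsIrr.isCharacter χ.2)) (IsIrr.isCharacter θ.2)
    rw [hc, charDegree_spec' θ, charDegree_spec' χ, ← Nat.cast_mul, ← Nat.cast_mul, Nat.cast_inj]
      at h1
    have hqn : q ∣ n := by
      rw [hn, h1]
      exact Dvd.dvd.mul_left (hdeg ▸ hqd) _
    obtain ⟨h2, h3, h4⟩ := hno q hq hqn
    tauto
  -- the normal closure of a Sylow subgroup is everything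
  have hclos : ∀ (Q : Sylow p G) (C : Subgroup G), C.Normal → (Q : Subgroup G) ≤ C → C = ⊤ := by
    intro Q C hC hQC
    by_contra hne
    apply hPall Q
    set QC : Sylow p C := Q.subtype hQC
    have hn' := hsmall C hC hne QC
    have hch : (QC : Subgroup C).Characteristic := Sylow.characteristic_of_normal QC hn'
    have : ((QC : Subgroup C).map C.subtype).Normal := inferInstance
    rwa [show (QC : Subgroup C).map C.subtype = Q from Subgroup.map_subgroupOf_eq_of_le hQC] at this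
  -- a maximal normal subgroup `M`
  have hGn : Nontrivial G := by
    by_contra h
    rw [not_nontrivial_iff_subsingleton] at h
    exact hP ⟨fun x hx g => by rwa [Subsingleton.elim (g * x * g⁻¹) x]⟩
  obtain ⟨M, ⟨hM, hMtop⟩, hMmax⟩ := Finset.exists_max_image
    (Finset.univ.filter fun M : Subgroup G => M.Normal ∧ M ≠ ⊤) (fun M => Nat.card M)
    ⟨⊥, Finset.mem_filter.2 ⟨Finset.mem_univ _, inferInstance, bot_ne_top⟩⟩
    |> fun ⟨M, h1, h2⟩ => (⟨M, (Finset.mem_filter.1 h1).2, h2⟩ : ∃ M : Subgroup G,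
      (M.Normal ∧ M ≠ ⊤) ∧ ∀ B ∈ Finset.univ.filter fun M : Subgroup G => M.Normal ∧ M ≠ ⊤,
        Nat.card B ≤ Nat.card M)
  have := Fintype.ofFinite M
  have hMmax' : ∀ B : Subgroup G, B.Normal → M ≤ B → B = M ∨ B = ⊤ := fun B hB hMB => by
    by_contra! hne
    exact hne.1 (Subgroup.eq_of_le_of_card_ge hMB
      (hMmax B (Finset.mem_filter.2 ⟨Finset.mem_univ _, hB, hne.2⟩))).symm
  have hGM : ∀ a b : G, a * b * a⁻¹ * b⁻¹ ∈ M := by
    intro a b
    rcases hMmax' (commutator G ⊔ M) inferInstance le_sup_right with h | h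
    · rw [← commutatorElement_def]
      exact h ▸ Subgroup.mem_sup_left (Subgroup.commutator_mem_commutator trivial trivial)
    · exfalso
      have hnt : Nontrivial (G ⧸ M) := QuotientGroup.nontrivial_iff.2 hMtop
      refine (Group.IsSolvable.commutator_lt_top_of_nontrivial (G := G ⧸ M)).ne ?_
      have h2 : (⊤ : Subgroup G).map (QuotientGroup.mk' M) = ⊤ :=
        Subgroup.map_top_of_surjective _ (QuotientGroup.mk'_surjective M)
      rw [commutator_def, ← h2, ← Subgroup.map_commutator, ← commutator_def]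
      conv_rhs => rw [← h, Subgroup.map_sup, QuotientGroup.map_mk'_self, sup_bot_eq]
  have hPM : ∀ Q : Sylow p G, ¬ (Q : Subgroup G) ≤ M := fun Q h => hMtop (hclos Q M hM h)
  have hsupM : ∀ Q : Sylow p G, M ⊔ (Q : Subgroup G) = ⊤ := fun Q =>
    (hMmax' _ (normal_of_forall_conj_mem fun g x hx => by
      have h := hGM g x
      have : g * x * g⁻¹ = (g * x * g⁻¹ * x⁻¹) * x := by group
      rw [this]
      exact Subgroup.mul_mem _ (Subgroup.mem_sup_left h) hx) le_sup_left).resolve_left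
        fun e => hPM Q (sup_eq_left.1 e)
  have hMidx : M.index = p := by
    have hd : M.index ∣ Nat.card (P : Subgroup G) := by
      rw [← Subgroup.relIndex_top_right, ← hsupM P, sup_comm, Subgroup.relIndex_sup_right]
      exact Subgroup.relIndex_dvd_card M _
    obtain ⟨a, ha⟩ := P.isPGroup'.exists_card_eq
    obtain ⟨i, -, hi⟩ := (Nat.dvd_prime_pow hp.out).1 (ha ▸ hd)
    have hne : M.index ≠ 1 := fun h => hMtop (Subgroup.index_eq_one.1 h)
    obtain ⟨c, hc⟩ := exists_prime_orderOf_dvd_card' (G := G ⧸ M) p (by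
      rw [← Subgroup.index_eq_card, hi]
      exact dvd_pow_self p fun h => hne (by rw [hi, h, pow_zero]))
    set B := (Subgroup.zpowers c).comap (QuotientGroup.mk' M) with hBdef
    have hMB : M ≤ B := fun x hx => by
      show (x : G ⧸ M) ∈ Subgroup.zpowers c
      rw [(QuotientGroup.eq_one_iff x).2 hx]
      exact Subgroup.one_mem _
    have hBn : B.Normal := normal_of_forall_conj_mem fun g x hx => by
      have : g * x * g⁻¹ = (g * x * g⁻¹ * x⁻¹) * x := by group
      rw [this]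
      exact B.mul_mem (hMB (hGM g x)) hx
    rcases hMmax' B hBn hMB with h | h
    · obtain ⟨y, rfl⟩ := QuotientGroup.mk_surjective c
      have : y ∈ M := h ▸ (Subgroup.mem_zpowers _ : y ∈ B)
      rw [(QuotientGroup.eq_one_iff y).2 this, orderOf_one] at hc
      exact absurd hc.symm hp.out.ne_one
    · rw [Subgroup.index_eq_card, ← hc, ← Nat.card_zpowers]
      refine (Subgroup.card_top).symm.trans (congrArg (fun S : Subgroup (G ⧸ M) => Nat.card S) ?_)
      rw [← Subgroup.comap_top (QuotientGroup.mk' M)] at h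
      exact (Subgroup.comap_injective (QuotientGroup.mk'_surjective M) h).symm
  -- the normal Sylow subgroup `P₀` of `M`
  obtain ⟨Q₀⟩ : Nonempty (Sylow p M) := inferInstance
  have hQ₀n := hsmall M hM hMtop Q₀
  have hQ₀c : (Q₀ : Subgroup M).Characteristic := Sylow.characteristic_of_normal Q₀ hQ₀n
  set P₀ := (Q₀ : Subgroup M).map M.subtype with hP₀
  have hP₀n : P₀.Normal := inferInstance
  have hP₀p : IsPGroup p P₀ := Q₀.isPGroup'.map M.subtype
  have hP₀M : P₀ ≤ M := Subgroup.map_subtype_le _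
  have hinfM : ∀ Q : Sylow p G, (Q : Subgroup G) ⊓ M ≤ P₀ := by
    intro Q x hx
    obtain ⟨Q', hQ'⟩ := (Q.isPGroup'.comap_of_injective M.subtype M.subtype_injective).exists_le_sylow
    let _ : Unique (Sylow p M) := Sylow.unique_of_normal Q₀ hQ₀n
    rw [Subsingleton.elim Q' Q₀] at hQ'
    exact ⟨⟨x, hx.2⟩, hQ' (show ((⟨x, hx.2⟩ : M) : G) ∈ (Q : Subgroup G) from hx.1), rfl⟩
  have hpM : ¬ p ∣ P₀.relIndex M := by
    rw [show P₀.relIndex M = (Q₀ : Subgroup M).index from ?_]
    · exact Q₀.not_dvd_index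
    rw [Subgroup.relIndex, hP₀]
    congr 1
    exact Subgroup.comap_map_eq_self_of_injective M.subtype_injective _
  -- the chief factor `M / L`
  have hP₀ne : P₀ ≠ M := fun h => by
    have hGp : IsPGroup p G := by
      obtain ⟨a, ha⟩ := hP₀p.exists_card_eq
      refine IsPGroup.of_card (n := a + 1) ?_
      rw [← M.card_mul_index, hMidx, ← h, ha, pow_succ]
    apply hP
    rw [show (P : Subgroup G) = ⊤ from P.is_maximal' (hGp.of_equiv Subgroup.topEquiv.symm) le_top |>.symm]
    infer_instance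
  obtain ⟨L, hLmem, hLmax⟩ := Finset.exists_max_image
    (Finset.univ.filter fun L : Subgroup G => L.Normal ∧ P₀ ≤ L ∧ L < M) (fun L => Nat.card L)
    ⟨P₀, Finset.mem_filter.2 ⟨Finset.mem_univ _, hP₀n, le_rfl, lt_of_le_of_ne hP₀M hP₀ne⟩⟩
  obtain ⟨-, hL, hP₀L, hLM⟩ := Finset.mem_filter.1 hLmem
  have := Fintype.ofFinite L
  have hmax : ∀ B : Subgroup G, B.Normal → L ≤ B → B ≤ M → B = L ∨ B = M := fun B hB hLB hBM => by
    by_contra! hne
    exact hne.1 (Subgroup.eq_of_le_of_card_ge hLB (hLmax B (Finset.mem_filter.2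
      ⟨Finset.mem_univ _, hB, hP₀L.trans hLB, lt_of_le_of_ne hBM hne.2⟩))).symm
  have hab : ∀ a ∈ M, ∀ b ∈ M, a * b * a⁻¹ * b⁻¹ ∈ L := by
    rcases hmax (⁅M, M⁆ ⊔ L) inferInstance le_sup_right
      (sup_le (Subgroup.commutator_le_left _ _) hLM.le) with h | h
    · intro a ha b hb
      rw [← commutatorElement_def]
      exact h ▸ Subgroup.mem_sup_left (Subgroup.commutator_mem_commutator ha hb)
    · exfalso
      have hnt : Nontrivial (M ⧸ L.subgroupOf M) := QuotientGroup.nontrivial_iff.2 fun e =>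
        hLM.not_ge (Subgroup.subgroupOf_eq_top.1 e)
      refine (Group.IsSolvable.commutator_lt_top_of_nontrivial (G := M ⧸ L.subgroupOf M)).ne ?_
      have h2 : commutator M ⊔ L.subgroupOf M = ⊤ := by
        refine Subgroup.map_injective M.subtype_injective ?_
        rw [Subgroup.map_sup, Subgroup.map_subtype_commutator, Subgroup.map_subgroupOf_eq_of_le hLM.le,
          h, ← MonoidHom.range_eq_map, Subgroup.range_subtype]
      have h3 : (⊤ : Subgroup M).map (QuotientGroup.mk' (L.subgroupOf M)) = ⊤ :=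
        Subgroup.map_top_of_surjective _ (QuotientGroup.mk'_surjective _)
      rw [commutator_def, ← h3, ← Subgroup.map_commutator, ← commutator_def]
      conv_rhs => rw [← h2, Subgroup.map_sup, QuotientGroup.map_mk'_self, sup_bot_eq]
  have hGL : ∀ g : G, ∀ Q : Sylow p G, ∃ u ∈ (Q : Subgroup G), ∃ m ∈ M, g = u * m := fun g Q => by
    obtain ⟨m, hm, u, hu, rfl⟩ := Subgroup.mem_sup_of_normal_left.1 (hsupM Q ▸ Subgroup.mem_top g)
    exact ⟨u, hu, u⁻¹ * m * u, by simpa using hM.conj_mem m hm u⁻¹, by group⟩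
  obtain ⟨q, k, hq, hk0, hqk⟩ := exists_relIndex_prime_pow hLM hab hmax
  -- subgroups above `Q L`
  have hover : ∀ (Q : Sylow p G) (J : Subgroup G), (Q : Subgroup G) ≤ J → L ≤ J →
      J = ⊤ ∨ (J ⊓ M = L ∧ J.index = L.relIndex M) := by
    intro Q J hQJ hLJ
    have hn' : (J ⊓ M).Normal := normal_of_forall_conj_mem fun g x hx => by
      obtain ⟨u, hu, m, hm, rfl⟩ := hGL g Q
      have h1 : m * x * m⁻¹ ∈ J ⊓ M := by
        have : m * x * m⁻¹ = (m * x * m⁻¹ * x⁻¹) * x := by group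
        rw [this]
        exact (J ⊓ M).mul_mem ⟨hLJ (hab m hm x hx.2), hLM.le (hab m hm x hx.2)⟩ hx
      rw [show u * m * x * (u * m)⁻¹ = u * (m * x * m⁻¹) * u⁻¹ by group]
      exact ⟨J.mul_mem (J.mul_mem (hQJ hu) h1.1) (J.inv_mem (hQJ hu)), hM.conj_mem _ h1.2 u⟩
    rcases hmax (J ⊓ M) hn' (le_inf hLJ hLM.le) inf_le_right with h | h
    · refine Or.inr ⟨h, ?_⟩
      have htop : J ⊔ M = ⊤ := top_le_iff.1 ((hsupM Q).ge.trans
        (sup_le le_sup_right (hQJ.trans le_sup_left)))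
      have h1 := Subgroup.relIndex_mul_index (inf_le_left : J ⊓ M ≤ J)
      have h2 := Subgroup.relIndex_mul_index (inf_le_right : J ⊓ M ≤ M)
      rw [Subgroup.inf_relIndex_left, ← Subgroup.relIndex_sup_right (H := J) (K := M), htop,
        Subgroup.relIndex_top_right, hMidx] at h1
      rw [hMidx, ← h1, h, mul_comm] at h2
      exact (Nat.eq_of_mul_eq_mul_left hp.out.pos h2).symm
    · left
      exact top_le_iff.1 ((hsupM Q).ge.trans (sup_le (h ▸ inf_le_left) hQJ))
  have hPL : ∀ Q : Sylow p G, (Q : Subgroup G) ⊔ L ≠ ⊤ := fun Q h => by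
    have hcard : L.relIndex M = 1 := by
      have h1 : L.relIndex ((Q : Subgroup G) ⊔ L) ∣ Nat.card (Q : Subgroup G) := by
        rw [Subgroup.relIndex_sup_right]; exact Subgroup.relIndex_dvd_card L _
      rw [h, Subgroup.relIndex_top_right, ← Subgroup.relIndex_mul_index hLM.le, hqk] at h1
      obtain ⟨a, ha⟩ := Q.isPGroup'.exists_card_eq
      have h2 : q ∣ p ^ a := ha ▸ (dvd_pow_self q hk0.ne').trans (dvd_of_mul_right_dvd h1)
      have hqp : q = p := (Nat.prime_dvd_prime_iff_eq hq hp.out).1 (hq.dvd_of_dvd_pow h2)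
      -- but `p ∤ [M : L]`
      exfalso
      refine hpM ?_
      have h3 : p ∣ L.relIndex M := hqk ▸ hqp ▸ dvd_pow_self q hk0.ne'
      exact h3.trans (Dvd.intro_left _ (Subgroup.relIndex_mul_relIndex P₀ L M hP₀L hLM.le))
    exact (Nat.one_lt_pow hk0.ne' hq.one_lt).ne' (hqk.symm.trans hcard)
  -- `q ^ k ≡ 1`
  have hmod : q ^ k ≡ 1 [MOD p] := by
    set R := Subgroup.normalizer ((((P : Subgroup G) ⊔ L : Subgroup G)) : Set G) with hR
    have hle : (P : Subgroup G) ⊔ L ≤ R := Subgroup.le_normalizer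
    rcases hover P R (le_sup_left.trans hle) (le_sup_right.trans hle) with h | ⟨-, hidx⟩
    · exact absurd (hclos P _ (Subgroup.normalizer_eq_top_iff.1 h) le_sup_left) (hPL P)
    rw [← hqk, ← hidx]
    set P' := P.mapSurjective (QuotientGroup.mk'_surjective L) with hP'
    have hnorm : R = (Subgroup.normalizer ((P' : Subgroup (G ⧸ L)) : Set (G ⧸ L))).comap
        (QuotientGroup.mk' L) := by
      rw [Subgroup.comap_normalizer_eq_of_surjective _ (QuotientGroup.mk'_surjective L),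
        Sylow.coe_mapSurjective, Subgroup.comap_map_eq, QuotientGroup.ker_mk']
    rw [hnorm, Subgroup.index_comap_of_surjective _ (QuotientGroup.mk'_surjective L),
      show (Subgroup.normalizer ((P' : Subgroup (G ⧸ L)) : Set (G ⧸ L))).index =
        Nat.card (Sylow p (G ⧸ L)) from (Sylow.card_eq_index_normalizer P').symm]
    exact card_sylow_modEq_one p (G ⧸ L)
  -- a constituent on `L` fixed by a Sylow subgroup
  obtain ⟨φ, hφ⟩ := exists_constituent_res (N := L) χ.2
  obtain ⟨c, hc⟩ := classInner_isCharacter_eq_natCast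
    (isCharacter_res L (IsIrr.isCharacter χ.2)) (IsIrr.isCharacter φ.2)
  have hdegL := degree_eq_of_clifford χ.2 φ.2 hφ
  rw [hc, charDegree_spec' φ, charDegree_spec' χ, ← Nat.cast_mul, ← Nat.cast_mul, Nat.cast_inj]
    at hdegL
  have hidxn : (inertia (φ : L → ℂ)).index ∣ n :=
    ⟨c * Cfsg.charDegree (φ : L → ℂ), by rw [hn, hdegL]; ring⟩
  obtain ⟨P₁, hP₁⟩ : ∃ P₁ : Sylow p G, (P₁ : Subgroup G) ≤ inertia (φ : L → ℂ) := by
    obtain ⟨Q⟩ : Nonempty (Sylow p (inertia (φ : L → ℂ))) := inferInstance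
    have hnd : ¬ p ∣ ((Q : Subgroup (inertia (φ : L → ℂ))).map (inertia (φ : L → ℂ)).subtype).index := by
      rw [Subgroup.index_map_subtype]
      exact hp.out.not_dvd_mul Q.not_dvd_index fun h => hpn (h.trans hidxn)
    refine ⟨(Q.isPGroup'.map (inertia (φ : L → ℂ)).subtype).toSylow hnd, ?_⟩
    rw [IsPGroup.toSylow_coe]
    exact Subgroup.map_subtype_le _
  have hLI := le_inertia (N := L) (isClassFunction_of_isIrr φ.2)
  rcases hover P₁ _ hP₁ hLI with hIG | ⟨-, hIidx⟩
  swap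
  · -- induced case
    obtain ⟨h2, h3, h4⟩ := hno (q ^ k) (hq.isPrimePow.pow hk0.ne') (hqk ▸ hIidx ▸ hidxn)
    exact h4 (by exact_mod_cast (Int.natCast_modEq_iff.2 hmod))
  -- the restriction to `M` is irreducible
  obtain ⟨θ, hθ⟩ := exists_constituent_res (N := M) χ.2
  have hθeq : ∀ m : M, (θ : M → ℂ) m = (χ : G → ℂ) m := by
    obtain ⟨r, hr, hrd⟩ := ProjExt.exists_ratio_dvd_index χ.2 θ.2 hθ
    rw [hMidx] at hrd
    have hr1 : r = 1 := by
      rcases (Nat.dvd_prime hp.out).1 hrd with h | h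
      · exact h
      · exfalso
        rw [charDegree_spec' θ, charDegree_spec' χ, ← Nat.cast_mul, Nat.cast_inj] at hr
        exact hpn ⟨Cfsg.charDegree (θ : M → ℂ), by rw [hn, hr, h]⟩
    rw [hr1, Nat.cast_one, one_mul] at hr
    have hsub := IsChar.sub_constituent (isCharacter_res M (IsIrr.isCharacter χ.2)) θ.2 hθ
    have h0 := (IsChar.eq_zero_iff hsub).2 (by simp [hr])
    intro m
    have h1 := congrFun h0 m
    simp only [Pi.sub_apply, Pi.zero_apply, sub_eq_zero] at h1
    exact h1.symm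
  have hθG : ∀ g : G, conjFun g (θ : M → ℂ) = θ := fun g => funext fun m => by
    rw [conjFun_apply, hθeq, hθeq]
    exact isClassFunction_of_isIrr χ.2 _ _
  have hres : ∀ l : L, (θ : M → ℂ) ⟨l, hLM.le l.2⟩ = c * (φ : L → ℂ) l := by
    intro l
    rw [hθeq]
    show (χ : G → ℂ) (l : G) = _
    have h1 := congrFun (clifford χ.2 φ.2 hφ) l
    have horb : orbit (φ : L → ℂ) = {(φ : L → ℂ)} := by
      ext ψ
      rw [mem_orbit, Finset.mem_singleton]
      refine ⟨?_, fun h => ⟨1, by rw [conjFun_one, h]⟩⟩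
      rintro ⟨g, rfl⟩
      exact (hIG ▸ Subgroup.mem_top g : g ∈ inertia (φ : L → ℂ))
    rw [horb, Finset.sum_singleton, hc, Pi.smul_apply, smul_eq_mul] at h1
    exact h1
  rcases sq_ratio_of_invariant hLM.le hab hmax θ.2 hθG φ.2 hres with he | he
  swap
  · -- fully ramified
    rw [hqk] at he
    obtain ⟨j, -, hj⟩ := (Nat.dvd_prime_pow hq).1 (he ▸ dvd_pow_self c two_ne_zero : c ∣ q ^ k)
    have hj0 : 0 < j := Nat.pos_of_ne_zero fun h => by
      rw [hj, h, pow_zero, one_pow] at he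
      exact (Nat.one_lt_pow hk0.ne' hq.one_lt).ne he
    obtain ⟨h2, h3, h4⟩ := hno c (hj ▸ hq.isPrimePow.pow hj0.ne')
      ⟨(inertia (φ : L → ℂ)).index * Cfsg.charDegree (φ : L → ℂ), by rw [hn, hdegL]; ring⟩
    rcases cong_of_sq hp.out (he ▸ hmod) with h | h
    · exact h2 h
    · exact h4 h
  -- `χ` is irreducible on `L`
  have hc1 : c = 1 := by
    rcases Nat.eq_or_lt_of_le (Nat.one_le_iff_ne_zero.2 fun (h : c = 0) => by rw [h] at he; simp at he) with h | h
    · exact h.symm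
    · exfalso; nlinarith
  have hLirr : IsIrrCharacter L (fun l : L => (χ : G → ℂ) l) := by
    have e : (fun l : L => (χ : G → ℂ) l) = (φ : L → ℂ) := funext fun l => by
      have h := hres l
      rw [hθeq, hc1, Nat.cast_one, one_mul] at h
      exact h
    rw [e]; exact φ.2
  set H := (P₁ : Subgroup G) ⊔ L with hH
  have := Fintype.ofFinite H
  have hHirr := isIrr_of_res_irr (IsIrr.isCharacter χ.2) (le_sup_right : L ≤ H) hLirr
  set PH : Sylow p H := P₁.subtype le_sup_left
  by_cases hPH : (PH : Subgroup H).Normal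
  swap
  · have hlt : Nat.card H < Nat.card G := lt_of_le_of_ne
      (Nat.le_of_dvd Nat.card_pos H.card_subgroup_dvd_card)
      fun e => hPL P₁ (Subgroup.eq_top_of_card_eq _ e)
    obtain ⟨q', hq', hqd, hqc⟩ := ih _ hlt H rfl inferInstance ⟨_, hHirr⟩
      (fun g hg => Subtype.ext (hfaith _ hg)) p PH hPH
    obtain ⟨h2, h3, h4⟩ := hno q' hq' hqd
    tauto
  -- `P₁` is normal in `P₁ L`
  have hHn : ∀ x ∈ H, ∀ u ∈ (P₁ : Subgroup G), x * u * x⁻¹ ∈ (P₁ : Subgroup G) :=
    fun x hx u hu => hPH.conj_mem ⟨u, Subgroup.mem_sup_left hu⟩ hu ⟨x, hx⟩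
  have hPab : ∀ a ∈ (P₁ : Subgroup G), ∀ b ∈ (P₁ : Subgroup G), a * b = b * a := by
    intro a ha b hb
    have := Fintype.ofFinite (PH : Subgroup H)
    set χH : IrrCharacter H := ⟨_, hHirr⟩ with hχH
    have hlin : ∀ (ψ : IrrCharacter (PH : Subgroup H)),
        classInner (fun x : (PH : Subgroup H) => (χH : H → ℂ) x) (ψ : ↥(PH : Subgroup H) → ℂ) ≠ 0 →
        (ψ : ↥(PH : Subgroup H) → ℂ) 1 = 1 := by
      intro ψ hψ
      obtain ⟨d, hd⟩ := classInner_isCharacter_eq_natCast
        (isCharacter_res (PH : Subgroup H) (IsIrr.isCharacter χH.2)) (IsIrr.isCharacter ψ.2)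
      have h1 := degree_eq_of_clifford χH.2 ψ.2 hψ
      obtain ⟨e', he0, he'⟩ := IsIrr.degree ψ.2
      rw [hd, he', show (χH : H → ℂ) 1 = (n : ℂ) from charDegree_spec' χ, ← Nat.cast_mul,
        ← Nat.cast_mul, Nat.cast_inj] at h1
      obtain ⟨a, ha⟩ := PH.isPGroup'.exists_card_eq
      obtain ⟨i, -, rfl⟩ := (Nat.dvd_prime_pow hp.out).1 (ha ▸ IsIrr.degree_dvd_card ψ.2 he')
      rcases Nat.eq_zero_or_pos i with hi | hi
      · rw [he', hi, pow_zero, Nat.cast_one]
      · exact absurd (h1 ▸ Dvd.dvd.mul_left (dvd_pow_self p hi.ne') _) hpn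
    obtain ⟨m, hm, he', -⟩ := IsChar.exists_mult
      (isCharacter_res (PH : Subgroup H) (IsIrr.isCharacter χH.2))
    set a' : (PH : Subgroup H) := ⟨⟨a, Subgroup.mem_sup_left ha⟩, ha⟩
    set b' : (PH : Subgroup H) := ⟨⟨b, Subgroup.mem_sup_left hb⟩, hb⟩
    have h1 : (χ : G → ℂ) (a * b * a⁻¹ * b⁻¹) = (χ : G → ℂ) 1 := by
      refine Eq.trans (congrFun he' (a' * b' * a'⁻¹ * b'⁻¹)) (Eq.trans ?_ (congrFun he' 1).symm)
      simp only [Finset.sum_apply, Pi.smul_apply, smul_eq_mul]
      refine Finset.sum_congr rfl fun ψ _ => ?_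
      by_cases h0 : m ψ = 0
      · simp [h0]
      obtain ⟨f, hf⟩ := IsChar.exists_hom (IsIrr.isCharacter ψ.2)
        (hlin ψ (by rw [hm ψ, Nat.cast_ne_zero]; exact h0))
      simp [hf, mul_comm]
    have h2 := hfaith _ h1
    rwa [mul_inv_eq_one, mul_inv_eq_iff_eq_mul] at h2
  have hP₀P : P₀ ≤ (P₁ : Subgroup G) := hP₀p.le_sylow_of_normal P₁
  -- `P₀` is central
  have hcent : ∀ g : G, ∀ x ∈ P₀, g * x = x * g := by
    have h : Subgroup.centralizer (P₀ : Set G) = ⊤ := hclos P₁ _ inferInstance fun u hu =>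
      Subgroup.mem_centralizer_iff.2 fun x hx => hPab x (hP₀P hx) u hu
    exact fun g x hx => (Subgroup.mem_centralizer_iff.1 (h ▸ Subgroup.mem_top g) x hx).symm
  -- `L` is central modulo `P₀`
  have hC : ∀ g : G, ∀ l ∈ L, g * l * g⁻¹ * l⁻¹ ∈ P₀ := by
    let C : Subgroup G :=
      { carrier := {g | ∀ l ∈ L, g * l * g⁻¹ * l⁻¹ ∈ P₀}
        one_mem' := fun l _ => by simpa using P₀.one_mem
        mul_mem' := fun {a b} ha hb l hl => by
          have e : a * b * l * (a * b)⁻¹ * l⁻¹ =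
              a * (b * l * b⁻¹) * a⁻¹ * (b * l * b⁻¹)⁻¹ * (b * l * b⁻¹ * l⁻¹) := by group
          rw [e]
          exact P₀.mul_mem (ha _ (hL.conj_mem l hl b)) (hb l hl)
        inv_mem' := fun {a} ha l hl => by
          have h1 := P₀.inv_mem (ha (a⁻¹ * l * a) (by simpa using hL.conj_mem l hl a⁻¹))
          have e : a⁻¹ * l * a⁻¹⁻¹ * l⁻¹ =
              (a * (a⁻¹ * l * a) * a⁻¹ * (a⁻¹ * l * a)⁻¹)⁻¹ := by group
          rw [e]
          exact h1 }
    have hCn : C.Normal := normal_of_forall_conj_mem fun g x hx l hl => by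
      have h1 := hP₀n.conj_mem _ (hx (g⁻¹ * l * g) (by simpa using hL.conj_mem l hl g⁻¹)) g
      have e : g * x * g⁻¹ * l * (g * x * g⁻¹)⁻¹ * l⁻¹ =
          g * (x * (g⁻¹ * l * g) * x⁻¹ * (g⁻¹ * l * g)⁻¹) * g⁻¹ := by group
      rw [e]
      exact h1
    have htop : C = ⊤ := hclos P₁ C hCn fun u hu l hl => hinfM P₁ ⟨by
      rw [show u * l * u⁻¹ * l⁻¹ = u * (l * u⁻¹ * l⁻¹) by group]
      exact (P₁ : Subgroup G).mul_mem hu
        (hHn l (Subgroup.mem_sup_right hl) _ ((P₁ : Subgroup G).inv_mem hu)),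
      M.mul_mem (hM.conj_mem l (hLM.le hl) u) (M.inv_mem (hLM.le hl))⟩
    exact fun g => (htop ▸ Subgroup.mem_top g : g ∈ C)
  have hLc : ∀ g : G, ∀ l ∈ L, g * l = l * g := by
    intro g l hl
    set d := g * l * g⁻¹ * l⁻¹ with hd
    have hdP : d ∈ P₀ := hC g l hl
    have hgl : g * l * g⁻¹ = d * l := by rw [hd]; group
    set j := P₀.relIndex L
    have hlj : l ^ j ∈ P₀ := by
      have h := pow_card_eq_one' (x := ((⟨l, hl⟩ : L) : L ⧸ P₀.subgroupOf L))
      rw [← QuotientGroup.mk_pow, QuotientGroup.eq_one_iff] at h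
      exact h
    have h1 : (g * l * g⁻¹) ^ j = d ^ j * l ^ j := by
      rw [hgl, (show Commute d l from (hcent l d hdP).symm).mul_pow]
    rw [conj_pow, hcent g _ hlj, mul_inv_cancel_right] at h1
    have hdj : d ^ j = 1 := mul_eq_right.1 h1.symm
    have hdc : d ^ Nat.card P₀ = 1 :=
      congrArg Subtype.val (pow_card_eq_one' (x := (⟨d, hdP⟩ : P₀)))
    have hcop : (Nat.card P₀).Coprime j := by
      obtain ⟨a, ha⟩ := hP₀p.exists_card_eq
      rw [ha]
      exact (hp.out.coprime_iff_not_dvd.2 fun h => hpM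
        (h.trans (Dvd.intro _ (Subgroup.relIndex_mul_relIndex P₀ L M hP₀L hLM.le)))).pow_left a
    have hd1 := pow_gcd_eq_one.2 ⟨hdc, hdj⟩
    rw [hcop.gcd_eq_one, pow_one] at hd1
    rw [hd1, one_mul] at hgl
    exact mul_inv_eq_iff_eq_mul.1 hgl
  have hlin : (χ : G → ℂ) 1 = 1 := by
    have h : (fun l : L => (χ : G → ℂ) l) 1 = 1 :=
      IsIrr.degree_one_of_comm (G := L) hLirr fun a b => Subtype.ext (hLc a b b.2)
    exact h
  exact hP (by
    have hc := comm_of_faithful_linear (IsIrr.isCharacter χ.2) hfaith hlin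
    exact ⟨fun x hx g => by rwa [hc g x, mul_inv_cancel_right]⟩)

end Cfsg.Agent.Char
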