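import Cfsg.Agent.Char.Ortho
import Cfsg.Agent.Char.ClassAlg
import Cfsg.Agent.Char.Linear
import Mathlib

/-!
# The Feit–Thompson inequality for trivial intersection abelian subgroups
-/

set_option autoImplicit false

namespace Cfsg.Agent.Char

open scoped ComplexConjugate

universe u

variable {G : Type u} [Group G] [Fintype G]

theorem mul_conj_eq_norm_sq (z : ℂ) : z * conj z = ((‖z‖ ^ 2 : ℝ) : ℂ) := by
  rw [Complex.mul_conj, Complex.normSq_eq_norm_sq]

theorem sum_norm_sq_of_irr {χ : G → ℂ} (hχ : IsIrrCharacter G χ) :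
    ∑ g : G, ‖χ g‖ ^ 2 = (Nat.card G : ℝ) := by
  have h := classInner_irr_self hχ
  rw [classInner, inv_mul_eq_one₀ card_ne_zero] at h
  have h' : ((Nat.card G : ℝ) : ℂ) = ((∑ g : G, ‖χ g‖ ^ 2 : ℝ) : ℂ) := by
    rw [Complex.ofReal_sum, Complex.ofReal_natCast, h]
    exact Finset.sum_congr rfl fun g _ => mul_conj_eq_norm_sq _
  exact_mod_cast h'.symm

/-- A central element acts by a scalar of absolute value one. -/
theorem exists_scalar_of_center {χ : G → ℂ} (hχ : IsIrrCharacter G χ) {z : G}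
    (hz : z ∈ Subgroup.center G) : ∃ a : ℂ, ‖a‖ = 1 ∧ ∀ g, χ (z * g) = a * χ g := by
  have h0 := IsIrr.one_ne_zero hχ
  obtain ⟨n, ρ, hρ, rfl⟩ := hχ
  obtain ⟨a, ha, -⟩ := commute_eq_scalar ρ hρ (ρ z) fun g => by
    rw [← map_mul, ← map_mul, Subgroup.mem_center_iff.1 hz g]
  have hval : ∀ g, ρ.character (z * g) = a * ρ.character g := fun g => by
    simp only [Representation.character]
    rw [map_mul, ha, smul_mul_assoc, map_smul, smul_eq_mul,
      show (LinearMap.id : (Fin n → ℂ) →ₗ[ℂ] _) * ρ g = ρ g from rfl]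
  refine ⟨a, ?_, hval⟩
  refine Complex.norm_eq_one_of_pow_eq_one ?_ (orderOf_pos z).ne'
  have hpow : ∀ k : ℕ, ρ.character (z ^ k) = a ^ k * ρ.character 1 := fun k => by
    induction k with
    | zero => simp
    | succ k ih => rw [pow_succ', hval, ih, pow_succ', mul_assoc]
  have h := hpow (orderOf z)
  rw [pow_orderOf_eq_one] at h
  exact (mul_left_eq_self₀.1 h.symm).resolve_right h0

/-- **The Feit–Thompson inequality.** -/
theorem feit_thompson_ineq (H : Subgroup G) [Fintype H] (hab : ∀ a ∈ H, ∀ b ∈ H, a * b = b * a)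
    (hZ : H ⊓ Subgroup.center G = ⊥)
    (hone : ∀ g : G, g ∉ Subgroup.center G → ∀ a b : G,
      Subgroup.centralizer ({g} : Set G) ⊓ H.map (MulAut.conj a).toMonoidHom ≠ ⊥ →
      Subgroup.centralizer ({g} : Set G) ⊓ H.map (MulAut.conj b).toMonoidHom ≠ ⊥ →
      H.map (MulAut.conj a).toMonoidHom = H.map (MulAut.conj b).toMonoidHom)
    {χ : G → ℂ} (hχ : IsIrrCharacter G χ) {d c : ℕ} (hd : χ 1 = d)
    (hc : classInner (fun h : H => χ h) (fun _ => 1) = c) (hker : ∃ h ∈ H, χ h ≠ χ 1) :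
    Nat.card H * c ^ 2 < d ^ 2 := by
  classical
  have hd0 : 0 < d := Nat.pos_of_ne_zero fun e =>
    IsIrr.one_ne_zero hχ (by rw [hd, e, Nat.cast_zero])
  set N := Subgroup.normalizer (H : Set G) with hN
  set Z := Subgroup.center G with hZdef
  have hHN : H ≤ N := H.le_normalizer
  have hZN : Z ≤ N := fun z hz => by
    rw [hN, Subgroup.mem_normalizer_iff]
    intro h
    rw [← Subgroup.mem_center_iff.1 hz h, mul_inv_cancel_right]
  have hconj : ∀ (n : N) (h : H), (n : G) * h * (n : G)⁻¹ ∈ H := fun n h =>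
    ((Subgroup.mem_normalizer_iff.1 n.2) h).1 h.2
  let ι : H → N := fun h => ⟨h, hHN h.2⟩
  set ψ : N → ℂ := fun n => χ n with hψdef
  have hψ : IsCharacter N ψ := isCharacter_res N (IsIrr.isCharacter hχ)
  -- the part fixed by `H`
  set η : N → ℂ := fun n => (Nat.card H : ℂ)⁻¹ * ∑ h : H, ψ (n * ι h) with hη
  have hHne : (Nat.card H : ℂ) ≠ 0 := Nat.cast_ne_zero.2 Nat.card_pos.ne'
  have hηinv : ∀ (n : N) (h : H), η (n * ι h) = η n := fun n h => by
    simp only [hη]
    congr 1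
    refine Fintype.sum_equiv (Equiv.mulLeft h) _ _ fun k => ?_
    rw [mul_assoc]
    rfl
  have hproj : ∀ F : N → ℂ, (∀ (n : N) (h : H), F (n * ι h) = F n) →
      ∑ n, η n * conj (F n) = ∑ n, ψ n * conj (F n) := by
    intro F hF
    have hstep : ∀ h : H, ∑ n : N, ψ (n * ι h) * conj (F n) = ∑ n, ψ n * conj (F n) := fun h =>
      Fintype.sum_equiv (Equiv.mulRight (ι h)) _ _ fun n => by rw [Equiv.coe_mulRight, hF]
    simp only [hη, mul_assoc, ← Finset.mul_sum, Finset.sum_mul]
    rw [Finset.sum_comm, Finset.sum_congr rfl fun h _ => hstep h, Finset.sum_const,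
      Finset.card_univ, ← Nat.card_eq_fintype_card, nsmul_eq_mul, inv_mul_cancel_left₀ hHne]
  have hnorm : ∑ n : N, ‖ψ n‖ ^ 2 = ∑ n : N, ‖η n‖ ^ 2 + ∑ n : N, ‖ψ n - η n‖ ^ 2 := by
    have h1 := hproj η hηinv
    have h2 : ∑ n : N, η n * conj (ψ n) = ∑ n, η n * conj (η n) := by
      have := congrArg conj h1
      simp only [map_sum, map_mul, Complex.conj_conj] at this
      rw [Finset.sum_congr rfl fun n _ => mul_comm (η n) (conj (ψ n)), ← this]
      exact Finset.sum_congr rfl fun n _ => mul_comm _ _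
    have h3 : ∑ n : N, ψ n * conj (ψ n) =
        ∑ n, η n * conj (η n) + ∑ n, (ψ n - η n) * conj (ψ n - η n) := by
      simp only [map_sub, mul_sub, sub_mul, Finset.sum_sub_distrib]
      rw [← h1, h2]
      ring
    simp only [mul_conj_eq_norm_sq] at h3
    exact_mod_cast h3
  -- the rest has norm at least one
  have hrest : (Nat.card N : ℝ) ≤ ∑ n : N, ‖ψ n - η n‖ ^ 2 := by
    obtain ⟨h₀, hh₀, hne⟩ := hker
    obtain ⟨φ, hφm, hφ⟩ : ∃ φ : IrrCharacter N, classInner ψ (φ : N → ℂ) ≠ 0 ∧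
        (φ : N → ℂ) (ι ⟨h₀, hh₀⟩) ≠ (φ : N → ℂ) 1 := by
      by_contra! hall
      apply hne
      have hexp := classFun_expansion (isClassFunction_of_isCharacter hψ)
      have e1 := congrFun hexp (ι ⟨h₀, hh₀⟩)
      have e2 := congrFun hexp 1
      simp only [Finset.sum_apply, Pi.smul_apply, smul_eq_mul] at e1 e2
      show ψ (ι ⟨h₀, hh₀⟩) = ψ 1
      rw [e1, e2]
      refine Finset.sum_congr rfl fun φ _ => ?_
      by_cases h0 : classInner ψ (φ : N → ℂ) = 0
      · rw [h0, zero_mul, zero_mul]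
      · rw [hall φ h0]
    -- `φ` averages to zero along `H`
    have havg : ∀ m : N, ∑ h : H, (φ : N → ℂ) (m * ι h) = 0 := by
      obtain ⟨k, ρ, hρ, he⟩ := φ.2
      obtain ⟨a, ha, -⟩ := commute_eq_scalar ρ hρ (∑ h : H, ρ (ι h)) fun n => by
        rw [Finset.sum_mul, Finset.mul_sum]
        refine Fintype.sum_equiv
          ⟨fun h : H => ⟨(n : G)⁻¹ * h * n, by simpa using hconj n⁻¹ h⟩,
            fun h : H => ⟨(n : G) * h * (n : G)⁻¹, hconj n h⟩,
            fun h => Subtype.ext (by simp [mul_assoc]), fun h => Subtype.ext (by simp [mul_assoc])⟩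
          _ _ fun h => ?_
        rw [← map_mul, ← map_mul]
        exact congrArg ρ (Subtype.ext (by simp [ι, mul_assoc]))
      have hT : ∑ h : H, ρ (ι h) = 0 := by
        rw [ha]
        rcases eq_or_ne a 0 with h | h
        · rw [h, zero_smul]
        exfalso
        apply hφ
        have h1 : (∑ h : H, ρ (ι h)) * ρ (ι ⟨h₀, hh₀⟩) = ∑ h : H, ρ (ι h) := by
          rw [Finset.sum_mul]
          exact Fintype.sum_equiv (Equiv.mulRight ⟨h₀, hh₀⟩) _ _ fun h => by rw [← map_mul]; rfl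
        rw [ha, smul_mul_assoc, show (LinearMap.id : (Fin k → ℂ) →ₗ[ℂ] _) * ρ (ι ⟨h₀, hh₀⟩) =
          ρ (ι ⟨h₀, hh₀⟩) from rfl] at h1
        have h2 : ρ (ι ⟨h₀, hh₀⟩) = ρ 1 := by
          rw [map_one]
          exact smul_right_injective _ h h1
        rw [← he]
        simp only [Representation.character, h2]
      intro m
      rw [← he]
      simp only [Representation.character, map_mul]
      rw [← map_sum, ← Finset.mul_sum, hT, mul_zero, map_zero]
    obtain ⟨m, hm⟩ := classInner_isCharacter_eq_natCast hψ (IsIrr.isCharacter φ.2)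
    have hm1 : 1 ≤ m := Nat.one_le_iff_ne_zero.2 fun e => hφm (by rw [hm, e, Nat.cast_zero])
    have hinner : ∑ n : N, (ψ n - η n) * conj ((φ : N → ℂ) n) = (Nat.card N : ℂ) * m := by
      simp only [sub_mul, Finset.sum_sub_distrib]
      have h1 : ∑ n : N, η n * conj ((φ : N → ℂ) n) = 0 := by
        have hstep : ∀ h : H, ∑ n : N, ψ (n * ι h) * conj ((φ : N → ℂ) n) =
            ∑ n, ψ n * conj ((φ : N → ℂ) (n * (ι h)⁻¹)) := fun h =>
          Fintype.sum_equiv (Equiv.mulRight (ι h)) _ _ fun n => by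
            rw [Equiv.coe_mulRight, mul_inv_cancel_right]
        simp only [hη, mul_assoc, ← Finset.mul_sum, Finset.sum_mul]
        rw [Finset.sum_comm, Finset.sum_congr rfl fun h _ => hstep h, Finset.sum_comm,
          Finset.sum_eq_zero, mul_zero]
        intro n _
        rw [← Finset.mul_sum, ← map_sum]
        have : ∑ h : H, (φ : N → ℂ) (n * (ι h)⁻¹) = ∑ h : H, (φ : N → ℂ) (n * ι h) :=
          Fintype.sum_equiv (Equiv.inv H) _ _ fun h => rfl
        rw [this, havg, map_zero, mul_zero]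
      rw [h1, sub_zero, ← hm, classInner, mul_inv_cancel_left₀ card_ne_zero]
    have h1 : (Nat.card N : ℝ) * m ≤ ∑ n : N, ‖ψ n - η n‖ * ‖(φ : N → ℂ) n‖ := by
      have h := congrArg norm hinner
      rw [norm_mul, Complex.norm_natCast, Complex.norm_natCast] at h
      rw [← h]
      refine (norm_sum_le _ _).trans (le_of_eq ?_)
      exact Finset.sum_congr rfl fun n _ => by rw [norm_mul, Complex.norm_conj]
    have h2 := Finset.sum_mul_sq_le_sq_mul_sq Finset.univ (fun n : N => ‖ψ n - η n‖)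
      (fun n : N => ‖(φ : N → ℂ) n‖)
    rw [sum_norm_sq_of_irr φ.2] at h2
    have hNpos : (0 : ℝ) < Nat.card N := by exact_mod_cast Nat.card_pos (α := N)
    have h3 : (Nat.card N : ℝ) ≤ Nat.card N * m := by
      nlinarith [(by exact_mod_cast hm1 : (1 : ℝ) ≤ m)]
    have h4 : (Nat.card N : ℝ) ^ 2 ≤ (∑ n : N, ‖ψ n - η n‖ ^ 2) * Nat.card N :=
      le_trans (pow_le_pow_left₀ hNpos.le (h3.trans h1) 2) h2
    nlinarith
  -- the elements whose centraliser meets `H`
  let P : N → Prop := fun n => (n : G) ∈ Z ∨ ∃ h ∈ H, h ≠ 1 ∧ (n : G) * h = h * n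
  set U := Finset.univ.filter P with hU
  have hout : ∀ n : N, ¬ P n → η n = ψ n := by
    intro n hn
    simp only [P, not_or, not_exists, not_and] at hn
    let f : H → H := fun k => ⟨(n : G)⁻¹ * k * n * (k : G)⁻¹,
      H.mul_mem (by simpa using hconj n⁻¹ k) (H.inv_mem k.2)⟩
    have hf : Function.Injective f := by
      intro k l hkl
      have e : (n : G)⁻¹ * k * n * (k : G)⁻¹ = (n : G)⁻¹ * l * n * (l : G)⁻¹ := congrArg Subtype.val hkl
      have hmem : (l : G)⁻¹ * k ∈ H := H.mul_mem (H.inv_mem l.2) k.2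
      by_contra hne
      refine hn.2 _ hmem (fun e' => hne (Subtype.ext (inv_mul_eq_one.1 e').symm)) ?_
      have c1 := hab _ (H.inv_mem l.2) _ k.2
      have c2 := hab _ (by simpa using hconj n⁻¹ k : (n : G)⁻¹ * k * n ∈ H) _ (H.inv_mem k.2)
      have c3 := hab _ (by simpa using hconj n⁻¹ l : (n : G)⁻¹ * l * n ∈ H) _ (H.inv_mem l.2)
      rw [c2, c3] at e
      calc (n : G) * ((l : G)⁻¹ * k) = (n : G) * ((k : G) * (l : G)⁻¹) := by rw [c1]
        _ = (n : G) * ((k : G) * ((l : G)⁻¹ * ((n : G)⁻¹ * l * n)) * ((n : G)⁻¹ * l * n)⁻¹) := by group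
        _ = (n : G) * ((k : G) * ((k : G)⁻¹ * ((n : G)⁻¹ * k * n)) * ((n : G)⁻¹ * l * n)⁻¹) := by rw [e]
        _ = (k : G) * (l : G)⁻¹ * n := by group
        _ = _ := by rw [c1]
    have hsurj := Finite.surjective_of_injective hf
    have hval : ∀ h : H, ψ (n * ι h) = ψ n := by
      intro h
      obtain ⟨k, rfl⟩ := hsurj h
      show χ ((n : G) * ((n : G)⁻¹ * k * n * (k : G)⁻¹)) = χ n
      rw [show (n : G) * ((n : G)⁻¹ * k * n * (k : G)⁻¹) = k * n * (k : G)⁻¹ by group]
      exact isClassFunction_of_isIrr hχ _ _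
    simp only [hη]
    rw [Finset.sum_congr rfl fun h _ => hval h, Finset.sum_const, Finset.card_univ,
      ← Nat.card_eq_fintype_card, nsmul_eq_mul, inv_mul_cancel_left₀ hHne]
  have hU1 : (Nat.card N : ℝ) + ∑ n ∈ U, ‖η n‖ ^ 2 ≤ ∑ n ∈ U, ‖ψ n‖ ^ 2 := by
    have hs : ∀ F : N → ℝ, ∑ n, F n = ∑ n ∈ U, F n + ∑ n ∈ Finset.univ.filter (fun n => ¬ P n), F n :=
      fun F => (Finset.sum_filter_add_sum_filter_not _ _ _).symm
    have hoff : ∑ n ∈ Finset.univ.filter (fun n => ¬ P n), ‖ψ n‖ ^ 2 =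
        ∑ n ∈ Finset.univ.filter (fun n => ¬ P n), ‖η n‖ ^ 2 :=
      Finset.sum_congr rfl fun n hn => by rw [hout n (Finset.mem_filter.1 hn).2]
    rw [hs fun n => ‖ψ n‖ ^ 2, hs fun n => ‖η n‖ ^ 2, hoff] at hnorm
    linarith
  -- `H Z` contributes
  have hHZ : (Nat.card H : ℝ) * Nat.card Z * c ^ 2 ≤ ∑ n ∈ U, ‖η n‖ ^ 2 := by
    let e : H × Z → N := fun x => ι x.1 * ⟨x.2, hZN x.2.2⟩
    have he : Function.Injective e := by
      rintro ⟨h, z⟩ ⟨h', z'⟩ h1
      have h2 : (h : G) * z = h' * z' := congrArg Subtype.val h1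
      have h3 : (h' : G)⁻¹ * h ∈ H ⊓ Z := ⟨H.mul_mem (H.inv_mem h'.2) h.2, by
        rw [show (h' : G)⁻¹ * h = z' * (z : G)⁻¹ by
          rw [eq_mul_inv_iff_mul_eq, mul_assoc, h2, inv_mul_cancel_left]]
        exact Z.mul_mem z'.2 (Z.inv_mem z.2)⟩
      rw [hZ, Subgroup.mem_bot, inv_mul_eq_one] at h3
      have h4 : h = h' := Subtype.ext h3.symm
      subst h4
      exact Prod.ext rfl (Subtype.ext (mul_left_cancel h2))
    have hmem : Finset.univ.image e ⊆ U := by
      intro n hn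
      obtain ⟨⟨h, z⟩, -, rfl⟩ := Finset.mem_image.1 hn
      refine Finset.mem_filter.2 ⟨Finset.mem_univ _, ?_⟩
      show (h : G) * z ∈ Z ∨ _
      by_cases h1 : (h : G) = 1
      · exact Or.inl (by rw [h1, one_mul]; exact z.2)
      · refine Or.inr ⟨h, h.2, h1, ?_⟩
        show (h : G) * z * h = h * (h * z)
        rw [mul_assoc, ← Subgroup.mem_center_iff.1 z.2 h]
    refine le_trans (le_of_eq ?_) (Finset.sum_le_sum_of_subset_of_nonneg hmem fun n _ _ => by positivity)
    rw [Finset.sum_image fun x _ y _ h => he h]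
    have hval : ∀ x : H × Z, ‖η (e x)‖ = c := by
      rintro ⟨h, z⟩
      obtain ⟨a, ha, haz⟩ := exists_scalar_of_center hχ z.2
      have h1 : η (e (h, z)) = η ⟨z, hZN z.2⟩ := by
        rw [← hηinv ⟨z, hZN z.2⟩ h]
        exact congrArg η (Subtype.ext (Subgroup.mem_center_iff.1 z.2 h))
      have h2 : η ⟨z, hZN z.2⟩ = a * c := by
        rw [← hc]
        simp only [hη, classInner, map_one, mul_one]
        rw [← mul_assoc, mul_comm a, mul_assoc, Finset.mul_sum, Finset.mul_sum, Finset.mul_sum]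
        exact Finset.sum_congr rfl fun k _ => congrArg _ (haz k)
      rw [h1, h2, norm_mul, ha, one_mul, Complex.norm_natCast]
    rw [Finset.sum_congr rfl fun x _ => by rw [hval x], Finset.sum_const, Finset.card_univ,
      Fintype.card_prod, ← Nat.card_eq_fintype_card, ← Nat.card_eq_fintype_card, nsmul_eq_mul,
      Nat.cast_mul]
  -- conjugates are disjoint
  set W := U.filter fun n : N => (n : G) ∉ Z with hW
  have hZsum : ∑ n ∈ U.filter (fun n : N => (n : G) ∈ Z), ‖ψ n‖ ^ 2 = (Nat.card Z : ℝ) * d ^ 2 := by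
    rw [show U.filter (fun n : N => (n : G) ∈ Z) = Finset.univ.image (fun z : Z => (⟨z, hZN z.2⟩ : N)) by
      ext n
      simp only [hU, Finset.mem_filter, Finset.mem_univ, true_and, Finset.mem_image]
      exact ⟨fun h => ⟨⟨n, h.2⟩, rfl⟩, fun ⟨z, hz⟩ => by subst hz; exact ⟨Or.inl z.2, z.2⟩⟩,
      Finset.sum_image (g := fun z : Z => (⟨z, hZN z.2⟩ : N))
        fun x _ y _ h => Subtype.ext (congrArg (fun n : N => (n : G)) h),
      Finset.sum_congr rfl fun z _ => ?_, Finset.sum_const, Finset.card_univ,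
      ← Nat.card_eq_fintype_card, nsmul_eq_mul]
    obtain ⟨a, ha, haz⟩ := exists_scalar_of_center hχ z.2
    have := haz 1
    rw [mul_one] at this
    show ‖χ z‖ ^ 2 = (d : ℝ) ^ 2
    rw [this, hd, norm_mul, ha, one_mul, Complex.norm_natCast]
  have hG : (Nat.card Z : ℝ) * d ^ 2 + N.index * ∑ n ∈ W, ‖ψ n‖ ^ 2 ≤ Nat.card G := by
    rw [← sum_norm_sq_of_irr hχ]
    let e : (G ⧸ N) × {n // n ∈ W} → G := fun x => x.1.out * (x.2 : N) * x.1.out⁻¹
    have he : Function.Injective e := by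
      rintro ⟨q, n, hn⟩ ⟨r, m, hm⟩ h
      have h' : q.out * n * q.out⁻¹ = r.out * m * r.out⁻¹ := h
      rw [hW, hU, Finset.mem_filter, Finset.mem_filter] at hn hm
      obtain ⟨h1, hh1, h1ne, h1c⟩ := hn.1.2.resolve_left hn.2
      obtain ⟨h2, hh2, h2ne, h2c⟩ := hm.1.2.resolve_left hm.2
      set g := q.out * n * q.out⁻¹ with hg
      have hgZ : g ∉ Z := fun hgz => hn.2 (by
        have := (inferInstance : Z.Normal).conj_mem _ hgz q.out⁻¹
        rwa [hg, inv_inv, show q.out⁻¹ * (q.out * n * q.out⁻¹) * q.out = (n : G) by group] at this)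
      have key := hone g hgZ q.out r.out
        ((Subgroup.ne_bot_iff_exists_ne_one).2 ⟨⟨q.out * h1 * q.out⁻¹, by
            refine ⟨Subgroup.mem_centralizer_singleton_iff.2 ?_, h1, hh1, rfl⟩
            calc q.out * h1 * q.out⁻¹ * g = q.out * (h1 * n) * q.out⁻¹ := by rw [hg]; group
              _ = q.out * (n * h1) * q.out⁻¹ := by rw [h1c]
              _ = g * (q.out * h1 * q.out⁻¹) := by rw [hg]; group⟩,
          fun e => h1ne (conj_eq_one_iff.1 (congrArg Subtype.val e))⟩)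
        ((Subgroup.ne_bot_iff_exists_ne_one).2 ⟨⟨r.out * h2 * r.out⁻¹, by
            refine ⟨Subgroup.mem_centralizer_singleton_iff.2 ?_, h2, hh2, rfl⟩
            calc r.out * h2 * r.out⁻¹ * g = r.out * (h2 * m) * r.out⁻¹ := by rw [h']; group
              _ = r.out * (m * h2) * r.out⁻¹ := by rw [h2c]
              _ = g * (r.out * h2 * r.out⁻¹) := by rw [h']; group⟩,
          fun e => h2ne (conj_eq_one_iff.1 (congrArg Subtype.val e))⟩)
      have hqr : r.out⁻¹ * q.out ∈ N := by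
        refine (Subgroup.mem_normalizer_iff (H := H)).2 fun k => ?_
        constructor
        · intro hk
          have : q.out * k * q.out⁻¹ ∈ H.map (MulAut.conj r.out).toMonoidHom := key ▸ ⟨k, hk, rfl⟩
          obtain ⟨l, hl, hle⟩ := this
          have hle' : r.out * l * r.out⁻¹ = q.out * k * q.out⁻¹ := hle
          rw [show r.out⁻¹ * q.out * k * (r.out⁻¹ * q.out)⁻¹ =
            r.out⁻¹ * (q.out * k * q.out⁻¹) * r.out by group, ← hle']
          simpa [mul_assoc] using hl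
        · intro hk
          have : r.out * (r.out⁻¹ * q.out * k * (r.out⁻¹ * q.out)⁻¹) * r.out⁻¹ ∈
              H.map (MulAut.conj q.out).toMonoidHom := key.symm ▸ ⟨_, hk, rfl⟩
          obtain ⟨l, hl, hle⟩ := this
          have hle' : q.out * l * q.out⁻¹ = q.out * k * q.out⁻¹ := by
            rw [show q.out * k * q.out⁻¹ =
              r.out * (r.out⁻¹ * q.out * k * (r.out⁻¹ * q.out)⁻¹) * r.out⁻¹ by group]
            exact hle
          rw [← mul_left_cancel (mul_right_cancel hle')]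
          exact hl
      have hqr' : q = r := by
        rw [← QuotientGroup.out_eq' q, ← QuotientGroup.out_eq' r]
        exact (QuotientGroup.eq.2 hqr).symm
      subst hqr'
      exact Prod.ext rfl (Subtype.ext (Subtype.ext (mul_left_cancel (mul_right_cancel h'))))
    have hnot : ∀ x, e x ∉ (Z : Set G) := by
      rintro ⟨q, n, hn⟩ hz
      refine (Finset.mem_filter.1 hn).2 ?_
      have h := (inferInstance : Z.Normal).conj_mem _ hz q.out⁻¹
      show (n : G) ∈ Z
      simpa [e, mul_assoc] using h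
    have hdis : Disjoint (Finset.univ.image fun z : Z => (z : G)) (Finset.univ.image e) := by
      rw [Finset.disjoint_left]
      intro g hg hg'
      obtain ⟨z, -, rfl⟩ := Finset.mem_image.1 hg
      obtain ⟨x, -, hx⟩ := Finset.mem_image.1 hg'
      exact hnot x (hx ▸ z.2)
    refine le_trans (le_of_eq ?_) (Finset.sum_le_sum_of_subset_of_nonneg
      (Finset.subset_univ ((Finset.univ.image fun z : Z => (z : G)) ∪ Finset.univ.image e))
      fun g _ _ => by positivity)
    rw [Finset.sum_union hdis, Finset.sum_image fun x _ y _ h => Subtype.ext h,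
      Finset.sum_image fun x _ y _ h => he h, Fintype.sum_prod_type]
    congr 1
    · rw [Finset.sum_congr rfl fun z _ => ?_, Finset.sum_const, Finset.card_univ,
        ← Nat.card_eq_fintype_card, nsmul_eq_mul]
      obtain ⟨a, ha, haz⟩ := exists_scalar_of_center hχ z.2
      have := haz 1
      rw [mul_one] at this
      rw [this, hd, norm_mul, ha, one_mul, Complex.norm_natCast]
    · have hq : ∀ q : G ⧸ N, ∑ y, ‖χ (e (q, y))‖ ^ 2 = ∑ n ∈ W, ‖ψ n‖ ^ 2 := by
        intro q
        rw [← Finset.sum_coe_sort W fun n => ‖ψ n‖ ^ 2]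
        refine Finset.sum_congr rfl fun n _ => ?_
        show ‖χ (q.out * (n : N) * q.out⁻¹)‖ ^ 2 = ‖χ ((n : N) : G)‖ ^ 2
        rw [isClassFunction_of_isIrr hχ]
      rw [Finset.sum_congr rfl fun q _ => hq q, Finset.sum_const, Finset.card_univ,
        ← Nat.card_eq_fintype_card, nsmul_eq_mul]
      rfl
  have hsplit : ∑ n ∈ U, ‖ψ n‖ ^ 2 = (Nat.card Z : ℝ) * d ^ 2 + ∑ n ∈ W, ‖ψ n‖ ^ 2 := by
    rw [← hZsum, hW, Finset.sum_filter_add_sum_filter_not]
  -- combine
  have hGN : (Nat.card G : ℝ) = N.index * Nat.card N := by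
    rw [← N.index_mul_card]; push_cast; rfl
  have hi : (1 : ℝ) ≤ N.index := by
    exact_mod_cast Nat.one_le_iff_ne_zero.2 N.index_ne_zero_of_finite
  have hZpos : (1 : ℝ) ≤ Nat.card Z := by exact_mod_cast Nat.card_pos (α := Z)
  have hdpos : (1 : ℝ) ≤ d := by exact_mod_cast hd0
  have key : (N.index : ℝ) * ((Nat.card H : ℝ) * Nat.card Z * c ^ 2) + Nat.card Z * d ^ 2 ≤
      N.index * (Nat.card Z * d ^ 2) := by
    nlinarith
  have hfinal : (Nat.card H : ℝ) * c ^ 2 < (d : ℝ) ^ 2 := by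
    by_contra hcon
    push Not at hcon
    have h1 : (N.index : ℝ) * (Nat.card Z * d ^ 2) ≤
        N.index * ((Nat.card H : ℝ) * Nat.card Z * c ^ 2) := by
      refine mul_le_mul_of_nonneg_left ?_ (by linarith)
      calc (Nat.card Z : ℝ) * d ^ 2 ≤ Nat.card Z * ((Nat.card H : ℝ) * c ^ 2) :=
            mul_le_mul_of_nonneg_left hcon (by linarith)
        _ = _ := by ring
    have h2 : (0 : ℝ) < Nat.card Z * (d : ℝ) ^ 2 := mul_pos (by linarith) (pow_pos (by linarith) 2)
    linarith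
  exact_mod_cast hfinal

end Cfsg.Agent.Char
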