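import Mathlib
import Cfsg.Prelude.Def_Solvable
import Cfsg.Agent.Char.Clifford
import Cfsg.Agent.Char.Gen
import Cfsg.Agent.Char.Linear
import Cfsg.Agent.Char.NormalAbelianSylow
import Cfsg.Agent.Core.MinimalNormal

/-!
# Characters of larger degree and smaller kernel (Broline), and the nilpotent length
-/

namespace Cfsg.Agent.Char

open scoped ComplexConjugate

universe u

variable {G : Type u} [Group G]

/-- Frattini for a Sylow subgroup of a normal subgroup inside a smaller normal subgroup. -/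
theorem normalizer_sup_eq_top_of_le [Finite G] {p : ℕ} [Fact p.Prime] {K D P : Subgroup G}
    [D.Normal] (hP : IsPGroup p P) (hPD : P ≤ D) (hDK : D ≤ K)
    (hidx : ¬ p ∣ P.relIndex K) : Subgroup.normalizer (P : Set G) ⊔ D = ⊤ := by
  have h1 : IsPGroup p (P.subgroupOf D) :=
    hP.of_equiv (Subgroup.subgroupOfEquivOfLe hPD).symm
  have h2 : ¬ p ∣ (P.subgroupOf D).index := fun h =>
    hidx (h.trans (Dvd.intro _ (Subgroup.relIndex_mul_relIndex P D K hPD hDK)))
  have h := Sylow.normalizer_sup_eq_top (h1.toSylow h2)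
  rwa [IsPGroup.toSylow_coe, Subgroup.map_subgroupOf_eq_of_le hPD] at h

theorem re_one_eq [Finite G] {ψ : G → ℂ} (h : IsIrrCharacter G ψ) :
    (ψ 1).re = (Cfsg.charDegree ψ : ℝ) := by
  obtain ⟨k, -, hk⟩ := IsIrr.degree h
  simp [Cfsg.charDegree, hk]

variable [Fintype G]

/-- A character is irreducible on a supplement of a normal subgroup in its kernel. -/
theorem isIrr_res_of_sup_eq_top {χ : G → ℂ} (hχ : IsIrrCharacter G χ) {K H : Subgroup G}
    [K.Normal] (hK : ∀ k ∈ K, χ k = χ 1) (hKH : K ⊔ H = ⊤) :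
    IsIrrCharacter H (fun h : H => χ h) := by
  obtain ⟨φ, hφ, hφe⟩ := IsIrr.exists_quotient K hχ hK
  obtain rfl : χ = fun g : G => φ (g : G ⧸ K) := funext hφe
  refine isIrrCharacter_comp ((QuotientGroup.mk' K).comp H.subtype) ?_ hφ
  intro c
  obtain ⟨g, rfl⟩ := QuotientGroup.mk_surjective c
  obtain ⟨k, hk, h, hh, rfl⟩ := Subgroup.mem_sup_of_normal_left.1 (hKH ▸ Subgroup.mem_top g)
  refine ⟨⟨h, hh⟩, ?_⟩
  simp [(QuotientGroup.eq_one_iff k).2 hk]

/-- Either some character has larger degree and smaller kernel, or `χ` vanishes on the maximal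
supplement of its kernel outside the core. -/
theorem exists_larger_or_vanish {χ : G → ℂ} (hχ : IsIrrCharacter G χ) {K H : Subgroup G}
    [K.Normal] (hK : ∀ g, g ∈ K ↔ χ g = χ 1) (hH : IsCoatom H) (hKH : ¬ K ≤ H) :
    (∃ ψ : G → ℂ, IsIrrCharacter G ψ ∧ (χ 1).re < (ψ 1).re ∧
      ∃ L : Subgroup G, (∀ g, g ∈ L ↔ ψ g = ψ 1) ∧ L < K) ∨
    ∀ h ∈ H, χ h ≠ 0 → h ∈ H.normalCore := by
  classical
  have hsup : K ⊔ H = ⊤ := hH.2 _ (lt_of_le_of_ne le_sup_right fun e => hKH (e ▸ le_sup_left))
  let := Fintype.ofFinite H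
  set χH : H → ℂ := fun h => χ h with hχH
  have hirrH : IsIrrCharacter H χH := isIrr_res_of_sup_eq_top hχ (fun k hk => (hK k).1 hk) hsup
  by_cases hall : ∀ ξ : IrrCharacter G, classInner (indFun H χH) (ξ : G → ℂ) ≠ 0 →
      (ξ : G → ℂ) 1 = χ 1
  · right
    intro h hh hne
    have hI := isCharacter_indFun H (IsIrr.isCharacter hirrH)
    obtain ⟨d, hd, hd1⟩ := IsIrr.degree hχ
    have hres : ∀ ξ : IrrCharacter G, classInner (indFun H χH) (ξ : G → ℂ) ≠ 0 →
        (ξ : G → ℂ) h = χ h := by
      intro ξ hξ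
      have hdeg := hall ξ hξ
      rw [classInner_indFun_left H χH (isClassFunction_of_isIrr ξ.2)] at hξ
      have hξ' : classInner (fun y : H => (ξ : G → ℂ) y) χH ≠ 0 := by
        intro e
        apply hξ
        rw [← classInner_conj_symm, e, map_zero]
      have hsub := IsChar.sub_constituent (isCharacter_res H (IsIrr.isCharacter ξ.2)) hirrH hξ'
      have h0 := (IsChar.eq_zero_iff hsub).2 (by simp [hχH, hdeg])
      have h1 := congrFun h0 ⟨h, hh⟩
      simpa [hχH, sub_eq_zero] using h1
    have hterm : ∀ ξ : IrrCharacter G,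
        classInner (indFun H χH) (ξ : G → ℂ) * ((ξ : G → ℂ) h * χ 1) =
        classInner (indFun H χH) (ξ : G → ℂ) * ((ξ : G → ℂ) 1 * χ h) := fun ξ => by
      by_cases hξ : classInner (indFun H χH) (ξ : G → ℂ) = 0
      · simp [hξ]
      · rw [hres ξ hξ, hall ξ hξ]
        ring
    have hval : indFun H χH h * χ 1 = indFun H χH 1 * χ h := by
      have e := classFun_expansion (isClassFunction_of_isCharacter hI)
      rw [congrFun e h, congrFun e 1]
      simp only [Finset.sum_apply, Pi.smul_apply, smul_eq_mul, Finset.sum_mul, mul_assoc]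
      exact Finset.sum_congr rfl fun ξ _ => hterm ξ
    have hext : ∀ x : G, extendByZero H χH (x⁻¹ * h * x) =
        if x⁻¹ * h * x ∈ H then χ h else 0 := by
      intro x
      split_ifs with hx
      · rw [extendByZero_of_mem H χH hx]
        exact classFun_isConj (isClassFunction_of_isIrr hχ)
          (isConj_iff.2 ⟨x, by group⟩)
      · exact extendByZero_of_not_mem H χH hx
    rw [indFun_apply, indFun_apply_one, Finset.sum_congr rfl fun x _ => hext x,
      ← Finset.sum_filter, Finset.sum_const, nsmul_eq_mul, hd1,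
      show χH 1 = (d : ℂ) from hd1] at hval
    have hHne : (Nat.card H : ℂ) ≠ 0 := card_ne_zero
    have hd0 : (d : ℂ) ≠ 0 := Nat.cast_ne_zero.2 hd.ne'
    field_simp at hval
    have hcard : (Finset.univ.filter fun x : G => x⁻¹ * h * x ∈ H).card = Nat.card G := by
      rw [← H.card_mul_index]
      exact_mod_cast hval
    intro b
    have hb : b⁻¹ ∈ Finset.univ.filter fun x : G => x⁻¹ * h * x ∈ H := by
      rw [Finset.eq_univ_of_card _ (hcard.trans Nat.card_eq_fintype_card)]
      exact Finset.mem_univ _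
    simpa using (Finset.mem_filter.1 hb).2
  · left
    push Not at hall
    obtain ⟨ξ, hξ, hne⟩ := hall
    rw [classInner_indFun_left H χH (isClassFunction_of_isIrr ξ.2)] at hξ
    have hξ' : classInner (fun y : H => (ξ : G → ℂ) y) χH ≠ 0 := by
      intro e
      apply hξ
      rw [← classInner_conj_symm, e, map_zero]
    have hξH := isCharacter_res H (IsIrr.isCharacter ξ.2)
    obtain ⟨d, -, hd⟩ := IsIrr.degree hχ
    obtain ⟨d', -, hd'⟩ := IsIrr.degree ξ.2
    obtain ⟨r, hr⟩ := IsChar.degree (IsChar.sub_constituent hξH hirrH hξ')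
    have hdd : d' = d + r := by
      have h1 : (ξ : G → ℂ) 1 - χ 1 = r := by simpa [hχH] using hr
      rw [hd, hd', sub_eq_iff_eq_add'] at h1
      exact_mod_cast h1
    let L := kerSubgroup (IsIrr.isCharacter ξ.2)
    have : L.Normal := ⟨fun n hn g => by
      show (ξ : G → ℂ) (g * n * g⁻¹) = (ξ : G → ℂ) 1
      rw [classFun_isConj (isClassFunction_of_isIrr ξ.2)
        (isConj_iff.2 ⟨g, rfl⟩ : IsConj n (g * n * g⁻¹)).symm]
      exact hn⟩
    refine ⟨ξ, ξ.2, ?_, L, fun g => Iff.rfl, ?_⟩
    · rw [hd, hd', Complex.natCast_re, Complex.natCast_re, Nat.cast_lt]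
      refine lt_of_le_of_ne (by omega) fun e => hne ?_
      rw [hd, hd', e]
    have hLH : L ≤ H := by
      by_contra hLH
      have hLsup : L ⊔ H = ⊤ :=
        hH.2 _ (lt_of_le_of_ne le_sup_right fun e => hLH (e ▸ le_sup_left))
      have hirr := isIrr_res_of_sup_eq_top ξ.2 (fun l hl => hl) hLsup
      apply hne
      have heq : (fun y : H => (ξ : G → ℂ) y) = χH := by
        by_contra hne'
        exact hξ' (classInner_irr_ne hirr hirrH hne')
      exact congrFun heq 1
    refine lt_of_le_not_ge (fun l hl => (hK l).2 ?_) fun h => hKH (h.trans hLH)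
    exact IsChar.constituent_kernel hξH hirrH hξ' (g := ⟨l, hLH hl⟩) hl

/-- A normal subgroup over which the values are those at one outside the kernel is in the
kernel. -/
theorem le_ker_of_vanish {χ : G → ℂ} (hχ : IsIrrCharacter G χ) {M K : Subgroup G} [M.Normal]
    [Fintype M] (hK : ∀ g ∈ K, χ g = χ 1) (h0 : ∀ m ∈ M, m ∉ K → χ m = 0) :
    ∀ m ∈ M, χ m = χ 1 := by
  classical
  have hcon : classInner (fun m : M => χ m) (fun _ => 1) ≠ 0 := by
    have h1 : ∑ m : M, χ m = ((Finset.univ.filter fun m : M => (m : G) ∈ K).card : ℂ) * χ 1 := by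
      rw [← nsmul_eq_mul, ← Finset.sum_const, Finset.sum_filter]
      refine Finset.sum_congr rfl fun m _ => ?_
      split_ifs with hm
      · exact hK m hm
      · exact h0 m m.2 hm
    simp only [classInner, map_one, mul_one, h1]
    refine mul_ne_zero (inv_ne_zero card_ne_zero)
      (mul_ne_zero (Nat.cast_ne_zero.2 (Finset.card_ne_zero.2 ⟨1, ?_⟩)) (IsIrr.one_ne_zero hχ))
    simp [K.one_mem]
  have h := clifford hχ (isIrrCharacter_one : IsIrrCharacter M fun _ => (1 : ℂ)) hcon
  have horb : orbit (N := M) (fun _ : M => (1 : ℂ)) = {fun _ => 1} :=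
    Finset.eq_singleton_iff_unique_mem.2 ⟨self_mem_orbit _, fun η hη => by
      obtain ⟨t, rfl⟩ := mem_orbit.1 hη
      rfl⟩
  rw [horb, Finset.sum_singleton] at h
  intro m hm
  rw [show χ m = _ from congrFun h ⟨m, hm⟩, show χ 1 = _ from congrFun h 1]
  rfl

/-- Broline: a kernel outside the Fitting subgroup, or equal to it with solvable quotient,
yields a character of larger degree and smaller kernel. -/
theorem exists_larger_degree {χ : G → ℂ} (hχ : IsIrrCharacter G χ) {K : Subgroup G}
    [hKn : K.Normal] (hK : ∀ g, g ∈ K ↔ χ g = χ 1)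
    (h : ¬ K ≤ fittingSubgroup G ∨
      (K = fittingSubgroup G ∧ Group.IsSolvable (G ⧸ K) ∧ K ≠ ⊤)) :
    ∃ ψ : G → ℂ, IsIrrCharacter G ψ ∧ (χ 1).re < (ψ 1).re ∧
      ∃ L : Subgroup G, (∀ g, g ∈ L ↔ ψ g = ψ 1) ∧ L < K := by
  classical
  have hne : ∀ g ∈ K, χ g ≠ 0 := fun g hg => by
    rw [(hK g).1 hg]; exact IsIrr.one_ne_zero hχ
  rcases h with h | ⟨hKF, hsol, hKtop⟩
  · have hnil : ¬ Group.IsNilpotent K := fun hn => h (Core.le_fittingSubgroup hn)
    obtain ⟨p, hp, P, hP⟩ : ∃ (p : ℕ) (_ : Fact p.Prime) (P : Sylow p K),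
        ¬ (P : Subgroup K).Normal := by
      by_contra! hall
      exact hnil ((Group.isNilpotent_of_finite_tfae.out 0 3 rfl rfl).2 hall)
    set Pm := (P : Subgroup K).map K.subtype with hPm
    have hPK : Pm ≤ K := Subgroup.map_subtype_le _
    have hPp : IsPGroup p Pm := P.isPGroup'.map _
    have hidx : ¬ p ∣ Pm.relIndex K := by
      rw [Subgroup.relIndex, hPm, Subgroup.subgroupOf,
        Subgroup.comap_map_eq_self_of_injective K.subtype_injective]
      exact P.not_dvd_index
    have hNP : Subgroup.normalizer (Pm : Set G) ≠ ⊤ := fun e => hP <| by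
      have := Subgroup.normalizer_eq_top_iff.1 e
      rw [← Subgroup.comap_map_eq_self_of_injective K.subtype_injective (P : Subgroup K), ← hPm]
      exact this.comap _
    obtain ⟨H, hH, hNH⟩ := (eq_top_or_exists_le_coatom _).resolve_left hNP
    have hfr := normalizer_sup_eq_top_of_le hPp hPK le_rfl hidx
    have hKH : ¬ K ≤ H := fun hle => hH.1 (top_le_iff.1 (hfr ▸ sup_le hNH hle))
    rcases exists_larger_or_vanish hχ hK hH hKH with h' | h'
    · exact h'
    · exfalso
      have hfr2 := normalizer_sup_eq_top_of_le (D := H.normalCore ⊓ K) hPp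
        (le_inf (fun x hx => h' x (hNH (Subgroup.le_normalizer hx)) (hne x (hPK hx))) hPK)
        inf_le_right hidx
      exact hH.1 (top_le_iff.1 (hfr2 ▸ sup_le hNH (inf_le_left.trans H.normalCore_le)))
  · have : Nontrivial (G ⧸ K) := QuotientGroup.nontrivial_iff.2 hKtop
    obtain ⟨Mb, hMb⟩ := Core.exists_isMinNormal (G := G ⧸ K)
    have := hMb.normal
    obtain ⟨p, hp, hMp, -⟩ := hMb.exists_isPGroup
    have := Fact.mk hp
    set M := Mb.comap (QuotientGroup.mk' K) with hM
    have hKM : K ≤ M := fun k hk => by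
      simp [hM, (QuotientGroup.eq_one_iff k).2 hk]
    have hMne : M ≠ K := by
      intro e
      apply hMb.ne_bot
      rw [← Subgroup.map_comap_eq_self_of_surjective (QuotientGroup.mk'_surjective K) Mb, ← hM, e,
        Subgroup.map_eq_bot_iff, QuotientGroup.ker_mk']
    have hMnil : ¬ Group.IsNilpotent M := fun hn =>
      hMne (le_antisymm ((Core.le_fittingSubgroup hn).trans hKF.ge) hKM)
    obtain ⟨q, hq, P, hP⟩ : ∃ (q : ℕ) (_ : Fact q.Prime) (P : Sylow q M),
        ¬ (P : Subgroup M).Normal := by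
      by_contra! hall
      exact hMnil ((Group.isNilpotent_of_finite_tfae.out 0 3 rfl rfl).2 hall)
    set Pm := (P : Subgroup M).map M.subtype with hPm
    have hPM : Pm ≤ M := Subgroup.map_subtype_le _
    have hPp : IsPGroup q Pm := P.isPGroup'.map _
    have hidx : ¬ q ∣ Pm.relIndex M := by
      rw [Subgroup.relIndex, hPm, Subgroup.subgroupOf,
        Subgroup.comap_map_eq_self_of_injective M.subtype_injective]
      exact P.not_dvd_index
    have hNP : Subgroup.normalizer (Pm : Set G) ≠ ⊤ := fun e => hP <| by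
      have := Subgroup.normalizer_eq_top_iff.1 e
      rw [← Subgroup.comap_map_eq_self_of_injective M.subtype_injective (P : Subgroup M), ← hPm]
      exact this.comap _
    have himg : Pm.map (QuotientGroup.mk' K) ≤ Mb := by
      rw [Subgroup.map_le_iff_le_comap]
      exact hPM
    have hqp : q = p := by
      by_contra hqp
      have hPK : Pm ≤ K := by
        have hb : Pm.map (QuotientGroup.mk' K) = ⊥ :=
          disjoint_self.1 ((IsPGroup.disjoint_of_ne q p hqp _ _ (hPp.map _) hMp).mono_right himg)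
        rwa [Subgroup.map_eq_bot_iff, QuotientGroup.ker_mk'] at hb
      have hnK : Group.IsNilpotent K := hKF ▸ Core.fittingSubgroup_isNilpotent
      have hidxK : ¬ q ∣ (Pm.subgroupOf K).index := fun hd =>
        hidx (hd.trans (Dvd.intro _ (Subgroup.relIndex_mul_relIndex Pm K M hPK hKM)))
      let S : Sylow q K := (hPp.of_equiv (Subgroup.subgroupOfEquivOfLe hPK).symm).toSylow hidxK
      have hSn : (S : Subgroup K).Normal :=
        (Group.isNilpotent_of_finite_tfae.out 0 3 rfl rfl).1 hnK q hq S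
      have hchar := S.characteristic_of_normal hSn
      have hnorm : ((S : Subgroup K).map K.subtype).Normal := inferInstance
      rw [IsPGroup.toSylow_coe, Subgroup.map_subgroupOf_eq_of_le hPK] at hnorm
      exact hNP (Subgroup.normalizer_eq_top_iff.2 hnorm)
    subst hqp
    have hMP : M ≤ K ⊔ Pm := by
      rw [← Subgroup.relIndex_eq_one]
      obtain ⟨k, hk⟩ := IsPGroup.iff_card.1 hMp
      have h1 : (K ⊔ Pm).relIndex M ∣ K.relIndex M := Subgroup.relIndex_dvd_of_le_left M le_sup_left
      have h2 : (K ⊔ Pm).relIndex M ∣ Pm.relIndex M :=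
        Subgroup.relIndex_dvd_of_le_left M le_sup_right
      have h3 : K.relIndex M = q ^ k := by
        have h4 := Subgroup.relIndex_comap ⊥ (QuotientGroup.mk' K) M
        rw [MonoidHom.comap_bot, QuotientGroup.ker_mk', hM,
          Subgroup.map_comap_eq_self_of_surjective (QuotientGroup.mk'_surjective K),
          Subgroup.relIndex_bot_left, ← hM] at h4
        rw [h4, hk]
      exact Nat.eq_one_of_dvd_coprimes
        ((hq.out.coprime_iff_not_dvd.2 hidx).pow_left k) (h3 ▸ h1) h2
    obtain ⟨H, hH, hNH⟩ := (eq_top_or_exists_le_coatom _).resolve_left hNP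
    have hfr := normalizer_sup_eq_top_of_le hPp hPM le_rfl hidx
    have hKH : ¬ K ≤ H := fun hle => hH.1 <| top_le_iff.1 <| hfr ▸
      sup_le hNH (hMP.trans (sup_le hle (Subgroup.le_normalizer.trans hNH)))
    rcases exists_larger_or_vanish hχ hK hH hKH with h' | h'
    · exact h'
    exfalso
    have hsup : K ⊔ H = ⊤ := hH.2 _ (lt_of_le_of_ne le_sup_right fun e => hKH (e ▸ le_sup_left))
    have hdec : ∀ m ∈ M, ∃ k ∈ K, ∃ y ∈ H, y ∈ M ∧ m = k * y := by
      intro m hm
      obtain ⟨k, hk, y, hy, rfl⟩ := Subgroup.mem_sup_of_normal_left.1 (hsup ▸ Subgroup.mem_top m)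
      exact ⟨k, hk, y, hy, (M.mul_mem_cancel_left (hKM hk)).1 hm, rfl⟩
    set D := H.normalCore ⊓ M with hD
    have hDn : ((D ⊔ K).map (QuotientGroup.mk' K)).Normal :=
      Subgroup.Normal.map inferInstance _ (QuotientGroup.mk'_surjective K)
    have hDle : D ⊔ K ≤ M := sup_le inf_le_right hKM
    rcases hMb.eq_of_le _ hDn (Subgroup.map_le_iff_le_comap.2 hDle) with hb | hb
    · rw [Subgroup.map_eq_bot_iff, QuotientGroup.ker_mk', sup_le_iff] at hb
      let := Fintype.ofFinite M
      refine hMne (le_antisymm (fun m hm => (hK m).2 ?_) hKM)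
      refine le_ker_of_vanish hχ (fun g hg => (hK g).1 hg) (fun m hm hmK => ?_) m hm
      obtain ⟨k, hk, y, hy, hyM, rfl⟩ := hdec m hm
      rw [IsChar.mul_left_of_mem_kernel (IsIrr.isCharacter hχ) ((hK k).1 hk)]
      by_contra hy0
      exact hmK (K.mul_mem hk (hb.1 ⟨h' y hy hy0, hyM⟩))
    · have hMD : M ≤ D ⊔ K := by
        intro m hm
        have hm' : QuotientGroup.mk' K m ∈ (D ⊔ K).map (QuotientGroup.mk' K) := hb ▸ hm
        obtain ⟨d, hd, e⟩ := hm'
        rw [QuotientGroup.mk'_eq_mk'] at e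
        obtain ⟨z, hz, rfl⟩ := e
        exact (D ⊔ K).mul_mem hd (Subgroup.mem_sup_right hz)
      have hPD : Pm ≤ D := by
        intro y hy
        refine ⟨?_, hPM hy⟩
        obtain ⟨d, hd, k, hk, rfl⟩ := Subgroup.mem_sup_of_normal_left.1 (hMD (hPM hy))
        have hyH : d * k ∈ H := hNH (Subgroup.le_normalizer hy)
        have hkH : k ∈ H := (H.mul_mem_cancel_left (H.normalCore_le hd.1)).1 hyH
        exact H.normalCore.mul_mem hd.1 (h' k hkH (hne k hk))
      have hfr2 := normalizer_sup_eq_top_of_le (D := D) hPp hPD inf_le_right hidx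
      exact hH.1 (top_le_iff.1 (hfr2 ▸ sup_le hNH (inf_le_left.trans H.normalCore_le)))

end Cfsg.Agent.Char
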