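import Mathlib
import Cfsg.Agent.Char.Monomial
import Cfsg.Agent.Char.Clifford
import Cfsg.Agent.Char.Galois
import Cfsg.Agent.Char.Gen
import Cfsg.Agent.Char.Integral

/-!
# Galois orbits of characters of a p-group and the Schur bound on the order
-/

namespace Cfsg.Agent.Char

open scoped ComplexConjugate

universe u v

variable {G : Type u} [Group G] {H : Type v} [Group H] {p : ℕ}

/-- The conjugates of a function under powers prime to `p`. -/
def powOrbit (p : ℕ) (f : G → ℂ) : Set (G → ℂ) :=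
  {η | ∃ k : ℕ, ¬ p ∣ k ∧ η = fun g => f (g ^ k)}

theorem self_mem_powOrbit (hp : p.Prime) (f : G → ℂ) : f ∈ powOrbit p f :=
  ⟨1, hp.not_dvd_one, funext fun g => by rw [pow_one]⟩

theorem exists_pow_inverse [Finite G] {a k : ℕ} (hp : p.Prime) (hG : Nat.card G = p ^ a)
    (hk : ¬ p ∣ k) : ∃ l : ℕ, ¬ p ∣ l ∧ ∀ g : G, (g ^ k) ^ l = g := by
  have hcop : k.Coprime (p ^ (a + 1)) := ((hp.coprime_iff_not_dvd.2 hk).pow_left _).symm
  obtain ⟨l, -, hl⟩ := Nat.exists_mul_mod_eq_one_of_coprime hcop (Nat.one_lt_pow (by omega) hp.one_lt)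
  have hl' : k * l ≡ 1 [MOD p ^ (a + 1)] := by
    rw [Nat.ModEq, hl, Nat.mod_eq_of_lt (Nat.one_lt_pow (by omega) hp.one_lt)]
  refine ⟨l, fun hd => ?_, fun g => ?_⟩
  · have h1 := hl'.of_dvd (dvd_pow_self p (Nat.succ_ne_zero a))
    rw [Nat.ModEq, Nat.mod_eq_of_lt hp.one_lt, Nat.mod_eq_zero_of_dvd (hd.mul_left k)] at h1
    exact zero_ne_one h1
  · rw [← pow_mul]
    nth_rewrite 2 [← pow_one g]
    exact pow_eq_pow_iff_modEq.2
      (hl'.of_dvd ((orderOf_dvd_natCard g).trans (hG ▸ pow_dvd_pow p (Nat.le_succ a))))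

theorem exists_sigma {a k : ℕ} (hp : p.Prime) (hk : ¬ p ∣ k) :
    ∃ σ : ℂ →+* ℂ, ∀ (K : Type u) [Group K] [Finite K], Nat.card K ∣ p ^ a →
      ∀ χ : K → ℂ, IsCharacter K χ → ∀ g : K, σ (χ g) = χ (g ^ k) := by
  obtain ⟨σ, hσ⟩ := exists_galois (p ^ a) k (pow_ne_zero _ hp.ne_zero)
    ((hp.coprime_iff_not_dvd.2 hk).pow_left _).symm
  exact ⟨σ, fun K _ _ hK χ hχ g => galois_apply_pow σ hσ hχ ((orderOf_dvd_natCard g).trans hK)⟩

theorem indFun_ringHom [Fintype G] (σ : ℂ →+* ℂ) (K : Subgroup G) (f : K → ℂ) (g : G) :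
    σ (indFun K f g) = indFun K (fun y => σ (f y)) g := by
  simp only [indFun_apply, map_mul, map_inv₀, map_natCast, map_sum]
  congr 1
  refine Finset.sum_congr rfl fun x _ => ?_
  by_cases hx : x⁻¹ * g * x ∈ K
  · rw [extendByZero_of_mem K _ hx, extendByZero_of_mem K _ hx]
  · rw [extendByZero_of_not_mem K _ hx, extendByZero_of_not_mem K _ hx, map_zero]

theorem powOrbit_isIrr [Finite G] {a : ℕ} (hp : p.Prime) (hG : Nat.card G = p ^ a)
    {f : G → ℂ} (hf : IsIrrCharacter G f) {η : G → ℂ} (hη : η ∈ powOrbit p f) :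
    IsIrrCharacter G η := by
  obtain ⟨k, hk, rfl⟩ := hη
  exact isIrr_comp_pow k (hG ▸ ((hp.coprime_iff_not_dvd.2 hk).pow_left _).symm) hf

theorem powOrbit_finite [Finite G] {a : ℕ} (hp : p.Prime) (hG : Nat.card G = p ^ a)
    {f : G → ℂ} (hf : IsIrrCharacter G f) : (powOrbit p f).Finite :=
  (Set.finite_range fun χ : IrrCharacter G => (χ : G → ℂ)).subset
    fun η hη => ⟨⟨η, powOrbit_isIrr hp hG hf hη⟩, rfl⟩

theorem ncard_powOrbit_comp (π : G →* H) (hπ : Function.Surjective π) (φ : H → ℂ) :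
    (powOrbit p fun g => φ (π g)).ncard = (powOrbit p φ).ncard := by
  have h : (powOrbit p fun g => φ (π g)) = (fun η g => η (π g)) '' powOrbit p φ := by
    ext η
    constructor
    · rintro ⟨k, hk, rfl⟩
      exact ⟨_, ⟨k, hk, rfl⟩, funext fun g => by simp⟩
    · rintro ⟨_, ⟨k, hk, rfl⟩, rfl⟩
      exact ⟨k, hk, funext fun g => by simp⟩
  rw [h]
  refine Set.ncard_image_of_injective _ fun η η' e => funext fun c => ?_
  obtain ⟨g, rfl⟩ := hπ c
  exact congrFun e g

/-- A character whose induced character is irreducible is irreducible. -/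
theorem isIrr_of_indFun [Fintype G] {K : Subgroup G} [Fintype K] {ψ : K → ℂ}
    (hψ : IsCharacter K ψ) (hirr : IsIrrCharacter G (indFun K ψ)) : IsIrrCharacter K ψ := by
  have hne : ∀ {f : K → ℂ}, IsCharacter K f → f ≠ 0 → indFun K f ≠ 0 := fun {f} hf h0 e => by
    have h1 := congrFun e 1
    rw [indFun_apply_one, Pi.zero_apply, mul_eq_zero] at h1
    exact h0 ((IsChar.eq_zero_iff hf).2
      (h1.resolve_left (Nat.cast_ne_zero.2 Subgroup.index_ne_zero_of_finite)))
  have hψ0 : ψ ≠ 0 := fun e => IsIrr.one_ne_zero hirr (by rw [e, indFun_zero]; rfl)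
  obtain ⟨η, hη⟩ := IsChar.exists_constituent hψ hψ0
  have hr := IsChar.sub_constituent hψ η.2 hη
  by_cases hr0 : ψ - (η : K → ℂ) = 0
  · rw [sub_eq_zero.1 hr0]
    exact η.2
  exfalso
  have hI := isCharacter_indFun K (IsIrr.isCharacter η.2)
  have hJ := isCharacter_indFun K hr
  have h1 := classInner_irr_self hirr
  rw [show indFun K ψ = indFun K (η : K → ℂ) + indFun K (ψ - (η : K → ℂ)) by
      rw [← indFun_add, add_sub_cancel],
    classInner_add_left, classInner_add_right, classInner_add_right] at h1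
  obtain ⟨a, ha⟩ := classInner_isCharacter_eq_natCast hI hI
  obtain ⟨b, hb⟩ := classInner_isCharacter_eq_natCast hI hJ
  obtain ⟨c, hc⟩ := classInner_isCharacter_eq_natCast hJ hI
  obtain ⟨d, hd⟩ := classInner_isCharacter_eq_natCast hJ hJ
  have ha0 : a ≠ 0 := fun e => hne (IsIrr.isCharacter η.2)
    (fun e' => IsIrr.one_ne_zero η.2 (by rw [e']; rfl))
    ((classInner_self_eq_zero _).1 (by rw [ha, e, Nat.cast_zero]))
  have hd0 : d ≠ 0 := fun e => hne hr hr0
    ((classInner_self_eq_zero _).1 (by rw [hd, e, Nat.cast_zero]))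
  rw [ha, hb, hc, hd] at h1
  norm_cast at h1
  omega

/-- In a p-group, a nonlinear irreducible character is induced from a maximal subgroup. -/
theorem exists_induced_max [Fintype G] {a : ℕ} (hp : p.Prime) (hG : Nat.card G = p ^ a)
    {χ : G → ℂ} (hχ : IsIrrCharacter G χ) (h1 : χ 1 ≠ 1) :
    ∃ M : Subgroup G, M.Normal ∧ IsCoatom M ∧ M.index = p ∧
      ∀ [Fintype M], ∃ ψ : M → ℂ, IsIrrCharacter M ψ ∧ χ = indFun M ψ := by
  have := Fact.mk hp
  have hGp : IsPGroup p G := IsPGroup.of_card hG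
  have := hGp.isNilpotent
  obtain ⟨H, lam, hlam⟩ := exists_monomial hχ
  have hH : H ≠ ⊤ := by
    rintro rfl
    apply h1
    rw [hlam, indFun_apply_one, Subgroup.index_top, map_one, Units.val_one, Nat.cast_one, one_mul]
  obtain ⟨M, hM, hHM⟩ := (eq_top_or_exists_le_coatom H).resolve_left hH
  have hMn : M.Normal := (Group.isNilpotent_of_finite_tfae.out 0 2 rfl rfl).1 inferInstance M hM
  refine ⟨M, hMn, hM, ?_, ?_⟩
  · have : Nontrivial (G ⧸ M) := QuotientGroup.nontrivial_iff.2 hM.1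
    have hQp : IsPGroup p (G ⧸ M) := hGp.to_quotient M
    obtain ⟨m, hm, hcard⟩ := hQp.nontrivial_iff_card.1 this
    obtain ⟨y, hy⟩ := exists_prime_orderOf_dvd_card' (G := G ⧸ M) p (hcard ▸ dvd_pow_self p hm.ne')
    have htop : Subgroup.zpowers y = ⊤ := by
      have hlt : M < (Subgroup.zpowers y).comap (QuotientGroup.mk' M) := by
        refine lt_of_le_not_ge (fun g hg => ?_) fun hle => ?_
        · simp [(QuotientGroup.eq_one_iff g).2 hg]
        · obtain ⟨g, rfl⟩ := QuotientGroup.mk_surjective y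
          have : g ∈ M := hle (by simp)
          rw [(QuotientGroup.eq_one_iff g).2 this, orderOf_one] at hy
          exact hp.one_lt.ne hy
      have := congrArg (Subgroup.map (QuotientGroup.mk' M)) (hM.2 _ hlt)
      rwa [Subgroup.map_comap_eq_self_of_surjective (QuotientGroup.mk'_surjective M),
        Subgroup.map_top_of_surjective _ (QuotientGroup.mk'_surjective M)] at this
    rw [Subgroup.index_eq_card, ← Subgroup.card_top, ← htop, Nat.card_zpowers, hy]
  · intro _
    classical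
    let := Fintype.ofFinite (H.subgroupOf M)
    let ψ : M → ℂ := indFun (H.subgroupOf M)
      (fun x => ((lam ⟨((x : M) : G), Subgroup.mem_subgroupOf.mp x.2⟩ : ℂˣ) : ℂ))
    have hind : indFun M ψ = χ := by
      rw [hlam]
      exact indFun_indFun H M hHM (fun h => (lam h : ℂ))
    have hψ : IsCharacter M ψ := isCharacter_indFun _
      (isCharacter_hom (lam.comp
        (MonoidHom.mk' (fun x : H.subgroupOf M => (⟨((x : M) : G), Subgroup.mem_subgroupOf.mp x.2⟩ : H))
          fun _ _ => rfl)))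
    exact ⟨ψ, isIrr_of_indFun hψ (hind ▸ hχ), hind.symm⟩

/-- The Schur-type bound on the order of a p-group with a faithful irreducible character. -/
theorem pgroup_order_bound (hp : p.Prime) : ∀ (a : ℕ) {P : Type u} [Group P] [Finite P],
    Nat.card P = p ^ a → ∀ χ : P → ℂ, IsIrrCharacter P χ → (∀ g, χ g = χ 1 → g = 1) →
    ∀ f : ℕ, χ 1 = (f : ℂ) → ∀ T : ℕ, (powOrbit p χ).ncard ≤ (p - 1) * p ^ T →
      (p - 1) * a ≤ (f - 1) + (p - 1) * (T + 1) * f := by
  intro a
  induction a using Nat.strong_induction_on with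
  | _ a ih =>
  intro P _ _ hP χ hχ hfaith f hf T hT
  classical
  have := Fact.mk hp
  let := Fintype.ofFinite P
  have hp1 : 1 ≤ p := hp.one_lt.le
  by_cases hf1 : χ 1 = 1
  · have hf' : f = 1 := by rw [hf] at hf1; exact_mod_cast hf1
    subst hf'
    rcases Nat.eq_zero_or_pos a with rfl | ha
    · simp
    obtain ⟨l, hl⟩ := IsChar.exists_hom (IsIrr.isCharacter hχ) hf1
    have hinj : Function.Injective l := by
      rw [injective_iff_map_eq_one]
      intro g hg
      exact hfaith g (by rw [hl]; simp [hg])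
    have hcyc : IsCyclic P := isCyclic_of_injective_ringHom ((Units.coeHom ℂ).comp l) (Units.val_injective.comp hinj)
    obtain ⟨g, hg⟩ := hcyc.exists_ofOrder_eq_natCard
    have hord : orderOf (l g) = p ^ a := by rw [orderOf_injective l hinj g, hg, hP]
    have hle : (p ^ a).totient ≤ (powOrbit p χ).ncard := by
      rw [Nat.totient_eq_card_coprime, ← Set.ncard_coe_finset]
      refine Set.ncard_le_ncard_of_injOn (fun k => fun x => χ (x ^ k)) (fun k hk => ?_) ?_
        (powOrbit_finite hp hP hχ)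
      · refine ⟨k, fun hd => ?_, rfl⟩
        simp only [Finset.coe_filter, Set.mem_ofPred_eq] at hk
        exact hp.not_dvd_one (hk.2.gcd_eq_one ▸ Nat.dvd_gcd (dvd_pow_self p ha.ne') hd)
      · intro i hi j hj e
        simp only [Finset.coe_filter, Set.mem_ofPred_eq, Finset.mem_range] at hi hj
        have h1 := congrFun e g
        simp only [hl, map_pow] at h1
        exact pow_injOn_Iio_orderOf (by rw [hord]; exact hi.1) (by rw [hord]; exact hj.1)
          (Units.ext (by simpa using h1))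
    rw [Nat.totient_prime_pow hp ha] at hle
    have h2 := hle.trans hT
    rw [mul_comm (p ^ _)] at h2
    have h3 := (Nat.pow_le_pow_iff_right hp.one_lt).1
      (Nat.le_of_mul_le_mul_left h2 (Nat.sub_pos_of_lt hp.one_lt))
    rw [mul_one]
    exact le_add_of_nonneg_of_le (Nat.zero_le _) (Nat.mul_le_mul_left _ (by omega))
  obtain ⟨M, hMn, hMc, hMi, hex⟩ := exists_induced_max hp hP hχ hf1
  let := Fintype.ofFinite M
  obtain ⟨ψ, hψ, hind⟩ := hex
  have hMcard : Nat.card M ∣ p ^ a := hP ▸ M.card_subgroup_dvd_card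
  obtain ⟨b, hba, hb⟩ := (Nat.dvd_prime_pow hp).1 hMcard
  have hab : a = b + 1 := by
    have h := M.card_mul_index
    rw [hb, hMi, hP, ← pow_succ] at h
    exact (Nat.pow_right_injective hp.two_le h).symm
  obtain ⟨f', hf'0, hf'⟩ := IsIrr.degree hψ
  have hff : f = p * f' := by
    have h := hf
    rw [hind, indFun_apply_one, hMi, hf'] at h
    exact_mod_cast h.symm
  let K := kerSubgroup (IsIrr.isCharacter hψ)
  have : Finite (M ⧸ K) := inferInstance
  obtain ⟨φ, hφ, hφe⟩ := IsIrr.exists_quotient K hψ fun n hn => hn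
  obtain ⟨a', ha'b, ha'⟩ := (Nat.dvd_prime_pow hp).1
    (hb ▸ (K.index_dvd_card) : K.index ∣ p ^ b)
  have hφfaith : ∀ c, φ c = φ 1 → c = 1 := by
    intro c hc
    obtain ⟨m, rfl⟩ := QuotientGroup.mk_surjective c
    rw [QuotientGroup.eq_one_iff]
    show ψ m = ψ 1
    rw [hφe, hφe]
    simpa using hc
  have hφ1 : φ 1 = (f' : ℂ) := by
    rw [← QuotientGroup.mk_one, ← hφe, hf']
  have hOφ : (powOrbit p φ).ncard = (powOrbit p ψ).ncard := by
    rw [← ncard_powOrbit_comp (QuotientGroup.mk' K) (QuotientGroup.mk'_surjective K) φ]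
    congr 2
    exact funext fun m => (hφe m).symm
  have IH := fun T' (hT' : (powOrbit p ψ).ncard ≤ (p - 1) * p ^ T') =>
    ih a' (by omega) (P := M ⧸ K) (by rw [← Subgroup.index_eq_card, ha']) φ hφ hφfaith f' hφ1 T'
      (hOφ ▸ hT')
  -- restriction facts
  have hres1 : ∀ η : M → ℂ, IsIrrCharacter M η → indFun M η = χ →
      classInner (fun m : M => χ m) η ≠ 0 := by
    intro η hη he
    have h := classInner_indFun_left M η (isClassFunction_of_isIrr hχ)
    rw [he, classInner_irr_self hχ, ← classInner_conj_symm] at h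
    intro e
    rw [e, map_zero] at h
    exact one_ne_zero h
  have hcl := clifford hχ hψ (hres1 ψ hψ hind.symm)
  have hzero : ∀ m : M, (∀ η ∈ orbit (G := P) ψ, η m = η 1) → (m : P) = 1 := by
    intro m hm
    refine hfaith _ ?_
    have h1 := congrFun hcl m
    have h2 := congrFun hcl 1
    simp only [Pi.smul_apply, Finset.sum_apply] at h1 h2
    rw [Finset.sum_congr rfl hm] at h1
    exact h1.trans h2.symm
  have horb : (orbit (G := P) ψ).card ≤ p := by
    rw [card_orbit]
    exact (Nat.le_of_dvd hp.pos (hMi ▸ Subgroup.index_dvd_of_le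
      (le_inertia (isClassFunction_of_isIrr hψ))))
  have hσ : ∀ k, ¬ p ∣ k → ∃ σ : ℂ →+* ℂ, (∀ g, σ (χ g) = χ (g ^ k)) ∧
      ∀ η : M → ℂ, IsIrrCharacter M η → ∀ g, σ (indFun M η g) = indFun M (fun m => η (m ^ k)) g := by
    intro k hk
    obtain ⟨σ, hσ⟩ := exists_sigma (a := a) hp hk
    refine ⟨σ, hσ P (hP ▸ dvd_rfl) χ (IsIrr.isCharacter hχ), fun η hη g => ?_⟩
    rw [indFun_ringHom, funext fun m => hσ M hMcard η (IsIrr.isCharacter hη) m]
  have hmaps : ∀ η ∈ powOrbit p ψ, indFun M η ∈ powOrbit p χ := by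
    rintro η ⟨k, hk, rfl⟩
    obtain ⟨σ, hσ1, hσ2⟩ := hσ k hk
    exact ⟨k, hk, funext fun g => by rw [← hσ2 ψ hψ g, ← hσ1 g, hind]⟩
  have hinv : ∀ l, ¬ p ∣ l → ∀ η ∈ powOrbit p ψ, ∀ η' ∈ powOrbit p ψ,
      indFun M η = indFun M η' →
        indFun M (fun m => η (m ^ l)) = indFun M (fun m => η' (m ^ l)) := by
    intro l hl η hη η' hη' e
    obtain ⟨σ, -, hσ2⟩ := hσ l hl
    funext g
    rw [← hσ2 η (powOrbit_isIrr hp hb hψ hη) g, ← hσ2 η' (powOrbit_isIrr hp hb hψ hη') g, e]
  have hclosed : ∀ l, ¬ p ∣ l → ∀ η ∈ powOrbit p ψ, (fun m => η (m ^ l)) ∈ powOrbit p ψ := by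
    rintro l hl η ⟨k, hk, rfl⟩
    exact ⟨l * k, fun h => (hp.dvd_mul.1 h).elim hl hk, funext fun m => by rw [pow_mul]⟩
  by_cases hA : ∀ η ∈ powOrbit p ψ, indFun M η = χ → η = ψ
  · -- the Galois orbit maps injectively
    have hcard : (powOrbit p ψ).ncard ≤ (powOrbit p χ).ncard := by
      refine Set.ncard_le_ncard_of_injOn (indFun M) hmaps ?_ (powOrbit_finite hp hP hχ)
      intro η hη η' hη' e
      obtain ⟨k, hk, rfl⟩ := hη
      obtain ⟨l, hl, hkl⟩ := exists_pow_inverse hp hb hk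
      have h1 := hinv l hl _ ⟨k, hk, rfl⟩ η' hη' e
      rw [show (fun m : M => ψ ((m ^ l) ^ k)) = ψ from funext fun m => by
        rw [← pow_mul, mul_comm, pow_mul, hkl], ← hind] at h1
      have h2 := hA _ (hclosed l hl η' hη') h1.symm
      funext m
      show ψ (m ^ k) = η' m
      rw [← congrFun h2 (m ^ k), hkl]
    have h1 := IH T (hcard.trans hT)
    -- the order
    have hidx : Nat.card M ≤ (p ^ a') ^ p := by
      have hk : ∀ η : orbit (G := P) ψ, ∃ L : Subgroup M, L.index = p ^ a' ∧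
          ∀ m ∈ L, (η : M → ℂ) m = (η : M → ℂ) 1 := by
        rintro ⟨η, hη⟩
        obtain ⟨x, rfl⟩ := mem_orbit.1 hη
        let c : M →* M := MonoidHom.mk'
          (fun m => ⟨x * m * x⁻¹, hMn.conj_mem m m.2 x⟩)
          fun m n => Subtype.ext (by simp [mul_assoc])
        refine ⟨K.comap c, ?_, fun m hm => ?_⟩
        · rw [Subgroup.index_comap_of_surjective, ha']
          intro m
          exact ⟨⟨x⁻¹ * m * x, by simpa using hMn.conj_mem m m.2 x⁻¹⟩,
            Subtype.ext (by simp [c, mul_assoc])⟩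
        · have hm' : ψ (c m) = ψ 1 := hm
          show conjFun x ψ m = conjFun x ψ 1
          rw [conjFun_apply_one, conjFun_apply]
          exact hm'
      choose L hLi hL using hk
      have hbot : (⨅ η, L η) = (⊥ : Subgroup M) := by
        refine le_bot_iff.1 fun m hm => ?_
        rw [Subgroup.mem_iInf] at hm
        exact Subgroup.mem_bot.2 (Subtype.ext (hzero m fun η hη => hL ⟨η, hη⟩ m (hm ⟨η, hη⟩)))
      calc Nat.card M = (⊥ : Subgroup M).index := Subgroup.index_bot.symm
        _ ≤ ∏ η, (L η).index := hbot ▸ Subgroup.index_iInf_le L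
        _ = (p ^ a') ^ (orbit (G := P) ψ).card := by
            rw [Finset.prod_congr rfl fun η _ => hLi η, Finset.prod_const, Finset.card_univ,
              Fintype.card_coe]
        _ ≤ (p ^ a') ^ p := Nat.pow_le_pow_right (pow_pos hp.pos _) horb
    rw [hb, ← pow_mul] at hidx
    have hb' : b ≤ a' * p := (Nat.pow_le_pow_iff_right hp.one_lt).1 hidx
    subst hab hff
    obtain ⟨q, rfl⟩ : ∃ q, p = q + 1 := ⟨p - 1, by omega⟩
    obtain ⟨r, rfl⟩ : ∃ r, f' = r + 1 := ⟨f' - 1, by omega⟩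
    have hsub : (q + 1) * (r + 1) - 1 = q * r + q + r := by
      have : (q + 1) * (r + 1) = q * r + q + r + 1 := by ring
      omega
    rw [hsub]
    simp only [Nat.add_sub_cancel] at h1 ⊢
    nlinarith [Nat.mul_le_mul_left (q + 1) h1, Nat.mul_le_mul_left q hb']
  · -- the conjugates are Galois conjugate
    push Not at hA
    obtain ⟨η, hη, hηind, hηne⟩ := hA
    have hηi := powOrbit_isIrr hp hb hψ hη
    obtain ⟨g, hg⟩ := mem_orbit.1 (constituent_mem_orbit hχ hψ hηi (hres1 ψ hψ hind.symm)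
      (hres1 η hηi hηind))
    have hgM : g ∉ M := fun h => hηne (by
      rw [← hg, conjFun_of_mem h (isClassFunction_of_isIrr hψ)])
    have hKη : ∀ m : M, η m = η 1 ↔ m ∈ K := by
      obtain ⟨k, hk, rfl⟩ := hη
      obtain ⟨l, -, hkl⟩ := exists_pow_inverse hp hb hk
      intro m
      simp only [one_pow]
      refine ⟨fun h => ?_, fun h => K.pow_mem h k⟩
      rw [← hkl m]
      exact K.pow_mem (h : m ^ k ∈ K) l
    have hconj : ∀ x : P, ∀ m : M, m ∈ K →
        (⟨x * m * x⁻¹, hMn.conj_mem m m.2 x⟩ : M) ∈ K := by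
      let S : Subgroup P :=
        { carrier := {x | ∀ m : M, m ∈ K ↔ (⟨x * m * x⁻¹, hMn.conj_mem m m.2 x⟩ : M) ∈ K}
          one_mem' := fun m => by simp
          mul_mem' := fun {x y} hx hy m => by
            rw [hy m, hx]
            simp [mul_assoc]
          inv_mem' := fun {x} hx m => by
            rw [hx ⟨x⁻¹ * m * x⁻¹⁻¹, hMn.conj_mem m m.2 x⁻¹⟩]
            simp [mul_assoc] }
      have hgS : g ∈ S := fun m => by
        rw [← hKη m, ← hg, conjFun_apply_one, conjFun_apply]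
        rfl
      have hMS : M ≤ S := fun x hx m => by
        have hc : ψ ⟨x * m * x⁻¹, hMn.conj_mem m m.2 x⟩ = ψ m := by
          have := congrFun (conjFun_of_mem hx (isClassFunction_of_isIrr hψ)) m
          rwa [conjFun_apply] at this
        show ψ m = ψ 1 ↔ ψ _ = ψ 1
        rw [hc]
      have hS : S = ⊤ := hMc.2 _ (lt_of_le_not_ge hMS fun h => hgM (h hgS))
      exact fun x m hm => ((hS ▸ Subgroup.mem_top x : x ∈ S) m).1 hm
    have hKbot : K = ⊥ := by
      refine le_bot_iff.1 fun m hm => Subgroup.mem_bot.2 (Subtype.ext (hzero m fun θ hθ => ?_))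
      obtain ⟨x, rfl⟩ := mem_orbit.1 hθ
      rw [conjFun_apply_one, conjFun_apply]
      exact hconj x m hm
    have ha'eq : a' = b := Nat.pow_right_injective hp.two_le
      (by show p ^ a' = p ^ b; rw [← ha', hKbot, Subgroup.index_bot, hb])
    have hcard : (powOrbit p ψ).ncard ≤ p * (powOrbit p χ).ncard := by
      rw [Set.ncard_eq_toFinset_card _ (powOrbit_finite hp hb hψ),
        Set.ncard_eq_toFinset_card _ (powOrbit_finite hp hP hχ)]
      refine (Finset.card_le_mul_card_image_of_maps_to (f := indFun M) ?_ p fun θ hθ => ?_)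
      · intro η' hη'
        rw [Set.Finite.mem_toFinset] at hη' ⊢
        exact hmaps η' hη'
      · rw [Set.Finite.mem_toFinset] at hθ
        obtain ⟨k, hk, rfl⟩ := hθ
        obtain ⟨l, hl, hkl⟩ := exists_pow_inverse hp hP hk
        refine (Finset.card_le_card_of_injOn (fun η' m => η' (m ^ l)) ?_ ?_).trans horb
        · intro η' hη'
          simp only [Finset.coe_filter, Set.Finite.mem_toFinset, Set.mem_ofPred_eq] at hη'
          have hη'' := hclosed l hl η' hη'.1
          refine constituent_mem_orbit hχ hψ (powOrbit_isIrr hp hb hψ hη'') (hres1 ψ hψ hind.symm)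
            (hres1 _ (powOrbit_isIrr hp hb hψ hη'') ?_)
          obtain ⟨σ, hσ1, hσ2⟩ := hσ l hl
          funext x
          rw [← hσ2 η' (powOrbit_isIrr hp hb hψ hη'.1) x, hη'.2]
          show σ (χ (x ^ k)) = χ x
          rw [hσ1, hkl]
        · intro η' _ η'' _ e
          funext m
          obtain ⟨k', -, hk'⟩ := exists_pow_inverse hp hb hl
          have h2 := congrFun e (m ^ k')
          simp only [← pow_mul, mul_comm k' l] at h2
          rwa [pow_mul, hk'] at h2
    have hT' : (powOrbit p ψ).ncard ≤ (p - 1) * p ^ (T + 1) := by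
      refine hcard.trans (le_trans (Nat.mul_le_mul_left p hT) (le_of_eq ?_))
      rw [pow_succ]; ring
    have h1 := IH (T + 1) hT'
    subst ha'eq hab hff
    obtain ⟨q, rfl⟩ : ∃ q, p = q + 1 := ⟨p - 1, by omega⟩
    obtain ⟨r, rfl⟩ : ∃ r, f' = r + 1 := ⟨f' - 1, by omega⟩
    have hsub : (q + 1) * (r + 1) - 1 = q * r + q + r := by
      have : (q + 1) * (r + 1) = q * r + q + r + 1 := by ring
      omega
    rw [hsub]
    simp only [Nat.add_sub_cancel] at h1 ⊢
    have hq : 1 ≤ q := by have := hp.two_le; omega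
    have hkey : q * (r + 1) ≤ q * (r + 1) * ((T + 1) * q) :=
      Nat.le_mul_of_pos_right _ (Nat.mul_pos (Nat.succ_pos T) hq)
    have e1 : q * (T + 1 + 1) * (r + 1) = q * (T + 1) * (r + 1) + q * (r + 1) := by ring
    have e2 : q * (T + 1) * ((q + 1) * (r + 1)) =
        q * (r + 1) * ((T + 1) * q) + q * (T + 1) * (r + 1) := by ring
    have e3 : q * (a' + 1) = q * a' + q := by ring
    omega

end Cfsg.Agent.Char
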