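import Mathlib
import Cfsg.Agent.Char.PowerOrbit
import Cfsg.Agent.Char.Glauberman.Relative

/-!
# Schur's bound for rational-valued characters of p-groups
-/

namespace Cfsg.Agent.Char

open scoped ComplexConjugate

universe u

variable {G : Type u} [Group G] {p : ℕ}

/-- The orbit of conjugates is no larger than the degree of the field of values. -/
theorem ncard_powOrbit_le_finrank [Finite G] {a : ℕ} (hp : p.Prime) (hG : Nat.card G = p ^ a)
    {χ : G → ℂ} (hχ : IsCharacter G χ) :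
    (powOrbit p χ).ncard ≤
      Module.finrank ℚ (IntermediateField.adjoin ℚ (Set.range χ)) := by
  classical
  set K := IntermediateField.adjoin ℚ (Set.range χ)
  have : Finite (Set.range χ) := (Set.finite_range χ).to_subtype
  have hfd : FiniteDimensional ℚ K := IntermediateField.finiteDimensional_adjoin fun x hx => by
    obtain ⟨g, rfl⟩ := hx
    exact (IsChar.isIntegral hχ g).tower_top
  let v : (K →ₐ[ℚ] ℂ) → G → ℂ := fun τ g =>
    τ ⟨χ g, IntermediateField.subset_adjoin ℚ _ ⟨g, rfl⟩⟩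
  have hsub : powOrbit p χ ⊆ Set.range v := by
    rintro η ⟨k, hk, rfl⟩
    obtain ⟨σ, hσ⟩ := exists_sigma (a := a) hp hk
    refine ⟨(σ.comp K.toSubfield.subtype).toRatAlgHom, funext fun g => ?_⟩
    exact hσ G (hG ▸ dvd_rfl) χ hχ g
  calc (powOrbit p χ).ncard ≤ (Set.range v).ncard := Set.ncard_le_ncard hsub (Set.finite_range v)
    _ ≤ Nat.card (K →ₐ[ℚ] ℂ) := by
        rw [← Set.image_univ, ← Set.ncard_univ]
        exact Set.ncard_image_le Set.finite_univ
    _ = Module.finrank ℚ K := by rw [Nat.card_eq_fintype_card, AlgHom.card]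

/-- The orbit of conjugates of a nonprincipal irreducible character of a p-group has size
`(p - 1) * p ^ T`. -/
theorem exists_ncard_powOrbit_eq [Finite G] {a : ℕ} (hp : p.Prime) (hG : Nat.card G = p ^ a)
    {χ : G → ℂ} (hχ : IsIrrCharacter G χ) (hne : ∃ g, χ g ≠ χ 1) :
    ∃ T, (powOrbit p χ).ncard = (p - 1) * p ^ T := by
  classical
  have := Fact.mk hp
  have ha : 0 < a := by
    rcases Nat.eq_zero_or_pos a with rfl | h
    · obtain ⟨g, hg⟩ := hne
      have := (Nat.card_eq_one_iff_unique.1 (by rw [hG, pow_zero])).1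
      exact absurd (congrArg χ (Subsingleton.elim g 1)) hg
    · exact h
  set N := p ^ a
  have : NeZero N := ⟨pow_ne_zero _ hp.ne_zero⟩
  have hval : ∀ (g : G) (u v : (ZMod N)ˣ), g ^ ((u * v : (ZMod N)ˣ) : ZMod N).val =
      g ^ ((u : ZMod N).val * (v : ZMod N).val) := fun g u v => by
    refine pow_eq_pow_iff_modEq.2 (Nat.ModEq.of_dvd (hG ▸ orderOf_dvd_natCard g) ?_)
    rw [Units.val_mul, ZMod.val_mul]
    exact Nat.mod_modEq _ _
  have hone : ∀ g : G, g ^ ((1 : (ZMod N)ˣ) : ZMod N).val = g := fun g => by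
    have : Fact (1 < N) := ⟨Nat.one_lt_pow ha.ne' hp.one_lt⟩
    rw [Units.val_one, ZMod.val_one, pow_one]
  let act : MulAction (ZMod N)ˣ (G → ℂ) :=
    { smul := fun u f g => f (g ^ (u : ZMod N).val)
      one_smul := fun f => funext fun g => congrArg f (hone g)
      mul_smul := fun u v f => funext fun g => by
        show f (g ^ ((u * v : (ZMod N)ˣ) : ZMod N).val) =
          f ((g ^ (u : ZMod N).val) ^ (v : ZMod N).val)
        rw [hval, pow_mul] }
  have hN : ∀ k : ℕ, ¬ p ∣ k → k.Coprime N := fun k hk =>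
    ((hp.coprime_iff_not_dvd.2 hk).pow_left _).symm
  have horb : MulAction.orbit (ZMod N)ˣ χ = powOrbit p χ := by
    ext η
    constructor
    · rintro ⟨u, rfl⟩
      refine ⟨(u : ZMod N).val, fun hd => ?_, rfl⟩
      have hc : ((u : ZMod N).val).Coprime N := ZMod.val_coe_unit_coprime u
      exact hp.not_dvd_one (hc.gcd_eq_one ▸ Nat.dvd_gcd hd (dvd_pow_self p ha.ne'))
    · rintro ⟨k, hk, rfl⟩
      refine ⟨ZMod.unitOfCoprime k (hN k hk), funext fun g => ?_⟩
      show χ (g ^ ((ZMod.unitOfCoprime k (hN k hk) : (ZMod N)ˣ) : ZMod N).val) = χ (g ^ k)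
      rw [ZMod.coe_unitOfCoprime, ZMod.val_natCast]
      refine congrArg χ (pow_eq_pow_iff_modEq.2 ?_)
      exact (Nat.mod_modEq k N).of_dvd (hG ▸ orderOf_dvd_natCard g)
  -- a central element of order `p` modulo the kernel
  let K := kerSubgroup (IsIrr.isCharacter hχ)
  obtain ⟨φ, hφ, hφe⟩ := IsIrr.exists_quotient K hχ fun n hn => hn
  have hKne : K ≠ ⊤ := fun e => hne.elim fun g hg => hg (e ▸ Subgroup.mem_top g : g ∈ K)
  have : Nontrivial (G ⧸ K) := QuotientGroup.nontrivial_iff.2 hKne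
  have hQ : IsPGroup p (G ⧸ K) := (IsPGroup.of_card hG).to_quotient K
  have hZn : Nontrivial (Subgroup.center (G ⧸ K)) := hQ.center_nontrivial
  obtain ⟨m, hm, hcard⟩ := (hQ.to_subgroup (Subgroup.center (G ⧸ K))).nontrivial_iff_card.1 hZn
  obtain ⟨⟨z, hzc⟩, hz⟩ := exists_prime_orderOf_dvd_card'
    (G := Subgroup.center (G ⧸ K)) p (hcard ▸ dvd_pow_self p hm.ne')
  rw [Subgroup.orderOf_mk] at hz
  obtain ⟨f, hf, hf1⟩ := IsIrr.degree hφ
  have hf0 : (f : ℂ) ≠ 0 := Nat.cast_ne_zero.2 hf.ne'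
  set ω : ℂ := φ z / f with hω
  have hωj : ∀ j : ℕ, φ (z ^ j) = f * ω ^ j := by
    intro j
    induction j with
    | zero => rw [pow_zero, hf1, pow_zero, mul_one]
    | succ j ih =>
      have h := Glauberman.mul_central hφ z (fun x => (Subgroup.mem_center_iff.1 hzc x).symm) (z ^ j)
      rw [hf1, ih] at h
      rw [pow_succ]
      apply mul_left_cancel₀ hf0
      rw [h, show φ z = (f : ℂ) * ω by rw [hω]; field_simp]
      ring
  have hfaith : ∀ c, φ c = φ 1 → c = 1 := by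
    intro c hc
    obtain ⟨g, rfl⟩ := QuotientGroup.mk_surjective c
    rw [QuotientGroup.eq_one_iff]
    show χ g = χ 1
    rw [hφe, hφe]
    simpa using hc
  have hωp : ω ^ p = 1 := by
    have h := hωj p
    rw [← hz, pow_orderOf_eq_one, hf1, hz] at h
    exact (mul_eq_left₀ hf0).1 h.symm
  have hω1 : ω ≠ 1 := fun e => by
    have := hfaith z (by rw [← pow_one z, hωj 1, e, pow_one, mul_one, hf1])
    rw [this, orderOf_one] at hz
    exact hp.one_lt.ne hz
  have hord : orderOf ω = p := orderOf_eq_prime hωp hω1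
  have hdvd : p ∣ N := dvd_pow_self p ha.ne'
  have hstab : MulAction.stabilizer (ZMod N)ˣ χ ≤ (ZMod.unitsMap hdvd).ker := by
    intro u hu
    obtain ⟨g, hg⟩ := QuotientGroup.mk_surjective z
    have h1 : χ (g ^ (u : ZMod N).val) = χ g :=
      congrFun (MulAction.mem_stabilizer_iff.1 hu) g
    rw [hφe, hφe, QuotientGroup.mk_pow, hg, hωj, ← pow_one z, hωj 1] at h1
    have hprim : IsPrimitiveRoot ω p := hord ▸ IsPrimitiveRoot.orderOf ω
    have h3 := mul_left_cancel₀ hf0 h1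
    rw [← pow_mod_orderOf, hord] at h3
    have h4 := hprim.pow_inj (Nat.mod_lt _ hp.pos) hp.one_lt h3
    have h2 : ((u : ZMod N).val : ZMod p) = ((1 : ℕ) : ZMod p) := by
      rw [ZMod.natCast_eq_natCast_iff, Nat.ModEq, h4, Nat.mod_eq_of_lt hp.one_lt]
    rw [MonoidHom.mem_ker]
    refine Units.ext ?_
    rw [ZMod.unitsMap_val, Units.val_one]
    rw [Nat.cast_one, ZMod.natCast_val] at h2
    exact h2
  have hk : (ZMod.unitsMap hdvd).ker.index = p - 1 := by
    rw [Subgroup.index_ker, MonoidHom.range_eq_top.2 (ZMod.unitsMap_surjective hdvd),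
      Subgroup.card_top, Nat.card_eq_fintype_card, ZMod.card_units_eq_totient,
      Nat.totient_prime hp]
  have hdiv : (MulAction.stabilizer (ZMod N)ˣ χ).index ∣ (p - 1) * p ^ (a - 1) := by
    rw [mul_comm, ← Nat.totient_prime_pow hp ha, ← ZMod.card_units_eq_totient,
      ← Nat.card_eq_fintype_card]
    exact Subgroup.index_dvd_card _
  rw [MulAction.index_stabilizer, horb] at hdiv
  have hmul : (p - 1) ∣ (powOrbit p χ).ncard := by
    rw [← horb, ← MulAction.index_stabilizer, ← hk]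
    exact Subgroup.index_dvd_of_le hstab
  obtain ⟨c, hc⟩ := hmul
  rw [hc] at hdiv ⊢
  obtain ⟨T, -, rfl⟩ := (Nat.dvd_prime_pow hp).1
    ((Nat.mul_dvd_mul_iff_left (Nat.sub_pos_of_lt hp.one_lt)).1 hdiv)
  exact ⟨T, rfl⟩

/-- Schur's sum. -/
def schurSum (p n : ℕ) : ℕ := ∑ i ∈ Finset.range (n + 1), n / ((p - 1) * p ^ i)

theorem schurSum_add (p m n : ℕ) : schurSum p m + schurSum p n ≤ schurSum p (m + n) := by
  have h : ∀ k, k ≤ m + n →
      schurSum p k ≤ ∑ i ∈ Finset.range (m + n + 1), k / ((p - 1) * p ^ i) := fun k hk =>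
    Finset.sum_le_sum_of_subset (Finset.range_mono (by omega))
  refine (Nat.add_le_add (h m (by omega)) (h n (by omega))).trans ?_
  rw [← Finset.sum_add_distrib]
  exact Finset.sum_le_sum fun i _ => Nat.div_add_div_le_add_div

theorem le_schurSum (hp : p.Prime) {a T s : ℕ}
    (h : (p - 1) * a ≤ (p ^ s - 1) + (p - 1) * (T + 1) * p ^ s) :
    a ≤ schurSum p ((p - 1) * p ^ T * p ^ s) := by
  set n := (p - 1) * p ^ T * p ^ s with hn
  have hq : 0 < p - 1 := Nat.sub_pos_of_lt hp.one_lt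
  have hsmall : T + s + 1 ≤ n + 1 := by
    have h1 : T + s < p ^ (T + s) := Nat.lt_pow_self hp.one_lt
    have h2 : p ^ (T + s) ≤ n := by
      rw [hn, mul_assoc, ← pow_add]
      exact Nat.le_mul_of_pos_left _ hq
    omega
  have hterms : ∑ i ∈ Finset.range (T + s + 1), p ^ i ≤ schurSum p n := by
    rw [← Finset.sum_range_reflect]
    refine le_trans (le_of_eq (Finset.sum_congr rfl fun i hi => ?_))
      (Finset.sum_le_sum_of_subset (Finset.range_mono hsmall))
    rw [Finset.mem_range] at hi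
    rw [hn, mul_assoc, ← pow_add, Nat.mul_div_mul_left _ _ hq,
      Nat.pow_div (by omega) hp.pos]
    congr 1
  refine le_trans ?_ hterms
  refine Nat.le_of_mul_le_mul_left (h.trans ?_) hq
  have hgeom : (p - 1) * ∑ i ∈ Finset.range (T + s + 1), p ^ i = p ^ (T + s + 1) - 1 := by
    rw [mul_comm, geom_sum_mul_of_one_le hp.one_lt.le]
  rw [hgeom]
  obtain ⟨q, rfl⟩ : ∃ q, p = q + 1 := ⟨p - 1, by omega⟩
  have hbern : ∀ j : ℕ, q * j + 1 ≤ (q + 1) ^ j := by
    intro j
    induction j with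
    | zero => simp
    | succ j ih =>
      rw [pow_succ]
      calc q * (j + 1) + 1 ≤ (q * j + 1) * (q + 1) := by nlinarith [Nat.zero_le (q * j * q)]
        _ ≤ _ := Nat.mul_le_mul_right _ ih
  have h3 := Nat.mul_le_mul_right ((q + 1) ^ s) (hbern (T + 1))
  rw [← pow_add, show T + 1 + s = T + s + 1 by omega, add_mul, one_mul] at h3
  simp only [Nat.add_sub_cancel]
  have h4 : 1 ≤ (q + 1) ^ s := Nat.one_le_pow _ _ (by omega)
  omega

/-- **Schur's bound**: the image of a p-group under a character with power-invariant values. -/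
theorem exists_index_ker_le (hp : p.Prime) : ∀ (n : ℕ) {P : Type u} [Group P] [Finite P] {a : ℕ},
    Nat.card P = p ^ a → ∀ (χ : P → ℂ) (hχ : IsCharacter P χ), χ 1 = (n : ℂ) →
    (∀ k, ¬ p ∣ k → ∀ g, χ (g ^ k) = χ g) →
    ∃ b, (kerSubgroup hχ).index = p ^ b ∧ b ≤ schurSum p n := by
  intro n
  induction n using Nat.strong_induction_on with
  | _ n ih =>
  intro P _ _ a hP χ hχ hn hinv
  classical
  have := Fact.mk hp
  let := Fintype.ofFinite P
  obtain ⟨b, -, hb⟩ := (Nat.dvd_prime_pow hp).1 (hP ▸ (kerSubgroup hχ).index_dvd_card)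
  refine ⟨b, hb, ?_⟩
  have hexp := classFun_expansion (isClassFunction_of_isCharacter hχ)
  by_cases hall : ∀ ξ : IrrCharacter P, classInner χ (ξ : P → ℂ) ≠ 0 →
      ∀ g, (ξ : P → ℂ) g = (ξ : P → ℂ) 1
  · have htop : kerSubgroup hχ = ⊤ := by
      refine eq_top_iff.2 fun g _ => ?_
      show χ g = χ 1
      rw [congrFun hexp g, congrFun hexp 1]
      simp only [Finset.sum_apply, Pi.smul_apply, smul_eq_mul]
      refine Finset.sum_congr rfl fun ξ _ => ?_
      by_cases h0 : classInner χ (ξ : P → ℂ) = 0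
      · simp [h0]
      · rw [hall ξ h0 g]
    rw [htop, Subgroup.index_top] at hb
    have : b = 0 := Nat.pow_right_injective hp.two_le (by show p ^ b = p ^ 0; rw [← hb, pow_zero])
    omega
  push Not at hall
  obtain ⟨ψ, hψm, g₀, hg₀⟩ := hall
  have hfin := powOrbit_finite hp hP ψ.2
  set O := hfin.toFinset with hO
  have hOi : ∀ η ∈ O, IsIrrCharacter P η := fun η hη =>
    powOrbit_isIrr hp hP ψ.2 (hfin.mem_toFinset.1 hη)
  set S : P → ℂ := ∑ η ∈ O, η with hS
  have hSc : IsCharacter P S := isCharacter_sum _ _ fun η hη => IsIrr.isCharacter (hOi η hη)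
  obtain ⟨μ, hμ⟩ := classInner_isCharacter_eq_natCast hχ (IsIrr.isCharacter ψ.2)
  have hμ0 : μ ≠ 0 := fun e => hψm (by rw [hμ, e, Nat.cast_zero])
  have hmult : ∀ η ∈ O, classInner χ η = μ := by
    intro η hη
    obtain ⟨k, hk, rfl⟩ := hfin.mem_toFinset.1 hη
    obtain ⟨σ, hσ⟩ := exists_sigma (a := a) hp hk
    have e1 : (fun g => σ (χ g)) = χ := funext fun g => by
      rw [hσ P (hP ▸ dvd_rfl) χ hχ, hinv k hk]
    have e2 : (fun g => σ ((ψ : P → ℂ) g)) = fun g => (ψ : P → ℂ) (g ^ k) :=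
      funext fun g => hσ P (hP ▸ dvd_rfl) _ (IsIrr.isCharacter ψ.2) g
    rw [← e2]
    nth_rewrite 1 [← e1]
    rw [classInner_map σ (IsIrr.isCharacter ψ.2), hμ, map_natCast]
  set r := χ - S with hr
  have hrc : IsCharacter P r := by
    refine isCharacter_iff.2 ⟨fun g k => ?_, fun ξ => ?_⟩
    · simp only [hr, Pi.sub_apply, isClassFunction_of_isCharacter hχ g k,
        isClassFunction_of_isCharacter hSc g k]
    · rw [hr, classInner_sub_left, hS, classInner_sum_left,
        Finset.sum_congr rfl fun η hη => classInner_irr (hOi η hη) ξ.2, Finset.sum_ite_eq']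
      split_ifs with hξ
      · exact ⟨μ - 1, by rw [hmult _ hξ, Nat.cast_sub (by omega), Nat.cast_one]⟩
      · obtain ⟨k, hk⟩ := classInner_isCharacter_eq_natCast hχ (IsIrr.isCharacter ξ.2)
        exact ⟨k, by rw [hk, sub_zero]⟩
  obtain ⟨f, hf, hf1⟩ := IsIrr.degree ψ.2
  have hS1 : S 1 = ((O.card * f : ℕ) : ℂ) := by
    rw [hS, Finset.sum_apply, Finset.sum_congr rfl fun η hη => (show η 1 = (f : ℂ) by
      obtain ⟨k, -, rfl⟩ := hfin.mem_toFinset.1 hη
      show (ψ : P → ℂ) (1 ^ k) = _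
      rw [one_pow, hf1]), Finset.sum_const, nsmul_eq_mul, Nat.cast_mul]
  obtain ⟨n', hn'⟩ := IsChar.degree hrc
  have hnn : n = O.card * f + n' := by
    have h1 : χ 1 - S 1 = (n' : ℂ) := hn'
    rw [hn, hS1, sub_eq_iff_eq_add'] at h1
    exact_mod_cast h1
  have hOpos : 0 < O.card :=
    Finset.card_pos.2 ⟨_, hfin.mem_toFinset.2 (self_mem_powOrbit hp (ψ : P → ℂ))⟩
  have hSinv : ∀ l, ¬ p ∣ l → ∀ g, S (g ^ l) = S g := by
    intro l hl g
    simp only [hS, Finset.sum_apply]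
    obtain ⟨k, -, hlk⟩ := exists_pow_inverse hp hP hl
    refine Finset.sum_nbij (fun η x => η (x ^ l)) ?_ ?_ ?_ fun η _ => rfl
    · intro η hη
      rw [hfin.mem_toFinset] at hη ⊢
      obtain ⟨j, hj, rfl⟩ := hη
      exact ⟨l * j, fun h => (hp.dvd_mul.1 h).elim hl hj, funext fun x => by rw [pow_mul]⟩
    · intro η _ η' _ e
      funext x
      have h2 := congrFun e (x ^ k)
      simp only at h2
      rwa [← pow_mul, mul_comm k l, pow_mul, hlk] at h2
    · intro η hη
      rw [Finset.mem_coe, hfin.mem_toFinset] at hη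
      obtain ⟨j, hj, rfl⟩ := hη
      obtain ⟨k', hk', hlk'⟩ := exists_pow_inverse hp hP hl
      refine ⟨fun x => (ψ : P → ℂ) ((x ^ k') ^ j), ?_, funext fun x => ?_⟩
      · rw [Finset.mem_coe, hfin.mem_toFinset]
        exact ⟨k' * j, fun h => (hp.dvd_mul.1 h).elim hk' hj, funext fun x => by rw [pow_mul]⟩
      · show (ψ : P → ℂ) (((x ^ l) ^ k') ^ j) = _
        rw [hlk']
  have hrinv : ∀ k, ¬ p ∣ k → ∀ g, r (g ^ k) = r g := fun k hk g => by
    simp only [hr, Pi.sub_apply, hinv k hk, hSinv k hk]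
  have hlt : n' < n := by
    have := Nat.mul_pos hOpos hf
    omega
  obtain ⟨b', hb', hb'le⟩ := ih n' hlt hP r hrc hn' hrinv
  -- the orbit part
  let Kψ := kerSubgroup (IsIrr.isCharacter ψ.2)
  obtain ⟨c, -, hc⟩ := (Nat.dvd_prime_pow hp).1 (hP ▸ Kψ.index_dvd_card)
  have hcle : c ≤ schurSum p (O.card * f) := by
    obtain ⟨φ, hφ, hφe⟩ := IsIrr.exists_quotient Kψ ψ.2 fun n hn => hn
    have hφfaith : ∀ x, φ x = φ 1 → x = 1 := by
      intro x hx
      obtain ⟨m, rfl⟩ := QuotientGroup.mk_surjective x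
      rw [QuotientGroup.eq_one_iff]
      show (ψ : P → ℂ) m = (ψ : P → ℂ) 1
      rw [hφe, hφe]
      simpa using hx
    obtain ⟨T, hT⟩ := exists_ncard_powOrbit_eq hp hP ψ.2 ⟨g₀, hg₀⟩
    have hOφ : (powOrbit p φ).ncard = (powOrbit p (ψ : P → ℂ)).ncard := by
      rw [← ncard_powOrbit_comp (QuotientGroup.mk' Kψ) (QuotientGroup.mk'_surjective Kψ) φ]
      congr 2
      exact funext fun m => (hφe m).symm
    have h := pgroup_order_bound hp c (P := P ⧸ Kψ) (by rw [← Subgroup.index_eq_card, hc]) φ hφ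
      hφfaith f (by rw [← QuotientGroup.mk_one, ← hφe, hf1]) T (by rw [hOφ, hT])
    obtain ⟨s, -, rfl⟩ := (Nat.dvd_prime_pow hp).1
      (hP ▸ IsIrr.degree_dvd_card ψ.2 hf1 : f ∣ p ^ a)
    rw [hO, ← Set.ncard_eq_toFinset_card _ hfin, hT]
    exact le_schurSum hp h
  have hker : Kψ ⊓ kerSubgroup hrc ≤ kerSubgroup hχ := by
    rintro g ⟨h1, h2⟩
    show χ g = χ 1
    have hSg : S g = S 1 := by
      simp only [hS, Finset.sum_apply]
      refine Finset.sum_congr rfl fun η hη => ?_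
      obtain ⟨k, -, rfl⟩ := hfin.mem_toFinset.1 hη
      show (ψ : P → ℂ) (g ^ k) = (ψ : P → ℂ) (1 ^ k)
      rw [one_pow]
      exact Kψ.pow_mem h1 k
    have h3 : χ g - S g = χ 1 - S 1 := h2
    rwa [hSg, sub_left_inj] at h3
  have hle : p ^ b ≤ p ^ (c + b') := by
    rw [← hb, pow_add, ← hc, ← hb']
    exact le_trans (Nat.le_of_dvd (Nat.pos_of_ne_zero Subgroup.index_ne_zero_of_finite)
      (Subgroup.index_dvd_of_le hker)) (Subgroup.index_inf_le)
  calc b ≤ c + b' := (Nat.pow_le_pow_iff_right hp.one_lt).1 hle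
    _ ≤ schurSum p (O.card * f) + schurSum p n' := Nat.add_le_add hcle hb'le
    _ ≤ schurSum p n := hnn ▸ schurSum_add p _ _

end Cfsg.Agent.Char
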