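import Cfsg.Agent.Char.Clifford

/-!
# The Clifford correspondence
-/

namespace Cfsg.Agent.Char

open scoped ComplexConjugate

universe u

variable {G : Type u} [Group G] [Fintype G] {N : Subgroup G} [hN : N.Normal]

open scoped Classical in
/-- `[T:N]·λ` extended by zero to the inertia subgroup: the character induced from `N`. -/
noncomputable def inertiaInd (lam : N → ℂ) : inertia lam → ℂ := fun t =>
  if h : (t : G) ∈ N then
    (Nat.card (inertia lam) : ℂ) * (Nat.card N : ℂ)⁻¹ * lam ⟨t, h⟩
  else 0

theorem classInner_inertiaInd {lam : N → ℂ} (hlam : IsClassFunction N lam) [Fintype N]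
    [Fintype (inertia lam)] (ψ : inertia lam → ℂ) :
    classInner (inertiaInd lam) ψ =
      classInner lam (fun n : N => ψ ⟨n, le_inertia hlam n.2⟩) := by
  classical
  simp only [classInner, Finset.mul_sum]
  rw [← Finset.sum_subset (Finset.subset_univ
    (Finset.univ.image fun n : N => (⟨n, le_inertia hlam n.2⟩ : inertia lam))) fun t _ ht => ?_,
    Finset.sum_image (g := fun n : N => (⟨n, le_inertia hlam n.2⟩ : inertia lam))
      fun a _ b _ h => Subtype.ext (congrArg (fun x : inertia lam => (x : G)) h)]
  · refine Finset.sum_congr rfl fun n _ => ?_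
    have hT : (Nat.card (inertia lam) : ℂ) ≠ 0 := Nat.cast_ne_zero.2 Nat.card_pos.ne'
    simp only [inertiaInd, dif_pos n.2]
    field_simp
  · have : (t : G) ∉ N := fun h => ht (Finset.mem_image.2 ⟨⟨t, h⟩, Finset.mem_univ _, rfl⟩)
    simp [inertiaInd, this]

theorem isCharacter_inertiaInd {lam : N → ℂ} (hlam : IsIrrCharacter N lam) :
    IsCharacter (inertia lam) (inertiaInd lam) := by
  classical
  have := Fintype.ofFinite N
  refine isCharacter_iff.2 ⟨fun t s => ?_, fun ψ => ?_⟩
  · unfold inertiaInd
    by_cases h : (t : G) ∈ N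
    · have h' : ((s * t * s⁻¹ : inertia lam) : G) ∈ N := hN.conj_mem _ h _
      rw [dif_pos h, dif_pos h']
      congr 1
      exact congrFun (mem_inertia.1 s.2) ⟨t, h⟩
    · have h' : ((s * t * s⁻¹ : inertia lam) : G) ∉ N := fun h' => h (by
        simpa [mul_assoc] using hN.conj_mem _ h' (s : G)⁻¹)
      rw [dif_neg h, dif_neg h']
  · rw [classInner_inertiaInd (isClassFunction_of_isIrr hlam)]
    exact classInner_isCharacter_eq_natCast (IsIrr.isCharacter hlam)
      (isCharacter_comp (Subgroup.inclusion (le_inertia (isClassFunction_of_isIrr hlam)))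
        (IsIrr.isCharacter ψ.2))

/-- **Clifford correspondence**: a character over `lam` is induced from one of the inertia
subgroup restricting to a multiple of `lam`. -/
theorem clifford_correspondence [Fintype N] {φ : G → ℂ} (hφ : IsIrrCharacter G φ) {lam : N → ℂ}
    (hlam : IsIrrCharacter N lam) (h : classInner (fun n : N => φ n) lam ≠ 0) :
    ∃ ψ : inertia lam → ℂ, IsIrrCharacter (inertia lam) ψ ∧ indFun (inertia lam) ψ = φ ∧
      (fun n : N => ψ ⟨n, le_inertia (isClassFunction_of_isIrr hlam) n.2⟩) =
        classInner (fun n : N => φ n) lam • lam := by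
  classical
  have := Fintype.ofFinite (inertia lam)
  have hle := le_inertia (N := N) (isClassFunction_of_isIrr hlam)
  set res : (inertia lam → ℂ) → N → ℂ := fun ψ n => ψ ⟨n, hle n.2⟩ with hres
  have hresc : ∀ {ψ}, IsCharacter (inertia lam) ψ → IsCharacter N (res ψ) := fun hψ =>
    isCharacter_comp (Subgroup.inclusion hle) hψ
  have hφT := isCharacter_res (inertia lam) (IsIrr.isCharacter hφ)
  obtain ⟨m, hm, he, -⟩ := IsChar.exists_mult hφT
  obtain ⟨ψ, hψm, hψ⟩ : ∃ ψ : IrrCharacter (inertia lam), m ψ ≠ 0 ∧
      classInner (res ψ) lam ≠ 0 := by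
    by_contra! hall
    apply h
    have e : (fun n : N => φ n) = ∑ ψ : IrrCharacter (inertia lam),
        (m ψ : ℂ) • res (ψ : inertia lam → ℂ) := by
      funext n
      have h1 := congrFun he ⟨n, hle n.2⟩
      simp only [Finset.sum_apply, Pi.smul_apply] at h1 ⊢
      exact h1
    rw [e, classInner_sum_left]
    refine Finset.sum_eq_zero fun ψ _ => ?_
    rw [classInner_smul_left]
    by_cases h0 : m ψ = 0
    · simp [h0]
    · rw [hall ψ h0, mul_zero]
  have hζ := isCharacter_inertiaInd hlam
  have hcζ : classInner (inertiaInd lam) (ψ : inertia lam → ℂ) ≠ 0 := by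
    rw [classInner_inertiaInd (isClassFunction_of_isIrr hlam), ← classInner_conj_symm]
    simpa [hres] using hψ
  have hrest := hresc (IsChar.sub_constituent hζ ψ.2 hcζ)
  have hψres : res (ψ : inertia lam → ℂ) =
      classInner (res (ψ : inertia lam → ℂ)) lam • lam := by
    conv_lhs => rw [classFun_expansion (isClassFunction_of_isCharacter
      (hresc (IsIrr.isCharacter ψ.2)))]
    rw [Finset.sum_eq_single (⟨lam, hlam⟩ : IrrCharacter N) (fun η _ hη => ?_) (by simp)]
    obtain ⟨a, ha⟩ := classInner_isCharacter_eq_natCast hrest (IsIrr.isCharacter η.2)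
    obtain ⟨b, hb⟩ := classInner_isCharacter_eq_natCast (hresc (IsIrr.isCharacter ψ.2))
      (IsIrr.isCharacter η.2)
    have hz : classInner (res (inertiaInd lam)) (η : N → ℂ) = 0 := by
      have e : res (inertiaInd lam) =
          ((Nat.card (inertia lam) : ℂ) * (Nat.card N : ℂ)⁻¹) • lam := by
        funext n; simp [hres, inertiaInd]
      rw [e, classInner_smul_left, classInner_irr_ne hlam η.2 fun he => hη (Subtype.ext he.symm),
        mul_zero]
    have hsum : (a : ℂ) + b = 0 := by
      rw [← ha, ← hb, ← classInner_add_left, ← hz]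
      congr 1
      funext n; simp [hres]
    have h3 : a + b = 0 := by exact_mod_cast hsum
    rw [hb, show b = 0 by omega, Nat.cast_zero, zero_smul]
  obtain ⟨e, he'⟩ := classInner_isCharacter_eq_natCast (hresc (IsIrr.isCharacter ψ.2))
    (IsIrr.isCharacter hlam)
  obtain ⟨e0, he0⟩ := classInner_isCharacter_eq_natCast
    (isCharacter_res N (IsIrr.isCharacter hφ)) (IsIrr.isCharacter hlam)
  have hcT : classInner (fun t : inertia lam => φ t) (ψ : inertia lam → ℂ) ≠ 0 := by
    rw [hm]; exact_mod_cast hψm
  have hle_e : e ≤ e0 := by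
    obtain ⟨a, ha⟩ := classInner_isCharacter_eq_natCast
      (hresc (IsChar.sub_constituent hφT ψ.2 hcT)) (IsIrr.isCharacter hlam)
    have : (a : ℂ) + e = e0 := by
      rw [← ha, ← he', ← he0, ← classInner_add_left]
      congr 1
      funext n; simp [hres]
    have h3 : a + e = e0 := by exact_mod_cast this
    omega
  have hind := isCharacter_indFun (inertia lam) (IsIrr.isCharacter ψ.2)
  have hcG : classInner (indFun (inertia lam) (ψ : inertia lam → ℂ)) φ ≠ 0 := by
    rw [classInner_indFun_left _ _ (isClassFunction_of_isIrr hφ), ← classInner_conj_symm]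
    simpa using hcT
  have hdiff := IsChar.sub_constituent hind hφ hcG
  obtain ⟨d, hd⟩ := IsChar.degree hdiff
  obtain ⟨l1, hl1, hl⟩ := IsIrr.degree hlam
  have hψ1 : (ψ : inertia lam → ℂ) 1 = (e : ℂ) * l1 := by
    have h1 := congrFun hψres 1
    rw [Pi.smul_apply, smul_eq_mul, he', hl] at h1
    exact h1
  have hφ1 : φ 1 = (e0 : ℂ) * (inertia lam).index * l1 := by
    rw [degree_eq_of_clifford hφ hlam h, he0, hl]
  have hd0 : d = 0 := by
    rw [Pi.sub_apply, indFun_apply_one, hψ1, hφ1] at hd
    have h1 : (((inertia lam).index * (e * l1) : ℕ) : ℂ) =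
        ((e0 * (inertia lam).index * l1 + d : ℕ) : ℂ) := by
      push_cast; linear_combination hd
    have h2 : (inertia lam).index * (e * l1) = e0 * (inertia lam).index * l1 + d := by
      exact_mod_cast h1
    have h3 : (inertia lam).index * (e * l1) ≤ (inertia lam).index * (e0 * l1) :=
      Nat.mul_le_mul_left _ (Nat.mul_le_mul_right _ hle_e)
    have h4 : e0 * (inertia lam).index * l1 = (inertia lam).index * (e0 * l1) := by ring
    omega
  have heq : indFun (inertia lam) (ψ : inertia lam → ℂ) = φ :=
    sub_eq_zero.1 ((IsChar.eq_zero_iff hdiff).2 (by rw [hd, hd0, Nat.cast_zero]))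
  refine ⟨ψ, ψ.2, heq, ?_⟩
  have hee : e = e0 := by
    have h1 := congrFun heq 1
    rw [indFun_apply_one, hψ1, hφ1] at h1
    have h2 : (inertia lam).index * (e * l1) = e0 * (inertia lam).index * l1 := by exact_mod_cast h1
    have h4 : e0 * (inertia lam).index * l1 = (inertia lam).index * (e0 * l1) := by ring
    rw [h4] at h2
    exact Nat.eq_of_mul_eq_mul_right hl1
      (Nat.eq_of_mul_eq_mul_left (Nat.pos_of_ne_zero Subgroup.index_ne_zero_of_finite) h2)
  rw [he0, ← hee, ← he']
  exact hψres

end Cfsg.Agent.Char
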