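import Mathlib

/-!
# Abelian normal subgroups of index `p²` all of whose linear characters have small orbits
-/

namespace Cfsg.Agent.Char

universe u

variable {G : Type u} [Group G] {A : Subgroup G} [hA : A.Normal]

/-- Linear characters separate a subgroup of a finite abelian group from the elements outside. -/
theorem exists_hom_ne_one_of_not_mem {A : Type u} [Group A] [Finite A]
    (hc : ∀ a b : A, a * b = b * a) (B : Subgroup A) {s : A} (hs : s ∉ B) :
    ∃ l : A →* ℂˣ, (∀ b ∈ B, l b = 1) ∧ l s ≠ 1 := by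
  letI : CommGroup A := { (inferInstance : Group A) with mul_comm := hc }
  have hne : (QuotientGroup.mk' B) s ≠ 1 := fun h => hs ((QuotientGroup.eq_one_iff s).1 h)
  obtain ⟨χ, hχ⟩ := CommGroup.exists_apply_ne_one_of_hasEnoughRootsOfUnity (A ⧸ B) ℂ hne
  refine ⟨χ.comp (QuotientGroup.mk' B), fun b hb => ?_, hχ⟩
  show χ (QuotientGroup.mk' B b) = 1
  rw [show QuotientGroup.mk' B b = 1 from (QuotientGroup.eq_one_iff b).2 hb, map_one]

/-- A subgroup containing a normal subgroup of index `p²` with `p`-th powers and one more element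
contains the subgroup they generate; two independent elements generate everything. -/
theorem index_dvd_prime_cases [Finite G] {p : ℕ} (hp : p.Prime) (hidx : A.index = p ^ 2)
    {B : Subgroup G} (hAB : A ≤ B) (hne : B ≠ A) (htop : B ≠ ⊤) : B.index = p := by
  have h := Subgroup.relIndex_mul_index hAB
  rw [hidx] at h
  obtain ⟨j, hj, hj'⟩ := (Nat.dvd_prime_pow hp).1 (Dvd.intro_left _ h)
  rcases j with _ | _ | _ | j
  · exact absurd (Subgroup.index_eq_one.1 (by rw [hj', pow_zero])) htop
  · rw [hj', zero_add, pow_one]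
  · exfalso
    rw [hj'] at h
    have : A.relIndex B = 1 := Nat.eq_of_mul_eq_mul_right (pow_pos hp.pos 2)
      (h.trans (one_mul _).symm)
    exact hne (le_antisymm (Subgroup.relIndex_eq_one.1 this) hAB)
  · omega

theorem sup_zpowers_index [Finite G] {p : ℕ} (hp : p.Prime) (hidx : A.index = p ^ 2)
    {m : G} (hm : m ∉ A) (htop : A ⊔ Subgroup.zpowers m ≠ ⊤) :
    (A ⊔ Subgroup.zpowers m).index = p :=
  index_dvd_prime_cases hp hidx le_sup_left
    (fun h => hm (h ▸ Subgroup.mem_sup_right (Subgroup.mem_zpowers m))) htop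

/-- The structure of a group with an abelian normal subgroup of index `p²` whose linear
characters all have orbits of size at most `p`. -/
theorem abelian_or_center_of_orbits [Finite G] {p : ℕ} (hp : p.Prime)
    (hab : ∀ a ∈ A, ∀ b ∈ A, a * b = b * a) (hidx : A.index = p ^ 2)
    (hQ : ∀ g h : G, g * h * g⁻¹ * h⁻¹ ∈ A)
    (horb : ∀ l : A →* ℂˣ, ∃ M : Subgroup G, A ≤ M ∧ M.index ∣ p ∧
      ∀ m ∈ M, ∀ a : A, l (MulAut.conjNormal m a) = l a) :
    (∃ B : Subgroup G, B.Normal ∧ (∀ a ∈ B, ∀ b ∈ B, a * b = b * a) ∧ B.index ∣ p) ∨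
      (Subgroup.center G).index ∣ p ^ 3 := by
  classical
  have habA : ∀ a b : A, a * b = b * a := fun a b => Subtype.ext (hab a a.2 b b.2)
  letI : CommGroup A := { (inferInstance : Group A) with mul_comm := habA }
  -- an element outside `A` centralising `A` gives an abelian subgroup
  by_cases hcent : ∃ m : G, m ∉ A ∧ ∀ a : A, MulAut.conjNormal m a = a
  · obtain ⟨m, hm, hma⟩ := hcent
    left
    set B := A ⊔ Subgroup.zpowers m
    have hBab : ∀ a ∈ B, ∀ b ∈ B, a * b = b * a := by
      have h1 : B ≤ Subgroup.centralizer (B : Set G) := by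
        have hAc : A ≤ Subgroup.centralizer ({m} : Set G) := fun a ha =>
          Subgroup.mem_centralizer_singleton_iff.2 (by
            have h2 : m * a * m⁻¹ = a := congrArg Subtype.val (hma ⟨a, ha⟩)
            exact (mul_inv_eq_iff_eq_mul.1 h2).symm)
        refine sup_le (Subgroup.le_centralizer_iff.1 (sup_le ?_ ?_))
          (Subgroup.zpowers_le.2 (Subgroup.mem_centralizer_iff.2 fun x hx => ?_))
        · exact fun a ha => Subgroup.mem_centralizer_iff.2 fun b hb => hab b hb a ha
        · exact Subgroup.zpowers_le.2 (Subgroup.mem_centralizer_iff.2 fun a ha =>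
            Subgroup.mem_centralizer_singleton_iff.1 (hAc ha))
        · exact Subgroup.mem_centralizer_singleton_iff.1 ((sup_le hAc (Subgroup.zpowers_le.2
            (Subgroup.mem_centralizer_singleton_iff.2 rfl)) : B ≤ Subgroup.centralizer ({m} : Set G)) hx)
      exact fun a ha b hb => (Subgroup.mem_centralizer_iff.1 (h1 hb) a ha)
    refine ⟨B, Subgroup.Normal.mk fun n hn g => ?_, hBab, ?_⟩
    · have := B.mul_mem (Subgroup.mem_sup_left (hQ g n) : g * n * g⁻¹ * n⁻¹ ∈ B) hn
      simpa using this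
    · by_cases ht : B = ⊤
      · rw [ht, Subgroup.index_top]; exact one_dvd _
      · rw [sup_zpowers_index hp hidx hm ht]
  push Not at hcent
  right
  let d : G → A → A := fun g a => MulAut.conjNormal g a * a⁻¹
  have hd : ∀ g a, MulAut.conjNormal g a = d g a * a := fun g a => (inv_mul_cancel_right _ _).symm
  have hdmul : ∀ g a b, d g (a * b) = d g a * d g b := fun g a b => by
    simp only [d, map_mul]
    rw [mul_inv_rev, mul_assoc, mul_assoc, ← mul_assoc (MulAut.conjNormal g b),
      mul_comm (MulAut.conjNormal g b * b⁻¹) a⁻¹]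
  have hdmemA : ∀ g ∈ A, ∀ a, d g a = 1 := fun g hg a => by
    rw [mul_inv_eq_one]
    refine Subtype.ext ?_
    show g * a * g⁻¹ = a
    rw [hab g hg a a.2, mul_inv_cancel_right]
  have hσc : ∀ g h : G, ∀ a : A, MulAut.conjNormal g (MulAut.conjNormal h a) =
      MulAut.conjNormal h (MulAut.conjNormal g a) := fun g h a => by
    have hc : ∀ c ∈ A, ∀ x : A, MulAut.conjNormal c x = x := fun c hc x => mul_inv_eq_one.1 (hdmemA c hc x)
    calc MulAut.conjNormal g (MulAut.conjNormal h a)
        = MulAut.conjNormal (g * h * g⁻¹ * h⁻¹) (MulAut.conjNormal (h * g) a) := by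
          rw [← MulAut.mul_apply, ← map_mul, ← MulAut.mul_apply, ← map_mul]
          congr 2; group
      _ = _ := by rw [hc _ (hQ g h), map_mul, MulAut.mul_apply]
  -- stabilisers
  let St : (A →* ℂˣ) → Subgroup G := fun l =>
    { carrier := {g | ∀ a, l (MulAut.conjNormal g a) = l a}
      one_mem' := fun a => by simp
      mul_mem' := fun {g h} hg hh a => by rw [map_mul, MulAut.mul_apply, hg, hh]
      inv_mem' := fun {g} hg a => by
        conv_rhs => rw [← MulAut.apply_inv_self A (MulAut.conjNormal g) a, hg]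
        rw [map_inv] }
  have hSt : ∀ l g, g ∈ St l ↔ ∀ a, l (MulAut.conjNormal g a) = l a := fun _ _ => Iff.rfl
  have hASt : ∀ l, A ≤ St l := fun l g hg a => by rw [mul_inv_eq_one.1 (hdmemA g hg a)]
  have hfix : ∀ l, ∃ m, m ∉ A ∧ m ∈ St l := fun l => by
    obtain ⟨M, hAM, hM, hMf⟩ := horb l
    have hne : ¬ M ≤ A := fun h => by
      rw [le_antisymm h hAM, hidx] at hM
      have := Nat.le_of_dvd hp.pos hM
      nlinarith [hp.two_le]
    obtain ⟨m, hm, hmA⟩ := SetLike.not_le_iff_exists.1 hne
    exact ⟨m, hmA, hMf m hm⟩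
  have hpow : ∀ g : G, g ^ p ∈ A := by
    intro g
    by_contra hg
    obtain ⟨a, ha⟩ := hcent _ hg
    obtain ⟨l, -, hl⟩ := exists_hom_ne_one_of_not_mem habA ⊥
      (s := d (g ^ p) a) (fun h => ha (mul_inv_eq_one.1 h))
    obtain ⟨M, hAM, hM, hMf⟩ := horb l
    have hn : M.Normal := Subgroup.Normal.mk fun n hn k => by
      simpa using M.mul_mem (hAM (hQ k n)) hn
    have hmem : g ^ p ∈ M := by
      obtain ⟨c, hc⟩ := hM
      rw [← QuotientGroup.eq_one_iff, QuotientGroup.mk_pow, hc, pow_mul,
        show ((g : G ⧸ M)) ^ M.index = 1 by rw [Subgroup.index_eq_card]; exact pow_card_eq_one', one_pow]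
    exact hl (by rw [map_mul, map_inv, hMf _ hmem, mul_inv_cancel])
  have hgen : ∀ m n : G, m ∉ A → n ∉ A ⊔ Subgroup.zpowers m →
      A ⊔ Subgroup.zpowers m ⊔ Subgroup.zpowers n = ⊤ := by
    intro m n hm hn
    have h1 := sup_zpowers_index hp hidx hm (fun h => hn (h ▸ Subgroup.mem_top n))
    have h2 := Subgroup.relIndex_mul_index
      (show A ⊔ Subgroup.zpowers m ≤ A ⊔ Subgroup.zpowers m ⊔ Subgroup.zpowers n from le_sup_left)
    rw [h1] at h2
    rcases (Nat.dvd_prime hp).1 (Dvd.intro_left _ h2) with h | h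
    · exact Subgroup.index_eq_one.1 h
    · rw [h] at h2
      exact absurd (Subgroup.relIndex_eq_one.1 (Nat.eq_of_mul_eq_mul_right hp.pos
        (h2.trans (one_mul p).symm)) (Subgroup.mem_sup_right (Subgroup.mem_zpowers n))) hn
  have hline : ∀ (m l' : G), m ∉ A → l' ∉ A → l' ∈ A ⊔ Subgroup.zpowers m → ∀ S : Subgroup G,
      A ≤ S → l' ∈ S → m ∈ S := by
    intro m l' hm hl hlm S hAS hlS
    have htop : A ⊔ Subgroup.zpowers m ≠ ⊤ := by
      intro h
      have hle : Subgroup.zpowers (m : G ⧸ A) = ⊤ := by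
        rw [eq_top_iff]
        rintro x -
        obtain ⟨g, rfl⟩ := QuotientGroup.mk'_surjective A x
        have : (⊤ : Subgroup G) ≤ (Subgroup.zpowers (m : G ⧸ A)).comap (QuotientGroup.mk' A) :=
          h ▸ sup_le (fun a ha => by
              show QuotientGroup.mk' A a ∈ Subgroup.zpowers (m : G ⧸ A)
              rw [show QuotientGroup.mk' A a = 1 from (QuotientGroup.eq_one_iff a).2 ha]
              exact one_mem _)
            (Subgroup.zpowers_le.2 (Subgroup.mem_zpowers (m : G ⧸ A)))
        exact this (Subgroup.mem_top g)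
      have h3 : orderOf (m : G ⧸ A) = p ^ 2 := by
        rw [← hidx, Subgroup.index_eq_card, ← Nat.card_zpowers, hle, Subgroup.card_top]
      have h4 : orderOf (m : G ⧸ A) ∣ p :=
        orderOf_dvd_of_pow_eq_one (by rw [← QuotientGroup.mk_pow, QuotientGroup.eq_one_iff]; exact hpow m)
      rw [h3] at h4
      have := Nat.le_of_dvd hp.pos h4
      nlinarith [hp.two_le]
    have hle : A ⊔ Subgroup.zpowers l' ≤ A ⊔ Subgroup.zpowers m :=
      sup_le le_sup_left (Subgroup.zpowers_le.2 hlm)
    have h1 := Subgroup.relIndex_mul_index hle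
    rw [sup_zpowers_index hp hidx hm htop,
      sup_zpowers_index hp hidx hl (fun h => htop (top_le_iff.1 (h ▸ hle)))] at h1
    have h2 : A ⊔ Subgroup.zpowers m ≤ A ⊔ Subgroup.zpowers l' :=
      Subgroup.relIndex_eq_one.1 (Nat.eq_of_mul_eq_mul_right hp.pos (h1.trans (one_mul p).symm))
    exact (sup_le hAS (Subgroup.zpowers_le.2 hlS) : A ⊔ Subgroup.zpowers l' ≤ S)
      (h2 (Subgroup.mem_sup_right (Subgroup.mem_zpowers m)))
  -- the commutators are central of exponent `p`
  have key : ∀ (l : A →* ℂˣ) (g k : G) (a : A), l (d g (d k a)) = 1 ∧ l (d g a) ^ p = 1 := by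
    intro l
    by_cases hall : ∀ g : G, g ∈ St l
    · intro g k a
      have h : ∀ (g : G) (a : A), l (d g a) = 1 := fun g a => by
        rw [map_mul, map_inv, hall g a, mul_inv_cancel]
      exact ⟨h _ _, by rw [h, one_pow]⟩
    obtain ⟨m, hmA, hm⟩ := hfix l
    obtain ⟨a₀, ha₀⟩ := hcent m hmA
    obtain ⟨μ, -, hμ⟩ := exists_hom_ne_one_of_not_mem habA ⊥
      (s := d m a₀) (fun h => ha₀ (mul_inv_eq_one.1 h))
    have hμm : m ∉ St μ := fun h => hμ (by rw [map_mul, map_inv, h a₀, mul_inv_cancel])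
    obtain ⟨n, hnA, hn⟩ := hfix μ
    obtain ⟨t, htA, ht⟩ := hfix (l * μ)
    have hnm : n ∉ A ⊔ Subgroup.zpowers m := fun h => hμm (hline m n hmA hnA h _ (hASt μ) hn)
    have htm : t ∉ A ⊔ Subgroup.zpowers m := fun h => by
      refine hμm fun a => ?_
      have h5 := hline m t hmA htA h _ (hASt (l * μ)) ht a
      rw [MonoidHom.mul_apply, MonoidHom.mul_apply, hm a] at h5
      exact mul_left_cancel h5
    let f : A → ℂˣ := fun a => l (d t a)
    have hfμ : ∀ a, f a * μ (d t a) = 1 := fun a => by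
      have h5 := ht a
      rw [MonoidHom.mul_apply, MonoidHom.mul_apply, hd t a, map_mul l (d t a) a, map_mul μ (d t a) a] at h5
      refine mul_right_cancel (b := l a * μ a) ?_
      rw [one_mul]
      exact (by simp only [f]; ac_rfl : f a * μ (d t a) * (l a * μ a) =
        l (d t a) * l a * (μ (d t a) * μ a)).trans h5
    have hdσ : ∀ s g a, d s (MulAut.conjNormal g a) = MulAut.conjNormal g (d s a) := fun s g a => by
      simp only [d, map_mul, map_inv, hσc]
    have hfinv : ∀ g a, f (MulAut.conjNormal g a) = f a := by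
      let F : Subgroup G :=
        { carrier := {g | ∀ a, f (MulAut.conjNormal g a) = f a}
          one_mem' := fun a => by simp
          mul_mem' := fun {g h} hg hh a => by rw [map_mul, MulAut.mul_apply, hg, hh]
          inv_mem' := fun {g} hg a => by
            conv_rhs => rw [← MulAut.apply_inv_self A (MulAut.conjNormal g) a, hg]
            rw [map_inv] }
      have h1 : A ≤ F := fun g hg a => by rw [mul_inv_eq_one.1 (hdmemA g hg a)]
      have h2 : m ∈ F := fun a => by simp only [f, hdσ]; exact hm _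
      have h3 : n ∈ F := fun a => by
        rw [eq_inv_of_mul_eq_one_left (hfμ (MulAut.conjNormal n a)), eq_inv_of_mul_eq_one_left (hfμ a),
          hdσ, hn]
      exact fun g => (hgen m n hmA hnm ▸ sup_le (sup_le h1 (Subgroup.zpowers_le.2 h2))
        (Subgroup.zpowers_le.2 h3) : (⊤ : Subgroup G) ≤ F) (Subgroup.mem_top g)
    have hf1 : ∀ g a, f (d g a) = 1 := fun g a => by
      have h5 := hfinv g a
      rw [hd g a] at h5
      simp only [f, hdmul, map_mul] at h5 ⊢
      exact mul_eq_right.1 h5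
    let Γ : Subgroup G :=
      { carrier := {g | ∃ i : ℤ, ∀ a, l (MulAut.conjNormal g a) = f a ^ i * l a}
        one_mem' := ⟨0, fun a => by simp⟩
        mul_mem' := by
          rintro g h ⟨i, hi⟩ ⟨j, hj⟩
          refine ⟨i + j, fun a => ?_⟩
          rw [map_mul, MulAut.mul_apply, hi, hfinv, hj, zpow_add, mul_assoc]
        inv_mem' := by
          rintro g ⟨i, hi⟩
          refine ⟨-i, fun a => ?_⟩
          have := hi (MulAut.conjNormal g⁻¹ a)
          rw [← MulAut.mul_apply, ← map_mul, mul_inv_cancel, map_one, MulAut.one_apply, hfinv] at this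
          rw [zpow_neg, eq_inv_mul_iff_mul_eq]
          exact this.symm }
    have htΓ : t ∈ Γ := ⟨1, fun a => by rw [zpow_one, hd t a, map_mul]⟩
    have hΓ : ∀ g, g ∈ Γ := fun g => (hgen m t hmA htm ▸ sup_le (sup_le
      (fun g hg => ⟨0, fun a => by rw [mul_inv_eq_one.1 (hdmemA g hg a), zpow_zero, one_mul]⟩)
      (Subgroup.zpowers_le.2 ⟨0, fun a => by rw [hm a, zpow_zero, one_mul]⟩))
      (Subgroup.zpowers_le.2 htΓ) : (⊤ : Subgroup G) ≤ Γ) (Subgroup.mem_top g)
    have hfp : ∀ a, f a ^ p = 1 := by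
      intro a
      have hk : ∀ k : ℕ, l (MulAut.conjNormal (t ^ k) a) = f a ^ k * l a := by
        intro k
        induction k with
        | zero => simp
        | succ k ih =>
          rw [pow_succ', map_mul, MulAut.mul_apply, hd t (MulAut.conjNormal (t ^ k) a), map_mul, ih,
            pow_succ', mul_assoc]
          exact congrArg (· * (f a ^ k * l a)) (hfinv _ a)
      have h5 := hk p
      rw [mul_inv_eq_one.1 (hdmemA _ (hpow t) a)] at h5
      exact mul_eq_right.1 h5.symm
    intro g k a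
    obtain ⟨i, hi⟩ := hΓ g
    have hl : ∀ a, l (d g a) = f a ^ i := fun a => by
      rw [map_mul, map_inv, hi, mul_inv_cancel_right]
    refine ⟨by rw [hl, hf1, one_zpow], ?_⟩
    rw [hl, ← zpow_natCast, ← zpow_mul, mul_comm, zpow_mul, zpow_natCast, hfp, one_zpow]
  have hone : ∀ x : A, (∀ l : A →* ℂˣ, l x = 1) → x = 1 := fun x h => by
    by_contra hx
    obtain ⟨l, -, hl⟩ := exists_hom_ne_one_of_not_mem habA ⊥ (s := x) hx
    exact hl (h l)
  have hdc : ∀ g k a, d g (d k a) = 1 := fun g k a => hone _ fun l => (key l g k a).1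
  have hdp : ∀ g a, d g a ^ p = 1 := fun g a => hone _ fun l => by rw [map_pow]; exact (key l g g a).2
  have hdg : ∀ g k a, d (g * k) a = d g a * d k a := fun g k a => by
    simp only [d, map_mul, MulAut.mul_apply]
    rw [hd k a, map_mul, hd g (d k a), hdc, one_mul, hd g a]
    simp [mul_comm, mul_left_comm, ← mul_assoc]
  -- generators
  obtain ⟨x, -, hx⟩ := SetLike.exists_of_lt (lt_top_iff_ne_top.2 fun h : A = ⊤ => by
    rw [h, Subgroup.index_top] at hidx
    have := Nat.one_lt_pow two_ne_zero hp.one_lt; omega)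
  have hxtop : A ⊔ Subgroup.zpowers x ≠ ⊤ := by
    intro h
    have hz : Subgroup.zpowers (x : G ⧸ A) = ⊤ := by
      rw [eq_top_iff]
      rintro q -
      obtain ⟨g, rfl⟩ := QuotientGroup.mk'_surjective A q
      have : (⊤ : Subgroup G) ≤ (Subgroup.zpowers (x : G ⧸ A)).comap (QuotientGroup.mk' A) :=
        h ▸ sup_le (fun a ha => by
            show QuotientGroup.mk' A a ∈ Subgroup.zpowers (x : G ⧸ A)
            rw [show QuotientGroup.mk' A a = 1 from (QuotientGroup.eq_one_iff a).2 ha]
            exact one_mem _)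
          (Subgroup.zpowers_le.2 (Subgroup.mem_zpowers (x : G ⧸ A)))
      exact this (Subgroup.mem_top g)
    have h3 : orderOf (x : G ⧸ A) = p ^ 2 := by
      rw [← hidx, Subgroup.index_eq_card, ← Nat.card_zpowers, hz, Subgroup.card_top]
    have h4 : orderOf (x : G ⧸ A) ∣ p :=
      orderOf_dvd_of_pow_eq_one (by rw [← QuotientGroup.mk_pow, QuotientGroup.eq_one_iff]; exact hpow x)
    rw [h3] at h4
    have := Nat.le_of_dvd hp.pos h4
    nlinarith [hp.two_le]
  obtain ⟨y, -, hy⟩ := SetLike.exists_of_lt (lt_top_iff_ne_top.2 hxtop)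
  let D : G → (A →* A) := fun g => MonoidHom.mk' (d g) (hdmul g)
  have hDone : ∀ a, d 1 a = 1 := fun a => by simp [d]
  have hDz : ∀ g (i : ℤ) a, d (g ^ i) a = d g a ^ i := fun g i a => by
    let e : G →* A := MonoidHom.mk' (fun k => d k a) fun k k' => hdg k k' a
    exact map_zpow e g i
  have hrep : ∀ m : G, ∃ i j : ℤ, ∀ a, d m a = d x a ^ i * d y a ^ j := by
    let R : Subgroup G :=
      { carrier := {m | ∃ i j : ℤ, ∀ a, d m a = d x a ^ i * d y a ^ j}
        one_mem' := ⟨0, 0, fun a => by simp [hDone]⟩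
        mul_mem' := by
          rintro g h ⟨i, j, hg⟩ ⟨i', j', hh⟩
          exact ⟨i + i', j + j', fun a => by rw [hdg, hg, hh, zpow_add, zpow_add]; ac_rfl⟩
        inv_mem' := by
          rintro g ⟨i, j, hg⟩
          refine ⟨-i, -j, fun a => ?_⟩
          have := hDz g (-1) a
          rw [zpow_neg_one, zpow_neg_one] at this
          rw [this, hg, zpow_neg, zpow_neg, mul_inv] }
    exact fun m => (hgen x y hx hy ▸ sup_le (sup_le
      (fun g hg => ⟨0, 0, fun a => by simp [hdmemA g hg a]⟩)
      (Subgroup.zpowers_le.2 ⟨1, 0, fun a => by simp⟩))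
      (Subgroup.zpowers_le.2 ⟨0, 1, fun a => by simp⟩) : (⊤ : Subgroup G) ≤ R) (Subgroup.mem_top m)
  -- two independent elements have the same kernel
  have hker : ∀ u v : G, u ∉ A → v ∉ A ⊔ Subgroup.zpowers u → ∀ s, d u s = 1 → d v s = 1 := by
    intro u v hu hv s hs
    by_contra hvs
    obtain ⟨t, ht⟩ := hcent u hu
    have hz1 : d u t ≠ 1 := fun h => ht (mul_inv_eq_one.1 h)
    obtain ⟨l₂, -, hl₂⟩ := exists_hom_ne_one_of_not_mem habA ⊥ (s := d v s) hvs
    obtain ⟨l₁, -, hl₁⟩ := exists_hom_ne_one_of_not_mem habA ⊥ (s := d u t) hz1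
    have himp : ∀ l : A →* ℂˣ, l (d v s) ≠ 1 → l (d u t) = 1 := by
      intro l hl
      obtain ⟨m, hm, hml⟩ := hfix l
      have hu' : u ∈ St l := by
        refine hline u m hu hm ?_ _ (hASt l) hml
        have hw : m ∈ A ⊔ Subgroup.zpowers u ⊔ Subgroup.zpowers v := by
          rw [hgen u v hu hv]; exact Subgroup.mem_top m
        rw [Subgroup.mem_sup_of_normal_left (hs := Subgroup.Normal.mk fun n hn g => by
          simpa using (A ⊔ Subgroup.zpowers u).mul_mem
            (Subgroup.mem_sup_left (hQ g n) : g * n * g⁻¹ * n⁻¹ ∈ _) hn)] at hw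
        obtain ⟨w, hwA, _, ⟨j, rfl⟩, rfl⟩ := hw
        have hws : d w s = 1 := by
          let E : Subgroup G :=
            { carrier := {g | d g s = 1}
              one_mem' := hDone s
              mul_mem' := fun {g h} (hg : d g s = 1) (hh : d h s = 1) => show d (g * h) s = 1 by
                rw [hdg, hg, hh, one_mul]
              inv_mem' := fun {g} (hg : d g s = 1) => show d g⁻¹ s = 1 by
                have := hDz g (-1) s
                rw [zpow_neg_one, zpow_neg_one, hg, inv_one] at this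
                exact this }
          exact (sup_le (fun g hg => hdmemA g hg s) (Subgroup.zpowers_le.2 hs) :
            A ⊔ Subgroup.zpowers u ≤ E) hwA
        have h5 : l (d v s) ^ j = 1 := by
          have h6 := hml s
          rw [hd, map_mul, hdg, hws, one_mul, hDz, map_zpow] at h6
          exact mul_eq_right.1 h6
        have h7 : (p : ℤ) ∣ j := by
          have h8 : orderOf (l (d v s)) = p :=
            @orderOf_eq_prime _ _ _ p ⟨hp⟩ (by rw [← map_pow, hdp, map_one]) hl
          exact h8 ▸ orderOf_dvd_iff_zpow_eq_one.2 h5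
        obtain ⟨k, rfl⟩ := h7
        refine Subgroup.mul_mem _ hwA (Subgroup.mem_sup_left ?_)
        show v ^ ((p : ℤ) * k) ∈ A
        rw [zpow_mul, zpow_natCast]
        exact A.zpow_mem (hpow v) k
      rw [map_mul, map_inv, hu' t, mul_inv_cancel]
    have h3 : l₁ (d v s) = 1 := by_contra fun h => hl₁ (himp l₁ h)
    exact hl₁ (by
      have h4 := himp (l₁ * l₂) (by rwa [MonoidHom.mul_apply, h3, one_mul])
      rwa [MonoidHom.mul_apply, himp l₂ hl₂, mul_one] at h4)
  have hxy : x ∉ A ⊔ Subgroup.zpowers y := fun h => by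
    refine hy ?_
    have hyA : y ∉ A := fun hyA => hy (Subgroup.mem_sup_left hyA)
    exact hline y x hyA hx h _ le_sup_left (Subgroup.mem_sup_right (Subgroup.mem_zpowers x))
  have hyA : y ∉ A := fun hyA => hy (Subgroup.mem_sup_left hyA)
  set C := (D x).ker
  have hCy : ∀ s, s ∈ C ↔ d y s = 1 := fun s =>
    ⟨hker x y hx hy s, hker y x hyA hxy s⟩
  obtain ⟨t, ht⟩ : ∃ t, t ∉ C := by
    obtain ⟨t, ht⟩ := hcent x hx
    exact ⟨t, fun h => ht (mul_inv_eq_one.1 h)⟩
  have hzy : d y t ≠ 1 := fun h => ht ((hCy t).2 h)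
  have hind : d y t ∉ Subgroup.zpowers (d x t) := by
    rintro ⟨k, hk⟩
    have hm0 : d (x ^ (-k) * y) t = 1 := by
      rw [hdg, hDz, zpow_neg, show d x t ^ k = d y t from hk, inv_mul_cancel]
    have hmA : x ^ (-k) * y ∉ A ⊔ Subgroup.zpowers x := fun h => hy (by
      have := Subgroup.mul_mem _ (Subgroup.zpow_mem _ (Subgroup.mem_sup_right
        (Subgroup.mem_zpowers x) : x ∈ A ⊔ Subgroup.zpowers x) k) h
      rwa [← mul_assoc, ← zpow_add, add_neg_cancel, zpow_zero, one_mul] at this)
    have hmA' : x ^ (-k) * y ∉ A := fun h => hmA (Subgroup.mem_sup_left h)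
    refine ht (hker _ x hmA' (fun h => ?_) t hm0)
    exact hmA (hline _ x hmA' hx h _ le_sup_left (Subgroup.mem_sup_right (Subgroup.mem_zpowers x)))
  have hcover : ∀ s : A, ∃ i : ℤ, s * t ^ i ∈ C := by
    intro s
    have hmem : d x s ∈ Subgroup.zpowers (d x t) := by
      by_contra hns
      obtain ⟨l, hlz, hls⟩ := exists_hom_ne_one_of_not_mem habA _ hns
      obtain ⟨l', hlz', hly⟩ := exists_hom_ne_one_of_not_mem habA _ hind
      -- every character killing `d x t` but not `d y t` kills `d x s`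
      have himp : ∀ l : A →* ℂˣ, l (d x t) = 1 → l (d y t) ≠ 1 → l (d x s) = 1 := by
        intro l h1 h2
        obtain ⟨m, hm, hml⟩ := hfix l
        obtain ⟨i, j, hij⟩ := hrep m
        have h5 : l (d y t) ^ j = 1 := by
          have h6 := hml t
          rw [hd, map_mul, hij, map_mul, map_zpow, map_zpow, h1, one_zpow, one_mul] at h6
          exact mul_eq_right.1 h6
        have hp' : ∀ a, d y a ^ j = 1 := by
          intro a
          have h8 : orderOf (l (d y t)) = p :=
            @orderOf_eq_prime _ _ _ p ⟨hp⟩ (by rw [← map_pow, hdp, map_one]) h2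
          obtain ⟨k, rfl⟩ : (p : ℤ) ∣ j := h8 ▸ orderOf_dvd_iff_zpow_eq_one.2 h5
          rw [zpow_mul, zpow_natCast, hdp, one_zpow]
        have hdm : ∀ a, d m a = d x a ^ i := fun a => by rw [hij, hp', mul_one]
        have h9 : l (d x s) ^ i = 1 := by
          have h6 := hml s
          rw [hd, map_mul, hdm, map_zpow] at h6
          exact mul_eq_right.1 h6
        by_contra hls'
        have h8 : orderOf (l (d x s)) = p :=
          @orderOf_eq_prime _ _ _ p ⟨hp⟩ (by rw [← map_pow, hdp, map_one]) hls'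
        obtain ⟨k, rfl⟩ : (p : ℤ) ∣ i := h8 ▸ orderOf_dvd_iff_zpow_eq_one.2 h9
        obtain ⟨a, ha⟩ := hcent m hm
        exact ha (mul_inv_eq_one.1 ((hdm a).trans (by rw [zpow_mul, zpow_natCast, hdp, one_zpow])))
      have hz : d x t ∈ Subgroup.zpowers (d x t) := Subgroup.mem_zpowers _
      have hly1 : l (d y t) = 1 := by_contra fun h => hls (himp l (hlz _ hz) h)
      refine hls ?_
      have h10 := himp (l * l') (by rw [MonoidHom.mul_apply, hlz _ hz, hlz' _ hz, one_mul])
        (by rwa [MonoidHom.mul_apply, hly1, one_mul])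
      rwa [MonoidHom.mul_apply, himp l' (hlz' _ hz) hly, mul_one] at h10
    obtain ⟨i, hi⟩ := hmem
    refine ⟨-i, ?_⟩
    show D x (s * t ^ (-i)) = 1
    rw [map_mul, map_zpow]
    show d x s * d x t ^ (-i) = 1
    rw [show d x s = d x t ^ i from hi.symm, ← zpow_add, add_neg_cancel, zpow_zero]
  -- the index of `C` in `A`
  have hCi : C.index = p := by
    rw [Subgroup.index_ker]
    have : (D x).range = Subgroup.zpowers (d x t) := by
      refine le_antisymm ?_ (Subgroup.zpowers_le.2 ⟨t, rfl⟩)
      rintro _ ⟨s, rfl⟩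
      obtain ⟨i, hi⟩ := hcover s
      have h : D x s * d x t ^ i = 1 := by
        have h' : D x (s * t ^ i) = 1 := hi
        rwa [map_mul, map_zpow] at h'
      rw [eq_inv_of_mul_eq_one_left h]
      exact Subgroup.inv_mem _ ⟨i, rfl⟩
    rw [this, Nat.card_zpowers]
    exact @orderOf_eq_prime _ _ _ p ⟨hp⟩ (hdp x t) (fun h => ht h)
  -- `C` is central
  have hCc : C.map A.subtype ≤ Subgroup.center G := by
    rintro _ ⟨c, hc, rfl⟩
    refine Subgroup.mem_center_iff.2 fun g => ?_
    obtain ⟨i, j, hij⟩ := hrep g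
    have h : d g c = 1 := by
      rw [hij, show d x c = 1 from hc, (hCy c).1 hc, one_zpow, one_zpow, mul_one]
    have h2 : g * (c : G) * g⁻¹ = c := congrArg Subtype.val (mul_inv_eq_one.1 h)
    exact mul_inv_eq_iff_eq_mul.1 h2
  have hi3 : (C.map A.subtype).index = p ^ 3 := by
    rw [Subgroup.index_map_subtype, hCi, hidx, ← pow_succ']
  exact hi3 ▸ Subgroup.index_dvd_of_le hCc

end Cfsg.Agent.Char
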