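import Cfsg.Agent.Char.Ortho

/-!
# Representations with equal characters are equivalent
-/

namespace Cfsg.Agent.Char

open Module

universe u v w

variable {G : Type u} [Group G] [Finite G]

theorem exists_irreducible_sub {V : Type v} [AddCommGroup V] [Module ℂ V] [FiniteDimensional ℂ V]
    (ρ : Representation ℂ G V) [Nontrivial V] :
    ∃ S : Subrepresentation ρ, S.toRepresentation.IsIrreducible := by
  classical
  have hex : ∃ n, ∃ S : Subrepresentation ρ, S.toSubmodule ≠ ⊥ ∧ finrank ℂ S.toSubmodule = n :=
    ⟨_, ⊤, top_ne_bot, rfl⟩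
  obtain ⟨S, hS0, hSn⟩ := Nat.find_spec hex
  refine ⟨S, isIrreducible_iff.2 ⟨Submodule.nontrivial_iff_ne_bot.2 hS0, fun U hU => ?_⟩⟩
  by_cases hU0 : U = ⊥
  · exact Or.inl hU0
  right
  let S' : Subrepresentation ρ := ⟨U.map S.toSubmodule.subtype, by
    rintro g _ ⟨x, hx, rfl⟩
    exact ⟨S.toRepresentation g x, hU g x hx, rfl⟩⟩
  have hcard : finrank ℂ S'.toSubmodule = finrank ℂ U :=
    (Submodule.equivMapOfInjective _ S.toSubmodule.injective_subtype U).finrank_eq.symm
  have hne : S'.toSubmodule ≠ ⊥ := fun h => hU0
    (Submodule.map_injective_of_injective S.toSubmodule.injective_subtype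
      (h.trans (Submodule.map_bot _).symm))
  have hle := Nat.find_le (h := hex) ⟨S', hne, rfl⟩
  rw [← hSn, hcard] at hle
  exact Submodule.eq_top_of_finrank_eq (le_antisymm U.finrank_le hle)

omit [Finite G] in
theorem character_of_subsingleton {V : Type v} [AddCommGroup V] [Module ℂ V] [Subsingleton V]
    (ρ : Representation ℂ G V) : ρ.character = 0 := by
  funext g
  show LinearMap.trace ℂ V (ρ g) = 0
  rw [Subsingleton.elim (ρ g) 0, map_zero]

/-- Representations with the same character are equivalent. -/
theorem nonempty_equiv_of_character_eq {V : Type v} {W : Type w} [AddCommGroup V] [Module ℂ V]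
    [FiniteDimensional ℂ V] [AddCommGroup W] [Module ℂ W] [FiniteDimensional ℂ W]
    (ρ : Representation ℂ G V) (σ : Representation ℂ G W) (h : ρ.character = σ.character) :
    ∃ e : V ≃ₗ[ℂ] W, ∀ g v, e (ρ g v) = σ g (e v) := by
  have := Fintype.ofFinite G
  suffices H : ∀ (n : ℕ) (V : Type v) [AddCommGroup V] [Module ℂ V] [FiniteDimensional ℂ V]
      (W : Type w) [AddCommGroup W] [Module ℂ W] [FiniteDimensional ℂ W]
      (ρ : Representation ℂ G V) (σ : Representation ℂ G W),
      finrank ℂ V = n → ρ.character = σ.character →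
      ∃ e : V ≃ₗ[ℂ] W, ∀ g v, e (ρ g v) = σ g (e v) from H _ V W ρ σ rfl h
  intro n
  induction n using Nat.strong_induction_on with
  | _ n ih =>
    intro V _ _ _ W _ _ _ ρ σ hn h
    have hdim : finrank ℂ V = finrank ℂ W := by
      have := congrFun h 1
      rw [ρ.char_one, σ.char_one] at this
      exact_mod_cast this
    rcases subsingleton_or_nontrivial V with hV | hV
    · have hW : Subsingleton W := finrank_zero_iff.1 (hdim.symm.trans (finrank_zero_of_subsingleton))
      exact ⟨LinearEquiv.ofSubsingleton V W, fun g v => Subsingleton.elim _ _⟩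
    obtain ⟨S, hS⟩ := exists_irreducible_sub ρ
    let ι : Representation.IntertwiningMap S.toRepresentation ρ :=
      ⟨S.toSubmodule.subtype, fun g => rfl⟩
    have hne : classInner σ.character S.toRepresentation.character ≠ 0 := by
      rw [← h, classInner_character_eq_finrank, Nat.cast_ne_zero]
      obtain ⟨hnt, -⟩ := isIrreducible_iff.1 hS
      refine Nat.pos_iff_ne_zero.1 (Module.finrank_pos_iff_exists_ne_zero.2 ⟨ι, fun h0 => ?_⟩)
      obtain ⟨x, hx⟩ := exists_ne (0 : S.toSubmodule)
      exact hx (Subtype.ext (LinearMap.congr_fun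
        (congrArg Representation.IntertwiningMap.toLinearMap h0) x))
    rw [classInner_character_eq_finrank, Nat.cast_ne_zero] at hne
    obtain ⟨f, hf⟩ := Module.finrank_pos_iff_exists_ne_zero.1 (Nat.pos_of_ne_zero hne)
    have : S.toRepresentation.IsIrreducible := hS
    have hinj : Function.Injective f :=
      (Representation.IsIrreducible.injective_or_eq_zero f).resolve_right hf
    let S' : Subrepresentation σ := f.range
    have : NeZero (Nat.card G : ℂ) := ⟨Nat.cast_ne_zero.2 Nat.card_pos.ne'⟩
    obtain ⟨T, hT⟩ := exists_isCompl S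
    obtain ⟨T', hT'⟩ := exists_isCompl S'
    have hc : IsCompl S.toSubmodule T.toSubmodule := by
      constructor
      · rw [disjoint_iff]; exact congrArg Subrepresentation.toSubmodule (disjoint_iff.1 hT.1)
      · rw [codisjoint_iff]; exact congrArg Subrepresentation.toSubmodule (codisjoint_iff.1 hT.2)
    have hc' : IsCompl S'.toSubmodule T'.toSubmodule := by
      constructor
      · rw [disjoint_iff]; exact congrArg Subrepresentation.toSubmodule (disjoint_iff.1 hT'.1)
      · rw [codisjoint_iff]; exact congrArg Subrepresentation.toSubmodule (codisjoint_iff.1 hT'.2)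
    let e₁ : S.toSubmodule ≃ₗ[ℂ] S'.toSubmodule := LinearEquiv.ofInjective f.toLinearMap hinj
    have he₁ : ∀ g x, e₁ (S.toRepresentation g x) = S'.toRepresentation g (e₁ x) := fun g x =>
      Subtype.ext (f.isIntertwining S.toRepresentation σ g x)
    have hchar : T.toRepresentation.character = T'.toRepresentation.character := by
      have h1 := character_eq_add_of_isCompl ρ S T hc
      have h2 := character_eq_add_of_isCompl σ S' T' hc'
      have h3 : S.toRepresentation.character = S'.toRepresentation.character := by
        funext g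
        show LinearMap.trace ℂ _ (S.toRepresentation g) = LinearMap.trace ℂ _ (S'.toRepresentation g)
        rw [← LinearMap.trace_conj' (S.toRepresentation g) e₁]
        congr 1
        refine LinearMap.ext fun y => ?_
        rw [LinearEquiv.conj_apply_apply, he₁, LinearEquiv.apply_symm_apply]
      rw [h1, h2, h3] at h
      exact add_left_cancel h
    have hlt : finrank ℂ T.toSubmodule < n := by
      have := Submodule.finrank_add_eq_of_isCompl hc
      obtain ⟨hnt, -⟩ := isIrreducible_iff.1 hS
      have : 0 < finrank ℂ S.toSubmodule := finrank_pos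
      omega
    obtain ⟨e₂, he₂⟩ := ih _ hlt T.toSubmodule T'.toSubmodule T.toRepresentation
      T'.toRepresentation rfl hchar
    let p := Submodule.prodEquivOfIsCompl _ _ hc
    let p' := Submodule.prodEquivOfIsCompl _ _ hc'
    refine ⟨p.symm.trans ((e₁.prodCongr e₂).trans p'), fun g v => ?_⟩
    obtain ⟨⟨x, y⟩, rfl⟩ := p.surjective v
    have hp : ρ g (p (x, y)) = p (S.toRepresentation g x, T.toRepresentation g y) := by
      simp [p, Subrepresentation.toRepresentation]
    rw [hp]
    simp only [LinearEquiv.trans_apply, LinearEquiv.symm_apply_apply, LinearEquiv.prodCongr_apply]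
    rw [he₁, he₂]
    simp [p', Subrepresentation.toRepresentation]

end Cfsg.Agent.Char
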