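import Mathlib
import Cfsg.Agent.Char.NormalAbelianSylow
import Cfsg.Agent.Char.PResidualCount
import Cfsg.Agent.Char.Monomial
import Cfsg.Agent.Char.Iso
import Cfsg.Agent.CharArith.Central
import Cfsg.Agent.Char.UniqueDivisible
import Cfsg.Agent.Char.DerivedPrime
import Cfsg.Agent.S0865

/-!
# Groups with exactly two character degrees
-/

namespace Cfsg.Agent.Char

open scoped ComplexConjugate commutatorElement

universe u

variable {G : Type u} [Group G] [Finite G]

/-- The kernel of a linear character contains the commutator subgroup. -/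
theorem linear_apply_commutator {χ : G → ℂ} (h : IsCharacter G χ) (h1 : χ 1 = 1) {z : G}
    (hz : z ∈ commutator G) : χ z = 1 := by
  obtain ⟨f, hf⟩ := IsChar.exists_hom h h1
  rw [hf]
  show ((f z : ℂˣ) : ℂ) = 1
  rw [hom_commutator_eq_one f hz, Units.val_one]

/-- A subgroup of index at most the least nonlinear degree contains the commutator subgroup. -/
theorem commutator_le_of_index_le [Fintype G] (m : ℕ)
    (hcd : ∀ χ : G → ℂ, IsIrrCharacter G χ → χ 1 = 1 ∨ χ 1 = m)
    (H : Subgroup G) (hH : H.index ≤ m) : commutator G ≤ H := by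
  classical
  intro z hz
  have := Fintype.ofFinite H
  set π : G → ℂ := indFun H (fun _ => (1 : ℂ))
  have hπ : IsCharacter G π := isCharacter_indFun H isCharacter_one
  have hπ1 : π 1 = (H.index : ℂ) := by
    show indFun H _ 1 = _
    rw [indFun_apply_one, mul_one]
  have htriv : classInner π (fun _ : G => (1 : ℂ)) = 1 := by
    show classInner (indFun H _) _ = 1
    rw [classInner_indFun_left H _ (isClassFunction_of_isIrr isIrrCharacter_one)]
    exact classInner_irr_self isIrrCharacter_one
  have hlin : ∀ χ : IrrCharacter G, classInner π (χ : G → ℂ) ≠ 0 → (χ : G → ℂ) 1 = 1 := by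
    intro χ hχ
    by_cases h1 : (χ : G → ℂ) = fun _ => 1
    · rw [h1]
    refine (hcd χ χ.2).resolve_right fun hm => ?_
    have h2 := IsChar.sub_constituent hπ isIrrCharacter_one (by rw [htriv]; exact one_ne_zero)
    have h3 : classInner (π - fun _ => (1 : ℂ)) (χ : G → ℂ) ≠ 0 := by
      rw [classInner_sub_left, classInner_irr_ne isIrrCharacter_one χ.2 (Ne.symm h1), sub_zero]
      exact hχ
    have h4 := IsChar.constituent_degree_le h2 χ.2 h3
    rw [hm, Pi.sub_apply, hπ1, Complex.sub_re, Complex.natCast_re, Complex.natCast_re,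
      Complex.one_re] at h4
    have : (H.index : ℝ) ≤ m := Nat.cast_le.2 hH
    linarith
  have hexp := classFun_expansion (isClassFunction_of_isCharacter hπ)
  have hval : π z = π 1 := by
    have e1 := congrFun hexp z
    have e2 := congrFun hexp 1
    simp only [Finset.sum_apply, Pi.smul_apply, smul_eq_mul] at e1 e2
    rw [e1, e2]
    refine Finset.sum_congr rfl fun χ _ => ?_
    by_cases h0 : classInner π (χ : G → ℂ) = 0
    · rw [h0, zero_mul, zero_mul]
    · rw [linear_apply_commutator (IsIrr.isCharacter χ.2) (hlin χ h0) hz, hlin χ h0]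
  rw [hπ1] at hval
  by_contra hzH
  have hz0 : ∀ x : G, (extendByZero H (fun _ => (1 : ℂ)) (x⁻¹ * z * x)).re ≤ 1 := fun x => by
    by_cases hx : x⁻¹ * z * x ∈ H
    · rw [extendByZero_of_mem H _ hx, Complex.one_re]
    · rw [extendByZero_of_not_mem H _ hx, Complex.zero_re]; norm_num
  have hlt : ∑ x : G, (extendByZero H (fun _ => (1 : ℂ)) (x⁻¹ * z * x)).re < ∑ _x : G, (1 : ℝ) :=
    Finset.sum_lt_sum (fun x _ => hz0 x) ⟨1, Finset.mem_univ _, by
      rw [extendByZero_of_not_mem H _ (by simpa using hzH), Complex.zero_re]; norm_num⟩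
  have hval' := congrArg Complex.re hval
  rw [show π z = _ from indFun_apply H _ z, Complex.natCast_re, ← Complex.ofReal_natCast,
    ← Complex.ofReal_inv, Complex.re_ofReal_mul, Complex.re_sum] at hval'
  rw [Finset.sum_const, Finset.card_univ, nsmul_eq_mul, mul_one, ← Nat.card_eq_fintype_card,
    ← Subgroup.card_mul_index H, Nat.cast_mul, ← hval', ← mul_assoc,
    mul_inv_cancel₀ (Nat.cast_ne_zero.2 Nat.card_pos.ne'), one_mul] at hlt
  exact lt_irrefl _ hlt

/-- Groups with character degrees `1` and `m`. -/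
theorem two_degrees_general [Fintype G] {m : ℕ} (hm : 1 < m)
    (hcd : ∀ χ : G → ℂ, IsIrrCharacter G χ → χ 1 = 1 ∨ χ 1 = m)
    (hex : ∃ χ : G → ℂ, IsIrrCharacter G χ ∧ χ 1 = m) :
    (∃ A : Subgroup G, A.Normal ∧ (∀ a ∈ A, ∀ b ∈ A, a * b = b * a) ∧ A.index = m) ∨
      ∃ p e : ℕ, p.Prime ∧ m = p ^ e ∧ ∃ P A : Subgroup G, P.Normal ∧ A.Normal ∧ IsPGroup p P ∧
        (∀ a ∈ A, ∀ b ∈ A, a * b = b * a) ∧ P ⊓ A = ⊥ ∧ P ⊔ A = ⊤ := by
  classical
  -- degrees of normal subgroups
  let L : Subgroup G := ⨅ p ∈ m.primeFactors, Cfsg.pResidual p G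
  have hLle : ∀ p ∈ m.primeFactors, L ≤ Cfsg.pResidual p G := fun p hp => iInf₂_le p hp
  have hLn : L.Normal := Subgroup.normal_iInf_normal fun p => Subgroup.normal_iInf_normal fun _ => inferInstance
  have := Fintype.ofFinite L
  have hLcop : ∀ p ∈ m.primeFactors, ¬ p ∣ Nat.card L := by
    intro p hp h
    have hpp := Nat.prime_of_mem_primeFactors hp
    refine not_dvd_card_pResidual hpp (fun χ hχ => ?_) (h.trans (Subgroup.card_dvd_of_le (hLle p hp)))
    have h1 := charDegree_spec' χ
    rcases hcd χ χ.2 with h2 | h2 <;> rw [h1] at h2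
    · exact absurd (by exact_mod_cast h2) hχ
    · rw [Nat.cast_inj] at h2
      exact h2 ▸ Nat.dvd_of_mem_primeFactors hp
  have hidx : ∀ q : ℕ, q.Prime → q ∣ L.index → q ∈ m.primeFactors := by
    intro q hq hqi
    by_contra hqm
    have := Fact.mk hq
    obtain ⟨Q⟩ : Nonempty (Sylow q G) := inferInstance
    refine Q.not_dvd_index (hqi.trans (Subgroup.index_dvd_of_le ?_))
    refine le_iInf₂ fun p hp x hx => Subgroup.subset_closure ?_
    obtain ⟨k, hk⟩ := Q.isPGroup' ⟨x, hx⟩
    have hk' : x ^ q ^ k = 1 := congrArg Subtype.val hk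
    show (orderOf x).Coprime p
    refine Nat.Coprime.coprime_dvd_left (orderOf_dvd_of_pow_eq_one hk') ?_
    exact (Nat.coprime_primes hq (Nat.prime_of_mem_primeFactors hp)).2 (fun e => hqm (e ▸ hp)) |>.pow_left _
  have hcop : (Nat.card L).Coprime L.index :=
    Nat.coprime_of_dvd fun q hq h1 h2 => hLcop q (hidx q hq h2) h1
  have hLab : ∀ a ∈ L, ∀ b ∈ L, a * b = b * a := by
    intro a ha b hb
    refine congrArg Subtype.val (forall_degree_one_iff.1 (fun θ : IrrCharacter L => ?_) ⟨a, ha⟩ ⟨b, hb⟩)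
    obtain ⟨χ, hχ⟩ := exists_over L θ
    obtain ⟨k, hk, -⟩ := ProjExt.exists_ratio_dvd_index χ.2 θ.2 hχ
    obtain ⟨d, hd0, hd⟩ := IsIrr.degree θ.2
    have hdvd := CharArith.charDegree_dvd_card θ.2
    rw [charDegree_eq_natCast hd] at hdvd
    rcases hcd χ χ.2 with h | h <;> rw [h, hd] at hk
    · have h2 : 1 = k * d := by exact_mod_cast hk
      rw [hd, Nat.eq_one_of_mul_eq_one_left h2.symm, Nat.cast_one]
    · have h2 : m = k * d := by exact_mod_cast hk
      by_contra hne
      obtain ⟨q, hq, hqd⟩ := Nat.exists_prime_and_dvd (n := d) (fun e => hne (by rw [hd, e, Nat.cast_one]))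
      exact hLcop q (Nat.mem_primeFactors.2 ⟨hq, hqd.trans (Dvd.intro_left k h2.symm), by omega⟩)
        (hqd.trans hdvd)
  have hLab' : ∀ a b : L, a * b = b * a := fun a b => Subtype.ext (hLab a a.2 b b.2)
  -- linear characters of `L`
  let lamC : (L →* ℂˣ) → IrrCharacter L := fun l => ⟨fun a => (l a : ℂ),
    IsChar.isIrr_of_degree_one (isLinear_iff.2 ⟨l, rfl⟩).1 (isLinear_iff.2 ⟨l, rfl⟩).2⟩
  let St : (L →* ℂˣ) → Subgroup G := fun l => inertia (lamC l : L → ℂ)
  have hSt : ∀ l g, g ∈ St l ↔ ∀ a : L, l (MulAut.conjNormal g a) = l a := fun l g =>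
    ⟨fun h a => Units.ext (congrFun (mem_inertia.1 h) a),
      fun h => mem_inertia.2 (funext fun a => congrArg Units.val (h a))⟩
  have hLSt : ∀ l, L ≤ St l := fun l => le_inertia (isClassFunction_of_isIrr (lamC l).2)
  have hStle : ∀ l, (St l).index ≤ m := by
    intro l
    obtain ⟨χ, hχ⟩ := exists_over L (lamC l)
    obtain ⟨e, he⟩ := classInner_isCharacter_eq_natCast
      (isCharacter_res L (IsIrr.isCharacter χ.2)) (IsIrr.isCharacter (lamC l).2)
    have hdeg := degree_eq_of_clifford χ.2 (lamC l).2 hχ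
    rw [he, show (lamC l : L → ℂ) 1 = 1 by simp [lamC], mul_one] at hdeg
    rcases hcd χ χ.2 with h | h <;> rw [h] at hdeg
    · have h2 : 1 = e * (St l).index := by exact_mod_cast hdeg
      rw [Nat.eq_one_of_mul_eq_one_left h2.symm]; omega
    · have h2 : m = e * (St l).index := by exact_mod_cast hdeg
      exact Nat.le_of_dvd (by omega) (Dvd.intro_left e h2.symm)
  have hStc : ∀ l, commutator G ≤ St l := fun l => commutator_le_of_index_le m hcd _ (hStle l)
  have hStn : ∀ l, (St l).Normal := fun l => Subgroup.Normal.mk fun n hn g => by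
    have hc : g * n * g⁻¹ * n⁻¹ ∈ St l := hStc l (by
      rw [commutator_def]
      exact Subgroup.commutator_mem_commutator (Subgroup.mem_top g) (Subgroup.mem_top n))
    simpa using (St l).mul_mem hc hn
  -- extension to the stabiliser
  have hext : ∀ (M : Subgroup G), L ≤ M → ∀ l : L →* ℂˣ, M ≤ St l →
      ∃ μ : M →* ℂˣ, ∀ (a : L) (h : (a : G) ∈ M), μ ⟨a, h⟩ = l a := by
    intro M hLM l hMl
    have : (L.subgroupOf M).Normal := hLn.subgroupOf M
    let l' : L.subgroupOf M →* ℂˣ := l.comp (Subgroup.subgroupOfEquivOfLe hLM).toMonoidHom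
    have hcop' : Nat.Coprime (L.subgroupOf M).index (orderOf (fun a => (l' a : ℂ))) := by
      rw [ProjExt.orderOf_hom_coe]
      refine ((hcop.coprime_dvd_right (show (L.subgroupOf M).index ∣ L.index from
        Subgroup.relIndex_dvd_index_of_le hLM)).symm).coprime_dvd_right ?_
      refine (orderOf_dvd_of_pow_eq_one (MonoidHom.ext fun a => ?_)).trans
        (Nat.card_congr (Subgroup.subgroupOfEquivOfLe hLM).toEquiv).dvd
      rw [MonoidHom.pow_apply, ← map_pow, pow_card_eq_one', map_one, MonoidHom.one_apply]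
    obtain ⟨μ, ⟨hμc, hμ1, hμe, -⟩, -⟩ := S0865.result (L.subgroupOf M) (fun a => (l' a : ℂ))
      (isLinear_iff.2 ⟨l', rfl⟩) (fun g n => congrArg Units.val
        ((hSt l g).1 (hMl g.2) ⟨(n : M), n.2⟩)) hcop'
    obtain ⟨f, hf⟩ := IsChar.exists_hom hμc hμ1
    refine ⟨f, fun a h => Units.ext ?_⟩
    have := hμe ⟨⟨a, h⟩, a.2⟩
    rw [hf] at this
    exact this
  have hSti : ∀ l, St l ≠ ⊤ → (St l).index = m := by
    intro l hl
    have := hStn l
    have := Fintype.ofFinite (St l)
    obtain ⟨μ, hμ⟩ := hext (St l) (hLSt l) l le_rfl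
    have hμc := isLinear_iff.2 ⟨μ, rfl⟩
    have hirr := IsChar.isIrr_of_degree_one hμc.1 hμc.2
    have hin : inertia (fun a : St l => (μ a : ℂ)) = St l := by
      refine le_antisymm (fun g hg => (hSt l g).2 fun a => Units.ext ?_)
        (le_inertia (isClassFunction_of_isIrr hirr))
      have := congrFun (mem_inertia.1 hg) ⟨a, hLSt l a.2⟩
      rw [conjFun_apply] at this
      rw [← hμ a (hLSt l a.2), ← hμ (MulAut.conjNormal g a) (hLSt l (MulAut.conjNormal g a).2)]
      exact this
    have hi := isIrr_indFun_of_inertia hirr hin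
    rcases hcd _ hi with h | h <;> rw [indFun_apply_one, hμc.2, mul_one] at h
    · exact absurd (Subgroup.index_eq_one.1 (by exact_mod_cast h)) hl
    · exact_mod_cast h
  set C := Subgroup.centralizer (L : Set G)
  have hCn : C.Normal := Subgroup.normal_centralizer
  have hLC : L ≤ C := fun a ha => Subgroup.mem_centralizer_iff.2 fun b hb => hLab b hb a ha
  have hCiff : ∀ g, (∀ l : L →* ℂˣ, g ∈ St l) → g ∈ C := by
    intro g hg
    refine Subgroup.mem_centralizer_iff.2 fun a ha => ?_
    letI : CommGroup L := { (inferInstance : Group L) with mul_comm := hLab' }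
    have he : MulAut.conjNormal g (⟨a, ha⟩ : L) * (⟨a, ha⟩ : L)⁻¹ = 1 := by
      by_contra hne
      obtain ⟨l, hl⟩ := CommGroup.exists_apply_ne_one_of_hasEnoughRootsOfUnity L ℂ hne
      exact hl (by rw [map_mul, map_inv, (hSt l g).1 (hg l), mul_inv_cancel])
    have h2 : g * a * g⁻¹ = a := congrArg Subtype.val (mul_inv_eq_one.1 he)
    exact (mul_inv_eq_iff_eq_mul.1 h2).symm
  have hCSt : ∀ l, C ≤ St l := fun l c hc => (hSt l c).2 fun a => congrArg l (Subtype.ext (by
    show c * a * c⁻¹ = a
    rw [← Subgroup.mem_centralizer_iff.1 hc a a.2, mul_inv_cancel_right]))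
  by_cases hmoved : ∀ l, St l = ⊤
  · -- `L` is central
    right
    have hLZ : L ≤ Subgroup.center G := fun a ha => Subgroup.mem_center_iff.2 fun g =>
      (Subgroup.mem_centralizer_iff.1 (hCiff g fun l => hmoved l ▸ Subgroup.mem_top g) a ha).symm
    have hGL : ∀ a ∈ L, a ∈ commutator G → a = 1 := by
      intro a ha haG
      by_contra hne
      letI : CommGroup L := { (inferInstance : Group L) with mul_comm := hLab' }
      obtain ⟨l, hl⟩ := CommGroup.exists_apply_ne_one_of_hasEnoughRootsOfUnity L ℂ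
        (a := ⟨a, ha⟩) (fun e => hne (congrArg Subtype.val e))
      obtain ⟨μ, hμ⟩ := hext ⊤ le_top l (hmoved l).ge
      refine hl ?_
      rw [← hμ ⟨a, ha⟩ (Subgroup.mem_top _)]
      exact hom_commutator_eq_one (μ.comp Subgroup.topEquiv.symm.toMonoidHom) haG
    obtain ⟨p, hp⟩ := (Nat.nonempty_primeFactors.2 hm : m.primeFactors.Nonempty)
    have hpp := Nat.prime_of_mem_primeFactors hp
    have := Fact.mk hpp
    have honly : ∀ q ∈ m.primeFactors, q = p := by
      by_contra! hq
      obtain ⟨q, hq, hqp⟩ := hq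
      have hle : ∀ r ∈ m.primeFactors, commutator G ≤ Cfsg.pResidual r G := by
        intro r hr z hz
        have hrp := Nat.prime_of_mem_primeFactors hr
        rw [← QuotientGroup.eq_one_iff]
        have := Fact.mk hrp
        obtain ⟨k, hk⟩ := Fusion.index_pResidual_eq_pow (G := G) (p := r)
        refine eq_one_of_forall_irr fun θ => ?_
        have := Fintype.ofFinite (G ⧸ Cfsg.pResidual r G)
        have hinf := isIrrCharacter_comp (QuotientGroup.mk' (Cfsg.pResidual r G))
          (QuotientGroup.mk'_surjective _) θ.2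
        obtain ⟨d, hd0, hd⟩ := IsIrr.degree θ.2
        have hdvd := CharArith.charDegree_dvd_card θ.2
        rw [charDegree_eq_natCast hd, ← Subgroup.index_eq_card, hk] at hdvd
        obtain ⟨i, -, rfl⟩ := (Nat.dvd_prime_pow hrp).1 hdvd
        rcases hcd _ hinf with h | h
        · have h2 := linear_apply_commutator (IsIrr.isCharacter hinf) h hz
          rw [← map_one (QuotientGroup.mk' (Cfsg.pResidual r G))]
          exact h2.trans h.symm
        · exfalso
          simp only [map_one, hd, Nat.cast_inj] at h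
          obtain ⟨s, hs, hsr⟩ : ∃ s ∈ m.primeFactors, s ≠ r := by
            by_cases e : p = r
            · exact ⟨q, hq, e ▸ hqp⟩
            · exact ⟨p, hp, e⟩
          refine hsr ((Nat.prime_dvd_prime_iff_eq (Nat.prime_of_mem_primeFactors hs) hrp).1 ?_)
          exact (Nat.prime_of_mem_primeFactors hs).dvd_of_dvd_pow (h ▸ Nat.dvd_of_mem_primeFactors hs)
      obtain ⟨χ, hχ, hχm⟩ := hex
      have hab : ∀ a b : G, a * b = b * a := fun a b => by
        have hz : ⁅a, b⁆ ∈ commutator G := by
          rw [commutator_def]; exact Subgroup.commutator_mem_commutator (Subgroup.mem_top a) (Subgroup.mem_top b)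
        exact commutatorElement_eq_one_iff_mul_comm.1
          (hGL _ (Subgroup.mem_iInf.2 fun r => Subgroup.mem_iInf.2 fun hr => hle r hr hz) hz)
      have := IsIrr.degree_one_of_comm hχ hab
      rw [hχm] at this
      exact absurd (by exact_mod_cast this) hm.ne'
    obtain ⟨e, he⟩ : ∃ e, m = p ^ e := ⟨m.factorization p, by
      refine Nat.eq_of_factorization_eq (by omega) (pow_ne_zero _ hpp.ne_zero) fun q => ?_
      rw [hpp.factorization_pow, Finsupp.single_apply]
      split_ifs with h
      · rw [h]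
      · by_contra h'
        exact h (honly q (Nat.support_factorization m ▸ Finsupp.mem_support_iff.2 h')).symm⟩
    obtain ⟨P⟩ : Nonempty (Sylow p G) := inferInstance
    have hPL : (P : Subgroup G) ⊔ L = ⊤ := by
      refine Subgroup.index_eq_one.1 (Nat.eq_one_iff_not_exists_prime_dvd.2 fun q hq hqd => ?_)
      have h1 := hqd.trans (Subgroup.index_dvd_of_le le_sup_left)
      have h2 := hqd.trans (Subgroup.index_dvd_of_le le_sup_right)
      exact P.not_dvd_index (honly q (hidx q hq h2) ▸ h1)
    have hPn : (P : Subgroup G).Normal := Subgroup.normalizer_eq_top_iff.1 (top_le_iff.1 (hPL ▸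
      sup_le Subgroup.le_normalizer (hLZ.trans fun z hz => Subgroup.mem_normalizer_iff.2 fun x => by
        rw [← Subgroup.mem_center_iff.1 hz x, mul_inv_cancel_right])))
    refine ⟨p, e, hpp, he, P, L, hPn, hLn, P.isPGroup', hLab, ?_, hPL⟩
    refine Subgroup.inf_eq_bot_of_coprime ?_
    obtain ⟨k, hk⟩ := IsPGroup.iff_card.1 P.isPGroup'
    rw [hk]
    exact ((hpp.coprime_iff_not_dvd.2 (hLcop p hp)).pow_left k)
  -- some character moves
  left
  push Not at hmoved
  obtain ⟨v, hv⟩ := hmoved
  have htop_of : ∀ (l : L →* ℂˣ) (S : Subgroup G), St v < S → S ≤ St l → St l = ⊤ := by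
    intro l S hvS hSl
    by_contra hne
    have h1 : St v < St l := lt_of_lt_of_le hvS hSl
    have h2 := Subgroup.relIndex_mul_index h1.le
    rw [hSti v hv, hSti l hne] at h2
    exact h1.not_ge (Subgroup.relIndex_eq_one.1
      (Nat.eq_of_mul_eq_mul_right (by omega) (h2.trans (one_mul m).symm)))
  have hsame : ∀ w, St w ≠ ⊤ → St w = St v := by
    intro w hw
    by_contra hne
    have hu : ∀ g, g ∈ St (v * w) → g ∈ St w → g ∈ St v := fun g h1 h2 =>
      (hSt v g).2 fun a => by
        have h3 := (hSt (v * w) g).1 h1 a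
        rw [MonoidHom.mul_apply, MonoidHom.mul_apply, (hSt w g).1 h2 a] at h3
        exact mul_right_cancel h3
    have heq : ∀ l l', St l ≠ ⊤ → St l' ≠ ⊤ → St l ≤ St l' → St l = St l' := by
      intro l l' h h' hle
      have h2 := Subgroup.relIndex_mul_index hle
      rw [hSti l h, hSti l' h'] at h2
      exact le_antisymm hle (Subgroup.relIndex_eq_one.1
        (Nat.eq_of_mul_eq_mul_right (by omega) (h2.trans (one_mul m).symm)))
    have hu1 : St (v * w) ≠ ⊤ := fun h => hne (heq w v hw hv fun g hg => hu g (h ▸ Subgroup.mem_top g) hg)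
    have hu2 : St (v * w) ≠ St w := fun h => hne (heq w v hw hv fun g hg => hu g (h ▸ hg) hg)
    have hle : St v ≤ St w := by
      intro h hh
      rw [hSt w]
      intro a
      let f : L →* ℂˣ := MonoidHom.mk' (fun a => w (MulAut.conjNormal h a) * (w a)⁻¹) fun a b => by
        simp only [map_mul, mul_inv_rev]; ac_rfl
      have hfu : ∀ a, f a = (v * w) (MulAut.conjNormal h a) * ((v * w) a)⁻¹ := fun a => by
        show w (MulAut.conjNormal h a) * (w a)⁻¹ = _
        rw [MonoidHom.mul_apply, MonoidHom.mul_apply, (hSt v h).1 hh a]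
        rw [mul_inv_rev, mul_assoc, ← mul_assoc (v a), mul_comm (v a) (w (MulAut.conjNormal h a))]
        simp [mul_assoc, mul_comm, mul_left_comm]
      have hcomm : ∀ (l : L →* ℂˣ) (g : G), g ∈ St l → ∀ a,
          l (MulAut.conjNormal h (MulAut.conjNormal g a)) = l (MulAut.conjNormal h a) := by
        intro l g hg a
        have hc : h * g * h⁻¹ ∈ St l := (hStn l).conj_mem g hg h
        rw [← (hSt l _).1 hc (MulAut.conjNormal h a), ← MulAut.mul_apply, ← map_mul, ← MulAut.mul_apply,
          ← map_mul, inv_mul_cancel_right]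
      have hfix : St f = ⊤ := by
        by_contra hnf
        have hw' : St w ≤ St f := fun g hg => (hSt f g).2 fun a => by
          show w _ * (w _)⁻¹ = w _ * (w _)⁻¹
          rw [hcomm w g hg a, (hSt w g).1 hg a]
        have hu' : St (v * w) ≤ St f := fun g hg => (hSt f g).2 fun a => by
          rw [hfu, hfu, hcomm (v * w) g hg a, (hSt (v * w) g).1 hg a]
        exact hu2 ((heq _ f hu1 hnf hu').trans (heq w f hw hnf hw').symm)
      have hf : ∀ g a, f (MulAut.conjNormal g a) = f a := fun g a =>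
        (hSt f g).1 (hfix ▸ Subgroup.mem_top g) a
      have hk : ∀ k : ℕ, w (MulAut.conjNormal (h ^ k) a) = f a ^ k * w a := by
        intro k
        induction k with
        | zero => simp
        | succ k ih =>
          have e : ∀ b, w (MulAut.conjNormal h b) = f b * w b := fun b => by
            show _ = w _ * (w _)⁻¹ * w b
            rw [inv_mul_cancel_right]
          rw [pow_succ', map_mul, MulAut.mul_apply, e, ih, pow_succ', mul_assoc, hf]
      have h1 := hk L.index
      rw [(hSt w _).1 (hLSt w (L.pow_index_mem h)) a] at h1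
      have h2 : f a ^ L.index = 1 := mul_eq_right.1 h1.symm
      have h3 : f a ^ Nat.card L = 1 := by rw [← map_pow, pow_card_eq_one', map_one]
      have h4 : f a = 1 := by
        rw [← pow_one (f a), ← hcop.gcd_eq_one]
        exact pow_gcd_eq_one.2 ⟨h3, h2⟩
      exact mul_inv_eq_one.1 h4
    exact hne (heq v w hv hw hle).symm
  have hB : St v = C := by
    refine le_antisymm (fun g hg => hCiff g fun l => ?_) (hCSt v)
    by_cases hl : St l = ⊤
    · exact hl ▸ Subgroup.mem_top g
    · exact (hsame l hl).symm ▸ hg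
  have hCi : C.index = m := hB ▸ hSti v hv
  refine ⟨C, hCn, ?_, hCi⟩
  have := Fintype.ofFinite C
  obtain ⟨μ, hμ⟩ := hext C hLC v hB.ge
  intro a ha b hb
  refine congrArg Subtype.val (forall_degree_one_iff.1 (fun ψ : IrrCharacter C => ?_) ⟨a, ha⟩ ⟨b, hb⟩)
  -- a character of `C` not fixed by more than `C` induces irreducibly
  have hkey : ∀ ψ : IrrCharacter C, ∀ l : L →* ℂˣ, St l ≠ ⊤ →
      (∀ a : L, (ψ : C → ℂ) ⟨a, hLC a.2⟩ = (ψ : C → ℂ) 1 * (l a : ℂ)) → (ψ : C → ℂ) 1 = 1 := by
    intro ψ l hl hres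
    have hin : inertia (ψ : C → ℂ) = C := by
      refine le_antisymm (fun g hg => ?_) (le_inertia (isClassFunction_of_isIrr ψ.2))
      rw [← hB, ← hsame l hl, hSt]
      intro a
      have h1 := congrFun (mem_inertia.1 hg) ⟨a, hLC a.2⟩
      rw [conjFun_apply, hres a] at h1
      have h2 := hres (MulAut.conjNormal g a)
      exact Units.ext (mul_left_cancel₀ (IsIrr.one_ne_zero ψ.2) (h2.symm.trans h1))
    have hi := isIrr_indFun_of_inertia ψ.2 hin
    obtain ⟨d, hd0, hd⟩ := IsIrr.degree ψ.2
    rcases hcd _ hi with h | h <;> rw [indFun_apply_one, hCi, hd] at h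
    · have h2 : m * d = 1 := by exact_mod_cast h
      exact absurd (Nat.eq_one_of_mul_eq_one_right h2) hm.ne'
    · have h2 : m * d = m := by exact_mod_cast h
      rw [hd, (mul_eq_left₀ (show m ≠ 0 by omega)).1 h2, Nat.cast_one]
  -- the restriction of `ψ` to `L` is a multiple of one linear character
  have : (L.subgroupOf C).Normal := hLn.subgroupOf C
  have hcent : ∀ (c : C) (a : L), (c : G) * a * (c : G)⁻¹ = a := fun c a => by
    rw [← Subgroup.mem_centralizer_iff.1 c.2 a a.2, mul_inv_cancel_right]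
  obtain ⟨l₀, hl₀⟩ := exists_central_hom ψ.2
  have hmem : ∀ a : L, (⟨a, hLC a.2⟩ : C) ∈ Subgroup.center C := fun a =>
    Subgroup.mem_center_iff.2 fun c => Subtype.ext (mul_inv_eq_iff_eq_mul.1 (hcent c a))
  let l : L →* ℂˣ := MonoidHom.mk' (fun a => l₀ ⟨_, hmem a⟩) fun a b => by
    rw [← map_mul]; rfl
  have hres : ∀ a : L, (ψ : C → ℂ) ⟨a, hLC a.2⟩ = (ψ : C → ℂ) 1 * (l a : ℂ) := fun a =>
    hl₀ ⟨_, hmem a⟩
  by_cases hl : St l = ⊤
  · have hne : St (l * v) ≠ ⊤ := fun h => hv (eq_top_iff.2 fun g _ => (hSt v g).2 fun a => by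
      have h3 := (hSt (l * v) g).1 (h ▸ Subgroup.mem_top g) a
      rw [MonoidHom.mul_apply, MonoidHom.mul_apply, (hSt l g).1 (hl ▸ Subgroup.mem_top g) a] at h3
      exact mul_left_cancel h3)
    have h1 := hkey ⟨_, isIrr_mul_hom ψ.2 μ⟩ (l * v) hne (fun a => by
      simp only [hres a, hμ a, map_one, Units.val_one, mul_one, MonoidHom.mul_apply, Units.val_mul]
      ring)
    simpa using h1
  · exact hkey ψ l hl hres

end Cfsg.Agent.Char
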