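import Cfsg.Agent.Char.ClassAlg
import Cfsg.Agent.Char.Gen

/-!
# Convolution of irreducible characters, counting commutators
-/

namespace Cfsg.Agent.Char

open scoped ComplexConjugate
open Module

universe u

variable {G : Type u} [Group G] [Fintype G]

open scoped Classical in
/-- The generalised orthogonality relation. -/
theorem sum_mul_shift {χ ψ : G → ℂ} (hχ : IsIrrCharacter G χ) (hψ : IsIrrCharacter G ψ) (z : G) :
    χ 1 * ∑ y : G, χ y * ψ (y⁻¹ * z) = if χ = ψ then (Nat.card G : ℂ) * χ z else 0 := by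
  obtain ⟨m, σ, hσ, rfl⟩ := id hψ
  have hcf : IsClassFunction G fun y => χ y⁻¹ := fun a b => by
    show χ (b * a * b⁻¹)⁻¹ = χ a⁻¹
    rw [show (b * a * b⁻¹)⁻¹ = b * a⁻¹ * b⁻¹ by group, isClassFunction_of_isIrr hχ]
  obtain ⟨c, hc, hc'⟩ := commute_eq_scalar σ hσ (∑ y : G, χ y⁻¹ • σ y) fun g =>
    (sum_smul_rep_commute σ hcf g)
  have htr : c * (finrank ℂ (Fin m → ℂ) : ℂ) = (Nat.card G : ℂ) * classInner χ σ.character := by
    rw [hc', map_sum, classInner, mul_inv_cancel_left₀ card_ne_zero]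
    refine Fintype.sum_equiv (Equiv.inv G) _ _ fun y => ?_
    rw [map_smul, smul_eq_mul, Equiv.inv_apply,
      ← IsChar.inv_eq_conj (IsIrr.isCharacter hψ), inv_inv]
    rfl
  have key : ∑ y : G, χ y * σ.character (y⁻¹ * z) = c * σ.character z := by
    rw [← Equiv.sum_comp (Equiv.inv G)]
    show ∑ y : G, χ y⁻¹ * LinearMap.trace ℂ _ (σ (y⁻¹⁻¹ * z)) = _
    rw [Finset.sum_congr rfl fun y _ => show χ y⁻¹ * LinearMap.trace ℂ _ (σ (y⁻¹⁻¹ * z)) =
      LinearMap.trace ℂ _ ((χ y⁻¹ • σ y) * σ z) by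
        rw [inv_inv, map_mul, smul_mul_assoc, map_smul, smul_eq_mul],
      ← map_sum, ← Finset.sum_mul, hc, smul_mul_assoc, map_smul, smul_eq_mul]
    rfl
  rw [key, classInner_irr hχ hψ] at *
  split_ifs with h
  · rw [if_pos h, mul_one] at htr
    rw [h, σ.char_one, ← htr]; ring
  · rw [if_neg h, mul_zero, mul_eq_zero] at htr
    rcases htr with h0 | h0
    · rw [h0, zero_mul, mul_zero]
    · exact absurd (show σ.character 1 = 0 by rw [σ.char_one, h0]) (IsIrr.one_ne_zero hψ)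

/-- The number of ways of writing `z` as a commutator. -/
theorem card_commutator_eq (z : G) :
    (Nat.card {xy : G × G // xy.1 * xy.2 * xy.1⁻¹ * xy.2⁻¹ = z} : ℂ) =
      (Nat.card G : ℂ) * ∑ χ : IrrCharacter G, (χ : G → ℂ) z / (χ : G → ℂ) 1 := by
  classical
  set N : G → ℂ := fun z =>
    (Nat.card {xy : G × G // xy.1 * xy.2 * xy.1⁻¹ * xy.2⁻¹ = z} : ℂ) with hN
  have hN' : ∀ z, N z = ∑ xy : G × G,
      if xy.1 * xy.2 * xy.1⁻¹ * xy.2⁻¹ = z then (1 : ℂ) else 0 := fun z => by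
    simp only [hN, Finset.sum_boole, Nat.card_eq_fintype_card, Fintype.card_subtype]
  have hf : IsClassFunction G N := by
    intro a k
    refine congrArg Nat.cast (Nat.card_congr (Equiv.subtypeEquiv
      ((MulAut.conj k⁻¹).toEquiv.prodCongr (MulAut.conj k⁻¹).toEquiv) fun xy => ?_))
    show xy.1 * xy.2 * xy.1⁻¹ * xy.2⁻¹ = k * a * k⁻¹ ↔
      MulAut.conj k⁻¹ xy.1 * MulAut.conj k⁻¹ xy.2 * (MulAut.conj k⁻¹ xy.1)⁻¹ *
        (MulAut.conj k⁻¹ xy.2)⁻¹ = a
    rw [← map_inv, ← map_inv, ← map_mul, ← map_mul, ← map_mul,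
      ← (MulAut.conj k⁻¹).injective.eq_iff]
    refine iff_of_eq (congrArg _ ?_)
    simp [mul_assoc]
  show N z = _
  refine (congrFun (classFun_expansion hf) z).trans ?_
  simp only [Finset.sum_apply, Pi.smul_apply, smul_eq_mul, Finset.mul_sum]
  refine Finset.sum_congr rfl fun χ _ => ?_
  have hin : classInner N (χ : G → ℂ) = (Nat.card G : ℂ) / (χ : G → ℂ) 1 := by
    have hd := IsIrr.one_ne_zero χ.2
    have h1 : classInner N (χ : G → ℂ) = (Nat.card G : ℂ)⁻¹ *
        ∑ y : G, ∑ x : G, conj ((χ : G → ℂ) (x * y * x⁻¹ * y⁻¹)) := by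
      simp only [classInner, hN', Finset.sum_mul, ite_mul, one_mul, zero_mul]
      rw [Finset.sum_comm, Fintype.sum_prod_type, Finset.sum_comm]
      simp
    have h2 : ∀ y : G, ∑ x : G, conj ((χ : G → ℂ) (x * y * x⁻¹ * y⁻¹)) =
        (Nat.card G : ℂ) * ((χ : G → ℂ) y * conj ((χ : G → ℂ) y)) / conj ((χ : G → ℂ) 1) := by
      intro y
      rw [eq_div_iff (by simpa using hd), ← map_sum, ← map_mul, mul_comm _ ((χ : G → ℂ) 1),
        sum_conj_mul χ.2, IsChar.inv_eq_conj (IsIrr.isCharacter χ.2), map_mul, map_mul,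
        map_natCast, Complex.conj_conj]
      ring
    obtain ⟨d, -, he⟩ := IsIrr.degree χ.2
    rw [h1, Finset.sum_congr rfl fun y _ => h2 y, ← Finset.sum_div, ← Finset.mul_sum]
    have h3 : (∑ g, (χ : G → ℂ) g * conj ((χ : G → ℂ) g)) = (Nat.card G : ℂ) := by
      have h4 := classInner_irr_self χ.2
      rwa [classInner, inv_mul_eq_one₀ card_ne_zero, eq_comm] at h4
    rw [h3, he, map_natCast]
    field_simp [card_ne_zero]
  rw [hin]
  ring

/-- The number of ways of writing `z` as a product of two commutators is positive as soon as the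
sum of the inverse squares of the degrees of the non-trivial characters is less than one. -/
theorem exists_two_commutators
    (h : ∑ χ : IrrCharacter G, 1 / ‖(χ : G → ℂ) 1‖ ^ 2 < (2 : ℝ)) (g : G) :
    ∃ a b c d : G, (a * b * a⁻¹ * b⁻¹) * (c * d * c⁻¹ * d⁻¹) = g := by
  classical
  by_contra hcon
  push Not at hcon
  set N : G → ℂ := fun z =>
    (Nat.card {xy : G × G // xy.1 * xy.2 * xy.1⁻¹ * xy.2⁻¹ = z} : ℂ) with hN
  have hzero : ∑ y : G, N y * N (y⁻¹ * g) = 0 := by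
    refine Finset.sum_eq_zero fun y _ => ?_
    by_contra hne
    obtain ⟨h1, h2⟩ := mul_ne_zero_iff.1 hne
    obtain ⟨⟨⟨a, b⟩, hab⟩, -⟩ := Nat.card_ne_zero.1 (Nat.cast_ne_zero.1 h1)
    obtain ⟨⟨⟨c, d⟩, hcd⟩, -⟩ := Nat.card_ne_zero.1 (Nat.cast_ne_zero.1 h2)
    exact hcon a b c d (by rw [hab, hcd, mul_inv_cancel_left])
  have hsum : ∑ χ : IrrCharacter G, (χ : G → ℂ) g / (χ : G → ℂ) 1 ^ 3 = 0 := by
    have h1 : ∑ y : G, N y * N (y⁻¹ * g) =
        (Nat.card G : ℂ) ^ 3 * ∑ χ : IrrCharacter G, (χ : G → ℂ) g / (χ : G → ℂ) 1 ^ 3 := by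
      simp only [hN, card_commutator_eq, Finset.mul_sum, Finset.sum_mul]
      rw [Finset.sum_comm]
      refine Finset.sum_congr rfl fun ψ _ => ?_
      rw [Finset.sum_comm, Finset.sum_eq_single ψ]
      · have h2 := sum_mul_shift ψ.2 ψ.2 g
        rw [if_pos rfl] at h2
        have hd := IsIrr.one_ne_zero ψ.2
        rw [eq_comm, ← sub_eq_zero] at h2
        rw [← sub_eq_zero]
        calc _ = (Nat.card G : ℂ) ^ 2 / (ψ : G → ℂ) 1 ^ 2 *
              (∑ y : G, (ψ : G → ℂ) y * (ψ : G → ℂ) (y⁻¹ * g)) -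
              (Nat.card G : ℂ) ^ 3 * ((ψ : G → ℂ) g / (ψ : G → ℂ) 1 ^ 3) := by
              rw [Finset.mul_sum]
              congr 1
              exact Finset.sum_congr rfl fun y _ => by ring
          _ = 0 := by
              field_simp
              linear_combination (-((Nat.card G : ℂ) ^ 2)) * h2
      · intro χ _ hne
        have h2 := sum_mul_shift χ.2 ψ.2 g
        rw [if_neg fun e => hne (Subtype.ext e), mul_eq_zero,
          or_iff_right (IsIrr.one_ne_zero χ.2)] at h2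
        calc _ = (Nat.card G : ℂ) ^ 2 / ((χ : G → ℂ) 1 * (ψ : G → ℂ) 1) *
              (∑ y : G, (χ : G → ℂ) y * (ψ : G → ℂ) (y⁻¹ * g)) := by
              rw [Finset.mul_sum]
              exact Finset.sum_congr rfl fun y _ => by ring
          _ = 0 := by rw [h2, mul_zero]
      · simp
    rw [hzero, eq_comm, mul_eq_zero] at h1
    exact h1.resolve_left (pow_ne_zero _ card_ne_zero)
  let one : IrrCharacter G := ⟨fun _ => 1, isIrrCharacter_one⟩
  rw [← Finset.add_sum_erase _ _ (Finset.mem_univ one)] at hsum h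
  have e1 : (one : G → ℂ) g / (one : G → ℂ) 1 ^ 3 = 1 := by simp [one]
  have e2 : 1 / ‖(one : G → ℂ) 1‖ ^ 2 = (1 : ℝ) := by simp [one]
  rw [e1] at hsum
  rw [e2] at h
  have hb : ‖∑ χ ∈ Finset.univ.erase one, (χ : G → ℂ) g / (χ : G → ℂ) 1 ^ 3‖ ≤
      ∑ χ ∈ Finset.univ.erase one, 1 / ‖(χ : G → ℂ) 1‖ ^ 2 := by
    refine (norm_sum_le _ _).trans (Finset.sum_le_sum fun χ _ => ?_)
    have hd : 0 < ‖(χ : G → ℂ) 1‖ := norm_pos_iff.2 (IsIrr.one_ne_zero χ.2)
    obtain ⟨d, -, he⟩ := IsIrr.degree χ.2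
    have hle := IsChar.norm_le (IsIrr.isCharacter χ.2) g
    rw [he, Complex.natCast_re] at hle
    rw [norm_div, norm_pow, he, Complex.norm_natCast]
    have hd' : (0 : ℝ) < d := by rwa [he, Complex.norm_natCast] at hd
    calc ‖(χ : G → ℂ) g‖ / (d : ℝ) ^ 3 ≤ (d : ℝ) / (d : ℝ) ^ 3 := by gcongr
      _ = 1 / (d : ℝ) ^ 2 := by field_simp
  rw [eq_neg_of_add_eq_zero_right hsum, norm_neg, norm_one] at hb
  linarith

end Cfsg.Agent.Char
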