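import Cfsg.Agent.Char.Gen
import Mathlib.GroupTheory.PGroup
import Mathlib.GroupTheory.Sylow
import Mathlib.GroupTheory.DoubleCoset
import Mathlib.Data.Nat.Prime.Int
import Mathlib.GroupTheory.GroupAction.Quotient

/-!
# Quasi-elementary subgroups and Solomon's induction theorem
-/

namespace Cfsg.Agent.Char

open scoped ComplexConjugate

universe u

theorem banaschewski {S : Type*} [Finite S] (R : AddSubgroup (S → ℤ))
    (hmul : ∀ f ∈ R, ∀ g ∈ R, f * g ∈ R) (h1 : (1 : S → ℤ) ∉ R) :
    ∃ (x : S) (p : ℕ), p.Prime ∧ ∀ f ∈ R, (p : ℤ) ∣ f x := by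
  classical
  by_contra hall
  push Not at hall
  have hone : ∀ x : S, ∃ f ∈ R, f x = 1 := by
    intro x
    obtain ⟨n, hn⟩ := Int.subgroup_cyclic (R.map (Pi.evalAddMonoidHom (fun _ : S => ℤ) x))
    have hmem : ∀ f ∈ R, n ∣ f x := fun f hf => by
      have : f x ∈ R.map (Pi.evalAddMonoidHom (fun _ : S => ℤ) x) := ⟨f, hf, rfl⟩
      rw [hn] at this
      exact Int.mem_zmultiples_iff.1 (AddSubgroup.zmultiples_eq_closure n ▸ this)
    have hn1 : n.natAbs = 1 := by
      by_contra hne
      obtain ⟨q, hq, hqn⟩ := Nat.exists_prime_and_dvd hne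
      obtain ⟨f, hf, hfq⟩ := hall x q hq
      exact hfq ((Int.natCast_dvd.2 hqn).trans (hmem f hf))
    have : (1 : ℤ) ∈ R.map (Pi.evalAddMonoidHom (fun _ : S => ℤ) x) := by
      rw [hn, ← AddSubgroup.zmultiples_eq_closure, Int.mem_zmultiples_iff]
      exact Int.natAbs_dvd.1 (by rw [hn1]; exact one_dvd _)
    obtain ⟨f, hf, hfx⟩ := this
    exact ⟨f, hf, hfx⟩
  choose F hF hFx using hone
  have := Fintype.ofFinite S
  have key : ∀ s : Finset S, ∃ r ∈ R, ∀ y ∈ s, (1 : S → ℤ) y - r y = 0 := by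
    intro s
    induction s using Finset.induction with
    | empty => exact ⟨0, R.zero_mem, by simp⟩
    | insert a s ha ih =>
      obtain ⟨r, hr, hr1⟩ := ih
      refine ⟨r + F a - r * F a, R.sub_mem (R.add_mem hr (hF a)) (hmul r hr _ (hF a)), ?_⟩
      intro y hy
      simp only [Pi.one_apply, Pi.sub_apply, Pi.add_apply, Pi.mul_apply]
      rcases Finset.mem_insert.1 hy with rfl | hy
      · rw [hFx]; ring
      · have := hr1 y hy
        simp only [Pi.one_apply, sub_eq_zero] at this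
        rw [← this]; ring
  obtain ⟨r, hr, hr1⟩ := key Finset.univ
  exact h1 ((funext fun y => sub_eq_zero.1 (hr1 y (Finset.mem_univ y)) : (1 : S → ℤ) = r) ▸ hr)

variable {G : Type u} [Group G]

/-- `H` is `p`-quasi-elementary. -/
def IsQuasiElem (p : ℕ) (H : Subgroup G) : Prop :=
  ∃ C : Subgroup G, C ≤ H ∧ H ≤ Subgroup.normalizer (C : Set G) ∧ IsCyclic C ∧
    Nat.Coprime (Nat.card C) p ∧ ∃ k : ℕ, C.relIndex H = p ^ k

theorem IsQuasiElem.mono [Finite G] {p : ℕ} (hp : p.Prime) {H U : Subgroup G}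
    (h : IsQuasiElem p H) (hU : U ≤ H) : IsQuasiElem p U := by
  obtain ⟨C, hCH, hN, hcyc, hcop, k, hk⟩ := h
  have hnC : (C.subgroupOf H).Normal := Subgroup.normal_subgroupOf_of_le_normalizer hN
  refine ⟨C ⊓ U, inf_le_right, fun u hu => ?_, ?_, ?_, ?_⟩
  · rw [Subgroup.mem_normalizer_iff]
    intro x
    have h1 := (Subgroup.mem_normalizer_iff.1 (hN (hU hu))) x
    constructor
    · rintro ⟨hx, hxU⟩
      exact ⟨h1.1 hx, U.mul_mem (U.mul_mem hu hxU) (U.inv_mem hu)⟩
    · rintro ⟨hx, hxU⟩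
      refine ⟨h1.2 hx, ?_⟩
      have := U.mul_mem (U.mul_mem (U.inv_mem hu) hxU) hu
      simpa [mul_assoc] using this
  · exact isCyclic_of_injective (Subgroup.inclusion (inf_le_left : C ⊓ U ≤ C))
      (Subgroup.inclusion_injective _)
  · exact hcop.of_dvd_left (Subgroup.card_dvd_of_le inf_le_left)
  · have hd : C.relIndex U ∣ C.relIndex H := by
      let π : U →* H ⧸ C.subgroupOf H := (QuotientGroup.mk' _).comp (Subgroup.inclusion hU)
      have hker : π.ker = C.subgroupOf U := by
        ext u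
        simp [π, MonoidHom.mem_ker, QuotientGroup.eq_one_iff, Subgroup.mem_subgroupOf]
      rw [Subgroup.relIndex, ← hker, Subgroup.index_ker, Subgroup.relIndex, Subgroup.index_eq_card]
      exact Subgroup.card_subgroup_dvd_card _
    rw [Subgroup.inf_relIndex_right]
    obtain ⟨i, -, hi⟩ := (Nat.dvd_prime_pow hp).1 (hk ▸ hd)
    exact ⟨i, hi⟩

variable [Fintype G]

open scoped Classical in
theorem indFun_one_eq (H : Subgroup G) (g : G) :
    indFun H (fun _ => (1 : ℂ)) g =
      (Nat.card H : ℂ)⁻¹ * ((Finset.univ.filter fun x : G => x⁻¹ * g * x ∈ H).card : ℂ) := by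
  rw [indFun_apply, ← Finset.sum_boole]
  congr 1
  refine Finset.sum_congr rfl fun x _ => ?_
  split_ifs with h
  · rw [extendByZero_of_mem H _ h]
  · rw [extendByZero_of_not_mem H _ h]

/-- The permutation character as a count of fixed cosets. -/
theorem indFun_one_eq_card_fixed (H : Subgroup G) (g : G) :
    indFun H (fun _ => (1 : ℂ)) g = (Nat.card {q : G ⧸ H // g • q = q} : ℂ) := by
  classical
  rw [indFun_one_eq]
  have hmem : ∀ x : G, (x⁻¹ * g * x ∈ H) ↔ g • (x : G ⧸ H) = x := fun x => by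
    rw [eq_comm, MulAction.Quotient.smul_mk, QuotientGroup.eq, smul_eq_mul, mul_assoc]
  have h1 : (Finset.univ.filter fun x : G => x⁻¹ * g * x ∈ H).card =
      Nat.card H * Nat.card {q : G ⧸ H // g • q = q} := by
    rw [← Fintype.card_subtype, ← Nat.card_eq_fintype_card, mul_comm, ← Nat.card_prod]
    exact Nat.card_congr ((Equiv.subtypeEquivRight hmem).trans
      (QuotientGroup.preimageMkEquivSubgroupProdSet H {q | g • q = q}) |>.trans (Equiv.prodComm _ _))
  rw [h1, Nat.cast_mul, ← mul_assoc, inv_mul_cancel₀ (Nat.cast_ne_zero.2 Nat.card_pos.ne'),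
    one_mul]

/-- Mackey for trivial characters: a product of two permutation characters is a sum of
permutation characters of subgroups of the first. -/
theorem indFun_one_mul (H K : Subgroup G) :
    ∃ a : Subgroup G → ℕ, (∀ U, a U ≠ 0 → U ≤ H) ∧
      indFun H (fun _ => 1) * indFun K (fun _ => 1) =
        ∑ U : Subgroup G, (a U : ℂ) • indFun U (fun _ => 1) := by
  classical
  let U : G → Subgroup G := fun z => H ⊓ K.map (MulAut.conj z).toMonoidHom
  have hU : ∀ z w, w ∈ U z ↔ w ∈ H ∧ z⁻¹ * w * z ∈ K := fun z w => by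
    simp only [U, Subgroup.mem_inf, Subgroup.mem_map_equiv, MulAut.conj_symm_apply]
  have key : indFun H (fun _ => 1) * indFun K (fun _ => 1) =
      ∑ z : G, ((Nat.card (U z) : ℂ) / (Nat.card H * Nat.card K)) •
        indFun (U z) (fun _ => 1) := by
    funext g
    simp only [Pi.mul_apply, Finset.sum_apply, Pi.smul_apply, smul_eq_mul, indFun_one_eq,
      ← Finset.sum_boole]
    have hterm : ∀ z : G, (Nat.card (U z) : ℂ) / (Nat.card H * Nat.card K) *
        ((Nat.card (U z) : ℂ)⁻¹ * ∑ x, if x⁻¹ * g * x ∈ U z then (1 : ℂ) else 0) =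
        ((Nat.card H : ℂ) * Nat.card K)⁻¹ * ∑ x, if x⁻¹ * g * x ∈ U z then (1 : ℂ) else 0 := by
      intro z
      have : (Nat.card (U z) : ℂ) ≠ 0 := Nat.cast_ne_zero.2 Nat.card_pos.ne'
      field_simp
    rw [Finset.sum_congr rfl fun z _ => hterm z, ← Finset.mul_sum, mul_mul_mul_comm, ← mul_inv,
      Finset.sum_mul_sum, Finset.sum_comm (s := Finset.univ) (t := Finset.univ) (f := fun z x =>
        if x⁻¹ * g * x ∈ U z then (1 : ℂ) else 0)]
    congr 1
    refine Finset.sum_congr rfl fun x _ => ?_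
    refine Fintype.sum_equiv (Equiv.mulLeft x⁻¹) _ _ fun y => ?_
    simp only [Equiv.coe_mulLeft, hU, ite_mul, one_mul, zero_mul, ite_and]
    simp [mul_assoc]
  -- group the sum by double cosets
  let D := DoubleCoset.Quotient (H : Set G) (K : Set G)
  let s := DoubleCoset.setoid (H : Set G) (K : Set G)
  let mk : G → D := Quotient.mk s
  have hconj : ∀ z z' : G, mk z' = mk z →
      Nat.card (U z') = Nat.card (U z) ∧ indFun (U z') (fun _ => 1) = indFun (U z) (fun _ => 1) := by
    intro z z' hzz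
    obtain ⟨a, ha, b, hb, rfl⟩ := DoubleCoset.rel_iff.1 (Quotient.exact hzz.symm)
    have hiff : ∀ w, w ∈ U (a * z * b) ↔ a⁻¹ * w * a ∈ U z := by
      intro w
      have e : (a * z * b)⁻¹ * w * (a * z * b) = b⁻¹ * (z⁻¹ * (a⁻¹ * w * a) * z) * b := by group
      rw [hU, hU, e, H.mul_mem_cancel_right ha, H.mul_mem_cancel_left (H.inv_mem ha),
        K.mul_mem_cancel_right hb, K.mul_mem_cancel_left (K.inv_mem hb)]
    have hcard : Nat.card (U (a * z * b)) = Nat.card (U z) :=
      Nat.card_congr (Equiv.subtypeEquiv (MulAut.conj a⁻¹).toEquiv fun w => by simp [hiff])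
    refine ⟨hcard, funext fun g => ?_⟩
    rw [indFun_one_eq, indFun_one_eq, hcard]
    congr 2
    rw [← Fintype.card_subtype, ← Fintype.card_subtype]
    exact Fintype.card_congr (Equiv.subtypeEquiv (Equiv.mulRight a) fun x => by
      rw [hiff, Equiv.coe_mulRight, show (x * a)⁻¹ * g * (x * a) = a⁻¹ * (x⁻¹ * g * x) * a by group])
  have hfib : ∀ z : G, (Finset.univ.filter fun w => mk w = mk z).card * Nat.card (U z) =
      Nat.card H * Nat.card K := by
    intro z
    rw [← Nat.card_prod, Nat.card_eq_fintype_card (α := H × K), ← Finset.card_univ,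
      Finset.card_eq_sum_card_fiberwise (f := fun p : H × K => (p.1 : G) * z * p.2)
        (t := Finset.univ.filter fun w => mk w = mk z) (fun p _ => ?_),
      Finset.sum_congr rfl (g := fun _ => Nat.card (U z)) fun w hw => ?_, Finset.sum_const,
      smul_eq_mul]
    · obtain ⟨a, ha, b, hb, rfl⟩ :=
        DoubleCoset.rel_iff.1 (Quotient.exact (Finset.mem_filter.1 hw).2.symm)
      rw [← Fintype.card_subtype, ← Nat.card_eq_fintype_card]
      exact Nat.card_congr
        { toFun := fun p => ⟨a⁻¹ * (p.1.1 : G), by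
            refine (hU _ _).2 ⟨H.mul_mem (H.inv_mem ha) p.1.1.2, ?_⟩
            have he : z⁻¹ * (a⁻¹ * (p.1.1 : G)) * z = b * (p.1.2 : G)⁻¹ := by
              rw [eq_mul_inv_iff_mul_eq]
              have h2 := congrArg (fun t => z⁻¹ * a⁻¹ * t) p.2
              simpa [mul_assoc] using h2
            rw [he]
            exact K.mul_mem hb (K.inv_mem p.1.2.2)⟩
          invFun := fun u => ⟨(⟨a * u, H.mul_mem ha ((hU _ _).1 u.2).1⟩,
            ⟨(z⁻¹ * u * z)⁻¹ * b, K.mul_mem (K.inv_mem ((hU _ _).1 u.2).2) hb⟩), by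
              simp [mul_assoc]⟩
          left_inv := fun p => by
            apply Subtype.ext
            apply Prod.ext <;> apply Subtype.ext
            · simp
            · have h2 := congrArg (fun t => ((p.1.1 : G) * z)⁻¹ * t) p.2
              simp only [mul_assoc, inv_mul_cancel_left, mul_inv_rev] at h2 ⊢
              rw [inv_inv]
              simpa [mul_assoc] using h2.symm
          right_inv := fun u => by apply Subtype.ext; simp }
    · refine Finset.mem_filter.2 ⟨Finset.mem_univ _, Eq.symm ?_⟩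
      exact Quotient.sound (DoubleCoset.rel_iff.2 ⟨p.1, p.1.2, p.2, p.2.2, rfl⟩)
  have : Fintype D := Fintype.ofSurjective mk Quotient.mk_surjective
  refine ⟨fun V => (Finset.univ.filter fun q : D => U q.out = V).card, fun V hV => ?_, ?_⟩
  · obtain ⟨q, hq⟩ := Finset.card_ne_zero.1 hV
    rw [← (Finset.mem_filter.1 hq).2]
    exact inf_le_left
  rw [key, ← Finset.sum_fiberwise Finset.univ mk]
  have hstep : ∀ q : D, ∑ z ∈ Finset.univ.filter (fun z => mk z = q),
      ((Nat.card (U z) : ℂ) / (Nat.card H * Nat.card K)) • indFun (U z) (fun _ => 1) =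
      indFun (U q.out) (fun _ => 1) := by
    intro q
    have hq : mk q.out = q := Quotient.out_eq q
    rw [Finset.sum_congr rfl (g := fun _ =>
      ((Nat.card (U q.out) : ℂ) / (Nat.card H * Nat.card K)) • indFun (U q.out) (fun _ => 1))
      fun z hz => by
        obtain ⟨h1, h2⟩ := hconj q.out z ((Finset.mem_filter.1 hz).2.trans hq.symm)
        rw [h1, h2], Finset.sum_const, ← Nat.cast_smul_eq_nsmul ℂ, smul_smul]
    have h3 := hfib q.out
    rw [hq] at h3
    have h4 : ((Finset.univ.filter fun w => mk w = q).card : ℂ) * Nat.card (U q.out) =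
        Nat.card H * Nat.card K := by exact_mod_cast h3
    rw [← mul_div_assoc, h4, div_self (mul_ne_zero (Nat.cast_ne_zero.2 Nat.card_pos.ne')
      (Nat.cast_ne_zero.2 Nat.card_pos.ne')), one_smul]
  rw [Finset.sum_congr rfl fun q _ => hstep q]
  simp only [← Finset.sum_boole, Finset.sum_smul, ite_smul, one_smul, zero_smul]
  rw [Finset.sum_comm]
  simp

/-- A quasi-elementary subgroup whose permutation character at `x` is prime to `p`. -/
theorem exists_quasiElem_not_dvd (x : G) (p : ℕ) (hp : p.Prime) :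
    ∃ H : Subgroup G, IsQuasiElem p H ∧
      ∃ n : ℕ, indFun H (fun _ => 1) x = (n : ℂ) ∧ ¬ p ∣ n := by
  classical
  have := Fact.mk hp
  set m := orderOf x
  have hm : m ≠ 0 := (orderOf_pos x).ne'
  set a := m.factorization p
  set r := m / p ^ a
  have hr : p ^ a * r = m := Nat.ordProj_mul_ordCompl_eq_self m p
  set c := x ^ p ^ a
  have hc : orderOf c = r := by
    rw [orderOf_pow' _ (pow_ne_zero _ hp.ne_zero), Nat.gcd_eq_right (Dvd.intro r hr)]
  set C := Subgroup.zpowers c with hC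
  have hcop : Nat.Coprime (Nat.card C) p := by
    rw [hC, Nat.card_zpowers, hc]
    exact (hp.coprime_iff_not_dvd.2 (Nat.not_dvd_ordCompl hp hm)).symm
  set N := Subgroup.normalizer (C : Set G) with hNdef
  have hCN : C ≤ N := Subgroup.le_normalizer
  have hxN : x ∈ N := by
    rw [hNdef, Subgroup.mem_normalizer_iff]
    intro y
    have hfix : ∀ w : G, w ∈ C → x * w * x⁻¹ = w := by
      rintro w ⟨i, rfl⟩
      rw [((Commute.self_pow x (p ^ a)).zpow_right i).eq, mul_inv_cancel_right]
    constructor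
    · intro hy
      exact (hfix y hy).symm ▸ hy
    · intro hy
      have := hfix _ hy
      rw [show x * (x * y * x⁻¹) * x⁻¹ = x * (x * y * x⁻¹) * x⁻¹ from rfl, mul_left_inj,
        mul_right_inj] at this
      exact this ▸ hy
  have : (C.subgroupOf N).Normal := Subgroup.normal_subgroupOf_of_le_normalizer le_rfl
  let π := QuotientGroup.mk' (C.subgroupOf N)
  have hpg : IsPGroup p (Subgroup.zpowers (π ⟨x, hxN⟩)) := by
    rintro ⟨_, i, rfl⟩
    refine ⟨a, Subtype.ext ?_⟩
    show ((π ⟨x, hxN⟩) ^ i) ^ p ^ a = 1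
    rw [← zpow_natCast, ← zpow_mul, mul_comm, zpow_mul, zpow_natCast, ← map_pow,
      show π (⟨x, hxN⟩ ^ p ^ a) = 1 from (QuotientGroup.eq_one_iff _).2
        (Subgroup.mem_subgroupOf.2 (by exact Subgroup.mem_zpowers c)), one_zpow]
  obtain ⟨P, hP⟩ := hpg.exists_le_sylow
  set HN : Subgroup N := (P : Subgroup _).comap π with hHN
  set H := HN.map N.subtype with hH
  have hCH : C ≤ H := fun w hw => ⟨⟨w, hCN hw⟩, by
    show π ⟨w, hCN hw⟩ ∈ (P : Subgroup _)
    rw [show π ⟨w, hCN hw⟩ = 1 from (QuotientGroup.eq_one_iff _).2 (Subgroup.mem_subgroupOf.2 hw)]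
    exact one_mem _, rfl⟩
  have hHleN : H ≤ N := Subgroup.map_subtype_le _
  have hsub : H.subgroupOf N = HN := Subgroup.comap_map_eq_self_of_injective N.subtype_injective _
  have hrel : C.relIndex H = Nat.card (P : Subgroup (N ⧸ C.subgroupOf N)) := by
    have hk : (C.subgroupOf N).subgroupOf HN = (π.comp HN.subtype).ker := by
      ext w
      simp [π, MonoidHom.mem_ker, Subgroup.mem_subgroupOf, QuotientGroup.eq_one_iff]
    rw [← Subgroup.relIndex_subgroupOf hHleN, hsub, Subgroup.relIndex, hk, Subgroup.index_ker,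
      MonoidHom.range_comp, Subgroup.range_subtype,
      Subgroup.map_comap_eq_self_of_surjective (QuotientGroup.mk'_surjective _)]
  refine ⟨H, ⟨C, hCH, hHleN, inferInstance, hcop, ?_⟩, _, indFun_one_eq_card_fixed H x, ?_⟩
  · rw [hrel]; exact P.2.exists_card_eq
  -- fixed cosets lie in the image of the normaliser
  have hfixN : ∀ g : G, x • (g : G ⧸ H) = g → g ∈ N := by
    intro g hg
    rw [eq_comm, MulAction.Quotient.smul_mk, QuotientGroup.eq, smul_eq_mul, ← mul_assoc] at hg
    have hgc : g⁻¹ * c * g ∈ H := by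
      have := H.pow_mem hg (p ^ a)
      rwa [show (g⁻¹ * x * g) ^ p ^ a = g⁻¹ * c * g by
        simpa using (conj_pow (a := g⁻¹) (b := x) (i := p ^ a))] at this
    obtain ⟨⟨w, hwN⟩, hwP, hw⟩ := hgc
    have hw' : w = g⁻¹ * c * g := hw
    have ho1 : orderOf (π ⟨w, hwN⟩) ∣ r := by
      refine (orderOf_map_dvd π _).trans ?_
      rw [← orderOf_injective N.subtype N.subtype_injective, ← hc]
      refine dvd_of_eq ?_
      show orderOf w = orderOf c
      rw [hw', show g⁻¹ * c * g = MulAut.conj g⁻¹ c by simp]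
      exact orderOf_injective (MulAut.conj g⁻¹).toMonoidHom (MulEquiv.injective _) c
    obtain ⟨j, hj⟩ := P.2 ⟨_, hwP⟩
    have ho2 : orderOf (π ⟨w, hwN⟩) ∣ p ^ j := orderOf_dvd_of_pow_eq_one (congrArg Subtype.val hj)
    have hone : π ⟨w, hwN⟩ = 1 := orderOf_eq_one_iff.1 (Nat.eq_one_of_dvd_coprimes
      (((hp.coprime_iff_not_dvd.2 (Nat.not_dvd_ordCompl hp hm)).pow_left j).symm) ho1 ho2)
    have hwC : g⁻¹ * c * g ∈ C := hw' ▸ Subgroup.mem_subgroupOf.1 ((QuotientGroup.eq_one_iff _).1 hone)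
    have hle : C.map (MulAut.conj g⁻¹).toMonoidHom ≤ C := by
      rw [hC, MonoidHom.map_zpowers, Subgroup.zpowers_le]
      simpa [MulAut.conj_apply] using hwC
    have heq : C.map (MulAut.conj g⁻¹).toMonoidHom = C := by
      refine Subgroup.eq_of_le_of_card_ge hle (le_of_eq ?_)
      exact Nat.card_congr (Subgroup.equivMapOfInjective C _ (MulEquiv.injective _)).toEquiv
    rw [hNdef, Subgroup.mem_normalizer_iff'']
    intro y
    constructor
    · intro hy
      exact hle ⟨y, hy, by simp [MulAut.conj_apply]⟩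
    · intro hy
      rw [← heq] at hy
      obtain ⟨z, hz, hz'⟩ := hy
      have hzy : z = y := by simpa [MulAut.conj_apply] using hz'
      exact hzy ▸ hz
  intro hdvd
  let X := N ⧸ HN
  let σ : Equiv.Perm X := MulAction.toPermHom N X ⟨x, hxN⟩
  have hσp : IsPGroup p (Subgroup.zpowers σ) := by
    rintro ⟨_, i, rfl⟩
    refine ⟨a, Subtype.ext ?_⟩
    show (σ ^ i) ^ p ^ a = 1
    suffices h : σ ^ p ^ a = 1 by
      rw [← zpow_natCast, ← zpow_mul, mul_comm, zpow_mul, zpow_natCast, h, one_zpow]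
    show (MulAction.toPermHom N X ⟨x, hxN⟩) ^ p ^ a = 1
    rw [← map_pow]
    refine Equiv.ext fun q => ?_
    obtain ⟨n, rfl⟩ := QuotientGroup.mk_surjective q
    show (⟨x, hxN⟩ ^ p ^ a : N) • (n : X) = n
    rw [eq_comm, MulAction.Quotient.smul_mk, QuotientGroup.eq, smul_eq_mul, ← mul_assoc]
    show π _ ∈ (P : Subgroup _)
    rw [map_mul, map_mul, show π (⟨x, hxN⟩ ^ p ^ a) = 1 from (QuotientGroup.eq_one_iff _).2
      (Subgroup.mem_subgroupOf.2 (Subgroup.mem_zpowers c)), mul_one, ← map_mul, inv_mul_cancel,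
      map_one]
    exact one_mem _
  have hX : ¬ p ∣ Nat.card X := by
    rw [← Subgroup.index_eq_card, hHN,
      Subgroup.index_comap_of_surjective _ (QuotientGroup.mk'_surjective _)]
    exact P.not_dvd_index
  have hcount : Nat.card {q : G ⧸ H // x • q = q} = Nat.card {q : X // σ q = q} := by
    have hlift : ∀ n n' : N, (QuotientGroup.leftRel HN) n n' → ((n : G) : G ⧸ H) = ((n' : G)) :=
      fun n n' h => by
        rw [QuotientGroup.leftRel_apply] at h
        exact QuotientGroup.eq.2 ⟨_, h, rfl⟩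
    let ι : X → G ⧸ H := Quotient.lift (fun n : N => ((n : G) : G ⧸ H)) hlift
    have hι : Function.Injective ι := by
      intro q q' h
      obtain ⟨n, rfl⟩ := QuotientGroup.mk_surjective q
      obtain ⟨n', rfl⟩ := QuotientGroup.mk_surjective q'
      obtain ⟨k, hk, hk'⟩ := QuotientGroup.eq.1 (h : ((n : G) : G ⧸ H) = (n' : G))
      exact QuotientGroup.eq.2 ((Subtype.ext hk' : k = n⁻¹ * n') ▸ hk)
    have hequiv : ∀ q : X, ι (σ q) = x • ι q := by
      intro q
      obtain ⟨n, rfl⟩ := QuotientGroup.mk_surjective q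
      rfl
    refine (Nat.card_eq_of_bijective
      (fun q : {q : X // σ q = q} => (⟨ι q.1, by rw [← hequiv, q.2]⟩ : {q : G ⧸ H // x • q = q}))
      ⟨fun a b h => Subtype.ext (hι (congrArg Subtype.val h)), ?_⟩).symm
    rintro ⟨q, hq⟩
    obtain ⟨g, rfl⟩ := QuotientGroup.mk_surjective q
    exact ⟨⟨((⟨g, hfixN g hq⟩ : N) : X), hι ((hequiv _).trans hq)⟩, rfl⟩
  have hmod := hσp.card_modEq_card_fixedPoints X
  have hfp : Nat.card (MulAction.fixedPoints (Subgroup.zpowers σ) X) =
      Nat.card {q : X // σ q = q} := by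
    refine Nat.card_congr (Equiv.subtypeEquivRight fun q => ?_)
    refine ⟨fun h => h ⟨σ, Subgroup.mem_zpowers σ⟩, fun h => ?_⟩
    rintro ⟨_, i, rfl⟩
    exact Function.IsFixedPt.perm_zpow h i
  rw [hfp, ← hcount] at hmod
  exact hX ((Nat.ModEq.dvd_iff hmod dvd_rfl).2 hdvd)

/-- **Solomon's theorem**: a constant prime to `p` is a combination of permutation characters of
`p`-quasi-elementary subgroups. -/
theorem solomon (p : ℕ) (hp : p.Prime) :
    ∃ (m : ℤ) (a : Subgroup G → ℤ), ¬ (p : ℤ) ∣ m ∧ (∀ H, a H ≠ 0 → IsQuasiElem p H) ∧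
      (fun _ : G => (m : ℂ)) = ∑ H : Subgroup G, (a H : ℂ) • indFun H (fun _ => 1) := by
  classical
  let comb : (Subgroup G → ℤ) → G → ℂ := fun a =>
    ∑ H : Subgroup G, (a H : ℂ) • indFun H (fun _ => 1)
  have hcomb0 : comb 0 = 0 := by simp [comb]
  have hcombadd : ∀ a b, comb (a + b) = comb a + comb b := fun a b => by
    simp [comb, add_smul, Finset.sum_add_distrib]
  have hcombneg : ∀ a, comb (-a) = -comb a := fun a => by
    simp [comb, neg_smul, Finset.sum_neg_distrib]
  let R : AddSubgroup (G → ℤ) :=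
    { carrier := {f | ∃ a : Subgroup G → ℤ, (∀ H, a H ≠ 0 → IsQuasiElem p H) ∧
        (fun g => (f g : ℂ)) = comb a}
      zero_mem' := ⟨0, by simp, by rw [hcomb0]; funext g; simp⟩
      add_mem' := by
        rintro f g ⟨a, ha, hf⟩ ⟨b, hb, hg⟩
        refine ⟨a + b, fun H hH => ?_, ?_⟩
        · by_cases h0 : a H = 0
          · exact hb H (by simpa [h0] using hH)
          · exact ha H h0
        · rw [hcombadd, ← hf, ← hg]; funext y; simp
      neg_mem' := by
        rintro f ⟨a, ha, hf⟩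
        exact ⟨-a, fun H hH => ha H (by simpa using hH), by
          rw [hcombneg, ← hf]; funext y; simp⟩ }
  have hmul : ∀ f ∈ R, ∀ g ∈ R, f * g ∈ R := by
    rintro f ⟨a, ha, hf⟩ g ⟨b, hb, hg⟩
    choose c hc hce using fun H K : Subgroup G => indFun_one_mul H K
    refine ⟨fun U => ∑ H, ∑ K, a H * b K * (c H K U : ℤ), fun U hU => ?_, ?_⟩
    · obtain ⟨H, -, hH⟩ := Finset.exists_ne_zero_of_sum_ne_zero hU
      obtain ⟨K, -, hK⟩ := Finset.exists_ne_zero_of_sum_ne_zero hH
      have h1 : a H ≠ 0 := fun h => hK (by simp [h])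
      have h2 : c H K U ≠ 0 := fun h => hK (by simp [h])
      exact (ha H h1).mono hp (hc H K U h2)
    · have e : (fun y => ((f * g) y : ℂ)) = comb a * comb b := by
        rw [← hf, ← hg]; funext y; simp
      rw [e]
      simp only [comb, Finset.sum_mul_sum, smul_mul_smul_comm, hce, Finset.smul_sum, smul_smul]
      rw [Finset.sum_congr rfl fun H _ => Finset.sum_comm, Finset.sum_comm]
      refine Finset.sum_congr rfl fun U _ => ?_
      simp [Finset.sum_smul]
  let pAll : AddSubgroup (G → ℤ) :=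
    { carrier := {f | ∀ y, (p : ℤ) ∣ f y}
      zero_mem' := fun y => dvd_zero _
      add_mem' := fun hf hg y => dvd_add (hf y) (hg y)
      neg_mem' := fun hf y => dvd_neg.2 (hf y) }
  have h1 : (1 : G → ℤ) ∈ R ⊔ pAll := by
    by_contra hno
    obtain ⟨y, q, hq, hall⟩ := banaschewski (R ⊔ pAll) (fun f hf g hg => by
      obtain ⟨r, hr, s, hs, rfl⟩ := AddSubgroup.mem_sup.1 hf
      obtain ⟨r', hr', s', hs', rfl⟩ := AddSubgroup.mem_sup.1 hg
      refine AddSubgroup.mem_sup.2 ⟨r * r', hmul r hr r' hr', r * s' + s * r' + s * s',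
        fun y => ?_, by ring⟩
      exact dvd_add (dvd_add ((hs' y).mul_left _) ((hs y).mul_right _)) ((hs y).mul_right _)) hno
    by_cases hqp : q = p
    · subst hqp
      obtain ⟨H, hH, n, hn, hnd⟩ := exists_quasiElem_not_dvd y q hp
      refine hnd (Int.natCast_dvd_natCast.1 ?_)
      have hval : (Nat.card {c : G ⧸ H // y • c = c} : ℤ) = n := by
        rw [indFun_one_eq_card_fixed] at hn
        exact_mod_cast hn
      rw [← hval]
      refine hall (fun z => (Nat.card {c : G ⧸ H // z • c = c} : ℤ)) (AddSubgroup.mem_sup_left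
        ⟨Pi.single H 1, fun K hK => ?_, ?_⟩)
      · by_cases hKH : K = H
        · exact hKH ▸ hH
        · simp [hKH] at hK
      · funext z
        simp [comb, Pi.single_apply, indFun_one_eq_card_fixed]
    · have h2 : (q : ℤ) ∣ (fun _ => (p : ℤ)) y :=
        hall _ (AddSubgroup.mem_sup_right fun _ => dvd_rfl)
      exact hqp ((Nat.prime_dvd_prime_iff_eq hq hp).1 (Int.natCast_dvd_natCast.1 h2))
  obtain ⟨r, hr, s, hs, hrs⟩ := AddSubgroup.mem_sup.1 h1
  have hpr : Prime (p : ℤ) := Int.prime_ofNat_iff.2 hp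
  have hr1 : ∀ y, ¬ (p : ℤ) ∣ r y := fun y h => by
    have := congrFun hrs y
    simp only [Pi.add_apply, Pi.one_apply] at this
    exact hpr.not_dvd_one (this ▸ dvd_add h (hs y))
  have hpoly : ∀ t : Finset G, ∃ u ∈ R, ∃ m : ℤ, ¬ (p : ℤ) ∣ m ∧ ∀ y ∈ t, m - u y = 0 := by
    intro t
    induction t using Finset.induction with
    | empty => exact ⟨0, R.zero_mem, 1, hpr.not_dvd_one, by simp⟩
    | insert b t hb ih =>
      obtain ⟨u, hu, m, hm, hmu⟩ := ih
      refine ⟨m • r + r b • u - u * r, R.sub_mem (R.add_mem (R.zsmul_mem hr m)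
        (R.zsmul_mem hu _)) (hmul u hu r hr), m * r b, fun h => ?_, fun y hy => ?_⟩
      · rcases hpr.dvd_mul.1 h with h | h
        exacts [hm h, hr1 b h]
      · simp only [Pi.sub_apply, Pi.add_apply, Pi.smul_apply, Pi.mul_apply, smul_eq_mul]
        rcases Finset.mem_insert.1 hy with rfl | hy
        · ring
        · rw [← sub_eq_zero.1 (hmu y hy)]; ring
  obtain ⟨u, ⟨a, ha, he⟩, m, hm, hmu⟩ := hpoly Finset.univ
  refine ⟨m, a, hm, ha, ?_⟩
  rw [← show comb a = ∑ H : Subgroup G, (a H : ℂ) • indFun H (fun _ => 1) from rfl, ← he]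
  funext y
  rw [sub_eq_zero.1 (hmu y (Finset.mem_univ y))]

end Cfsg.Agent.Char
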