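import Mathlib
import Cfsg.Prelude.Def_Perm
import Cfsg.Agent.Char.Iso
import Cfsg.Agent.Char.ClassAlg

/-!
# The commutant of a representation is commutative iff the character is multiplicity free
-/

namespace Cfsg.Agent.Char

open Module

universe u v

variable {G : Type u} [Group G] [Fintype G]

/-- Every multiplicity is at most one. -/
def MultFree (χ : G → ℂ) : Prop :=
  ∀ ψ : G → ℂ, IsIrrCharacter G ψ → classInner χ ψ = 0 ∨ classInner χ ψ = 1

/-- The commutant is commutative. -/
def CommutantComm {V : Type v} [AddCommGroup V] [Module ℂ V] (ρ : Representation ℂ G V) : Prop :=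
  ∀ A B : Module.End ℂ V, (∀ g, A * ρ g = ρ g * A) → (∀ g, B * ρ g = ρ g * B) → A * B = B * A

theorem commutantComm_of_multFree {V : Type v} [AddCommGroup V] [Module ℂ V]
    [FiniteDimensional ℂ V] (ρ : Representation ℂ G V) (h : MultFree ρ.character) :
    CommutantComm ρ := by
  revert h
  refine rep_induction (P := fun V _ _ σ => MultFree σ.character → CommutantComm σ) ?_ ?_ ?_ ρ
  · intro V _ _ σ hV _ A B _ _
    exact LinearMap.ext fun x => Subsingleton.elim _ _
  · intro V _ _ _ σ hσ _ A B hA hB
    obtain ⟨a, rfl, -⟩ := commute_eq_scalar σ hσ A hA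
    obtain ⟨b, rfl, -⟩ := commute_eq_scalar σ hσ B hB
    exact LinearMap.ext fun x => by simp [smul_comm a b x]
  · intro V _ _ _ σ S T hc ihS ihT h
    classical
    have hadd := character_eq_add_of_isCompl σ S T hc
    have hS := isCharacter_of_rep S.toRepresentation
    have hT := isCharacter_of_rep T.toRepresentation
    have hsplit : ∀ ψ : IrrCharacter G, ∃ i j : ℕ, i + j ≤ 1 ∧
        classInner S.toRepresentation.character (ψ : G → ℂ) = i ∧
        classInner T.toRepresentation.character (ψ : G → ℂ) = j := by
      intro ψ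
      obtain ⟨i, hi⟩ := classInner_isCharacter_eq_natCast hS (IsIrr.isCharacter ψ.2)
      obtain ⟨j, hj⟩ := classInner_isCharacter_eq_natCast hT (IsIrr.isCharacter ψ.2)
      refine ⟨i, j, ?_, hi, hj⟩
      have h1 := h _ ψ.2
      rw [hadd, classInner_add_left, hi, hj] at h1
      rcases h1 with h1 | h1
      · have : i + j = 0 := by exact_mod_cast h1
        omega
      · have : i + j = 1 := by exact_mod_cast h1
        omega
    have hmf : MultFree S.toRepresentation.character ∧ MultFree T.toRepresentation.character := by
      constructor <;> intro ψ hψ <;> obtain ⟨i, j, hij, hi, hj⟩ := hsplit ⟨ψ, hψ⟩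
      · rcases (show i = 0 ∨ i = 1 by omega) with rfl | rfl
        · left; simpa using hi
        · right; simpa using hi
      · rcases (show j = 0 ∨ j = 1 by omega) with rfl | rfl
        · left; simpa using hj
        · right; simpa using hj
    have hST : classInner S.toRepresentation.character T.toRepresentation.character = 0 := by
      rw [classInner_eq_sum (isClassFunction_of_isCharacter hS)]
      refine Finset.sum_eq_zero fun ψ _ => ?_
      obtain ⟨i, j, hij, hi, hj⟩ := hsplit ψ
      rw [← classInner_conj_symm (T.toRepresentation.character), hi, hj, map_natCast, ← Nat.cast_mul]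
      have : i * j = 0 := by
        rcases (show i = 0 ∨ j = 0 by omega) with rfl | rfl <;> simp
      rw [this, Nat.cast_zero]
    have hzero : ∀ (X Y : Subrepresentation σ) (hXY : IsCompl X.toSubmodule Y.toSubmodule),
        classInner Y.toRepresentation.character X.toRepresentation.character = 0 →
        ∀ A : Module.End ℂ V, (∀ g, A * σ g = σ g * A) → ∀ x ∈ X.toSubmodule, A x ∈ X.toSubmodule := by
      intro X Y hXY h0 A hA x hx
      have hint : ∀ g, Submodule.projectionOnto Y.toSubmodule X.toSubmodule hXY.symm ∘ₗ σ g =
          Y.toRepresentation g ∘ₗ Submodule.projectionOnto Y.toSubmodule X.toSubmodule hXY.symm := by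
        intro g
        refine LinearMap.ext fun v => ?_
        obtain ⟨⟨y, z⟩, rfl⟩ := (Submodule.prodEquivOfIsCompl _ _ hXY.symm).surjective v
        simp only [Submodule.coe_prodEquivOfIsCompl', LinearMap.comp_apply, map_add]
        rw [Submodule.projectionOnto_apply_left, Submodule.projectionOnto_apply_right,
          show σ g y = ((Y.toRepresentation g y : Y.toSubmodule) : V) from rfl,
          show σ g z = ((X.toRepresentation g z : X.toSubmodule) : V) from rfl,
          Submodule.projectionOnto_apply_left, Submodule.projectionOnto_apply_right]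
        simp
      let f : Representation.IntertwiningMap X.toRepresentation Y.toRepresentation :=
        ⟨Submodule.projectionOnto Y.toSubmodule X.toSubmodule hXY.symm ∘ₗ A ∘ₗ
          X.toSubmodule.subtype, fun g => LinearMap.ext fun v => by
          show Submodule.projectionOnto _ _ hXY.symm (A (σ g v)) =
            Y.toRepresentation g (Submodule.projectionOnto _ _ hXY.symm (A v))
          rw [← Module.End.mul_apply, hA g, Module.End.mul_apply]
          exact LinearMap.congr_fun (hint g) (A v)⟩
      have hsub : Subsingleton (Representation.IntertwiningMap X.toRepresentation Y.toRepresentation) := by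
        rw [classInner_character_eq_finrank, Nat.cast_eq_zero] at h0
        exact finrank_zero_iff.1 h0
      have hf : f.toLinearMap ⟨x, hx⟩ = 0 := by rw [Subsingleton.elim f 0]; rfl
      exact (Submodule.projectionOnto_apply_eq_zero_iff hXY.symm).1 hf
    intro A B hA hB
    have hTS : classInner T.toRepresentation.character S.toRepresentation.character = 0 := by
      rw [← classInner_conj_symm, hST, map_zero]
    have key : ∀ (X : Subrepresentation σ), CommutantComm X.toRepresentation →
        (∀ A : Module.End ℂ V, (∀ g, A * σ g = σ g * A) → ∀ x ∈ X.toSubmodule, A x ∈ X.toSubmodule) →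
        ∀ x ∈ X.toSubmodule, A (B x) = B (A x) := by
      intro X hX hinv x hx
      have hres : ∀ C : Module.End ℂ V, ∀ hC : ∀ g, C * σ g = σ g * C,
          ∀ g, C.restrict (hinv C hC) * X.toRepresentation g =
            X.toRepresentation g * C.restrict (hinv C hC) := fun C hC g =>
        LinearMap.ext fun v => Subtype.ext (LinearMap.congr_fun (hC g) v)
      exact congrArg Subtype.val
        (LinearMap.congr_fun (hX _ _ (hres A hA) (hres B hB)) ⟨x, hx⟩)
    refine LinearMap.ext fun v => ?_
    obtain ⟨⟨y, z⟩, rfl⟩ := (Submodule.prodEquivOfIsCompl _ _ hc).surjective v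
    simp only [Submodule.coe_prodEquivOfIsCompl', Module.End.mul_apply, map_add]
    rw [key S (ihS hmf.1) (hzero S T hc hTS) y y.2, key T (ihT hmf.2) (hzero T S hc.symm hST) z z.2]

theorem multFree_of_commutantComm {V : Type v} [AddCommGroup V] [Module ℂ V]
    [FiniteDimensional ℂ V] (ρ : Representation ℂ G V) (h : CommutantComm ρ) :
    MultFree ρ.character := by
  classical
  intro ψ hψ
  obtain ⟨k, hk⟩ := classInner_isCharacter_eq_natCast (isCharacter_of_rep ρ) (IsIrr.isCharacter hψ)
  rcases Nat.lt_or_ge k 2 with hlt | hge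
  · rcases (show k = 0 ∨ k = 1 by omega) with rfl | rfl
    · left; simpa using hk
    · right; simpa using hk
  exfalso
  obtain ⟨n, τ, hτ, rfl⟩ := hψ
  have hk' := hk
  rw [classInner_character_eq_finrank, Nat.cast_inj] at hk'
  obtain ⟨f, hf⟩ := Module.finrank_pos_iff_exists_ne_zero.1 (hk'.symm ▸ (by omega : 0 < k) :
    0 < finrank ℂ (Representation.IntertwiningMap τ ρ))
  have := hτ
  have hinj : Function.Injective f :=
    (Representation.IsIrreducible.injective_or_eq_zero f).resolve_right hf
  let S : Subrepresentation ρ := f.range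
  have : NeZero (Nat.card G : ℂ) := ⟨Nat.cast_ne_zero.2 Nat.card_pos.ne'⟩
  obtain ⟨T, hT⟩ := exists_isCompl S
  have hc : IsCompl S.toSubmodule T.toSubmodule := by
    constructor
    · rw [disjoint_iff]; exact congrArg Subrepresentation.toSubmodule (disjoint_iff.1 hT.1)
    · rw [codisjoint_iff]; exact congrArg Subrepresentation.toSubmodule (codisjoint_iff.1 hT.2)
  let e : (Fin n → ℂ) ≃ₗ[ℂ] S.toSubmodule := LinearEquiv.ofInjective f.toLinearMap hinj
  have he : ∀ g x, e (τ g x) = S.toRepresentation g (e x) := fun g x =>
    Subtype.ext (f.isIntertwining τ ρ g x)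
  have hchar : S.toRepresentation.character = τ.character := by
    funext g
    show LinearMap.trace ℂ _ (S.toRepresentation g) = LinearMap.trace ℂ _ (τ g)
    rw [← LinearMap.trace_conj' (τ g) e]
    congr 1
    refine LinearMap.ext fun y => ?_
    rw [LinearEquiv.conj_apply_apply, he, LinearEquiv.apply_symm_apply]
  have hne : classInner T.toRepresentation.character τ.character ≠ 0 := by
    intro h0
    rw [character_eq_add_of_isCompl ρ S T hc, classInner_add_left, hchar,
      classInner_irr_self (isIrrCharacter_of_rep τ hτ), h0, add_zero] at hk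
    have : k = 1 := by exact_mod_cast hk.symm
    omega
  rw [classInner_character_eq_finrank, Nat.cast_ne_zero] at hne
  obtain ⟨g₀, hg₀⟩ := Module.finrank_pos_iff_exists_ne_zero.1 (Nat.pos_of_ne_zero hne)
  let P : Module.End ℂ V :=
    S.toSubmodule.subtype ∘ₗ Submodule.projectionOnto S.toSubmodule T.toSubmodule hc
  let A : Module.End ℂ V := T.toSubmodule.subtype ∘ₗ g₀.toLinearMap ∘ₗ (e.symm : S.toSubmodule →ₗ[ℂ] Fin n → ℂ) ∘ₗ
    Submodule.projectionOnto S.toSubmodule T.toSubmodule hc
  have hint : ∀ (g : G) (v : V), Submodule.projectionOnto S.toSubmodule T.toSubmodule hc (ρ g v) =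
      S.toRepresentation g (Submodule.projectionOnto S.toSubmodule T.toSubmodule hc v) := by
    intro g v
    obtain ⟨⟨y, z⟩, rfl⟩ := (Submodule.prodEquivOfIsCompl _ _ hc).surjective v
    simp only [Submodule.coe_prodEquivOfIsCompl', map_add]
    rw [Submodule.projectionOnto_apply_left, Submodule.projectionOnto_apply_right,
      show ρ g y = ((S.toRepresentation g y : S.toSubmodule) : V) from rfl,
      show ρ g z = ((T.toRepresentation g z : T.toSubmodule) : V) from rfl,
      Submodule.projectionOnto_apply_left, Submodule.projectionOnto_apply_right]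
    simp
  have hP : ∀ g, P * ρ g = ρ g * P := fun g => LinearMap.ext fun v => congrArg Subtype.val (hint g v)
  have hA : ∀ g, A * ρ g = ρ g * A := fun g => LinearMap.ext fun v => by
    show ((g₀.toLinearMap (e.symm (Submodule.projectionOnto S.toSubmodule T.toSubmodule hc (ρ g v))) :
      T.toSubmodule) : V) = ρ g _
    rw [hint]
    have h1 : ∀ s, e.symm (S.toRepresentation g s) = τ g (e.symm s) := fun s => by
      rw [LinearEquiv.symm_apply_eq, he, LinearEquiv.apply_symm_apply]
    rw [h1]
    exact congrArg Subtype.val (g₀.isIntertwining τ T.toRepresentation g _)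
  apply hg₀
  have hPA := h P A hP hA
  refine Representation.IntertwiningMap.ext (LinearMap.ext fun x => ?_)
  apply Subtype.ext
  have h1 := LinearMap.congr_fun hPA (e x : V)
  have e1 : Submodule.projectionOnto S.toSubmodule T.toSubmodule hc (e x : V) = e x :=
    Submodule.projectionOnto_apply_left hc _
  change ((Submodule.projectionOnto S.toSubmodule T.toSubmodule hc
    ((g₀.toLinearMap (e.symm (Submodule.projectionOnto S.toSubmodule T.toSubmodule hc (e x : V))) :
      T.toSubmodule) : V)) : S.toSubmodule).1 = ((g₀.toLinearMap (e.symm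
        (Submodule.projectionOnto S.toSubmodule T.toSubmodule hc
          ((Submodule.projectionOnto S.toSubmodule T.toSubmodule hc (e x : V) : S.toSubmodule) : V)))
      : T.toSubmodule) : V) at h1
  rw [e1, e1, LinearEquiv.symm_apply_apply, Submodule.projectionOnto_apply_right] at h1
  exact h1.symm

/-- The permutation character. -/
theorem permRep_character {Ω : Type v} [Fintype Ω] [MulAction G Ω] :
    (Cfsg.permRep ℂ G Ω).character = fun g => (Nat.card (MulAction.fixedBy Ω g) : ℂ) := by
  classical
  funext g
  show LinearMap.trace ℂ _ (Cfsg.permRep ℂ G Ω g) = _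
  rw [LinearMap.trace_eq_matrix_trace ℂ (Pi.basisFun ℂ Ω), Matrix.trace]
  have e : ∀ x : Ω, Matrix.diag (LinearMap.toMatrix (Pi.basisFun ℂ Ω) (Pi.basisFun ℂ Ω)
      (Cfsg.permRep ℂ G Ω g)) x = if g • x = x then 1 else 0 := by
    intro x
    rw [Matrix.diag, LinearMap.toMatrix_apply, Pi.basisFun_apply, Pi.basisFun_repr]
    show (Pi.single x (1 : ℂ) : Ω → ℂ) (g⁻¹ • x) = _
    rw [Pi.single_apply]
    exact if_congr (by rw [inv_smul_eq_iff, eq_comm]) rfl rfl
  rw [Finset.sum_congr rfl fun x _ => e x, Finset.sum_boole, Nat.card_eq_fintype_card]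
  congr 1
  rw [← Fintype.card_subtype]
  exact Fintype.card_congr (Equiv.subtypeEquivRight fun x => by rfl)

theorem mem_invariants_linHom_iff {V : Type v} [AddCommGroup V] [Module ℂ V]
    (ρ : Representation ℂ G V) (A : V →ₗ[ℂ] V) :
    A ∈ (ρ.linHom ρ).invariants ↔ ∀ g, (A : Module.End ℂ V) * ρ g = ρ g * A := by
  rw [Representation.mem_invariants]
  refine forall_congr' fun g => ?_
  show ρ g ∘ₗ A ∘ₗ ρ g⁻¹ = A ↔ _
  constructor
  · intro h
    calc (A : Module.End ℂ V) * ρ g = ρ g ∘ₗ A ∘ₗ (ρ g⁻¹ * ρ g) := by
          conv_lhs => rw [← h]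
          rfl
      _ = ρ g * A := by rw [← map_mul, inv_mul_cancel, map_one]; rfl
  · intro h
    show (ρ g * ((A : Module.End ℂ V) * ρ g⁻¹) : Module.End ℂ V) = A
    rw [← mul_assoc, ← h, mul_assoc, ← map_mul, mul_inv_cancel, map_one, mul_one]

end Cfsg.Agent.Char
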