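import Mathlib
import Cfsg.Prelude.Def_Perm
import Cfsg.Agent.Char.Commutant

/-!
# Traces of orbital matrices on the permutation module (Wielandt)
-/

namespace Cfsg.Agent.Char

open Module

universe u v

variable {G : Type u} [Group G] [Fintype G] {Ω : Type v} [Fintype Ω] [MulAction G Ω]

private theorem toLin'_comm [DecidableEq Ω] (M : Matrix Ω Ω ℂ)
    (hM : ∀ (g : G) x y, M (g • x) (g • y) = M x y) (g : G) :
    Commute (Matrix.toLin' M) (Cfsg.permRep ℂ G Ω g) := by
  refine LinearMap.ext fun v => funext fun x => ?_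
  show Matrix.toLin' M (fun z => v (g⁻¹ • z)) x = Matrix.toLin' M v (g⁻¹ • x)
  simp only [Matrix.toLin'_apply, Matrix.mulVec, dotProduct]
  refine (Fintype.sum_equiv (MulAction.toPerm g) _ _ fun y => ?_).symm
  simp only [MulAction.toPerm_apply, inv_smul_smul]
  rw [← hM g (g⁻¹ • x) y, smul_inv_smul]

private theorem trace_perm_mul [DecidableEq Ω] (M : Matrix Ω Ω ℂ) (g : G) :
    LinearMap.trace ℂ (Ω → ℂ) (Cfsg.permRep ℂ G Ω g * Matrix.toLin' M) =
      ∑ x, M x (g • x) := by
  rw [LinearMap.trace_eq_matrix_trace ℂ (Pi.basisFun ℂ Ω), Matrix.trace]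
  have e : ∀ x : Ω, Matrix.diag (LinearMap.toMatrix (Pi.basisFun ℂ Ω) (Pi.basisFun ℂ Ω)
      (Cfsg.permRep ℂ G Ω g * Matrix.toLin' M)) x = M (g⁻¹ • x) x := by
    intro x
    rw [Matrix.diag, LinearMap.toMatrix_apply, Pi.basisFun_apply, Pi.basisFun_repr]
    show Matrix.toLin' M (Pi.single x (1 : ℂ)) (g⁻¹ • x) = _
    rw [Matrix.toLin'_apply, Matrix.mulVec_single_one]
    rfl
  rw [Finset.sum_congr rfl fun x _ => e x]
  exact Fintype.sum_equiv (MulAction.toPerm g⁻¹) _ _ fun x => by simp

/-- An invariant integer matrix splits the permutation character along its (integral)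
eigenvalues. -/
theorem orbital_spectral [DecidableEq Ω] (N : Matrix Ω Ω ℤ)
    (hN : ∀ (g : G) x y, N (g • x) (g • y) = N x y) :
    ∃ (S : Finset ℂ) (χ : ℂ → G → ℂ), (∀ t ∈ S, IsIntegral ℤ t) ∧
      (∀ t ∈ S, IsCharacter G (χ t)) ∧
      ∀ (j : ℕ) (g : G), ((∑ x, (N ^ j) x (g • x) : ℤ) : ℂ) = ∑ t ∈ S, t ^ j * χ t g := by
  classical
  set M : Matrix Ω Ω ℂ := N.map (Int.castRingHom ℂ) with hMdef
  set A : Module.End ℂ (Ω → ℂ) := Matrix.toLin' M with hAdef
  have hM : ∀ (g : G) x y, M (g • x) (g • y) = M x y := fun g x y => by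
    simp [hMdef, hN g x y]
  have hcomm : ∀ g : G, Commute A (Cfsg.permRep ℂ G Ω g) := fun g => toLin'_comm M hM g
  have hint : IsIntegral ℤ A := by
    let φ : Matrix Ω Ω ℤ →+* Module.End ℂ (Ω → ℂ) :=
      ((Matrix.toLinAlgEquiv' (R := ℂ) (n := Ω)).toAlgHom.toRingHom).comp
        (Int.castRingHom ℂ).mapMatrix
    have h2 : φ N = A := LinearMap.ext fun _ => rfl
    exact h2 ▸ (Matrix.isIntegral N).map φ.toIntAlgHom
  have hds := DirectSum.isInternal_submodule_of_iSupIndep_of_iSup_eq_top
    A.independent_maxGenEigenspace (Module.End.iSup_maxGenEigenspace_eq_top A)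
  have hfin : {t | A.maxGenEigenspace t ≠ ⊥}.Finite :=
    WellFoundedGT.finite_ne_bot_of_iSupIndep A.independent_maxGenEigenspace
  let W : ℂ → Subrepresentation (Cfsg.permRep ℂ G Ω) := fun t =>
    ⟨A.maxGenEigenspace t, fun g v hv => A.mapsTo_maxGenEigenspace_of_comm (hcomm g) t hv⟩
  refine ⟨hfin.toFinset, fun t => (W t).toRepresentation.character, fun t ht => ?_,
    fun t _ => isCharacter_of_rep _, fun j g => ?_⟩
  · rw [Set.Finite.mem_toFinset] at ht
    have hev : A.HasEigenvalue t := Module.End.HasUnifEigenvalue.lt (k := ⊤) zero_lt_one ht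
    obtain ⟨v, hv⟩ := hev.exists_hasEigenvector
    obtain ⟨f, hfm, hf0⟩ := hint
    refine ⟨f, hfm, ?_⟩
    have h1 := Module.End.aeval_apply_of_hasEigenvector (p := f.map (algebraMap ℤ ℂ)) hv
    rw [Polynomial.aeval_map_algebraMap, Polynomial.aeval_def, hf0] at h1
    have h2 := smul_eq_zero.1 h1.symm
    rcases h2 with h2 | h2
    · rwa [Polynomial.eval_map] at h2
    · exact absurd h2 hv.2
  · have hj : ((∑ x, (N ^ j) x (g • x) : ℤ) : ℂ) =
        LinearMap.trace ℂ (Ω → ℂ) (Cfsg.permRep ℂ G Ω g * A ^ j) := by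
      rw [show A ^ j = Matrix.toLin' (M ^ j) by rw [hAdef, ← Matrix.toLin'_pow],
        trace_perm_mul, Int.cast_sum]
      refine Finset.sum_congr rfl fun x _ => ?_
      rw [hMdef, show (N.map (Int.castRingHom ℂ)) ^ j = (N ^ j).map (Int.castRingHom ℂ) from
        (map_pow (Int.castRingHom ℂ).mapMatrix N j).symm]
      rfl
    have hmaps : ∀ (i : ℕ) (t : ℂ), Set.MapsTo (Cfsg.permRep ℂ G Ω g * A ^ i)
        (A.maxGenEigenspace t) (A.maxGenEigenspace t) := fun i t =>
      A.mapsTo_maxGenEigenspace_of_comm ((hcomm g).mul_right ((Commute.refl A).pow_right i)) t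
    rw [hj, LinearMap.trace_eq_sum_trace_restrict' hds hfin (hmaps j)]
    refine Finset.sum_congr rfl fun t _ => ?_
    clear hj
    induction j with
    | zero =>
      conv_rhs => rw [pow_zero, one_mul]
      exact congrArg (LinearMap.trace ℂ _) (LinearMap.ext fun x => Subtype.ext (by
        show (Cfsg.permRep ℂ G Ω g * A ^ 0) (x : Ω → ℂ) = Cfsg.permRep ℂ G Ω g x
        rw [pow_zero, mul_one]))
    | succ i ih =>
      have hA := A.mapsTo_maxGenEigenspace_of_comm (Commute.refl A) t
      have hc : Commute (LinearMap.restrict _ (hmaps i t)) (LinearMap.restrict A hA) :=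
        LinearMap.restrict_commute
          ((hcomm g).symm.mul_left ((Commute.refl A).pow_left i)) _ _
      have hnil : IsNilpotent (LinearMap.restrict A hA - algebraMap ℂ _ t) :=
        A.isNilpotent_restrict_maxGenEigenspace_sub_algebraMap t
      have h3 := LinearMap.trace_comp_eq_mul_of_commute_of_isNilpotent t hc hnil
      conv_rhs => rw [pow_succ', mul_assoc, ← ih]
      refine Eq.trans ?_ h3
      exact congrArg (LinearMap.trace ℂ _) (LinearMap.ext fun x => Subtype.ext (by
        show (Cfsg.permRep ℂ G Ω g * A ^ (i + 1)) (x : Ω → ℂ) =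
          (Cfsg.permRep ℂ G Ω g * A ^ i) (A x)
        rw [pow_succ, ← mul_assoc]
        rfl))

/-- The trivial character occurs exactly once in a transitive permutation character. -/
theorem sum_fixedBy_eq_card [MulAction.IsPretransitive G Ω] [DecidableEq Ω] (f : Ω → Ω → ℂ)
    (k : ℂ) (hrow : ∀ x, ∑ y, f x y = k) (hne : Nonempty Ω) :
    (Nat.card G : ℂ)⁻¹ * ∑ g : G, ∑ x, f x (g • x) = k := by
  classical
  have hcard : ∀ x y : Ω, ((Finset.univ.filter fun g : G => g • x = y).card : ℂ) *
      Fintype.card Ω = Nat.card G := by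
    intro x y
    obtain ⟨u, hu⟩ := MulAction.exists_smul_eq G x y
    have h1 : (Finset.univ.filter fun g : G => g • x = y).card =
        Fintype.card (MulAction.stabilizer G x) := by
      rw [← Fintype.card_subtype]
      exact Fintype.card_congr (Equiv.subtypeEquiv (Equiv.mulLeft u⁻¹) fun g => by
        simp only [Equiv.coe_mulLeft, MulAction.mem_stabilizer_iff, mul_smul, inv_smul_eq_iff, hu])
    have h2 := MulAction.card_orbit_mul_card_stabilizer_eq_card_group G x
    have h3 : Fintype.card (MulAction.orbit G x) = Fintype.card Ω :=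
      Fintype.card_congr ((Equiv.setCongr (MulAction.orbit_eq_univ G x)).trans (Equiv.Set.univ Ω))
    rw [h1, Nat.card_eq_fintype_card, ← h2, h3, mul_comm]
    push_cast
    rfl
  have hn : (Fintype.card Ω : ℂ) ≠ 0 := Nat.cast_ne_zero.2 (Fintype.card_pos_iff.2 hne).ne'
  have hsum : (∑ g : G, ∑ x, f x (g • x)) * Fintype.card Ω =
      Nat.card G * (Fintype.card Ω * k) := by
    rw [Finset.sum_comm, Finset.sum_mul]
    have : ∀ x, (∑ g : G, f x (g • x)) * Fintype.card Ω = Nat.card G * k := fun x => by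
      rw [← Finset.sum_fiberwise Finset.univ (fun g : G => g • x) (fun g => f x (g • x)),
        Finset.sum_mul, ← hrow x, Finset.mul_sum]
      refine Finset.sum_congr rfl fun y _ => ?_
      rw [Finset.sum_congr rfl (fun g hg => by rw [(Finset.mem_filter.1 hg).2]),
        Finset.sum_const, nsmul_eq_mul, mul_right_comm, hcard]
    rw [Finset.sum_congr rfl fun x _ => this x, Finset.sum_const, Finset.card_univ, nsmul_eq_mul]
    ring
  have hG : (Nat.card G : ℂ) ≠ 0 := Nat.cast_ne_zero.2 Nat.card_pos.ne'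
  rw [inv_mul_eq_div, div_eq_iff hG]
  refine mul_right_cancel₀ hn ?_
  rw [hsum]
  ring

/-- The orbital function of an invariant matrix. -/
noncomputable def orbFun (N : Matrix Ω Ω ℤ) : G → ℂ := fun g => ((∑ x, N x (g • x) : ℤ) : ℂ)

local notation "π_" => (fun g : G => (Nat.card (MulAction.fixedBy Ω g) : ℂ))

omit [Fintype G] in
theorem orbFun_pow_zero [DecidableEq Ω] (N : Matrix Ω Ω ℤ) :
    orbFun (G := G) (N ^ 0) = π_ := by
  funext g
  rw [orbFun, pow_zero, Nat.card_eq_fintype_card]
  simp only [Matrix.one_apply, Finset.sum_boole, Int.cast_natCast]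
  norm_cast
  rw [← Fintype.card_subtype]
  exact Fintype.card_congr (Equiv.subtypeEquivRight fun x => by
    rw [MulAction.mem_fixedBy, eq_comm])

/-- Multiplicities of the orbital function against an irreducible character. -/
theorem orbital_inner [DecidableEq Ω] (N : Matrix Ω Ω ℤ)
    (hN : ∀ (g : G) x y, N (g • x) (g • y) = N x y) {χ : G → ℂ} (hχ : IsIrrCharacter G χ) :
    IsIntegral ℤ (classInner (orbFun N) χ) ∧
    (classInner π_ χ = 0 → classInner (orbFun N) χ = 0) ∧
    (classInner π_ χ = 1 → ∀ j, classInner (orbFun (N ^ j)) χ = classInner (orbFun N) χ ^ j) := by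
  classical
  obtain ⟨S, ψ, hS, hψ, hsp⟩ := orbital_spectral N hN
  choose! m hm using fun t (ht : t ∈ S) =>
    classInner_isCharacter_eq_natCast (hψ t ht) (IsIrr.isCharacter hχ)
  have hj : ∀ j, classInner (orbFun (G := G) (N ^ j)) χ = ∑ t ∈ S, t ^ j * m t := fun j => by
    have : orbFun (G := G) (N ^ j) = ∑ t ∈ S, t ^ j • ψ t := funext fun g => by
      simp only [Finset.sum_apply, Pi.smul_apply, smul_eq_mul]
      exact hsp j g
    rw [this, classInner_sum_left]
    exact Finset.sum_congr rfl fun t ht => by rw [classInner_smul_left, hm t ht]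
  have h1 : classInner (orbFun (G := G) N) χ = ∑ t ∈ S, t * m t := by simpa using hj 1
  have h0 : classInner π_ χ = ((∑ t ∈ S, m t : ℕ) : ℂ) := by
    rw [← orbFun_pow_zero N, hj 0]
    simp
  refine ⟨?_, fun h => ?_, fun h j => ?_⟩
  · rw [h1]
    exact IsIntegral.sum _ fun t ht => (hS t ht).mul (isIntegral_natCast _)
  · rw [h0, Nat.cast_eq_zero, Finset.sum_eq_zero_iff] at h
    rw [h1]
    exact Finset.sum_eq_zero fun t ht => by simp [h t ht]
  · rw [h0, Nat.cast_eq_one] at h
    obtain ⟨t₀, ht₀, hm0⟩ : ∃ t ∈ S, m t ≠ 0 := by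
      by_contra h'
      push Not at h'
      rw [Finset.sum_eq_zero h'] at h
      omega
    have hle := Finset.single_le_sum (f := m) (fun t _ => Nat.zero_le _) ht₀
    have hother : ∀ t ∈ S, t ≠ t₀ → m t = 0 := fun t ht hne => by
      have : m t₀ + m t ≤ ∑ s ∈ S, m s := by
        rw [← Finset.sum_pair (f := m) hne.symm]
        exact Finset.sum_le_sum_of_subset (by
          intro s hs
          rcases Finset.mem_insert.1 hs with rfl | hs
          · exact ht₀
          · exact Finset.mem_singleton.1 hs ▸ ht)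
      omega
    have hm1 : m t₀ = 1 := by omega
    rw [hj, h1, Finset.sum_eq_single t₀ (fun t ht hne => by simp [hother t ht hne])
      (fun h' => absurd ht₀ h'), Finset.sum_eq_single t₀
      (fun t ht hne => by simp [hother t ht hne]) (fun h' => absurd ht₀ h'), hm1]
    simp

end Cfsg.Agent.Char
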