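import Mathlib
import Cfsg.Agent.Char.OrbitalTrace

/-!
# Subdegrees and constituents of transitive permutation characters
-/

namespace Cfsg.Agent.Char

universe u v

variable {G : Type u} [Group G] [Fintype G] {Ω : Type v} [Fintype Ω] [MulAction G Ω]

local notation "π_" => (fun g : G => (Nat.card (MulAction.fixedBy Ω g) : ℂ))

/-- Indicator matrix of the orbital of a pair. -/
noncomputable def orbMat (G : Type u) [Group G] {Ω : Type v} [MulAction G Ω] (a b : Ω) :
    Matrix Ω Ω ℤ :=
  fun x y => @ite _ (∃ g : G, g • a = x ∧ g • b = y) (Classical.propDecidable _) 1 0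

omit [Fintype G] [Fintype Ω] in
theorem orbMat_inv (a b : Ω) (g : G) (x y : Ω) :
    orbMat G a b (g • x) (g • y) = orbMat G a b x y := by
  classical
  unfold orbMat
  refine if_congr ⟨fun ⟨h, h1, h2⟩ => ⟨g⁻¹ * h, ?_, ?_⟩, fun ⟨h, h1, h2⟩ => ⟨g * h, ?_, ?_⟩⟩ rfl rfl
  · rw [mul_smul, h1, inv_smul_smul]
  · rw [mul_smul, h2, inv_smul_smul]
  · rw [mul_smul, h1]
  · rw [mul_smul, h2]

theorem orbMat_row [MulAction.IsPretransitive G Ω] (a b x : Ω) :
    ∑ y, orbMat G a b x y = Nat.card (MulAction.orbit (MulAction.stabilizer G a) b) := by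
  classical
  obtain ⟨u, rfl⟩ := MulAction.exists_smul_eq G a x
  rw [← Fintype.sum_equiv (MulAction.toPerm u) (fun y => orbMat G a b a y)
    (fun y => orbMat G a b (u • a) y) (fun y => (orbMat_inv a b u a y).symm)]
  have e : ∀ y, orbMat G a b a y = if (∃ g : G, g • a = a ∧ g • b = y) then 1 else 0 := fun y => by
    unfold orbMat
    by_cases h : ∃ g : G, g • a = a ∧ g • b = y <;> simp [h]
  rw [Finset.sum_congr rfl fun y _ => e y, Finset.sum_boole, Nat.card_eq_fintype_card, ← Fintype.card_subtype]
  refine congrArg Nat.cast (Fintype.card_congr (Equiv.subtypeEquivRight fun y => ?_))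
  constructor
  · rintro ⟨g, hg, rfl⟩
    exact ⟨⟨g, hg⟩, rfl⟩
  · rintro ⟨⟨g, hg⟩, rfl⟩
    exact ⟨g, hg, rfl⟩

omit [Fintype G] [Fintype Ω] in
theorem orbMat_diag {a b : Ω} (hab : b ≠ a) (x : Ω) : orbMat G a b x x = 0 := by
  unfold orbMat
  rw [if_neg]
  rintro ⟨g, h1, h2⟩
  exact hab (smul_left_cancel g (h2.trans h1.symm))

omit [Fintype G] in
theorem orbFun_isClassFunction (N : Matrix Ω Ω ℤ)
    (hN : ∀ (g : G) x y, N (g • x) (g • y) = N x y) : IsClassFunction G (orbFun (G := G) N) := by
  intro g h
  refine congrArg Int.cast ?_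
  refine (Fintype.sum_equiv (MulAction.toPerm h) _ _ fun x => ?_).symm
  simp only [MulAction.toPerm_apply, mul_smul, inv_smul_smul, hN]

theorem pi_isCharacter : IsCharacter G π_ := permRep_character (G := G) (Ω := Ω) ▸ isCharacter_of_rep _

theorem pi_inner_one [MulAction.IsPretransitive G Ω] [Nonempty Ω] :
    classInner π_ (fun _ => (1 : ℂ)) = 1 := by
  classical
  simp only [classInner, map_one, mul_one]
  refine Eq.trans ?_ (sum_fixedBy_eq_card (G := G) (fun x y : Ω => if x = y then (1 : ℂ) else 0) 1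
    (fun x => by simp) inferInstance)
  refine congrArg _ (Finset.sum_congr rfl fun g _ => ?_)
  rw [Finset.sum_boole, Nat.card_eq_fintype_card, ← Fintype.card_subtype]
  exact congrArg Nat.cast (Fintype.card_congr (Equiv.subtypeEquivRight fun x => by
    rw [MulAction.mem_fixedBy, eq_comm]))

theorem orbFun_inner_one [MulAction.IsPretransitive G Ω] (a b : Ω) :
    classInner (orbFun (orbMat G a b)) (fun _ : G => (1 : ℂ)) =
      Nat.card (MulAction.orbit (MulAction.stabilizer G a) b) := by
  classical
  simp only [classInner, map_one, mul_one, orbFun]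
  push_cast
  exact sum_fixedBy_eq_card (fun x y => ((orbMat G a b x y : ℤ) : ℂ)) _
    (fun x => by rw [← Int.cast_sum, orbMat_row]; simp) ⟨a⟩

theorem pi_inner_self [MulAction.IsPretransitive G Ω] (a : Ω) :
    classInner π_ π_ = Nat.card (MulAction.orbitRel.Quotient (MulAction.stabilizer G a) Ω) := by
  classical
  let fx : G → ℕ := fun g => Fintype.card (MulAction.fixedBy Ω g)
  let K : Ω → ℕ := fun x => ∑ g : G, if g • x = x then fx g else 0
  have hK : ∀ x, K x = K a := by
    intro x
    obtain ⟨u, rfl⟩ := MulAction.exists_smul_eq G a x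
    refine (Fintype.sum_equiv (MulAut.conj u).toEquiv _ _ fun g => ?_).symm
    refine if_congr ?_ (Fintype.card_congr (Equiv.subtypeEquiv (MulAction.toPerm u) fun z => ?_)) rfl
    · simp [mul_smul]
    · simp [mul_smul]
  have hKa : K a = Fintype.card (MulAction.orbitRel.Quotient (MulAction.stabilizer G a) Ω) *
      Fintype.card (MulAction.stabilizer G a) := by
    rw [← MulAction.sum_card_fixedBy_eq_card_orbits_mul_card_group ↥(MulAction.stabilizer G a) Ω]
    rw [show K a = ∑ g ∈ Finset.univ.filter (fun g : G => g • a = a), fx g from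
      (Finset.sum_filter _ _).symm]
    rw [Finset.sum_subtype (p := fun g => g ∈ MulAction.stabilizer G a) _ (by simp) fx]
    exact Finset.sum_congr rfl fun g _ => Fintype.card_congr (Equiv.refl _)
  have h1 : ∑ g : G, fx g * fx g = Fintype.card Ω * K a := by
    have : ∀ g : G, fx g * fx g = ∑ x : Ω, if g • x = x then fx g else 0 := fun g => by
      rw [← Finset.sum_filter, Finset.sum_const, smul_eq_mul, ← Fintype.card_subtype]
      rfl
    rw [Finset.sum_congr rfl fun g _ => this g, Finset.sum_comm,
      Finset.sum_congr rfl fun x _ => hK x, Finset.sum_const, Finset.card_univ, smul_eq_mul]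
  have h2 := MulAction.card_orbit_mul_card_stabilizer_eq_card_group G a
  rw [show Fintype.card (MulAction.orbit G a) = Fintype.card Ω from
    Fintype.card_congr ((Equiv.setCongr (MulAction.orbit_eq_univ G a)).trans (Equiv.Set.univ Ω))] at h2
  simp only [classInner, map_natCast, Nat.card_eq_fintype_card]
  rw [show (∑ g : G, (Fintype.card (MulAction.fixedBy Ω g) : ℂ) *
      Fintype.card (MulAction.fixedBy Ω g)) = ((∑ g : G, fx g * fx g : ℕ) : ℂ) by push_cast; rfl,
    h1, hKa, inv_mul_eq_div, div_eq_iff (Nat.cast_ne_zero.2 Fintype.card_ne_zero), ← h2]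
  push_cast
  ring

omit [Fintype G] in
/-- The sum of the non-trivial subdegrees. -/
theorem card_eq_sum_orbits (a : Ω)
    [Fintype (MulAction.orbitRel.Quotient (MulAction.stabilizer G a) Ω)] :
    Fintype.card Ω = ∑ w : MulAction.orbitRel.Quotient (MulAction.stabilizer G a) Ω,
      Nat.card (MulAction.orbit (MulAction.stabilizer G a) (Quotient.out w)) := by
  rw [← Nat.card_eq_fintype_card, Nat.card_congr (MulAction.selfEquivSigmaOrbits ↥(MulAction.stabilizer G a) Ω),
    Nat.card_sigma]

/-- Expansion of an orbital function at the identity. -/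
theorem orbFun_sum_eq [MulAction.IsPretransitive G Ω] {a b : Ω} (hab : b ≠ a)
    [DecidableEq (IrrCharacter G)] :
    ∑ χ ∈ Finset.univ.erase (⟨fun _ => 1, isIrrCharacter_one⟩ : IrrCharacter G),
      classInner (orbFun (orbMat G a b)) (χ : G → ℂ) * (χ : G → ℂ) 1 =
      -(Nat.card (MulAction.orbit (MulAction.stabilizer G a) b) : ℂ) := by
  have h := congrFun (classFun_expansion (orbFun_isClassFunction (orbMat G a b)
    (orbMat_inv (G := G) a b))) 1
  simp only [Finset.sum_apply, Pi.smul_apply, smul_eq_mul] at h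
  rw [← Finset.add_sum_erase _ _ (Finset.mem_univ (⟨fun _ => 1, isIrrCharacter_one⟩ :
    IrrCharacter G))] at h
  simp only [orbFun_inner_one, mul_one] at h
  rw [show orbFun (orbMat G a b) (1 : G) = 0 by simp [orbFun, orbMat_diag hab]] at h
  exact eq_neg_of_add_eq_zero_right h.symm

end Cfsg.Agent.Char
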