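import Mathlib
import Cfsg.Agent.ProjExt.CliffordCorr
import Cfsg.Agent.Char.Gen
import Cfsg.Agent.Char.Linear

/-!
# Induction from a normal subgroup with abelian inertia quotient
-/

namespace Cfsg.Agent.Char

open scoped ComplexConjugate

universe u

section Invariant

variable {T : Type u} [Group T] [Fintype T] (H : Subgroup T) [H.Normal] [Fintype H]

/-- For an invariant character with abelian quotient, the induced character is a multiple of
a sum of twists of a single character, all with the same multiplicity. -/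
theorem ind_eq_smul_sum_of_invariant (hab : ∀ x y : T, x * y * x⁻¹ * y⁻¹ ∈ H) {θ : H → ℂ}
    (hθ : IsIrrCharacter H θ) (hinv : ∀ t : T, conjFun t θ = θ) :
    ∃ (e : ℕ) (C : Finset (T → ℂ)), 0 < e ∧ (∀ χ ∈ C, IsIrrCharacter T χ) ∧
      e ^ 2 * C.card = H.index ∧ indFun H θ = (e : ℂ) • ∑ χ ∈ C, χ ∧
      ∀ χ ∈ C, ∀ n : H, χ n = (e : ℂ) * θ n := by
  classical
  obtain ⟨ψ, hψ⟩ := IsChar.exists_constituent (isCharacter_indFun H (IsIrr.isCharacter hθ))
    fun h => IsIrr.one_ne_zero hθ <| by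
      have h1 := congrFun h 1
      rw [indFun_apply_one, Pi.zero_apply, mul_eq_zero] at h1
      exact h1.resolve_left (Nat.cast_ne_zero.2 Subgroup.index_ne_zero_of_finite)
  rw [classInner_indFun_left H θ (isClassFunction_of_isIrr ψ.2)] at hψ
  obtain ⟨e, he⟩ := classInner_isCharacter_eq_natCast
    (isCharacter_res H (IsIrr.isCharacter ψ.2)) (IsIrr.isCharacter hθ)
  have hθψ : classInner θ (fun n : H => (ψ : T → ℂ) n) = e := by
    rw [← classInner_conj_symm, he, map_natCast]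
  rw [hθψ] at hψ
  have he0 : e ≠ 0 := fun h => hψ (by rw [h, Nat.cast_zero])
  have hres : ∀ n : H, (ψ : T → ℂ) n = (e : ℂ) * θ n := by
    intro n
    have horb : orbit θ = {θ} := Finset.eq_singleton_iff_unique_mem.2 ⟨self_mem_orbit θ,
      fun η hη => by obtain ⟨t, rfl⟩ := mem_orbit.1 hη; exact hinv t⟩
    have h := clifford ψ.2 hθ (by rw [he]; exact hψ)
    rw [horb, Finset.sum_singleton, he] at h
    exact congrFun h n
  let := Fintype.ofFinite (T ⧸ H)
  let : CommGroup (T ⧸ H) :=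
    { (inferInstance : Group (T ⧸ H)) with
      mul_comm := fun a b => by
        obtain ⟨x, rfl⟩ := QuotientGroup.mk_surjective a
        obtain ⟨y, rfl⟩ := QuotientGroup.mk_surjective b
        rw [← QuotientGroup.mk_mul, ← QuotientGroup.mk_mul, QuotientGroup.eq]
        simpa [mul_assoc] using hab y⁻¹ x⁻¹ }
  obtain ⟨eqv⟩ := CommGroup.monoidHom_mulEquiv_of_hasEnoughRootsOfUnity (T ⧸ H) ℂ
  have : Finite (T ⧸ H →* ℂˣ) := Finite.of_equiv _ eqv.symm.toEquiv
  let := Fintype.ofFinite (T ⧸ H →* ℂˣ)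
  have hcardL : Fintype.card (T ⧸ H →* ℂˣ) = H.index := by
    rw [← Nat.card_eq_fintype_card, Nat.card_congr eqv.toEquiv]
    rfl
  let tw : (T ⧸ H →* ℂˣ) → T → ℂ := fun l t => (l (t : T ⧸ H) : ℂ) * (ψ : T → ℂ) t
  have htwirr : ∀ l, IsIrrCharacter T (tw l) := by
    intro l
    have hl := isIrrCharacter_hom (l.comp (QuotientGroup.mk' H))
    refine (isIrr_iff_norm_one
      (isCharacter_mul (IsIrr.isCharacter hl) (IsIrr.isCharacter ψ.2))).2 ?_
    rw [← classInner_irr_self ψ.2]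
    simp only [classInner, Pi.mul_apply, map_mul]
    congr 1
    refine Finset.sum_congr rfl fun g _ => ?_
    have h3 : (l (g : T ⧸ H) : ℂ) * conj (l (g : T ⧸ H) : ℂ) = 1 := by
      have h4 := IsChar.inv_eq_conj (IsIrr.isCharacter hl) g
      simp only [MonoidHom.comp_apply, QuotientGroup.mk'_apply] at h4
      rw [← h4, ← Units.val_mul, ← map_mul, QuotientGroup.mk_inv, mul_inv_cancel, map_one,
        Units.val_one]
    simp only [MonoidHom.comp_apply, QuotientGroup.mk'_apply]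
    linear_combination ((ψ : T → ℂ) g * conj ((ψ : T → ℂ) g)) * h3
  have htwres : ∀ l, ∀ n : H, tw l n = (e : ℂ) * θ n := fun l n => by
    simp only [tw, (QuotientGroup.eq_one_iff (n : T)).2 n.2, map_one, Units.val_one, one_mul,
      hres]
  have hsum : ∑ l, tw l = (e : ℂ) • indFun H θ := by
    funext t
    have hdual : ∑ l : T ⧸ H →* ℂˣ, (l (t : T ⧸ H) : ℂ) =
        if t ∈ H then (H.index : ℂ) else 0 := by
      split_ifs with ht
      · rw [(QuotientGroup.eq_one_iff t).2 ht]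
        simp [hcardL]
      · obtain ⟨l₀, hl₀⟩ := CommGroup.exists_apply_ne_one_of_hasEnoughRootsOfUnity (T ⧸ H) ℂ
          (fun h => ht ((QuotientGroup.eq_one_iff t).1 h))
        have h1 : (l₀ (t : T ⧸ H) : ℂ) * ∑ l : T ⧸ H →* ℂˣ, (l (t : T ⧸ H) : ℂ) =
            ∑ l : T ⧸ H →* ℂˣ, (l (t : T ⧸ H) : ℂ) := by
          rw [Finset.mul_sum]
          exact Fintype.sum_equiv (Equiv.mulLeft l₀) _ _ fun l => by simp
        exact (mul_left_eq_self₀.1 h1).resolve_left fun h2 => hl₀ (Units.ext h2)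
    simp only [Finset.sum_apply, tw, ← Finset.sum_mul, hdual, Pi.smul_apply, smul_eq_mul]
    split_ifs with ht
    · obtain ⟨n, rfl⟩ : ∃ n : H, (n : T) = t := ⟨⟨t, ht⟩, rfl⟩
      have hc : ∀ (x : T) (hx : x⁻¹ * n * x ∈ H), θ ⟨x⁻¹ * n * x, hx⟩ = θ n := fun x hx => by
        have h := congrFun (hinv x⁻¹) n
        simpa [conjFun_apply] using h
      rw [indFun_apply_coe_of_normal, hres, Finset.sum_congr rfl fun x _ => hc x _,
        Finset.sum_const, Finset.card_univ, nsmul_eq_mul, ← Nat.card_eq_fintype_card,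
        ← H.card_mul_index, Nat.cast_mul]
      have : (Nat.card H : ℂ) ≠ 0 := card_ne_zero
      field_simp
    · rw [indFun_apply_of_normal (H := H) _ ht, mul_zero, zero_mul]
  set C := Finset.univ.image tw with hC
  have hC1 : ∀ χ ∈ C, IsIrrCharacter T χ ∧ ∀ n : H, χ n = (e : ℂ) * θ n := by
    intro χ hχ
    obtain ⟨l, -, rfl⟩ := Finset.mem_image.1 hχ
    exact ⟨htwirr l, htwres l⟩
  have hfib : ∀ χ ∈ C, (Finset.univ.filter fun l => tw l = χ).card = e ^ 2 := by
    intro χ hχ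
    obtain ⟨hχi, hχr⟩ := hC1 χ hχ
    have h1 : classInner (∑ l, tw l) χ = (e : ℂ) ^ 2 := by
      rw [hsum, classInner_smul_left, classInner_indFun_left H θ (isClassFunction_of_isIrr hχi),
        show (fun n : H => χ n) = (e : ℂ) • θ from funext hχr, classInner_smul_right,
        classInner_irr_self hθ, map_natCast]
      ring
    rw [classInner_sum_left, Finset.sum_congr rfl fun l _ => classInner_irr (htwirr l) hχi,
      Finset.sum_boole] at h1
    exact_mod_cast h1
  have hcardC : e ^ 2 * C.card = H.index := by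
    rw [← hcardL, ← Finset.card_univ (α := T ⧸ H →* ℂˣ),
      Finset.card_eq_sum_card_image tw (Finset.univ), Finset.sum_congr rfl hfib, Finset.sum_const,
      smul_eq_mul, mul_comm]
  have hind : indFun H θ = (e : ℂ) • ∑ χ ∈ C, χ := by
    have h1 : ∑ l, tw l = ∑ χ ∈ C, (e ^ 2) • χ := by
      rw [← Finset.sum_fiberwise_of_maps_to (t := C)
        (fun l _ => Finset.mem_image_of_mem tw (Finset.mem_univ l))]
      refine Finset.sum_congr rfl fun χ hχ => ?_
      rw [Finset.sum_congr rfl fun l hl => (Finset.mem_filter.1 hl).2, Finset.sum_const,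
        hfib χ hχ]
    rw [hsum, ← Finset.smul_sum] at h1
    funext t
    have h2 := congrFun h1 t
    simp only [Pi.smul_apply, smul_eq_mul, nsmul_eq_mul, Nat.cast_pow] at h2 ⊢
    apply mul_left_cancel₀ (Nat.cast_ne_zero.2 he0 : (e : ℂ) ≠ 0)
    rw [h2]
    simp only [Finset.sum_apply]
    ring
  exact ⟨e, C, Nat.pos_of_ne_zero he0, fun χ hχ => (hC1 χ hχ).1, hcardC, hind,
    fun χ hχ => (hC1 χ hχ).2⟩

end Invariant

section General

variable {G : Type u} [Group G] [Fintype G] (H : Subgroup G) [H.Normal] [Fintype H]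

/-- The induced character for an abelian inertia quotient. -/
theorem ind_eq_smul_sum {θ : H → ℂ} (hθ : IsIrrCharacter H θ)
    (hab : ∀ x ∈ inertia θ, ∀ y ∈ inertia θ, x * y * x⁻¹ * y⁻¹ ∈ H) :
    ∃ (e : ℕ) (C : Finset (G → ℂ)), 0 < e ∧ (∀ χ ∈ C, IsIrrCharacter G χ) ∧
      e ^ 2 * C.card = H.relIndex (inertia θ) ∧ indFun H θ = (e : ℂ) • ∑ χ ∈ C, χ ∧
      (∀ χ ∈ C, χ 1 = ((inertia θ).index : ℂ) * e * θ 1) ∧
      ∀ ψ : inertia θ → ℂ, IsIrrCharacter (inertia θ) ψ →
        (∀ n (h : n ∈ inertia θ) (hn : n ∈ H), ψ ⟨n, h⟩ = θ ⟨n, hn⟩) → e = 1 := by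
  classical
  have hHT := le_inertia (N := H) (isClassFunction_of_isIrr hθ)
  let := Fintype.ofFinite (inertia θ)
  let H' := H.subgroupOf (inertia θ)
  have : H'.Normal := Subgroup.normal_subgroupOf
  let := Fintype.ofFinite H'
  let θ' : H' → ℂ := fun x => θ ⟨(x : inertia θ), Subgroup.mem_subgroupOf.mp x.2⟩
  have hθ' : IsIrrCharacter H' θ' :=
    (isIrrCharacter_comp_equiv (Subgroup.subgroupOfEquivOfLe hHT)).2 hθ
  obtain ⟨e, C, he, hCirr, hcard, hind, hres⟩ := ind_eq_smul_sum_of_invariant H'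
    (fun x y => Subgroup.mem_subgroupOf.2 (hab x x.2 y y.2)) hθ'
    (fun t => funext fun x => congrFun (t.2 : conjFun (t : G) θ = θ) ⟨_, Subgroup.mem_subgroupOf.mp x.2⟩)
  have hne : ∀ ψ ∈ C, classInner (fun n : H => ψ ⟨n, hHT n.2⟩) θ ≠ 0 := by
    intro ψ hψ
    rw [show (fun n : H => ψ ⟨n, hHT n.2⟩) = (e : ℂ) • θ from
      funext fun n => hres ψ hψ ⟨⟨n, hHT n.2⟩, Subgroup.mem_subgroupOf.2 n.2⟩,
      classInner_smul_left, classInner_irr_self hθ, mul_one]
    exact Nat.cast_ne_zero.2 he.ne'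
  have hinj : Set.InjOn (indFun (inertia θ)) (C : Set (inertia θ → ℂ)) := fun ψ hψ ψ' hψ' h =>
    ProjExt.indFun_injective hθ rfl hHT (hCirr ψ hψ) (hCirr ψ' hψ') (hne ψ hψ) (hne ψ' hψ') h
  refine ⟨e, C.image (indFun (inertia θ)), he, ?_, ?_, ?_, ?_, ?_⟩
  · intro χ hχ
    obtain ⟨ψ, hψ, rfl⟩ := Finset.mem_image.1 hχ
    exact ProjExt.exists_induced hθ rfl hHT (hCirr ψ hψ) (hne ψ hψ)
  · rw [Finset.card_image_of_injOn hinj]
    exact hcard
  · rw [Finset.sum_image hinj, ← indFun_indFun H (inertia θ) hHT θ, hind, indFun_smul, indFun_sum]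
  · intro χ hχ
    obtain ⟨ψ, hψ, rfl⟩ := Finset.mem_image.1 hχ
    rw [indFun_apply_one, show ψ 1 = (e : ℂ) * θ 1 from hres ψ hψ 1]
    ring
  · intro ψ hψ hext
    have hψr : (fun n : H' => ψ n) = θ' := funext fun x => hext x _ _
    have h1 : classInner (indFun H' θ') ψ = 1 := by
      rw [classInner_indFun_left H' θ' (isClassFunction_of_isIrr hψ), hψr, classInner_irr_self hθ']
    rw [hind, classInner_smul_left, classInner_sum_left,
      Finset.sum_congr rfl fun χ hχ => classInner_irr (hCirr χ hχ) hψ, Finset.sum_boole,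
      ← Nat.cast_mul, ← Nat.cast_one, Nat.cast_inj] at h1
    exact (mul_eq_one.1 h1).1

end General

end Cfsg.Agent.Char
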