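import Mathlib
import Cfsg.Agent.Char.Induced
import Cfsg.Agent.Fusion.PGroup

/-!
# T.I. subgroups with Frobenius normalisers
-/

namespace Cfsg.Agent.Char

open scoped ComplexConjugate

universe u

variable {G : Type u} [Group G]

/-- A normal subgroup containing the centralisers of its non-identity elements is a Hall subgroup. -/
theorem coprime_index_of_centralizer_le [Finite G] (K : Subgroup G) [K.Normal]
    (hC : ∀ k ∈ K, k ≠ 1 → Subgroup.centralizer ({k} : Set G) ≤ K) :
    (Nat.card K).Coprime K.index := by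
  refine Nat.coprime_of_dvd fun p hp hpK hpi => ?_
  have := Fact.mk hp
  obtain ⟨y, hy⟩ := exists_prime_orderOf_dvd_card' p hpK
  have hyP : IsPGroup p (Subgroup.zpowers (y : G)) := IsPGroup.of_card (n := 1) (by
    rw [Nat.card_zpowers, Subgroup.orderOf_coe, hy, pow_one])
  obtain ⟨P, hP⟩ := hyP.exists_le_sylow
  have hne : K.subgroupOf (P : Subgroup G) ≠ ⊥ := fun h => by
    have hmem : (⟨(y : G), hP (Subgroup.mem_zpowers _)⟩ : (P : Subgroup G)) ∈
        K.subgroupOf (P : Subgroup G) := y.2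
    rw [h, Subgroup.mem_bot, Subtype.ext_iff] at hmem
    exact hp.one_lt.ne' (hy ▸ orderOf_eq_one_iff.2 (Subtype.ext hmem))
  obtain ⟨z, hz, hz1⟩ := Subgroup.ne_bot_iff_exists_ne_one.1
    (Fusion.pGroup_inf_center_ne_bot P.isPGroup' (K.subgroupOf (P : Subgroup G)) hne) |>
    fun ⟨z, hz⟩ => (⟨z.1, z.2, fun e => hz (Subtype.ext e)⟩ :
      ∃ z, z ∈ K.subgroupOf (P : Subgroup G) ⊓ Subgroup.center _ ∧ z ≠ 1)
  have hPK : (P : Subgroup G) ≤ K := fun g hg =>
    hC (z : G) hz.1 (fun e => hz1 (Subtype.ext e)) (Subgroup.mem_centralizer_singleton_iff.2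
      (congrArg Subtype.val (Subgroup.mem_center_iff.1 hz.2 ⟨g, hg⟩)))
  exact P.not_dvd_index (hpi.trans (Subgroup.index_dvd_of_le hPK))

/-- In a T.I. situation with Frobenius normaliser, fusion into `K` stays inside `K`. -/
theorem ti_frob_fusion [Finite G] (K : Subgroup G)
    (hC : ∀ k ∈ K, k ≠ 1 → Subgroup.centralizer ({k} : Set G) ≤ K)
    {x g : G} (hx : x ∈ Subgroup.normalizer (K : Set G)) (hg : g * x * g⁻¹ ∈ K) : x ∈ K := by
  set N := Subgroup.normalizer (K : Set G)
  have hKN : K ≤ N := Subgroup.le_normalizer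
  have hcop : (Nat.card (K.subgroupOf N)).Coprime (K.subgroupOf N).index := by
    refine coprime_index_of_centralizer_le (K.subgroupOf N) fun k hk hk1 c hc => ?_
    exact hC (k : G) hk (fun e => hk1 (Subtype.ext e)) (Subgroup.mem_centralizer_singleton_iff.2
      (congrArg Subtype.val (Subgroup.mem_centralizer_singleton_iff.1 hc)))
  rw [Nat.card_congr (Subgroup.subgroupOfEquivOfLe hKN).toEquiv] at hcop
  have hox : orderOf x ∣ Nat.card K := by
    have h1 : orderOf (⟨g * x * g⁻¹, hg⟩ : K) ∣ Nat.card K := orderOf_dvd_natCard _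
    rw [Subgroup.orderOf_mk] at h1
    exact (MulEquiv.orderOf_eq (MulAut.conj g) x) ▸ h1
  have h2 : ((⟨x, hx⟩ : N) : N ⧸ K.subgroupOf N) = 1 := orderOf_eq_one_iff.1
    (Nat.eq_one_of_dvd_coprimes hcop
      (((orderOf_map_dvd (QuotientGroup.mk' (K.subgroupOf N)) ⟨x, hx⟩).trans
        (Subgroup.orderOf_mk x hx).dvd).trans hox)
      (orderOf_dvd_natCard _))
  exact Subgroup.mem_subgroupOf.1 ((QuotientGroup.eq_one_iff _).1 h2)

/-- Induction from the normaliser of a T.I. subgroup. -/
theorem indFun_ti_frob [Fintype G] (K : Subgroup G)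
    (hTI : ∀ g : G, g ∉ Subgroup.normalizer (K : Set G) → ∀ k ∈ K, g * k * g⁻¹ ∈ K → k = 1)
    (hC : ∀ k ∈ K, k ≠ 1 → Subgroup.centralizer ({k} : Set G) ≤ K)
    {θ : Subgroup.normalizer (K : Set G) → ℂ}
    (hcl : IsClassFunction (Subgroup.normalizer (K : Set G)) θ)
    (h0 : ∀ x : Subgroup.normalizer (K : Set G), (x : G) ∉ K → θ x = 0) (h1 : θ 1 = 0)
    (x : Subgroup.normalizer (K : Set G)) :
    indFun (Subgroup.normalizer (K : Set G)) θ (x : G) = θ x := by
  classical
  have key : ∀ y : G, extendByZero (Subgroup.normalizer (K : Set G)) θ (y⁻¹ * x * y) = if y ∈ (Subgroup.normalizer (K : Set G)) then θ x else 0 := by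
    intro y
    split_ifs with hy
    · rw [extendByZero_of_mem (Subgroup.normalizer (K : Set G)) θ ((Subgroup.normalizer (K : Set G)).mul_mem ((Subgroup.normalizer (K : Set G)).mul_mem ((Subgroup.normalizer (K : Set G)).inv_mem hy) x.2) hy)]
      have := hcl x ⟨y⁻¹, (Subgroup.normalizer (K : Set G)).inv_mem hy⟩
      refine Eq.trans (congrArg θ (Subtype.ext ?_)) this
      simp
    · by_cases hz : y⁻¹ * x * y ∈ (Subgroup.normalizer (K : Set G))
      swap
      · exact extendByZero_of_not_mem (Subgroup.normalizer (K : Set G)) θ hz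
      rw [extendByZero_of_mem (Subgroup.normalizer (K : Set G)) θ hz]
      by_cases hzK : y⁻¹ * x * y ∈ K
      swap
      · exact h0 _ hzK
      have hxK : (x : G) ∈ K := ti_frob_fusion K hC x.2 (g := y⁻¹) (by simpa using hzK)
      have h2 : y⁻¹ * x * y = 1 := hTI y hy _ hzK (by rwa [show y * (y⁻¹ * (x : G) * y) * y⁻¹ = x by group])
      rw [show (⟨y⁻¹ * x * y, hz⟩ : (Subgroup.normalizer (K : Set G))) = 1 from Subtype.ext h2, h1]
  rw [indFun_apply, Finset.sum_congr rfl fun y _ => key y, ← Finset.sum_filter, Finset.sum_const,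
    nsmul_eq_mul, ← mul_assoc]
  have : (Finset.univ.filter fun y : G => y ∈ (Subgroup.normalizer (K : Set G))).card = Nat.card (Subgroup.normalizer (K : Set G)) := by
    rw [Nat.card_eq_fintype_card, Fintype.card_subtype]
  rw [this, inv_mul_cancel₀ (Nat.cast_ne_zero.2 Nat.card_pos.ne'), one_mul]

end Cfsg.Agent.Char
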