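import Mathlib
import Cfsg.Agent.Char.TIFrob
import Cfsg.Agent.Coherence.Basic
import Cfsg.Agent.Coherence.FrobKernel

/-!
# Exceptional characters for T.I. subgroups with Frobenius normalisers
-/

namespace Cfsg.Agent.Char.Exceptional

open scoped ComplexConjugate


universe u

section Local

variable {L : Type u} [Group L] [Fintype L] {K : Subgroup L} [K.Normal]

/-- The irreducible characters which are not trivial on `K`. -/
def InS (K : Subgroup L) (χ : L → ℂ) : Prop :=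
  IsIrrCharacter L χ ∧ ∃ k ∈ K, χ k ≠ χ 1

theorem InS.off (hC : ∀ k ∈ K, k ≠ 1 → Subgroup.centralizer ({k} : Set L) ≤ K) {χ : L → ℂ}
    (h : InS K χ) {x : L} (hx : x ∉ K) : χ x = 0 := by
  rcases Cfsg.Agent.Coherence.FrobKernel.irr_cases hC h.1 with h' | h'
  · obtain ⟨k, hk, hne⟩ := h.2
    exact absurd (h' k hk) hne
  · exact h' x hx

theorem InS.degree (hC : ∀ k ∈ K, k ≠ 1 → Subgroup.centralizer ({k} : Set L) ≤ K) {χ : L → ℂ}
    (h : InS K χ) : ∃ d : ℕ, 0 < d ∧ χ 1 = ((K.index * d : ℕ) : ℂ) := by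
  have := Fintype.ofFinite K
  obtain ⟨φ, hφ, rfl⟩ := Cfsg.Agent.S1528.result K hC χ h.1 h.2
  obtain ⟨d, hd0, hd⟩ := IsIrr.degree hφ
  exact ⟨d, hd0, by rw [indFun_apply_one, hd, Nat.cast_mul]⟩

theorem exists_min_degree (hC : ∀ k ∈ K, k ≠ 1 → Subgroup.centralizer ({k} : Set L) ≤ K)
    (hb : K ≠ ⊥) (ht : K ≠ ⊤) : ∃ χ : L → ℂ, InS K χ ∧ χ 1 = (K.index : ℂ) := by
  classical
  have := Fintype.ofFinite K
  obtain ⟨f, hf⟩ := Coherence.FrobKernel.exists_nontrivial_hom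
    (Coherence.FrobKernel.isNilpotent hC ht) hb
  have hlin : IsIrrCharacter K (Coherence.FrobKernel.linFun f) := isIrrCharacter_hom f
  have hirr : IsIrrCharacter L (indFun K (Coherence.FrobKernel.linFun f)) :=
    Coherence.FrobKernel.irr_ind hC hlin (Coherence.FrobKernel.linFun_ne_one hf)
  refine ⟨indFun K (Coherence.FrobKernel.linFun f), ⟨hirr, ?_⟩, ?_⟩
  · by_contra! hall
    have h1 : classInner (fun n : K => indFun K (Coherence.FrobKernel.linFun f) n)
        (Coherence.FrobKernel.linFun f) ≠ 0 := by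
      rw [← classInner_indFun_right K _ (isClassFunction_of_isIrr hirr), classInner_irr_self hirr]
      exact one_ne_zero
    refine h1 ?_
    have e : (fun n : K => indFun K (Coherence.FrobKernel.linFun f) n) =
        indFun K (Coherence.FrobKernel.linFun f) 1 • (fun _ : K => (1 : ℂ)) :=
      funext fun n => by simp [hall n n.2]
    rw [e, classInner_smul_left, classInner_irr_ne isIrrCharacter_one hlin
      (fun e' => hf (MonoidHom.ext fun n => Units.ext (congrFun e' n).symm)), mul_zero]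
  · rw [indFun_apply_one, show Coherence.FrobKernel.linFun f 1 = 1 by simp [Coherence.FrobKernel.linFun],
      mul_one]

/-- Two different members have equal weighted values nowhere but at the identity. -/
theorem not_const (hC : ∀ k ∈ K, k ≠ 1 → Subgroup.centralizer ({k} : Set L) ≤ K) {χ ξ : L → ℂ}
    (hχ : InS K χ) (hξ : InS K ξ) (hne : χ ≠ ξ) :
    ∃ a ∈ K, ∃ b ∈ K, a ≠ 1 ∧ b ≠ 1 ∧ χ a ≠ χ b := by
  classical
  by_contra! hall
  obtain ⟨k₀, hk₀, hk₀ne⟩ := hχ.2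
  have hk₀1 : k₀ ≠ 1 := fun e => hk₀ne (by rw [e])
  have h0 := classInner_irr_ne hχ.1 hξ.1 hne
  have h1 : classInner (fun _ => (1 : ℂ)) ξ = 0 := classInner_irr_ne isIrrCharacter_one hξ.1 fun e => by
    obtain ⟨k, _, hk'⟩ := hξ.2
    exact hk' (by rw [← e])
  have hc : (Nat.card L : ℂ)⁻¹ ≠ 0 := inv_ne_zero (Nat.cast_ne_zero.2 Nat.card_pos.ne')
  simp only [classInner, mul_eq_zero, hc, false_or] at h0 h1
  have hterm : ∀ g : L, χ g * conj (ξ g) =
      χ k₀ * (1 * conj (ξ g)) + (if g = 1 then (χ 1 - χ k₀) * conj (ξ 1) else 0) := fun g => by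
    by_cases hg1 : g = 1
    · subst hg1; rw [if_pos rfl]; ring
    rw [if_neg hg1, add_zero, one_mul]
    by_cases hgK : g ∈ K
    · rw [hall g hgK k₀ hk₀ hg1 hk₀1]
    · rw [hξ.off hC hgK, map_zero, mul_zero, mul_zero]
  rw [Finset.sum_congr rfl fun g _ => hterm g, Finset.sum_add_distrib, ← Finset.mul_sum, h1, mul_zero,
    zero_add, Finset.sum_ite_eq', if_pos (Finset.mem_univ _), mul_eq_zero, map_eq_zero] at h0
  exact hk₀ne (sub_eq_zero.1 (h0.resolve_right (IsIrr.one_ne_zero hξ.1))).symm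

/-- A class function orthogonal to all degree zero combinations is constant on `K` off `1`. -/
theorem const_of_orth (hC : ∀ k ∈ K, k ≠ 1 → Subgroup.centralizer ({k} : Set L) ≤ K)
    (hne : ∃ χ, InS K χ) {F : L → ℂ} (hF : IsClassFunction L F)
    (horth : ∀ χ ξ : L → ℂ, InS K χ → InS K ξ → classInner F (ξ 1 • χ - χ 1 • ξ) = 0)
    {a b : L} (ha : a ∈ K) (hb : b ∈ K) (ha1 : a ≠ 1) (hb1 : b ≠ 1) : F a = F b := by
  classical
  obtain ⟨χ₀, hχ₀⟩ := hne
  obtain ⟨d₀, hd₀0, hd₀⟩ := IsIrr.degree hχ₀.1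
  set t := classInner F χ₀ / χ₀ 1
  have hco : ∀ χ : IrrCharacter L, InS K (χ : L → ℂ) →
      classInner F (χ : L → ℂ) = t * (χ : L → ℂ) 1 := by
    intro χ hχ
    obtain ⟨d, hd0, hd⟩ := IsIrr.degree χ.2
    have h := horth χ χ₀ hχ hχ₀
    rw [classInner_sub_right, classInner_smul_right, classInner_smul_right, hd₀, hd, map_natCast,
      map_natCast, sub_eq_zero] at h
    have h0 : (d₀ : ℂ) ≠ 0 := Nat.cast_ne_zero.2 hd₀0.ne'
    show _ = classInner F χ₀ / χ₀ 1 * _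
    rw [hd, hd₀]
    field_simp
    linear_combination h
  have key : ∀ k ∈ K, k ≠ 1 → F k = ∑ χ ∈ Finset.univ.filter (fun χ : IrrCharacter L => ¬ InS K (χ : L → ℂ)),
      (classInner F (χ : L → ℂ) - t * (χ : L → ℂ) 1) * (χ : L → ℂ) 1 := by
    intro k hk hk1
    have hexp := congrFun (classFun_expansion hF) k
    simp only [Finset.sum_apply, Pi.smul_apply, smul_eq_mul] at hexp
    have hs := second_orthogonality k (1 : L)
    rw [if_neg (fun h => hk1 (isConj_one_left.1 h))] at hs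
    have hconj : ∀ χ : IrrCharacter L, conj ((χ : L → ℂ) 1) = (χ : L → ℂ) 1 := fun χ => by
      obtain ⟨d, -, hd⟩ := IsIrr.degree χ.2
      rw [hd, map_natCast]
    simp only [hconj] at hs
    have hval : ∀ χ : IrrCharacter L, ¬ InS K (χ : L → ℂ) → (χ : L → ℂ) k = (χ : L → ℂ) 1 :=
      fun χ h => by
        by_contra hne
        exact h ⟨χ.2, k, hk, hne⟩
    calc F k = ∑ χ : IrrCharacter L, (classInner F (χ : L → ℂ) * (χ : L → ℂ) k -
          t * ((χ : L → ℂ) k * (χ : L → ℂ) 1)) := by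
          rw [Finset.sum_sub_distrib, ← Finset.mul_sum, hs, mul_zero, sub_zero, hexp]
      _ = _ := by
          rw [← Finset.sum_filter_add_sum_filter_not Finset.univ
            (fun χ : IrrCharacter L => InS K (χ : L → ℂ)), Finset.sum_eq_zero, zero_add]
          · refine Finset.sum_congr rfl fun χ hχ => ?_
            rw [hval χ (Finset.mem_filter.1 hχ).2]; ring
          · intro χ hχ
            rw [hco χ (Finset.mem_filter.1 hχ).2]; ring
  rw [key a ha ha1, key b hb hb1]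

end Local

section Global

variable {G : Type u} [Group G] [Fintype G] (K : Subgroup G)
  [Fintype ↥(Subgroup.normalizer (K : Set G))]

local notation "NK" => Subgroup.normalizer (K : Set G)

local notation "KN" => K.subgroupOf (Subgroup.normalizer (K : Set G))

theorem cent_local (hC : ∀ k ∈ K, k ≠ 1 → Subgroup.centralizer ({k} : Set G) ≤ K) :
    ∀ k ∈ KN, k ≠ 1 → Subgroup.centralizer ({k} : Set NK) ≤ KN := by
  intro k hk hk1 c hc
  exact hC k hk (fun e => hk1 (Subtype.ext e)) (Subgroup.mem_centralizer_singleton_iff.2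
    (congrArg Subtype.val (Subgroup.mem_centralizer_singleton_iff.1 hc)))

theorem ind_res (hTI : ∀ g : G, g ∉ NK → ∀ k ∈ K, g * k * g⁻¹ ∈ K → k = 1)
    (hC : ∀ k ∈ K, k ≠ 1 → Subgroup.centralizer ({k} : Set G) ≤ K) {α : NK → ℂ}
    (hcl : IsClassFunction NK α) (h0 : ∀ x : NK, (x : G) ∉ K → α x = 0) (h1 : α 1 = 0) :
    (fun x : NK => indFun NK α x) = α :=
  funext fun x => indFun_ti_frob K hTI hC hcl h0 h1 x

theorem inner_ind (hTI : ∀ g : G, g ∉ NK → ∀ k ∈ K, g * k * g⁻¹ ∈ K → k = 1)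
    (hC : ∀ k ∈ K, k ≠ 1 → Subgroup.centralizer ({k} : Set G) ≤ K) {α : NK → ℂ}
    (hcl : IsClassFunction NK α) (h0 : ∀ x : NK, (x : G) ∉ K → α x = 0) (h1 : α 1 = 0)
    (β : NK → ℂ) : classInner (indFun NK α) (indFun NK β) = classInner α β := by
  rw [classInner_indFun_right NK β (isClassFunction_indFun NK α), ind_res K hTI hC hcl h0 h1]

/-- The exceptional characters, given by a coherent isometry. -/
structure Setup where
  hTI : ∀ g : G, g ∉ NK → ∀ k ∈ K, g * k * g⁻¹ ∈ K → k = 1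
  hlt : K < NK
  hC : ∀ k ∈ K, k ≠ 1 → Subgroup.centralizer ({k} : Set G) ≤ K
  S : Set (NK → ℂ)
  hS : ∀ χ, χ ∈ S ↔ InS KN χ
  htwo : ∃ χ ∈ S, ∃ ξ ∈ S, χ ≠ ξ
  star : (NK → ℂ) → (G → ℂ)
  hstar : IsLinearIsometryOn (zspan S) star
  hext : ∀ α ∈ zspanOn S ({1}ᶜ : Set NK), star α = indFun NK α

variable {K}

theorem Setup.alpha (D : Setup K) {χ ξ : NK → ℂ} (hχ : χ ∈ D.S) (hξ : ξ ∈ D.S) :
    IsClassFunction NK (ξ 1 • χ - χ 1 • ξ) ∧
      (∀ x : NK, (x : G) ∉ K → (ξ 1 • χ - χ 1 • ξ) x = 0) ∧ (ξ 1 • χ - χ 1 • ξ) 1 = 0 ∧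
      indFun NK (ξ 1 • χ - χ 1 • ξ) = ξ 1 • D.star χ - χ 1 • D.star ξ := by
  have h1 := (D.hS χ).1 hχ
  have h2 := (D.hS ξ).1 hξ
  have hC' := cent_local K D.hC
  obtain ⟨a, -, ha⟩ := IsIrr.degree h1.1
  obtain ⟨b, -, hb⟩ := IsIrr.degree h2.1
  refine ⟨fun g k => by
      simp [isClassFunction_of_isIrr h1.1 g k, isClassFunction_of_isIrr h2.1 g k],
    fun x hx => by simp [h1.off hC' (x := x) hx, h2.off hC' (x := x) hx],
    by simp [mul_comm], ?_⟩
  have mz : ∀ {η}, η ∈ D.S → η ∈ zspan D.S := fun h => Coherence.mem_zspan_of_mem h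
  rw [ha, hb]
  rw [← D.hext _ ⟨Coherence.zspan_sub (Coherence.zspan_natCast_smul b (mz hχ))
      (Coherence.zspan_natCast_smul a (mz hξ)), fun x hx => by
        simp only [Set.mem_compl_iff, Set.mem_singleton_iff, not_not] at hx
        subst hx
        simp [ha, hb, mul_comm]⟩,
    Coherence.iso_zspan_sub D.hstar (Coherence.zspan_natCast_smul b (mz hχ))
      (Coherence.zspan_natCast_smul a (mz hξ)),
    Coherence.iso_zspan_natCast D.hstar b (mz hχ), Coherence.iso_zspan_natCast D.hstar a (mz hξ)]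

theorem Setup.res_star (D : Setup K) {χ ξ : NK → ℂ} (hχ : χ ∈ D.S) (hξ : ξ ∈ D.S) {k : NK}
    (hk : (k : G) ∈ K) :
    ξ 1 * (D.star χ k - χ k) = χ 1 * (D.star ξ k - ξ k) := by
  obtain ⟨hcl, h0, h1, hind⟩ := D.alpha hχ hξ
  have h := indFun_ti_frob K D.hTI D.hC hcl h0 h1 k
  rw [hind] at h
  simp only [Pi.sub_apply, Pi.smul_apply, smul_eq_mul] at h
  linear_combination h

theorem Setup.star_gen (D : Setup K) {χ : NK → ℂ} (hχ : χ ∈ D.S) :
    IsGeneralizedCharacter G (D.star χ) ∧ classInner (D.star χ) (D.star χ) = 1 := by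
  refine ⟨D.hstar.2.2.2 χ (Coherence.mem_zspan_of_mem hχ), ?_⟩
  rw [D.hstar.2.2.1 χ (Coherence.mem_zspan_of_mem hχ) χ (Coherence.mem_zspan_of_mem hχ)]
  exact classInner_irr_self ((D.hS χ).1 hχ).1

theorem Setup.const (D : Setup K) {χ : NK → ℂ} (hχ : χ ∈ D.S) {a b : NK} (ha : (a : G) ∈ K)
    (hb : (b : G) ∈ K) (ha1 : a ≠ 1) (hb1 : b ≠ 1) :
    D.star χ a - χ a = D.star χ b - χ b := by
  obtain ⟨hgen, -⟩ := D.star_gen hχ
  have hcl := IsGen.isClassFunction hgen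
  refine const_of_orth (K := KN) (cent_local K D.hC) ⟨χ, (D.hS χ).1 hχ⟩
    (F := fun x : NK => D.star χ x - χ x) (fun g k => ?_) (fun η ζ hη hζ => ?_) ha hb ha1 hb1
  · simp only [Subgroup.coe_mul, Subgroup.coe_inv, hcl (g : G) (k : G),
      isClassFunction_of_isIrr ((D.hS χ).1 hχ).1 g k]
  obtain ⟨-, -, -, hind⟩ := D.alpha ((D.hS η).2 hη) ((D.hS ζ).2 hζ)
  show classInner ((fun x : NK => D.star χ x) - χ) _ = 0
  rw [classInner_sub_left, ← classInner_indFun_right NK _ hcl, hind]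
  have hη' := Coherence.mem_zspan_of_mem ((D.hS η).2 hη)
  have hζ' := Coherence.mem_zspan_of_mem ((D.hS ζ).2 hζ)
  have hχ' := Coherence.mem_zspan_of_mem hχ
  rw [classInner_sub_right, classInner_sub_right, classInner_smul_right, classInner_smul_right,
    classInner_smul_right, classInner_smul_right, D.hstar.2.2.1 χ hχ' η hη',
    D.hstar.2.2.1 χ hχ' ζ hζ', sub_self]

theorem Setup.exists_int (D : Setup K) :
    ∃ m : ℤ, ∀ χ ∈ D.S, ∀ k : NK, (k : G) ∈ K → k ≠ 1 →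
      D.star χ k - χ k = (m : ℂ) * χ 1 / ((KN).index : ℂ) := by
  classical
  obtain ⟨χ₁, hχ₁, -⟩ := D.htwo
  have hb : KN ≠ ⊥ := fun e => by
    obtain ⟨k, hk, hne⟩ := ((D.hS χ₁).1 hχ₁).2
    rw [e, Subgroup.mem_bot] at hk
    exact hne (by rw [hk])
  obtain ⟨k₀, hk₀, hk₀1⟩ := (Subgroup.bot_or_exists_ne_one KN).resolve_left hb
  have ht : KN ≠ ⊤ := fun e => D.hlt.not_ge (Subgroup.subgroupOf_eq_top.1 e)
  obtain ⟨χ₀, hχ₀, hdeg⟩ := exists_min_degree (cent_local K D.hC) hb ht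
  have hχ₀' := (D.hS χ₀).2 hχ₀
  obtain ⟨hgen, -⟩ := D.star_gen hχ₀'
  set c := D.star χ₀ k₀ - χ₀ k₀
  have hres : IsGeneralizedCharacter NK (fun x : NK => D.star χ₀ x - χ₀ x) :=
    isGeneralized_sub (isGeneralized_comp (NK).subtype hgen)
      (isGeneralized_of_isCharacter (IsIrr.isCharacter hχ₀.1))
  have hres' := hres
  obtain ⟨χa, χb, hχa, hχb, hab⟩ := hres
  have hint : IsIntegral ℤ c := by
    rw [show c = (χa - χb) k₀ from congrFun hab k₀]
    exact (IsChar.isIntegral hχa k₀).sub (IsChar.isIntegral hχb k₀)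
  have := Fintype.ofFinite KN
  obtain ⟨j, hj⟩ := classInner_generalized_int (isGeneralized_comp (KN).subtype hres')
    (isGeneralized_of_isCharacter (isCharacter_one (G := KN)))
  obtain ⟨j₁, hj₁⟩ : ∃ j : ℤ, D.star χ₀ ((1 : NK) : G) - χ₀ 1 = j := by
    obtain ⟨na, hna⟩ := IsChar.degree hχa
    obtain ⟨nb, hnb⟩ := IsChar.degree hχb
    exact ⟨(na : ℤ) - nb, by rw [congrFun hab 1]; simp [hna, hnb]⟩
  simp only [classInner, map_one, mul_one] at hj
  rw [inv_mul_eq_iff_eq_mul₀ (Nat.cast_ne_zero.2 Nat.card_pos.ne')] at hj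
  have hsum : ∑ x : KN, (D.star χ₀ ((x : NK) : G) - χ₀ x) = (j₁ : ℂ) + ((Nat.card KN : ℂ) - 1) * c := by
    rw [← Finset.add_sum_erase _ _ (Finset.mem_univ (1 : KN)),
      Finset.sum_congr rfl (g := fun _ => c) fun x hx => ?_, Finset.sum_const,
      Finset.card_erase_of_mem (Finset.mem_univ _), Finset.card_univ, nsmul_eq_mul,
      Nat.cast_sub Fintype.card_pos, Nat.card_eq_fintype_card, Nat.cast_one]
    · congr 1
    · exact D.const hχ₀' x.2 hk₀ (fun e => Finset.ne_of_mem_erase hx (Subtype.ext e)) hk₀1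
  rw [show ∑ x : KN, (D.star χ₀ (((KN).subtype x : NK) : G) - χ₀ ((KN).subtype x)) =
    ∑ x : KN, (D.star χ₀ ((x : NK) : G) - χ₀ x) from rfl, hsum] at hj
  have hcard : (1 : ℕ) < Nat.card KN :=
    Finite.one_lt_card_iff_nontrivial.2 ⟨⟨⟨k₀, hk₀⟩, 1, fun e => hk₀1 (congrArg Subtype.val e)⟩⟩
  have hne : (Nat.card KN : ℚ) - 1 ≠ 0 := sub_ne_zero.2 (by exact_mod_cast hcard.ne')
  have hrat : c = ((((Nat.card KN : ℚ) * j - j₁) / ((Nat.card KN : ℚ) - 1) : ℚ) : ℂ) := by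
    have hne' : (Nat.card KN : ℂ) - 1 ≠ 0 := sub_ne_zero.2 (by exact_mod_cast hcard.ne')
    push_cast
    rw [eq_div_iff hne']
    linear_combination hj
  rw [hrat] at hint
  obtain ⟨m, hm⟩ := exists_int_of_isIntegral_rat hint
  refine ⟨m, fun χ hχ k hk hk1 => ?_⟩
  have hcm : c = (m : ℂ) := by rw [hrat, ← hm]; simp
  have h := D.res_star hχ hχ₀' hk
  rw [hdeg, D.const hχ₀' hk hk₀ hk1 hk₀1] at h
  rw [eq_div_iff (Nat.cast_ne_zero.2 Subgroup.index_ne_zero_of_finite)]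
  linear_combination h + χ 1 * hcm

theorem Setup.iff_exceptional (D : Setup K) {ψ : G → ℂ} (hψ : IsIrrCharacter G ψ) :
    (∃ χ ∈ D.S, ψ = D.star χ ∨ ψ = -D.star χ) ↔ ∃ a ∈ K, ∃ b ∈ K, a ≠ 1 ∧ b ≠ 1 ∧ ψ a ≠ ψ b := by
  classical
  have hcl := isClassFunction_of_isIrr hψ
  constructor
  · rintro ⟨χ, hχ, hψχ⟩
    obtain ⟨ξ, hξ, hne⟩ : ∃ ξ ∈ D.S, χ ≠ ξ := by
      obtain ⟨χ₁, h1, χ₂, h2, h12⟩ := D.htwo
      by_cases h : χ = χ₁
      · exact ⟨χ₂, h2, h ▸ h12⟩
      · exact ⟨χ₁, h1, h⟩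
    obtain ⟨a, ha, b, hb, ha1, hb1, hab⟩ :=
      not_const (cent_local K D.hC) ((D.hS χ).1 hχ) ((D.hS ξ).1 hξ) hne
    refine ⟨a, ha, b, hb, fun e => ha1 (Subtype.ext e), fun e => hb1 (Subtype.ext e), fun h => hab ?_⟩
    have h2 := D.const hχ ha hb ha1 hb1
    rcases hψχ with e | e <;> subst e
    · linear_combination h - h2
    · simp only [Pi.neg_apply, neg_inj] at h
      linear_combination h - h2
  · rintro ⟨a, ha, b, hb, ha1, hb1, hab⟩
    by_contra! hno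
    have horth : ∀ χ ∈ D.S, classInner ψ (D.star χ) = 0 := by
      intro χ hχ
      obtain ⟨hgen, hn⟩ := D.star_gen hχ
      obtain ⟨φ, hφ⟩ := IsGen.eq_pm_irr hgen hn
      rcases hφ with e | e
      · rw [e]
        exact classInner_irr_ne hψ φ.2 fun e' => (hno χ hχ).1 (e'.trans e.symm)
      · rw [e, classInner_neg_right,
          classInner_irr_ne hψ φ.2 (fun e' => (hno χ hχ).2 (by rw [e, neg_neg]; exact e')), neg_zero]
    have hkN : ∀ k ∈ K, k ∈ NK := fun k hk => Subgroup.le_normalizer hk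
    obtain ⟨χ₁, hχ₁, -⟩ := D.htwo
    refine hab (const_of_orth (K := KN) (cent_local K D.hC) ⟨χ₁, (D.hS χ₁).1 hχ₁⟩
      (F := fun x : NK => ψ x) (fun g k => hcl (g : G) (k : G)) (fun η ζ hη hζ => ?_)
      (a := ⟨a, hkN a ha⟩) (b := ⟨b, hkN b hb⟩) ha hb
      (fun e => ha1 (congrArg Subtype.val e)) (fun e => hb1 (congrArg Subtype.val e)))
    rw [← classInner_indFun_right NK _ hcl, (D.alpha ((D.hS η).2 hη) ((D.hS ζ).2 hζ)).2.2.2,
      classInner_sub_right, classInner_smul_right, classInner_smul_right,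
      horth η ((D.hS η).2 hη), horth ζ ((D.hS ζ).2 hζ), mul_zero, mul_zero, sub_zero]

end Global

end Cfsg.Agent.Char.Exceptional
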