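import Cfsg.Agent.Char.Exceptional
import Cfsg.Agent.S0851

/-!
The exceptional characters of an abelian T.I. subgroup containing its centralisers, with the values
of all irreducible characters on it.
-/

set_option autoImplicit false
set_option maxHeartbeats 800000

open scoped ComplexConjugate

namespace Cfsg.Agent.Char.AbelianTI

open Exceptional

universe u

section Local

variable {L : Type u} [Group L] [Fintype L] {K : Subgroup L} [K.Normal]

theorem degree_eq (hC : ∀ k ∈ K, k ≠ 1 → Subgroup.centralizer ({k} : Set L) ≤ K)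
    (hab : ∀ a ∈ K, ∀ b ∈ K, a * b = b * a) {χ : L → ℂ} (h : InS K χ) : χ 1 = (K.index : ℂ) := by
  have := Fintype.ofFinite K
  obtain ⟨φ, hφ, rfl⟩ := Cfsg.Agent.S1528.result K hC χ h.1 h.2
  rw [indFun_apply_one, IsIrr.degree_one_of_comm hφ fun a b => Subtype.ext (hab a a.2 b b.2), mul_one]

/-- The number of characters not trivial on `K`, and their first two moments on `K`. -/
theorem moments (hC : ∀ k ∈ K, k ≠ 1 → Subgroup.centralizer ({k} : Set L) ≤ K)
    (hab : ∀ a ∈ K, ∀ b ∈ K, a * b = b * a) (hb : K ≠ ⊥) :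
    Nat.card {χ : IrrCharacter L // InS K (χ : L → ℂ)} * K.index + 1 = Nat.card K ∧
    ∀ a ∈ K, a ≠ 1 →
      (∑ᶠ χ : {χ : IrrCharacter L // InS K (χ : L → ℂ)}, (χ.1 : L → ℂ) a) = -1 ∧
      (∑ᶠ χ : {χ : IrrCharacter L // InS K (χ : L → ℂ)},
        (χ.1 : L → ℂ) a * conj ((χ.1 : L → ℂ) a)) = (Nat.card K : ℂ) - K.index := by
  classical
  have := Fintype.ofFinite K
  set S := Finset.univ.filter fun χ : IrrCharacter L => InS K (χ : L → ℂ) with hS
  set T := Finset.univ.filter fun χ : IrrCharacter L => ¬ InS K (χ : L → ℂ) with hT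
  have hsplit : ∀ f : IrrCharacter L → ℂ, ∑ χ, f χ = ∑ χ ∈ S, f χ + ∑ χ ∈ T, f χ := fun f =>
    (Finset.sum_filter_add_sum_filter_not _ _ f).symm
  have hfs : ∀ f : IrrCharacter L → ℂ,
      (∑ᶠ χ : {χ : IrrCharacter L // InS K (χ : L → ℂ)}, f χ.1) = ∑ χ ∈ S, f χ := fun f => by
    rw [finsum_eq_sum_of_fintype]
    exact (Finset.sum_subtype S (fun χ => by simp [hS]) f).symm
  have htriv : ∀ χ ∈ T, ∀ a ∈ K, (χ : L → ℂ) a = (χ : L → ℂ) 1 := by
    intro χ hχ a ha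
    by_contra hne
    exact (Finset.mem_filter.1 hχ).2 ⟨χ.2, a, ha, hne⟩
  have hconj : ∀ χ : IrrCharacter L, conj ((χ : L → ℂ) 1) = (χ : L → ℂ) 1 := fun χ => by
    obtain ⟨d, -, hd⟩ := IsIrr.degree χ.2
    rw [hd, map_natCast]
  set e : ℂ := (K.index : ℂ) with he
  set O : ℂ := ∑ χ ∈ T, (χ : L → ℂ) 1 * (χ : L → ℂ) 1 with hO
  have he0 : e ≠ 0 := Nat.cast_ne_zero.2 Subgroup.index_ne_zero_of_finite
  have hdeg : ∀ χ ∈ S, (χ : L → ℂ) 1 = e := fun χ hχ => degree_eq hC hab (Finset.mem_filter.1 hχ).2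
  have hsum : ∀ a ∈ K, a ≠ 1 → e * ∑ χ ∈ S, (χ : L → ℂ) a = -O := by
    intro a ha ha1
    have h := second_orthogonality a (1 : L)
    rw [if_neg (fun h => ha1 (isConj_one_left.1 h)), hsplit] at h
    rw [Finset.sum_congr rfl (fun (χ : IrrCharacter L) hχ => show (χ : L → ℂ) a * conj ((χ : L → ℂ) 1) = (χ : L → ℂ) a * e by
        rw [hconj, hdeg χ hχ]),
      Finset.sum_congr rfl (fun (χ : IrrCharacter L) hχ => show (χ : L → ℂ) a * conj ((χ : L → ℂ) 1) =
        (χ : L → ℂ) 1 * (χ : L → ℂ) 1 by rw [hconj, htriv χ hχ a ha]), ← Finset.sum_mul] at h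
    linear_combination h
  have htot : (S.card : ℂ) * (e * e) + O = (Nat.card K : ℂ) * e := by
    have h := second_orthogonality (1 : L) (1 : L)
    rw [if_pos (IsConj.refl 1), hsplit] at h
    rw [Finset.sum_congr rfl (fun (χ : IrrCharacter L) hχ => show (χ : L → ℂ) 1 * conj ((χ : L → ℂ) 1) = e * e by
        rw [hconj, hdeg χ hχ]),
      Finset.sum_congr rfl (fun (χ : IrrCharacter L) _ => show (χ : L → ℂ) 1 * conj ((χ : L → ℂ) 1) =
        (χ : L → ℂ) 1 * (χ : L → ℂ) 1 by rw [hconj]), Finset.sum_const, nsmul_eq_mul] at h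
    have hc : Nat.card (Subgroup.centralizer ({1} : Set L)) = Nat.card L := by
      rw [show Subgroup.centralizer ({1} : Set L) = ⊤ from eq_top_iff.2 fun x _ =>
        Subgroup.mem_centralizer_singleton_iff.2 (by simp), Subgroup.card_top]
    rw [hc, ← Subgroup.card_mul_index K, Nat.cast_mul] at h
    exact h
  have hzero : ∀ χ ∈ S, ∑ a : K, (χ : L → ℂ) a = 0 := by
    intro χ hχ
    have hχS := (Finset.mem_filter.1 hχ).2
    have h := classInner_irr_ne hχS.1 isIrrCharacter_one fun e' => by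
      obtain ⟨k, -, hk⟩ := hχS.2
      exact hk (by rw [e'])
    simp only [classInner, map_one, mul_one] at h
    rw [mul_eq_zero, or_iff_right (inv_ne_zero (Nat.cast_ne_zero.2 Nat.card_pos.ne'))] at h
    rw [← h, ← Finset.sum_subset (Finset.subset_univ (Finset.univ.filter (· ∈ K)))
      (fun x _ hx => hχS.off hC (by simpa using hx))]
    exact (Finset.sum_subtype _ (fun x => by simp) _).symm
  have hO' : O = e := by
    have h1 : ∑ a ∈ (Finset.univ : Finset K).erase 1, e * ∑ χ ∈ S, (χ : L → ℂ) a =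
        ((Nat.card K : ℂ) - 1) * (-O) := by
      rw [Finset.sum_congr rfl fun (a : K) ha => hsum a a.2 fun e' =>
        (Finset.ne_of_mem_erase ha) (Subtype.ext e'), Finset.sum_const,
        Finset.card_erase_of_mem (Finset.mem_univ _), Finset.card_univ, nsmul_eq_mul,
        Nat.cast_sub Fintype.card_pos, Nat.card_eq_fintype_card, Nat.cast_one]
    rw [← Finset.mul_sum, Finset.sum_comm,
      Finset.sum_congr rfl (fun (χ : IrrCharacter L) hχ => show ∑ a ∈ (Finset.univ : Finset K).erase 1, (χ : L → ℂ) a = -e by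
        rw [Finset.sum_erase_eq_sub (Finset.mem_univ _), hzero χ hχ, OneMemClass.coe_one, hdeg χ hχ,
          zero_sub]), Finset.sum_const, nsmul_eq_mul] at h1
    have hcard : (Nat.card K : ℂ) ≠ 0 := Nat.cast_ne_zero.2 Nat.card_pos.ne'
    have h2 : (Nat.card K : ℂ) * O = (Nat.card K : ℂ) * e := by linear_combination h1 + htot
    exact mul_left_cancel₀ hcard h2
  have hk : (S.card : ℂ) * e + 1 = (Nat.card K : ℂ) := by
    refine mul_right_cancel₀ he0 ?_
    linear_combination htot - hO'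
  have hcS : Nat.card {χ : IrrCharacter L // InS K (χ : L → ℂ)} = S.card := by
    rw [Nat.card_eq_fintype_card, Fintype.card_subtype]
  refine ⟨?_, fun a ha ha1 => ⟨?_, ?_⟩⟩
  · rw [hcS]
    rw [he] at hk
    exact_mod_cast hk
  · rw [hfs (fun χ => (χ : L → ℂ) a)]
    refine mul_left_cancel₀ he0 ?_
    rw [hsum a ha ha1, hO', mul_neg_one]
  · rw [hfs (fun χ => (χ : L → ℂ) a * conj ((χ : L → ℂ) a))]
    have h := second_orthogonality a a
    rw [if_pos (IsConj.refl a), hsplit,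
      Finset.sum_congr rfl (fun (χ : IrrCharacter L) hχ => show (χ : L → ℂ) a * conj ((χ : L → ℂ) a) =
        (χ : L → ℂ) 1 * (χ : L → ℂ) 1 from by rw [htriv χ hχ a ha, hconj]) (s₁ := T)] at h
    have hcent : Subgroup.centralizer ({a} : Set L) = K :=
      le_antisymm (hC a ha ha1) fun x hx =>
        Subgroup.mem_centralizer_singleton_iff.2 (hab x hx a ha)
    rw [hcent] at h
    linear_combination h - hO'

end Local

/-- A value taken at all nonidentity elements of `K` is congruent to the value at the identity. -/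
theorem int_of_const {G : Type u} [Group G] [Fintype G] {K : Subgroup G} [Fintype K] [DecidableEq K]
    (hK : K ≠ ⊥) {ψ : G → ℂ}
    (hψ : IsIrrCharacter G ψ) {d : ℕ} (hd : ψ 1 = d) (z : ℂ) (w : K → ℂ) (t : ℤ)
    (hw : ∑ a ∈ (Finset.univ : Finset K).erase 1, w a = t) (hwi : ∀ a : K, IsIntegral ℤ (w a))
    (hval : ∀ a : K, a ≠ 1 → ψ a = w a + z) :
    ∃ n : ℤ, z = n ∧ (Nat.card K : ℤ) ∣ d + t - n := by
  classical
  obtain ⟨⟨a₀, ha₀⟩, hne⟩ := Subgroup.ne_bot_iff_exists_ne_one.1 hK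
  have hint : IsIntegral ℤ z := by
    have := (IsChar.isIntegral (IsIrr.isCharacter hψ) a₀).sub (hwi ⟨a₀, ha₀⟩)
    rwa [hval ⟨a₀, ha₀⟩ hne, add_sub_cancel_left] at this
  obtain ⟨j, hj⟩ := classInner_generalized_int
    (isGeneralized_comp K.subtype (isGeneralized_of_isCharacter (IsIrr.isCharacter hψ)))
    (isGeneralized_of_isCharacter (isCharacter_one (G := K)))
  simp only [classInner, map_one, mul_one] at hj
  rw [inv_mul_eq_iff_eq_mul₀ (Nat.cast_ne_zero.2 Nat.card_pos.ne')] at hj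
  have hsum : ∑ x : K, ψ (x : G) = (d : ℂ) + t + ((Nat.card K : ℂ) - 1) * z := by
    rw [← Finset.add_sum_erase _ _ (Finset.mem_univ (1 : K)),
      Finset.sum_congr rfl fun x hx => hval x (Finset.ne_of_mem_erase hx), Finset.sum_add_distrib, hw,
      Finset.sum_const, Finset.card_erase_of_mem (Finset.mem_univ _), Finset.card_univ, nsmul_eq_mul,
      Nat.cast_sub Fintype.card_pos, Nat.card_eq_fintype_card, Nat.cast_one, OneMemClass.coe_one, hd]
    ring
  rw [show ∑ x : K, ψ (K.subtype x) = ∑ x : K, ψ (x : G) from rfl, hsum] at hj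
  have hcard : 1 < Nat.card K := Subgroup.one_lt_card_iff_ne_bot K |>.2 hK
  have hne' : (Nat.card K : ℂ) - 1 ≠ 0 := sub_ne_zero.2 (by exact_mod_cast hcard.ne')
  have hrat : z = ((((Nat.card K : ℚ) * j - d - t) / ((Nat.card K : ℚ) - 1) : ℚ) : ℂ) := by
    push_cast
    rw [eq_div_iff hne']
    linear_combination hj
  rw [hrat] at hint
  obtain ⟨n, hn⟩ := exists_int_of_isIntegral_rat hint
  have hzn : z = n := by rw [hrat, ← hn]; simp
  refine ⟨n, hzn, ⟨j - n, ?_⟩⟩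
  rw [hzn] at hj
  have h2 : ((d + t - n : ℤ) : ℂ) = (((Nat.card K : ℤ) * (j - n) : ℤ) : ℂ) := by
    push_cast
    linear_combination hj
  exact_mod_cast h2

/-- The exceptional family. -/
theorem family {G : Type u} [Group G] [Fintype G] (K : Subgroup G)
    (hTI : ∀ g : G, g ∉ Subgroup.normalizer (K : Set G) → ∀ k ∈ K, g * k * g⁻¹ ∈ K → k = 1)
    (hC : ∀ k ∈ K, k ≠ 1 → Subgroup.centralizer ({k} : Set G) ≤ K)
    (hab : ∀ a ∈ K, ∀ b ∈ K, a * b = b * a) {e : ℕ} (he : 2 ≤ e)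
    (hN : Nat.card (Subgroup.normalizer (K : Set G)) = e * Nat.card K) (hk : 2 * e + 1 ≤ Nat.card K) :
    ∃ (E : Finset (IrrCharacter G)) (ε c x : ℤ), (ε = 1 ∨ ε = -1) ∧
      (E.card * e + 1 = Nat.card K) ∧
      (∀ χ ∈ E, (χ : G → ℂ) 1 = x) ∧ (Nat.card K : ℤ) ∣ x - ε * e - c ∧
      (∀ χ ∈ E, ∀ ψ ∈ E, ∀ g : G, (∀ h ∈ K, h ≠ 1 → ¬ IsConj h g) → (χ : G → ℂ) g = (ψ : G → ℂ) g) ∧
      (∀ χ ∈ E, ∃ a ∈ K, ∃ b ∈ K, a ≠ 1 ∧ b ≠ 1 ∧ (χ : G → ℂ) a ≠ (χ : G → ℂ) b) ∧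
      ∃ cst : IrrCharacter G → ℤ,
        (∀ χ, χ ∉ E → ∀ a ∈ K, a ≠ 1 → (χ : G → ℂ) a = cst χ) ∧
        (∀ χ, χ ∉ E → ∀ d : ℕ, (χ : G → ℂ) 1 = d → (Nat.card K : ℤ) ∣ d - cst χ) ∧
        (e : ℤ) = E.card * c ^ 2 - 2 * ε * c + ∑ χ ∈ Finset.univ.filter (· ∉ E), cst χ ^ 2 := by
  classical
  set N := Subgroup.normalizer (K : Set G) with hNdef
  have hKN : K ≤ N := Subgroup.le_normalizer
  have hK : K ≠ ⊥ := fun h => by rw [h, Subgroup.card_bot] at hk; omega
  have hlt : K < N := lt_of_le_of_ne hKN fun h => by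
    have h2 : Nat.card N = Nat.card K := by rw [← h]
    rw [hN] at h2
    nlinarith
  set KN := K.subgroupOf N with hKNdef
  have hC' := cent_local K hC
  have hab' : ∀ a ∈ KN, ∀ b ∈ KN, a * b = b * a := fun a ha b hb => Subtype.ext (hab a ha b hb)
  have hcardKN : Nat.card KN = Nat.card K := Nat.card_congr (Subgroup.subgroupOfEquivOfLe hKN).toEquiv
  have hidx : KN.index = e := by
    have h := Subgroup.card_mul_index KN
    rw [hcardKN, hN, mul_comm e] at h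
    exact Nat.eq_of_mul_eq_mul_left Nat.card_pos h
  have hKN1 : KN ≠ ⊥ := fun h => by
    rw [h, Subgroup.card_bot] at hcardKN
    omega
  obtain ⟨hcount, hmom⟩ := moments hC' hab' hKN1
  rw [hidx, hcardKN] at hcount hmom
  let I := {χ : IrrCharacter N // InS KN (χ : N → ℂ)}
  obtain ⟨ε, f, hε, hf, hind⟩ : ∃ (ε : ℂ) (f : I → IrrCharacter G), (ε = 1 ∨ ε = -1) ∧
      Function.Injective f ∧ ∀ χ ξ : I, indFun N ((χ.1 : N → ℂ) - (ξ.1 : N → ℂ)) =
        ε • ((f χ : G → ℂ) - (f ξ : G → ℂ)) := by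
    have hiff : ∀ χ : IrrCharacter N, InS KN (χ : N → ℂ) ↔
        ∃ k : N, (k : G) ∈ K ∧ (χ : N → ℂ) k ≠ (χ : N → ℂ) 1 := fun χ =>
      ⟨fun h => h.2, fun h => ⟨χ.2, h⟩⟩
    rcases Cfsg.Agent.S0851.result K hTI hlt hC hab with ⟨h1, -⟩ | ⟨ε, f, hε, hf, h⟩
    · rw [← Nat.card_congr (Equiv.subtypeEquivRight hiff)] at h1
      rw [h1] at hcount
      omega
    · refine ⟨ε, fun χ : I => f ⟨χ.1, (hiff χ.1).1 χ.2⟩, hε, ?_, fun χ ξ => ?_⟩
      · intro a b e'
        have h2 := hf e'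
        rw [Subtype.mk.injEq] at h2
        exact Subtype.ext h2
      · exact h ⟨χ.1, (hiff χ.1).1 χ.2⟩ ⟨ξ.1, (hiff ξ.1).1 ξ.2⟩
  obtain ⟨εz, hεz, rfl⟩ : ∃ εz : ℤ, (εz = 1 ∨ εz = -1) ∧ ε = (εz : ℂ) := by
    rcases hε with rfl | rfl
    · exact ⟨1, Or.inl rfl, by simp⟩
    · exact ⟨-1, Or.inr rfl, by simp⟩
  have hεsq : (εz : ℂ) * εz = 1 := by rcases hεz with rfl | rfl <;> simp
  have htwo : 2 ≤ Nat.card I := by
    rcases Nat.lt_or_ge (Nat.card I) 2 with h | h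
    · have : Nat.card I * e ≤ 1 * e := Nat.mul_le_mul_right _ (by omega)
      change Nat.card I * e + 1 = Nat.card K at hcount
      omega
    · exact h
  haveI : Nontrivial I := Finite.one_lt_card_iff_nontrivial.1 htwo
  obtain ⟨χ₀⟩ : Nonempty I := inferInstance
  obtain ⟨⟨a₀, ha₀⟩, ha₀'⟩ := Subgroup.ne_bot_iff_exists_ne_one.1 hKN1
  have ha₀1 : a₀ ≠ 1 := fun h => ha₀' (Subtype.ext h)
  -- differences
  have halpha : ∀ χ ξ : I, IsClassFunction N ((χ.1 : N → ℂ) - (ξ.1 : N → ℂ)) ∧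
      (∀ x : N, (x : G) ∉ K → ((χ.1 : N → ℂ) - (ξ.1 : N → ℂ)) x = 0) ∧
      ((χ.1 : N → ℂ) - (ξ.1 : N → ℂ)) 1 = 0 := by
    intro χ ξ
    refine ⟨fun g k => by
      simp [isClassFunction_of_isIrr χ.1.2 g k, isClassFunction_of_isIrr ξ.1.2 g k], fun x hx => ?_, ?_⟩
    · simp [χ.2.off hC' (x := x) hx, ξ.2.off hC' (x := x) hx]
    · simp [degree_eq hC' hab' χ.2, degree_eq hC' hab' ξ.2]
  have hdiff : ∀ χ ξ : I, ∀ g : G,
      (f χ : G → ℂ) g - (f ξ : G → ℂ) g = εz * indFun N ((χ.1 : N → ℂ) - (ξ.1 : N → ℂ)) g := by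
    intro χ ξ g
    rw [hind χ ξ]
    simp only [Pi.smul_apply, Pi.sub_apply, smul_eq_mul]
    rw [← mul_assoc, hεsq, one_mul]
  have hdiffK : ∀ χ ξ : I, ∀ a : N, (a : G) ∈ K → (f χ : G → ℂ) a - (f ξ : G → ℂ) a =
      εz * ((χ.1 : N → ℂ) a - (ξ.1 : N → ℂ) a) := by
    intro χ ξ a ha
    obtain ⟨h1, h2, h3⟩ := halpha χ ξ
    rw [hdiff χ ξ a, indFun_ti_frob K hTI hC h1 h2 h3 a]
    rfl
  -- constancy
  have horth : ∀ (F : N → ℂ), IsClassFunction N F →
      (∀ η ζ : I, classInner F ((η.1 : N → ℂ) - (ζ.1 : N → ℂ)) = 0) →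
      ∀ a : N, (a : G) ∈ K → a ≠ 1 → F a = F a₀ := by
    intro F hF h a ha ha1
    refine const_of_orth hC' ⟨_, χ₀.2⟩ hF (fun η ζ hη hζ => ?_) ha ha₀ ha1 ha₀1
    rw [degree_eq hC' hab' hη, degree_eq hC' hab' hζ, ← smul_sub, classInner_smul_right,
      h ⟨⟨η, hη.1⟩, hη⟩ ⟨⟨ζ, hζ.1⟩, hζ⟩, mul_zero]
  have hrestr : ∀ (ψ : G → ℂ), IsClassFunction G ψ → ∀ η ζ : I,
      classInner (fun x : N => ψ x) ((η.1 : N → ℂ) - (ζ.1 : N → ℂ)) =
        (εz : ℂ) * (classInner ψ (f η : G → ℂ) - classInner ψ (f ζ : G → ℂ)) := by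
    intro ψ hψ η ζ
    rw [← classInner_indFun_right N _ hψ, hind η ζ, classInner_smul_right, classInner_sub_right,
      map_intCast]
  set c : ℂ := (f χ₀ : G → ℂ) a₀ - εz * (χ₀.1 : N → ℂ) a₀ with hc
  have hval : ∀ χ : I, ∀ a : N, (a : G) ∈ K → a ≠ 1 →
      (f χ : G → ℂ) a = εz * (χ.1 : N → ℂ) a + c := by
    intro χ a ha ha1
    have hcl := isClassFunction_of_isIrr (f χ₀).2
    have h := horth (fun x : N => (f χ₀ : G → ℂ) x - εz * (χ₀.1 : N → ℂ) x) (fun g k => by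
        simp only [Subgroup.coe_mul, Subgroup.coe_inv, hcl (g : G) (k : G),
          isClassFunction_of_isIrr χ₀.1.2 g k]) (fun η ζ => ?_) a ha ha1
    · have h' := hdiffK χ χ₀ a ha
      rw [hc]
      linear_combination h' + h
    · show classInner ((fun x : N => (f χ₀ : G → ℂ) x) - (εz : ℂ) • (χ₀.1 : N → ℂ)) _ = 0
      rw [classInner_sub_left, classInner_smul_left, hrestr _ hcl η ζ, classInner_sub_right]
      have key : ∀ η : I, classInner (f χ₀ : G → ℂ) (f η : G → ℂ) =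
          classInner (χ₀.1 : N → ℂ) (η.1 : N → ℂ) := by
        intro η
        by_cases he' : η = χ₀
        · subst he'
          rw [classInner_irr_self (f η).2, classInner_irr_self η.1.2]
        · rw [classInner_irr_ne (f χ₀).2 (f η).2 (fun h => he' (hf (Subtype.ext h)).symm),
            classInner_irr_ne χ₀.1.2 η.1.2 (fun h => he' (Subtype.ext (Subtype.ext h)).symm)]
      rw [key, key, sub_self]
  set E : Finset (IrrCharacter G) := Finset.univ.image f with hE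
  have hEcard : E.card = Nat.card I := by
    rw [hE, Finset.card_image_of_injective _ hf, Finset.card_univ, Nat.card_eq_fintype_card]
  obtain ⟨x, -, hx⟩ := IsIrr.degree (f χ₀).2
  have hx' : ∀ χ : I, (f χ : G → ℂ) 1 = x := by
    intro χ
    have h := hdiff χ χ₀ 1
    rw [indFun_apply_one, (halpha χ χ₀).2.2, mul_zero, mul_zero, sub_eq_zero] at h
    rw [h, hx]
  -- the constant is an integer
  let κ : K → KN := fun a => ⟨⟨a.1, hKN a.2⟩, a.2⟩
  haveI := Fintype.ofFinite KN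
  have hσsum : ∑ a ∈ (Finset.univ : Finset K).erase 1,
      (εz : ℂ) * (χ₀.1 : N → ℂ) (κ a : N) = ((-(εz * e) : ℤ) : ℂ) := by
    have h0 := classInner_irr_ne χ₀.2.1 isIrrCharacter_one fun e' => by
      obtain ⟨k, -, hk⟩ := χ₀.2.2
      exact hk (by rw [e'])
    simp only [classInner, map_one, mul_one] at h0
    rw [mul_eq_zero, or_iff_right (inv_ne_zero (Nat.cast_ne_zero.2 Nat.card_pos.ne'))] at h0
    have h1 : ∑ a : K, (χ₀.1 : N → ℂ) (κ a : N) = 0 := by
      rw [← h0, ← Finset.sum_subset (Finset.subset_univ (Finset.univ.filter (· ∈ KN)))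
        (fun z _ hz => χ₀.2.off hC' (by simpa using hz)),
        Finset.sum_subtype (Finset.univ.filter (· ∈ KN)) (p := fun z => z ∈ KN) (fun z => by simp)]
      exact Fintype.sum_equiv (Subgroup.subgroupOfEquivOfLe hKN).symm.toEquiv _ _ fun a => rfl
    rw [← Finset.mul_sum, Finset.sum_erase_eq_sub (Finset.mem_univ _), h1,
      show ((κ 1 : KN) : N) = 1 from rfl, degree_eq hC' hab' χ₀.2, hidx]
    push_cast; ring
  obtain ⟨cz, hcz, hdvd⟩ := int_of_const hK (f χ₀).2 hx c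
    (fun a => (εz : ℂ) * (χ₀.1 : N → ℂ) (κ a : N)) _ hσsum
    (fun a => (isIntegral_algebraMap (x := εz)).mul
      (IsChar.isIntegral (IsIrr.isCharacter χ₀.1.2) _))
    (fun a ha => hval χ₀ (κ a : N) a.2 fun h => ha (Subtype.ext (congrArg (fun z : N => (z : G)) h)))
  -- the others
  have hother : ∀ ψ : IrrCharacter G, ψ ∉ E → ∃ n : ℤ, (∀ a ∈ K, a ≠ 1 → (ψ : G → ℂ) a = n) ∧
      ∀ d : ℕ, (ψ : G → ℂ) 1 = d → (Nat.card K : ℤ) ∣ d - n := by
    intro ψ hψ
    have hcl := isClassFunction_of_isIrr ψ.2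
    have hz : ∀ η : I, classInner (ψ : G → ℂ) (f η : G → ℂ) = 0 := fun η =>
      classInner_irr_ne ψ.2 (f η).2 fun h =>
        hψ (Finset.mem_image.2 ⟨η, Finset.mem_univ _, (Subtype.ext h).symm⟩)
    have hconst : ∀ a : K, a ≠ 1 → (ψ : G → ℂ) a = 0 + (ψ : G → ℂ) a₀ := fun a ha => by
      rw [zero_add]
      exact horth (fun y : N => (ψ : G → ℂ) y) (fun g k => hcl (g : G) (k : G))
        (fun η ζ => by rw [hrestr _ hcl η ζ, hz, hz, sub_self, mul_zero]) (κ a : N) a.2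
        (fun h => ha (Subtype.ext (congrArg (fun z : N => (z : G)) h)))
    obtain ⟨d, -, hd⟩ := IsIrr.degree ψ.2
    obtain ⟨n, hn, hdn⟩ := int_of_const hK ψ.2 hd ((ψ : G → ℂ) a₀) (fun _ => 0) 0 (by simp)
      (fun _ => isIntegral_zero) hconst
    refine ⟨n, fun a ha ha1 => ?_, fun d' hd' => ?_⟩
    · rw [hconst ⟨a, ha⟩ (fun h => ha1 (congrArg Subtype.val h)), zero_add, hn]
    · have : d' = d := by exact_mod_cast hd'.symm.trans hd
      subst this; simpa using hdn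
  choose! cst hcst hcdvd using hother
  refine ⟨E, εz, cz, (x : ℤ), hεz, by rw [hEcard]; exact hcount, ?_, ?_, ?_, ?_, cst, hcst, hcdvd, ?_⟩
  · intro χ hχ
    obtain ⟨η, -, rfl⟩ := Finset.mem_image.1 hχ
    rw [hx' η]; simp
  · simpa [sub_eq_add_neg, mul_comm] using hdvd
  · intro χ hχ ψ hψ g hg
    obtain ⟨η, -, rfl⟩ := Finset.mem_image.1 hχ
    obtain ⟨ζ, -, rfl⟩ := Finset.mem_image.1 hψ
    rw [← sub_eq_zero, hdiff η ζ g, indFun_apply, Finset.sum_eq_zero, mul_zero, mul_zero]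
    intro y _
    by_cases hy : y⁻¹ * g * y ∈ N
    · rw [extendByZero_of_mem _ _ hy]
      by_cases hyK : y⁻¹ * g * y ∈ K
      · by_cases hy1 : y⁻¹ * g * y = 1
        · rw [show (⟨y⁻¹ * g * y, hy⟩ : N) = 1 from Subtype.ext hy1, (halpha η ζ).2.2]
        · exact absurd (isConj_iff.2 ⟨y, by group⟩) (hg _ hyK hy1)
      · exact (halpha η ζ).2.1 _ hyK
    · rw [extendByZero_of_not_mem _ _ hy]
  · intro χ hχ
    obtain ⟨η, -, rfl⟩ := Finset.mem_image.1 hχ
    obtain ⟨ζ, hζ⟩ := exists_ne η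
    obtain ⟨a, ha, b, hb, ha1, hb1, hab''⟩ :=
      not_const hC' η.2 ζ.2 (fun h => hζ (Subtype.ext (Subtype.ext h)).symm)
    refine ⟨a, ha, b, hb, fun h => ha1 (Subtype.ext h), fun h => hb1 (Subtype.ext h), fun h => hab'' ?_⟩
    rw [hval η a ha ha1, hval η b hb hb1] at h
    exact mul_left_cancel₀ (left_ne_zero_of_mul_eq_one hεsq) (add_right_cancel h)
  · -- column orthogonality
    obtain ⟨m1, m2⟩ := hmom a₀ ha₀ ha₀1
    rw [finsum_eq_sum_of_fintype] at m1 m2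
    have ha₀G : (a₀ : G) ≠ 1 := fun h => ha₀1 (Subtype.ext h)
    have h := second_orthogonality (a₀ : G) (a₀ : G)
    have hcent : Subgroup.centralizer ({(a₀ : G)} : Set G) = K :=
      le_antisymm (hC _ ha₀ ha₀G) fun y hy => Subgroup.mem_centralizer_singleton_iff.2 (hab y hy _ ha₀)
    rw [if_pos (IsConj.refl _), hcent,
      ← Finset.sum_filter_add_sum_filter_not Finset.univ (· ∈ E)] at h
    rw [Finset.filter_mem_eq_inter, Finset.univ_inter, hE, Finset.sum_image fun _ _ _ _ h => hf h,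
      Finset.sum_congr rfl (fun (χ : I) _ => show (f χ : G → ℂ) a₀ * conj ((f χ : G → ℂ) a₀) =
        (χ.1 : N → ℂ) a₀ * conj ((χ.1 : N → ℂ) a₀) + εz * cz * (χ.1 : N → ℂ) a₀ +
          conj (εz * cz * (χ.1 : N → ℂ) a₀) + (cz : ℂ) * cz by
        rw [hval χ a₀ ha₀ ha₀1, hcz, map_add, map_mul, map_mul, map_mul, map_intCast,
          map_intCast]
        linear_combination (χ.1 : N → ℂ) a₀ * conj ((χ.1 : N → ℂ) a₀) * hεsq),
      Finset.sum_add_distrib, Finset.sum_add_distrib, Finset.sum_add_distrib, ← Finset.mul_sum,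
      ← map_sum, ← Finset.mul_sum, Finset.sum_const, Finset.card_univ, nsmul_eq_mul, m1, m2] at h
    rw [← hE, Finset.sum_congr rfl (fun (χ : IrrCharacter G) hχ => show (χ : G → ℂ) a₀ * conj ((χ : G → ℂ) a₀) =
        ((cst χ ^ 2 : ℤ) : ℂ) by
      rw [hcst χ (Finset.mem_filter.1 hχ).2 (a₀ : G) ha₀ ha₀G, map_intCast]; push_cast; ring)] at h
    simp only [map_mul, map_neg, map_one, map_intCast, ← Int.cast_sum] at h
    rw [hEcard, Nat.card_eq_fintype_card (α := I)]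
    have h2 : ((e : ℤ) : ℂ) = (((Fintype.card I : ℤ) * cz ^ 2 - 2 * εz * cz +
        ∑ χ ∈ Finset.univ.filter (· ∉ E), cst χ ^ 2 : ℤ) : ℂ) := by
      push_cast at h ⊢
      linear_combination -h
    exact_mod_cast h2

end Cfsg.Agent.Char.AbelianTI
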