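import Cfsg.Agent.Char.FS
import Cfsg.Agent.Char.Clifford
import Cfsg.Agent.Char.Linear
import Cfsg.Agent.Char.NormalAbelianSylow

/-!
# Strongly real characters of an odd elementary abelian group extended by a `2`-group
-/

set_option autoImplicit false

namespace Cfsg.Agent.Char

open scoped ComplexConjugate

universe u

variable {G : Type u} [Group G] [Fintype G]

open scoped _root_.Classical in
/-- A family of linear characters with prescribed restriction to `H` has at most `[G:H]`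
members. -/
theorem card_linear_over_le (H : Subgroup G) (F : Finset (G →* ℂˣ))
    (hF : ∀ f ∈ F, ∀ f' ∈ F, ∀ h ∈ H, f h = f' h) : F.card ≤ H.index := by
  rcases F.eq_empty_or_nonempty with rfl | ⟨f₀, hf₀⟩
  · simp
  let Φ : G → ℂ := ∑ f ∈ F, fun g => (f g : ℂ)
  have hinj : ∀ f f' : G →* ℂˣ, (fun g => (f g : ℂ)) = (fun g => (f' g : ℂ)) → f = f' :=
    fun f f' h => MonoidHom.ext fun g => Units.ext (congrFun h g)
  have h1 : classInner Φ Φ = F.card := by
    rw [classInner_sum_left, Finset.sum_congr rfl fun f hf => ?_]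
    · rw [Finset.sum_const, nsmul_eq_mul, mul_one]
    rw [classInner_sum_right, Finset.sum_eq_single f
      (fun f' _ hne => classInner_irr_ne (isIrrCharacter_hom f) (isIrrCharacter_hom f')
        fun e => hne (hinj _ _ e).symm) (fun h => absurd hf h),
      classInner_irr_self (isIrrCharacter_hom f)]
  have h2 : ∀ h ∈ H, ‖Φ h‖ = F.card := by
    intro h hh
    have e : Φ h = F.card * (f₀ h : ℂ) := by
      simp only [Φ, Finset.sum_apply]
      rw [Finset.sum_congr rfl fun f hf => by rw [hF f hf f₀ hf₀ h hh], Finset.sum_const,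
        nsmul_eq_mul]
    have hn : ‖(f₀ h : ℂ)‖ = 1 := by
      refine Complex.norm_eq_one_of_pow_eq_one (n := Nat.card G) ?_ Nat.card_pos.ne'
      rw [← Units.val_pow_eq_pow_val, ← map_pow, pow_card_eq_one', map_one, Units.val_one]
    rw [e, norm_mul, hn, mul_one, Complex.norm_natCast]
  have h3 : (Nat.card G : ℝ) * F.card = ∑ g : G, ‖Φ g‖ ^ 2 := by
    have h := classInner_self_eq (φ := Φ)
    rw [h1] at h
    have hG : (Nat.card G : ℝ) ≠ 0 := Nat.cast_ne_zero.2 Nat.card_pos.ne'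
    have h4 : (F.card : ℂ) = (((Nat.card G : ℝ)⁻¹ * ∑ g : G, ‖Φ g‖ ^ 2 : ℝ) : ℂ) := by
      rw [h]
      push_cast
      simp [← Complex.ofReal_pow, Complex.normSq_eq_norm_sq]
    rw [← Complex.ofReal_natCast] at h4
    rw [Complex.ofReal_inj.1 h4, mul_inv_cancel_left₀ hG]
  have h5 : (Nat.card H : ℝ) * (F.card : ℝ) ^ 2 ≤ ∑ g : G, ‖Φ g‖ ^ 2 := by
    calc (Nat.card H : ℝ) * (F.card : ℝ) ^ 2
        = ∑ g ∈ Finset.univ.filter (· ∈ H), ‖Φ g‖ ^ 2 := by
          rw [Finset.sum_congr rfl fun g hg => by rw [h2 g (Finset.mem_filter.1 hg).2],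
            Finset.sum_const, nsmul_eq_mul, ← Fintype.card_subtype, ← Nat.card_eq_fintype_card]
      _ ≤ _ := Finset.sum_le_sum_of_subset_of_nonneg (Finset.filter_subset _ _)
          fun _ _ _ => sq_nonneg _
  rw [← h3, ← H.card_mul_index] at h5
  push_cast at h5
  have hH : (0 : ℝ) < Nat.card H := Nat.cast_pos.2 Nat.card_pos
  have hc : (0 : ℝ) < F.card := Nat.cast_pos.2 (Finset.card_pos.2 ⟨f₀, hf₀⟩)
  have : (F.card : ℝ) ≤ H.index := by nlinarith [mul_pos hH hc]
  exact_mod_cast this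

/-- Inner product of two characters induced from linear characters that are separated by all
elements outside the subgroup. -/
theorem classInner_ind_hom (H : Subgroup G) [Fintype H] (ψ ψ' : H →* ℂˣ)
    (hsep : ∀ x ∉ H, ∃ (n : H) (h : x⁻¹ * n * x ∈ H), ψ n ≠ ψ' ⟨_, h⟩) :
    classInner (indFun H fun h => (ψ h : ℂ)) (indFun H fun h => (ψ' h : ℂ)) =
      classInner (fun h : H => (ψ h : ℂ)) (fun h : H => (ψ' h : ℂ)) := by
  classical
  rw [classInner_indFun_left H _ (isClassFunction_indFun H _)]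
  have hH : (Nat.card H : ℂ) ≠ 0 := Nat.cast_ne_zero.2 Nat.card_pos.ne'
  simp only [classInner, indFun_apply, map_mul, map_inv₀, map_natCast, map_sum, Finset.mul_sum]
  rw [Finset.sum_comm, ← Finset.sum_subset (Finset.subset_univ (Finset.univ.filter (· ∈ H)))
    fun x _ hx => ?_]
  · rw [Finset.sum_subtype _ (p := (· ∈ H)) (fun x => by simp),
      Finset.sum_congr rfl (g := fun _ => ∑ h : H, (Nat.card H : ℂ)⁻¹ *
        ((ψ h : ℂ) * ((Nat.card H : ℂ)⁻¹ * conj (ψ' h : ℂ)))) fun x _ =>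
        Finset.sum_congr rfl fun h _ => ?_]
    · rw [Finset.sum_const, Finset.card_univ, ← Nat.card_eq_fintype_card, nsmul_eq_mul,
        Finset.mul_sum]
      refine Finset.sum_congr rfl fun h _ => ?_
      field_simp
    rw [show (x : G)⁻¹ * h * x = ((x⁻¹ * h * x : H) : G) from rfl, extendByZero_coe, map_mul,
      map_mul, map_inv, mul_right_comm, inv_mul_cancel, one_mul]
  · replace hx : x ∉ H := fun h => hx (Finset.mem_filter.2 ⟨Finset.mem_univ _, h⟩)
    obtain ⟨n, hm, hn⟩ := hsep x hx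
    set S : ℂ := ∑ h : H, (Nat.card H : ℂ)⁻¹ * ((ψ h : ℂ) *
      ((Nat.card H : ℂ)⁻¹ * conj (extendByZero H (fun h => (ψ' h : ℂ)) (x⁻¹ * h * x)))) with hS
    set c : ℂ := (ψ n : ℂ) * conj (ψ' ⟨_, hm⟩ : ℂ) with hc
    have h1 : S = c * S := by
      rw [hS]
      conv_lhs => rw [← Equiv.sum_comp (Equiv.mulLeft n)]
      rw [Finset.mul_sum]
      refine Finset.sum_congr rfl fun h _ => ?_
      rw [Equiv.coe_mulLeft, map_mul, Units.val_mul]
      have he : x⁻¹ * ((n * h : H) : G) * x = x⁻¹ * n * x * (x⁻¹ * h * x) := by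
        simp [mul_assoc]
      by_cases hh : x⁻¹ * (h : G) * x ∈ H
      · rw [he, extendByZero_of_mem H _ hh, extendByZero_of_mem H _ (H.mul_mem hm hh),
          show (⟨_, H.mul_mem hm hh⟩ : H) = ⟨_, hm⟩ * ⟨_, hh⟩ from rfl, map_mul, Units.val_mul,
          map_mul, hc]
        ring
      · rw [he, extendByZero_of_not_mem H _ hh,
          extendByZero_of_not_mem H _ fun h' => hh ((H.mul_mem_cancel_left hm).1 h')]
        simp
    by_contra h0
    have hc1 : c = 1 := mul_right_cancel₀ h0 (h1.symm.trans (one_mul S).symm)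
    apply hn
    have hu : (ψ' ⟨_, hm⟩ : ℂ) * conj (ψ' ⟨_, hm⟩ : ℂ) = 1 := by
      rw [Complex.mul_conj, Complex.normSq_eq_norm_sq]
      have : ‖(ψ' ⟨_, hm⟩ : ℂ)‖ = 1 := by
        refine Complex.norm_eq_one_of_pow_eq_one (n := Nat.card H) ?_ Nat.card_pos.ne'
        rw [← Units.val_pow_eq_pow_val, ← map_pow, pow_card_eq_one', map_one, Units.val_one]
      rw [this]
      simp
    refine Units.ext (mul_right_cancel₀ (b := conj (ψ' ⟨_, hm⟩ : ℂ)) ?_ (hc1.trans hu.symm))
    intro e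
    rw [e, mul_zero] at hu
    exact zero_ne_one hu

/-- The hard inequality: real linear characters are outweighed by the strongly real characters
of even degree. -/
theorem avg_degree_strongly_real (N P : Subgroup G) [hN : N.Normal] (q : ℕ) [hqp : Fact q.Prime]
    (hq : q ≠ 2) (hNc : ∀ a ∈ N, ∀ b ∈ N, a * b = b * a) (hNq : ∀ a ∈ N, a ^ q = 1)
    (hP : IsPGroup 2 P) (hP1 : P ≠ ⊥) (hdisj : N ⊓ P = ⊥) (hprod : N ⊔ P = ⊤)
    (hN1 : N ≠ ⊥) (hmin : ∀ M : Subgroup G, M.Normal → M ≠ ⊥ → N ≤ M)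
    (S : Finset (IrrCharacter G))
    (hS : ∀ χ : IrrCharacter G, χ ∈ S ↔
      (Cfsg.charDegree (χ : G → ℂ) = 1 ∨ 2 ∣ Cfsg.charDegree (χ : G → ℂ)) ∧
        fsInd (χ : G → ℂ) = 1) :
    4 * S.card ≤ 3 * ∑ χ ∈ S, Cfsg.charDegree (χ : G → ℂ) := by
  classical
  have := Fintype.ofFinite N
  have hdec : ∀ g : G, ∃ n ∈ N, ∃ u ∈ P, g = n * u := fun g => by
    obtain ⟨n, hn, u, hu, rfl⟩ := Subgroup.mem_sup_of_normal_left.1 (hprod ▸ Subgroup.mem_top g)
    exact ⟨n, hn, u, hu, rfl⟩
  have huni : ∀ n ∈ N, ∀ u ∈ P, ∀ n' ∈ N, ∀ u' ∈ P, n * u = n' * u' → n = n' ∧ u = u' := by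
    intro n hn u hu n' hn' u' hu' h
    have h1 : n'⁻¹ * n = u' * u⁻¹ := by
      calc n'⁻¹ * n = n'⁻¹ * (n * u) * u⁻¹ := by group
        _ = n'⁻¹ * (n' * u') * u⁻¹ := by rw [h]
        _ = _ := by group
    have h2 : n'⁻¹ * n ∈ N ⊓ P :=
      ⟨N.mul_mem (N.inv_mem hn') hn, h1 ▸ P.mul_mem hu' (P.inv_mem hu)⟩
    rw [hdisj, Subgroup.mem_bot] at h2
    refine ⟨(inv_mul_eq_one.1 h2).symm, ?_⟩
    rw [h2] at h1
    exact (mul_inv_eq_one.1 h1.symm).symm
  -- a central involution
  have hPn : Nontrivial P := (Subgroup.nontrivial_iff_ne_bot P).2 hP1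
  obtain ⟨z, hzP, hz2, hz1, hzc⟩ : ∃ z ∈ P, z * z = 1 ∧ z ≠ 1 ∧ ∀ u ∈ P, u * z = z * u := by
    have hcn := hP.center_nontrivial
    obtain ⟨m, hm0, hm⟩ := (hP.to_subgroup (Subgroup.center P)).nontrivial_iff_card.1 hcn
    obtain ⟨c, hc⟩ := exists_prime_orderOf_dvd_card' (G := Subgroup.center P) 2
      (hm ▸ dvd_pow_self 2 hm0.ne')
    refine ⟨((c : P) : G), (c : P).2, ?_, ?_, fun u hu => ?_⟩
    · have h := pow_orderOf_eq_one c
      rw [hc, pow_two] at h
      exact congrArg (fun x : Subgroup.center P => ((x : P) : G)) h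
    · intro h
      have : c = 1 := Subtype.ext (Subtype.ext h)
      rw [this, orderOf_one] at hc
      exact absurd hc (by norm_num)
    · exact congrArg Subtype.val (Subgroup.mem_center_iff.1 c.2 ⟨u, hu⟩)
  have hCN : ∀ u ∈ P, (∀ n ∈ N, u * n = n * u) → u = 1 := by
    intro u hu hun
    by_contra hu1
    let M : Subgroup G := P ⊓ Subgroup.centralizer (N : Set G)
    have hM : M.Normal := ⟨fun m hm g => by
      obtain ⟨n, hn, v, hv, rfl⟩ := hdec g
      have hmv : v * m * v⁻¹ ∈ M := by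
        refine ⟨P.mul_mem (P.mul_mem hv hm.1) (P.inv_mem hv),
          Subgroup.mem_centralizer_iff.2 fun a ha => ?_⟩
        have h := Subgroup.mem_centralizer_iff.1 hm.2 (v⁻¹ * a * v)
          (by simpa [mul_assoc] using hN.conj_mem a ha v⁻¹)
        calc a * (v * m * v⁻¹) = v * ((v⁻¹ * a * v) * m) * v⁻¹ := by group
          _ = v * (m * (v⁻¹ * a * v)) * v⁻¹ := by rw [h]
          _ = _ := by group
      have h := Subgroup.mem_centralizer_iff.1 hmv.2 n hn
      rw [show n * v * m * (n * v)⁻¹ = v * m * v⁻¹ by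
        calc n * v * m * (n * v)⁻¹ = n * (v * m * v⁻¹) * n⁻¹ := by group
          _ = v * m * v⁻¹ * n * n⁻¹ := by rw [h]
          _ = _ := mul_inv_cancel_right _ _]
      exact hmv⟩
    have hne : M ≠ ⊥ := fun e => hu1 (Subgroup.mem_bot.1 (e ▸
      (⟨hu, Subgroup.mem_centralizer_iff.2 fun a ha => (hun a ha).symm⟩ : u ∈ M)))
    exact hN1 (le_bot_iff.1 (hdisj ▸ le_inf le_rfl ((hmin M hM hne).trans inf_le_left)))
  have hinv : ∀ n ∈ N, z * n * z⁻¹ = n⁻¹ := by
    let F : Subgroup G := N ⊓ Subgroup.centralizer ({z} : Set G)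
    have hF : F.Normal := ⟨fun a ha g => by
      obtain ⟨n, hn, v, hv, rfl⟩ := hdec g
      have h1 : v * a * v⁻¹ ∈ N := hN.conj_mem a ha.1 v
      have h2 : n * v * a * (n * v)⁻¹ = v * a * v⁻¹ := by
        calc n * v * a * (n * v)⁻¹ = n * (v * a * v⁻¹) * n⁻¹ := by group
          _ = v * a * v⁻¹ * n * n⁻¹ := by rw [hNc n hn _ h1]
          _ = _ := mul_inv_cancel_right _ _
      rw [h2]
      refine ⟨h1, Subgroup.mem_centralizer_singleton_iff.2 ?_⟩
      have h3 := Subgroup.mem_centralizer_singleton_iff.1 ha.2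
      have h4 := hzc v hv
      have h5 : v⁻¹ * z = z * v⁻¹ := by
        calc v⁻¹ * z = v⁻¹ * (z * v) * v⁻¹ := by group
          _ = v⁻¹ * (v * z) * v⁻¹ := by rw [h4]
          _ = _ := by group
      calc v * a * v⁻¹ * z = v * a * (v⁻¹ * z) := by group
        _ = v * (a * z) * v⁻¹ := by rw [h5]; group
        _ = (v * z) * a * v⁻¹ := by rw [h3]; group
        _ = _ := by rw [h4]; group⟩
    have hFbot : F = ⊥ := by
      by_contra hne
      exact hz1 (hCN z hzP fun n hn =>
        (Subgroup.mem_centralizer_singleton_iff.1 (hmin F hF hne hn).2).symm)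
    intro n hn
    have h1 : z * n * z⁻¹ ∈ N := hN.conj_mem n hn z
    have hzi : z⁻¹ = z := inv_eq_of_mul_eq_one_right hz2
    have h2 : n * (z * n * z⁻¹) ∈ F := by
      refine ⟨N.mul_mem hn h1, Subgroup.mem_centralizer_singleton_iff.2 ?_⟩
      have h3 := hNc n hn (z * n * z⁻¹) h1
      rw [hzi] at h3 ⊢
      calc n * (z * n * z) * z = n * z * n * (z * z) := by group
        _ = n * z * n := by rw [hz2, mul_one]
        _ = (z * z) * (n * z * n) := by rw [hz2, one_mul]
        _ = z * (z * n * z * n) := by group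
        _ = z * (n * (z * n * z)) := by rw [← h3]
    rw [hFbot, Subgroup.mem_bot] at h2
    exact (eq_inv_of_mul_eq_one_right h2)
  -- a nontrivial linear character of `N`
  obtain ⟨n₁, hn₁⟩ : ∃ n₁ : N, n₁ ≠ 1 := by
    obtain ⟨n, hn, hne⟩ := (Subgroup.bot_or_exists_ne_one N).resolve_left hN1
    exact ⟨⟨n, hn⟩, fun h => hne (congrArg Subtype.val h)⟩
  obtain ⟨θ', hθ'⟩ := exists_irr_ne_at_one hn₁
  obtain ⟨θ, hθ⟩ := IsChar.exists_hom (IsIrr.isCharacter θ'.2)
    (IsIrr.degree_one_of_comm θ'.2 fun a b => Subtype.ext (hNc a a.2 b b.2))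
  have hθne : θ n₁ ≠ 1 := fun h => hθ' (by rw [hθ]; simp [h])
  let conjN : G → N → N := fun g n => ⟨g * n * g⁻¹, hN.conj_mem n n.2 g⟩
  let H : Subgroup G :=
    { carrier := {g | ∀ n : N, θ (conjN g n) = θ n}
      one_mem' := fun n => congrArg θ (Subtype.ext (by simp [conjN]))
      mul_mem' := fun {a b} ha hb n => by
        rw [← hb n, ← ha (conjN b n)]
        exact congrArg θ (Subtype.ext (by simp [conjN, mul_assoc]))
      inv_mem' := fun {a} ha n => by
        rw [← ha (conjN a⁻¹ n)]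
        exact congrArg θ (Subtype.ext (by simp [conjN, mul_assoc])) }
  have hNH : N ≤ H := fun a ha n => congrArg θ (Subtype.ext (by
    show a * n * a⁻¹ = n
    rw [hNc a ha n n.2, mul_inv_cancel_right]))
  have hzθ : ∀ n : N, θ (conjN z n) = (θ n)⁻¹ := fun n => by
    rw [← map_inv]
    exact congrArg θ (Subtype.ext (hinv n n.2))
  have hzH : z ∉ H := fun h => hθne (by
    have h1 := (hzθ n₁).symm.trans (h n₁)
    have h2 : θ n₁ ^ 2 = 1 := by rw [pow_two]; nth_rw 1 [← h1]; exact inv_mul_cancel _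
    have h3 : θ n₁ ^ q = 1 := by
      rw [← map_pow, show n₁ ^ q = 1 from Subtype.ext (hNq n₁ n₁.2), map_one]
    have h4 := pow_gcd_eq_one.2 ⟨h2, h3⟩
    rwa [(Nat.coprime_primes Nat.prime_two hqp.out).2 hq.symm |>.gcd_eq_one, pow_one] at h4)
  have := Fintype.ofFinite H
  have hd : 2 ∣ H.index := by
    have h1 : N.index = Nat.card P := by
      have hc : Subgroup.IsComplement' N P :=
        Subgroup.isComplement'_of_disjoint_and_mul_eq_univ (disjoint_iff.2 hdisj) (by
          ext g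
          simp only [Set.mem_univ, iff_true]
          obtain ⟨n, hn, u, hu, rfl⟩ := hdec g
          exact Set.mul_mem_mul hn hu)
      exact hc.symm.index_eq_card
    obtain ⟨m, hm⟩ := hP.exists_card_eq
    obtain ⟨i, -, hi⟩ := (Nat.dvd_prime_pow Nat.prime_two).1
      ((hm ▸ h1 : N.index = 2 ^ m) ▸ Subgroup.index_dvd_of_le hNH : H.index ∣ 2 ^ m)
    rcases i with _ | i
    · exact absurd ((Subgroup.index_eq_one.1 hi).symm ▸ Subgroup.mem_top z) hzH
    · exact ⟨2 ^ i, by rw [hi, pow_succ']⟩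
  -- the extension of `θ`
  choose pn hpn pu hpu hpg using hdec
  have hpu' : ∀ g ∈ H, pu g ∈ H := fun g hg => by
    have : pu g = (pn g)⁻¹ * g := eq_inv_mul_of_mul_eq (hpg g).symm
    rw [this]
    exact H.mul_mem (hNH (N.inv_mem (hpn g))) hg
  let θh : H →* ℂˣ := MonoidHom.mk' (fun h => θ ⟨pn h, hpn h⟩) fun a b => by
    have e : pn ((a * b : H) : G) = pn a * (pu a * pn b * (pu a)⁻¹) := by
      refine (huni _ (hpn ((a * b : H) : G)) _ (hpu ((a * b : H) : G)) _ (N.mul_mem (hpn a) (hN.conj_mem _ (hpn b) _))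
        _ (P.mul_mem (hpu a) (hpu b)) ?_).1
      rw [← hpg, Subgroup.coe_mul]
      conv_lhs => rw [hpg a, hpg b]
      group
    calc θ ⟨pn ((a * b : H) : G), hpn _⟩ = θ (⟨pn a, hpn a⟩ * conjN (pu a) ⟨pn b, hpn b⟩) :=
          congrArg θ (Subtype.ext e)
      _ = θ ⟨pn a, hpn a⟩ * θ ⟨pn b, hpn b⟩ := by rw [map_mul, hpu' a a.2]
  have hθh : ∀ n : N, θh ⟨n, hNH n.2⟩ = θ n := fun n => congrArg θ (Subtype.ext
    (huni _ (hpn (n : G)) _ (hpu (n : G)) _ n.2 1 P.one_mem (by rw [← hpg, mul_one])).1)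
  have hθu : ∀ u, ∀ hu : u ∈ H, u ∈ P → θh ⟨u, hu⟩ = 1 := fun u hu huP =>
    (congrArg θ (Subtype.ext (huni _ (hpn u) _ (hpu u) 1 N.one_mem u huP
      (by rw [← hpg, one_mul])).1 : (⟨pn u, hpn u⟩ : N) = 1)).trans (map_one θ)
  -- real linear characters
  let L : Finset (G →* ℂˣ) := (S.filter fun χ : IrrCharacter G =>
    Cfsg.charDegree (χ : G → ℂ) = 1).attach.image fun χ =>
      (IsChar.exists_hom (IsIrr.isCharacter χ.1.2) (by
        rw [charDegree_spec' χ.1, (Finset.mem_filter.1 χ.2).2, Nat.cast_one])).choose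
  have hLcard : (S.filter fun χ : IrrCharacter G => Cfsg.charDegree (χ : G → ℂ) = 1).card =
      L.card := by
    rw [Finset.card_image_of_injective, Finset.card_attach]
    intro a b hab
    refine Subtype.ext (Subtype.ext ?_)
    have ha := (IsChar.exists_hom (IsIrr.isCharacter a.1.2) (by
        rw [charDegree_spec' a.1, (Finset.mem_filter.1 a.2).2, Nat.cast_one])).choose_spec
    have hb := (IsChar.exists_hom (IsIrr.isCharacter b.1.2) (by
        rw [charDegree_spec' b.1, (Finset.mem_filter.1 b.2).2, Nat.cast_one])).choose_spec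
    rw [ha, hb]
    simp only at hab
    rw [hab]
  have hL : ∀ f ∈ L, ∀ g : G, f g * f g = 1 := by
    intro f hf g
    obtain ⟨χ, -, rfl⟩ := Finset.mem_image.1 hf
    have h1 : (χ.1 : G → ℂ) 1 = 1 := by
      rw [charDegree_spec' χ.1, (Finset.mem_filter.1 χ.2).2, Nat.cast_one]
    have hspec := (IsChar.exists_hom (IsIrr.isCharacter χ.1.2) h1).choose_spec
    generalize (IsChar.exists_hom (IsIrr.isCharacter χ.1.2) h1).choose = f at hspec ⊢
    have hν := ((hS _).1 (Finset.mem_filter.1 χ.2).1).2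
    by_contra hne
    have h0 : classInner (fun g => ((f * f) g : ℂ)) (fun _ => (1 : ℂ)) = 0 :=
      classInner_irr_ne (isIrrCharacter_hom _) isIrrCharacter_one fun e =>
        hne (Units.ext (congrFun e g))
    rw [hspec] at hν
    refine zero_ne_one (h0.symm.trans (Eq.trans ?_ hν))
    simp [classInner, fsInd, map_mul]
  let ψ : (G →* ℂˣ) → (H →* ℂˣ) := fun f => θh * f.comp H.subtype
  have hψN : ∀ f ∈ L, ∀ n : N, ψ f ⟨n, hNH n.2⟩ = θ n := fun f hf n => by
    show θh _ * f n = _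
    have h1 : f n = 1 := by
      have h2 : f n ^ 2 = 1 := by rw [pow_two]; exact hL f hf n
      have h3 : f n ^ q = 1 := by rw [← map_pow, hNq n n.2, map_one]
      have h4 := pow_gcd_eq_one.2 ⟨h2, h3⟩
      rwa [(Nat.coprime_primes Nat.prime_two hqp.out).2 hq.symm |>.gcd_eq_one, pow_one] at h4
    rw [h1, mul_one, hθh]
  have hinner : ∀ f ∈ L, ∀ f' ∈ L,
      classInner (indFun H fun h => (ψ f h : ℂ)) (indFun H fun h => (ψ f' h : ℂ)) =
        classInner (fun h : H => (ψ f h : ℂ)) (fun h : H => (ψ f' h : ℂ)) := by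
    intro f hf f' hf'
    refine classInner_ind_hom H _ _ fun x hx => ?_
    obtain ⟨n, hn⟩ : ∃ n : N, θ (conjN x n) ≠ θ n := by simpa [H] using hx
    have e : x⁻¹ * ((⟨conjN x n, hNH (conjN x n).2⟩ : H) : G) * x = n := by
      simp [conjN, mul_assoc]
    refine ⟨⟨conjN x n, hNH (conjN x n).2⟩, e ▸ hNH n.2, fun h => hn ?_⟩
    rw [← hψN f hf (conjN x n), h, ← hψN f' hf' n]
    exact congrArg (ψ f') (Subtype.ext e)
  have hone : ∀ f ∈ L, classInner (indFun H fun h => (ψ f h : ℂ))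
      (indFun H fun h => (ψ f h : ℂ)) = 1 := fun f hf => by
    rw [hinner f hf f hf]; exact classInner_irr_self (isIrrCharacter_hom _)
  have hirr : ∀ f ∈ L, IsIrrCharacter G (indFun H fun h => (ψ f h : ℂ)) := fun f hf =>
    (isIrr_iff_norm_one (isCharacter_indFun H (isCharacter_hom _))).2 (hone f hf)
  let Φ : L → IrrCharacter G := fun f => ⟨_, hirr f.1 f.2⟩
  have hdeg : ∀ f : L, Cfsg.charDegree (Φ f : G → ℂ) = H.index := fun f => by
    refine Blocks.charDegree_eq ?_
    show indFun H _ 1 = _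
    rw [indFun_apply_one, map_one, Units.val_one, mul_one]
  have hν : ∀ f : L, fsInd (Φ f : G → ℂ) = 1 := by
    rintro ⟨f, hf⟩
    show fsInd (indFun H fun h => (ψ f h : ℂ)) = 1
    set e : G → ℂ := extendByZero H (fun h => (θh h : ℂ)) with he
    have he' : ∀ g : G, extendByZero H (fun h => (ψ f h : ℂ)) (g * g) = e (g * g) := by
      intro g
      by_cases h : g * g ∈ H
      · rw [he, extendByZero_of_mem H _ h, extendByZero_of_mem H _ h]
        show ((θh ⟨_, h⟩ * f (g * g) : ℂˣ) : ℂ) = _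
        rw [map_mul f g g, hL f hf g, mul_one]
      · rw [he, extendByZero_of_not_mem H _ h, extendByZero_of_not_mem H _ h]
    have h1 : fsInd (indFun H fun h => (ψ f h : ℂ)) =
        (Nat.card H : ℂ)⁻¹ * ∑ g : G, e (g * g) := by
      simp only [fsInd, indFun_apply]
      rw [← Finset.mul_sum, Finset.sum_comm, Finset.sum_congr rfl (g := fun _ => ∑ g, e (g * g))
        fun x _ => ?_, Finset.sum_const, Finset.card_univ, ← Nat.card_eq_fintype_card, nsmul_eq_mul]
      · field_simp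
      rw [← Equiv.sum_comp (MulAut.conj x⁻¹).toEquiv (fun g => e (g * g))]
      refine Finset.sum_congr rfl fun g _ => ?_
      rw [← he']
      simp [mul_assoc]
    -- only the elements of `zH` contribute
    have hmem : ∀ g : G, e (g * g) ≠ 0 → g * g ∈ H := fun g hg => by
      by_contra h; exact hg (extendByZero_of_not_mem H _ h)
    have hshift : ∀ (n : N) (g : G), e ((n : G) * g * ((n : G) * g)) =
        (θ n * θ (conjN g n) : ℂˣ) * e (g * g) := by
      intro n g
      have h0 : (n : G) * g * (n * g) = ((n * conjN g n : N) : G) * (g * g) := by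
        simp [conjN, mul_assoc]
      by_cases h : g * g ∈ H
      · have hn := hNH (n * conjN g n).2
        rw [h0, he, extendByZero_of_mem H _ (H.mul_mem hn h), extendByZero_of_mem H _ h,
          show (⟨_, H.mul_mem hn h⟩ : H) = ⟨_, hn⟩ * ⟨_, h⟩ from rfl, map_mul θh, hθh, map_mul θ,
          Units.val_mul]
      · rw [h0, he, extendByZero_of_not_mem H _ h, mul_zero, extendByZero_of_not_mem H _ fun h' =>
          h ((H.mul_mem_cancel_left (hNH (n * conjN g n).2)).1 h')]
    have hsum : (Nat.card N : ℂ) * ∑ g : G, e (g * g) =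
        ∑ g : G, e (g * g) * ∑ n : N, ((θ n * θ (conjN g n) : ℂˣ) : ℂ) := by
      rw [Nat.card_eq_fintype_card, ← Finset.card_univ, ← nsmul_eq_mul, ← Finset.sum_const,
        Finset.sum_congr rfl (g := fun n : N => ∑ g : G,
          e (g * g) * ((θ n * θ (conjN g n) : ℂˣ) : ℂ)) fun n _ => ?_]
      · simp only [Finset.mul_sum]
        exact Finset.sum_comm
      conv_lhs => rw [← Equiv.sum_comp (Equiv.mulLeft (n : G))]
      refine Finset.sum_congr rfl fun g _ => ?_
      rw [Equiv.coe_mulLeft, hshift, mul_comm]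
    have hfac : ∀ g : G, (∑ n : N, ((θ n * θ (conjN g n) : ℂˣ) : ℂ)) =
        if z * g ∈ H then (Nat.card N : ℂ) else 0 := by
      intro g
      have hzg : ∀ n, θ (conjN (z * g) n) = (θ (conjN g n))⁻¹ := fun n => by
        rw [← hzθ]; exact congrArg θ (Subtype.ext (by simp [conjN, mul_assoc]))
      split_ifs with h
      · rw [Finset.sum_congr rfl (g := fun _ => (1 : ℂ)) fun n _ => ?_]
        · simp [Nat.card_eq_fintype_card]
        rw [← h n, hzg, inv_mul_cancel, Units.val_one]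
      · let μ : N →* ℂˣ := MonoidHom.mk' (fun n => θ n * θ (conjN g n)) fun a b => by
          rw [show conjN g (a * b) = conjN g a * conjN g b from Subtype.ext (by simp [conjN, mul_assoc]),
            map_mul, map_mul, mul_mul_mul_comm]
        have hμ : μ ≠ 1 := fun e => h fun n => by
          rw [hzg]
          exact (eq_inv_of_mul_eq_one_left (DFunLike.congr_fun e n : θ n * θ (conjN g n) = 1)).symm
        obtain ⟨m, hm⟩ := DFunLike.ne_iff.1 hμ
        have h2 : (μ m : ℂ) * (∑ n : N, (μ n : ℂ)) = ∑ n : N, (μ n : ℂ) := by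
          rw [Finset.mul_sum]
          conv_rhs => rw [← Equiv.sum_comp (Equiv.mulLeft m)]
          simp
        by_contra h0
        exact hm (Units.ext (mul_eq_right₀ h0 |>.1 h2))
    have hval : ∀ g : G, z * g ∈ H → e (g * g) = 1 := by
      intro g hg
      obtain ⟨n, hn, u, hu, hnu⟩ : ∃ n ∈ N, ∃ u ∈ P, z * g = n * u :=
        ⟨_, hpn _, _, hpu _, hpg _⟩
      have huH : u ∈ H := by
        have : u = n⁻¹ * (z * g) := by rw [hnu, inv_mul_cancel_left]
        rw [this]; exact H.mul_mem (hNH (N.inv_mem hn)) hg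
      have hzi : z⁻¹ = z := inv_eq_of_mul_eq_one_right hz2
      have hg' : g = z * (n * u) := by rw [← hnu, ← mul_assoc, hz2, one_mul]
      have h3 : g * g = ((n⁻¹ * (u * n * u⁻¹) : G)) * (u * u) := by
        have h4 := hzc u hu
        rw [hg']
        calc z * (n * u) * (z * (n * u)) = z * n * (u * z) * (n * u) := by group
          _ = (z * n * z⁻¹) * ((z * z) * (u * n * u⁻¹)) * (u * u) := by
            rw [h4, hzi, hz2, one_mul]; group
          _ = _ := by rw [hinv n hn, hz2, one_mul]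
      have hm : n⁻¹ * (u * n * u⁻¹) ∈ N := N.mul_mem (N.inv_mem hn) (hN.conj_mem n hn u)
      have huu := H.mul_mem huH huH
      rw [he, h3, extendByZero_of_mem H _ (H.mul_mem (hNH hm) huu),
        show (⟨_, H.mul_mem (hNH hm) huu⟩ : H) = ⟨_, hNH hm⟩ * ⟨_, huu⟩ from rfl, map_mul θh,
        hθu _ huu (P.mul_mem hu hu), mul_one, hθh ⟨_, hm⟩,
        show (⟨_, hm⟩ : N) = (⟨n, hn⟩ : N)⁻¹ * conjN u ⟨n, hn⟩ from rfl, map_mul θ, map_inv,
        huH ⟨n, hn⟩, inv_mul_cancel, Units.val_one]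
    rw [h1]
    have h5 : (Nat.card N : ℂ) * ∑ g : G, e (g * g) = Nat.card N * Nat.card H := by
      rw [hsum]
      simp only [hfac, mul_ite, mul_zero]
      rw [← Finset.sum_filter, Finset.sum_congr rfl fun g hg => by
        rw [hval g (Finset.mem_filter.1 hg).2, one_mul], Finset.sum_const, nsmul_eq_mul,
        ← Fintype.card_subtype, mul_comm]
      congr 1
      rw [← Nat.card_eq_fintype_card]
      exact_mod_cast Nat.card_congr (Equiv.subtypeEquiv (Equiv.mulLeft z) fun g => Iff.rfl)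
    rw [mul_left_cancel₀ (Nat.cast_ne_zero.2 Nat.card_pos.ne') h5,
      inv_mul_cancel₀ (Nat.cast_ne_zero.2 Nat.card_pos.ne')]
  -- counting
  set E : Finset (IrrCharacter G) := S.filter fun χ => Cfsg.charDegree (χ : G → ℂ) ≠ 1 with hE
  have himg : (L.attach.image Φ) ⊆ E := by
    intro χ hχ
    obtain ⟨f, -, rfl⟩ := Finset.mem_image.1 hχ
    refine Finset.mem_filter.2 ⟨(hS _).2 ⟨Or.inr ?_, hν f⟩, ?_⟩
    · rw [hdeg]; exact hd
    · rw [hdeg]; omega
  have hfib : L.card ≤ H.index * (L.attach.image Φ).card := by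
    rw [← L.card_attach]
    refine Finset.card_le_mul_card_image _ _ fun χ _ => ?_
    rw [← Finset.card_map (Function.Embedding.subtype _)]
    refine card_linear_over_le H _ fun f hf f' hf' h hh => ?_
    simp only [Finset.mem_map, Finset.mem_filter, Function.Embedding.coe_subtype] at hf hf'
    obtain ⟨a, ⟨-, ha⟩, rfl⟩ := hf
    obtain ⟨b, ⟨-, hb⟩, rfl⟩ := hf'
    have h1 := hinner a.1 a.2 b.1 b.2
    have h2 : indFun H (fun h => (ψ a h : ℂ)) = indFun H fun h => (ψ b h : ℂ) :=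
      congrArg Subtype.val (ha.trans hb.symm)
    rw [h2, hone b.1 b.2] at h1
    have h3 : (fun h : H => (ψ a h : ℂ)) = fun h : H => (ψ b h : ℂ) := by
      by_contra hne
      exact one_ne_zero (h1.trans (classInner_irr_ne (isIrrCharacter_hom _) (isIrrCharacter_hom _) hne))
    exact mul_left_cancel (Units.ext (congrFun h3 ⟨h, hh⟩) :
      θh ⟨h, hh⟩ * a.1 h = θh ⟨h, hh⟩ * b.1 h)
  have hsumE : H.index * (L.attach.image Φ).card ≤ ∑ χ ∈ E, Cfsg.charDegree (χ : G → ℂ) := by
    refine le_trans (le_of_eq ?_) (Finset.sum_le_sum_of_subset himg)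
    rw [Finset.sum_congr rfl (g := fun _ => H.index), Finset.sum_const, smul_eq_mul, mul_comm]
    intro χ hχ
    obtain ⟨f, -, rfl⟩ := Finset.mem_image.1 hχ
    exact hdeg f
  have hE2 : 2 * E.card ≤ ∑ χ ∈ E, Cfsg.charDegree (χ : G → ℂ) := by
    rw [mul_comm, ← smul_eq_mul, ← Finset.sum_const]
    refine Finset.sum_le_sum fun χ hχ => ?_
    obtain ⟨hχS, hne⟩ := Finset.mem_filter.1 hχ
    obtain ⟨d, hd0, hd⟩ := IsIrr.degree χ.2
    rw [Blocks.charDegree_eq hd] at hne ⊢
    omega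
  have hsplit := Finset.sum_filter_add_sum_filter_not S
    (fun χ : IrrCharacter G => Cfsg.charDegree (χ : G → ℂ) = 1)
    fun χ => Cfsg.charDegree (χ : G → ℂ)
  have hLsum : ∑ χ ∈ S.filter (fun χ : IrrCharacter G => Cfsg.charDegree (χ : G → ℂ) = 1),
      Cfsg.charDegree (χ : G → ℂ) = L.card := by
    rw [Finset.sum_congr rfl fun χ hχ => (Finset.mem_filter.1 hχ).2, Finset.sum_const,
      smul_eq_mul, mul_one, hLcard]
  have hcard := Finset.card_filter_add_card_filter_not (s := S)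
    fun χ : IrrCharacter G => Cfsg.charDegree (χ : G → ℂ) = 1
  rw [hLsum] at hsplit
  rw [hLcard] at hcard
  simp only [← ne_eq, ← hE] at hsplit hcard
  omega

end Cfsg.Agent.Char
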