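import Mathlib
import Cfsg.Agent.Char.Brauer
import Cfsg.Agent.Char.UniqueDivisible
import Cfsg.Prelude.Def_Blocks

/-!
# The indicator of a section is an algebraic-integer combination of characters
-/

namespace Cfsg.Agent.Char

open scoped ComplexConjugate

universe u

variable {G : Type u} [Group G]

/-- The elements of order prime to `n` of a nilpotent group. -/
def coprimeSub [Finite G] [Group.IsNilpotent G] (n : ℕ) : Subgroup G where
  carrier := {x | (orderOf x).Coprime n}
  one_mem' := by simp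
  inv_mem' := fun {x} hx => by simpa using hx
  mul_mem' := fun {x y} hx hy => by
    refine Nat.coprime_of_dvd fun q hq hd hqn => ?_
    have := Fact.mk hq
    have hmem : ∀ z : G, (orderOf z).Coprime n → z ∈ pPrimeCore q G := fun z hz => by
      rw [← QuotientGroup.eq_one_iff, ← orderOf_eq_one_iff]
      obtain ⟨k, hk⟩ := (IsPGroup.iff_orderOf.1 (isPGroup_quotient_pPrimeCore (p := q))) (z : G ⧸ pPrimeCore q G)
      rcases k with _ | k
      · simpa using hk
      · exfalso
        have h1 : q ∣ orderOf z := ((dvd_pow_self q k.succ_ne_zero).trans (dvd_of_eq hk.symm)).trans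
          (orderOf_map_dvd (QuotientGroup.mk' (pPrimeCore q G)) z)
        exact hq.ne_one (Nat.eq_one_of_dvd_coprimes hz h1 hqn)
    have h2 : orderOf (x * y) ∣ Nat.card (pPrimeCore q G) := by
      rw [← Subgroup.orderOf_mk (x * y) (mul_mem (hmem x hx) (hmem y hy))]
      exact orderOf_dvd_natCard _
    exact hq.ne_one (Nat.eq_one_of_dvd_coprimes Core.coprime_card_pPrimeCore (hd.trans h2) dvd_rfl)

theorem mem_coprimeSub [Finite G] [Group.IsNilpotent G] {n : ℕ} {x : G} :
    x ∈ coprimeSub n ↔ (orderOf x).Coprime n := Iff.rfl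

instance [Finite G] [Group.IsNilpotent G] (n : ℕ) : (coprimeSub (G := G) n).Normal :=
  ⟨fun x hx g => by
    rw [mem_coprimeSub, show g * x * g⁻¹ = MulAut.conj g x from rfl, MulEquiv.orderOf_eq]
    exact hx⟩

theorem card_coprimeSub [Finite G] [Group.IsNilpotent G] (n : ℕ) :
    (Nat.card (coprimeSub (G := G) n)).Coprime n := by
  refine Nat.coprime_of_dvd fun q hq hd hqn => ?_
  have := Fact.mk hq
  obtain ⟨⟨x, hx⟩, ho⟩ := exists_prime_orderOf_dvd_card' q hd
  rw [Subgroup.orderOf_mk] at ho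
  rw [mem_coprimeSub, ho] at hx
  exact hq.ne_one (Nat.eq_one_of_dvd_coprimes hx dvd_rfl hqn)

/-- The exponent extracting the component of order prime to `m`. -/
theorem exists_component [Finite G] {m n : ℕ} (hmn : Nat.card G ∣ m * n) (hcop : m.Coprime n) :
    ∃ a b : ℕ, (∀ x : G, x ^ a * x ^ b = x ∧ (orderOf (x ^ a)).Coprime n ∧
      (orderOf (x ^ b)).Coprime m) ∧
      ∀ u v : G, Commute u v → (orderOf u).Coprime n → (orderOf v).Coprime m → (u * v) ^ b = v := by
  obtain ⟨a, ha1, ha0⟩ := Nat.chineseRemainder hcop 1 0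
  obtain ⟨b, hb0, hb1⟩ := Nat.chineseRemainder hcop 0 1
  have hx : ∀ x : G, orderOf x ∣ m * n := fun x => (orderOf_dvd_natCard x).trans hmn
  refine ⟨a, b, fun x => ⟨?_, ?_, ?_⟩, fun u v hc hu hv => ?_⟩
  · have h : a + b ≡ 1 [MOD m * n] := (Nat.modEq_and_modEq_iff_modEq_mul hcop).1
      ⟨by simpa using ha1.add hb0, by simpa using ha0.add hb1⟩
    conv_rhs => rw [← pow_one x]
    rw [← pow_add]
    exact pow_eq_pow_iff_modEq.2 (h.of_dvd (hx x))
  · refine hcop.coprime_dvd_left (orderOf_dvd_of_pow_eq_one ?_)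
    rw [← pow_mul]
    refine orderOf_dvd_iff_pow_eq_one.1 ((hx x).trans ?_)
    rw [mul_comm a]
    exact Nat.mul_dvd_mul_left m (Nat.modEq_zero_iff_dvd.1 ha0)
  · refine hcop.symm.coprime_dvd_left (orderOf_dvd_of_pow_eq_one ?_)
    rw [← pow_mul]
    refine orderOf_dvd_iff_pow_eq_one.1 ((hx x).trans ?_)
    exact Nat.mul_dvd_mul_right (Nat.modEq_zero_iff_dvd.1 hb0) n
  · have hum : orderOf u ∣ m := hu.dvd_of_dvd_mul_right (hx u)
    have hvn : orderOf v ∣ n := hv.dvd_of_dvd_mul_left (hx v)
    rw [hc.mul_pow, orderOf_dvd_iff_pow_eq_one.1 (hum.trans (Nat.modEq_zero_iff_dvd.1 hb0)), one_mul]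
    conv_rhs => rw [← pow_one v]
    exact pow_eq_pow_iff_modEq.2 (hb1.of_dvd hvn)

theorem sum_hom_integral [Fintype G] (f : G →* ℂˣ) :
    ∃ k : ℤ, (Nat.card G : ℂ)⁻¹ * ∑ x : G, conj ((f x : ℂˣ) : ℂ) = k := by
  classical
  obtain ⟨k, hk⟩ := classInner_isCharacter_eq_natCast (isCharacter_one (G := G)) (isCharacter_hom f)
  refine ⟨k, ?_⟩
  simp only [classInner, one_mul] at hk
  exact_mod_cast hk

/-- Brauer: the section indicator has integral multiplicities. -/
theorem isIntegral_section [Fintype G] {m n : ℕ} (hmn : Nat.card G = m * n) (hcop : m.Coprime n)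
    (g : G) {b : ℕ} (hb : ∀ u v : G, Commute u v → (orderOf u).Coprime n → (orderOf v).Coprime m →
      (u * v) ^ b = v)
    {θ : G → ℂ} (hθ1 : ∀ x, IsConj (x ^ b) g → θ x = n) (hθ0 : ∀ x, ¬ IsConj (x ^ b) g → θ x = 0)
    {χ : G → ℂ} (hχ : IsCharacter G χ) : IsIntegral ℤ (classInner θ χ) := by
  classical
  have hcls : IsClassFunction G θ := fun x k => by
    have hc : IsConj (x ^ b) ((k * x * k⁻¹) ^ b) := isConj_iff.2 ⟨k, conj_pow.symm⟩
    by_cases h : IsConj (x ^ b) g
    · rw [hθ1 x h, hθ1 _ (hc.symm.trans h)]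
    · rw [hθ0 x h, hθ0 _ fun h' => h (hc.trans h')]
  suffices H : ∀ f ∈ monoSpan (G := G), IsIntegral ℤ (classInner θ f) from H χ (brauer_induction hχ)
  intro f hf
  induction hf using AddSubgroup.closure_induction with
  | mem f hf =>
    obtain ⟨E, lam, ⟨p, hp, hE⟩, rfl⟩ := hf
    rw [classInner_indFun_right E _ hcls]
    have := IsElementary.isNilpotent hp hE
    let U := coprimeSub (G := E) n
    let V := coprimeSub (G := E) m
    have hmn' : Nat.card E ∣ m * n := hmn ▸ Subgroup.card_subgroup_dvd_card E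
    have hU : Nat.card U ∣ m :=
      (card_coprimeSub n).dvd_of_dvd_mul_right ((Subgroup.card_subgroup_dvd_card U).trans hmn')
    have hV : Nat.card V ∣ n :=
      (card_coprimeSub m).dvd_of_dvd_mul_left ((Subgroup.card_subgroup_dvd_card V).trans hmn')
    have hUV : (Nat.card U).Coprime (Nat.card V) :=
      (hcop.coprime_dvd_left hU).coprime_dvd_right hV
    let Φ : U × V → E := fun q => (q.1 : E) * q.2
    have hbij : Function.Bijective Φ := by
      refine ⟨Subgroup.mul_injective_of_disjoint (Subgroup.disjoint_of_coprime_natCard hUV), fun x => ?_⟩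
      obtain ⟨a, b', hab, -⟩ := exists_component (G := E) hmn' hcop
      exact ⟨(⟨x ^ a, (hab x).2.1⟩, ⟨x ^ b', (hab x).2.2⟩), (hab x).1⟩
    have hΦ : ∀ (u : U) (v : V), θ ((((u : E) * (v : E)) : E) : G) =
        if IsConj ((v : E) : G) g then (n : ℂ) else 0 := by
      intro u v
      have : ((((u : E) * (v : E)) : E) : G) ^ b = ((v : E) : G) := by
        show (((u : E) : G) * ((v : E) : G)) ^ b = _
        refine hb _ _ ((Core.commute_of_coprime hUV u.2 v.2).map E.subtype) ?_ ?_
        · rw [Subgroup.orderOf_coe]; exact u.2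
        · rw [Subgroup.orderOf_coe]; exact v.2
      split_ifs with h
      · exact hθ1 _ (this ▸ h)
      · exact hθ0 _ fun h' => h (this ▸ h')
    have hcardE : (Nat.card E : ℂ) = Nat.card U * Nat.card V := by
      rw [← Nat.cast_mul, ← Nat.card_prod, Nat.card_congr (Equiv.ofBijective Φ hbij)]
    obtain ⟨k, hk⟩ := sum_hom_integral (lam.comp U.subtype)
    obtain ⟨r, hr⟩ := hV
    have hval : classInner (fun e : E => θ e) (fun e : E => ((lam e : ℂˣ) : ℂ)) =
        (r : ℂ) * k * ∑ v : V, if IsConj ((v : E) : G) g then conj ((lam (v : E) : ℂˣ) : ℂ) else 0 := by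
      rw [classInner, ← Fintype.sum_bijective Φ hbij _ _ fun q => rfl, Fintype.sum_prod_type,
        ← hk, hcardE]
      simp only [hΦ, Φ, map_mul, Units.val_mul, MonoidHom.comp_apply, Subgroup.coe_subtype]
      have hV0 : (Nat.card V : ℂ) ≠ 0 := card_ne_zero
      have hU0 : (Nat.card U : ℂ) ≠ 0 := card_ne_zero
      have hn : (n : ℂ) = (Nat.card V : ℂ) * r := by exact_mod_cast hr
      simp only [Finset.mul_sum, Finset.sum_mul]
      rw [Finset.sum_comm]
      refine Finset.sum_congr rfl fun v _ => Finset.sum_congr rfl fun u _ => ?_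
      split_ifs
      · rw [hn]; field_simp
      · simp
    rw [hval]
    have hrk : IsIntegral ℤ ((r : ℂ) * (k : ℂ)) := by
      simpa using (isIntegral_algebraMap (R := ℤ) (A := ℂ) (x := (r : ℤ) * k))
    refine hrk.mul (IsIntegral.sum _ fun v _ => ?_)
    split_ifs
    · have hc := isCharacter_conj (isCharacter_hom lam)
      exact IsChar.isIntegral hc (v : E)
    · exact isIntegral_zero
  | zero => simp [classInner, isIntegral_zero]
  | add a c _ _ ha hc => rw [classInner_add_right]; exact ha.add hc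
  | neg a _ ha => rw [classInner_neg_right]; exact ha.neg

end Cfsg.Agent.Char
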