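import Mathlib
import Cfsg.Agent.Char.SectionIntegral

/-!
# The normal complement theorem of Brauer and Suzuki
-/

namespace Cfsg.Agent.Char

open scoped ComplexConjugate

universe u

variable {G : Type u} [Group G] [Finite G]

theorem isElementary_zpowers (v : G) :
    ∃ p, p.Prime ∧ IsElementary p (Subgroup.zpowers v) := by
  obtain ⟨p, hle, hp⟩ := Nat.exists_infinite_primes (orderOf v + 1)
  refine ⟨p, hp, ⟨v, Subgroup.mem_zpowers v⟩, Subgroup.mem_center_iff.2 fun g => ?_, ?_, 0, ?_⟩
  · obtain ⟨i, hi⟩ := Subgroup.mem_zpowers_iff.1 g.2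
    apply Subtype.ext
    show (g : G) * v = v * (g : G)
    rw [← hi]
    exact ((Commute.refl v).zpow_left i).eq
  · rw [Subgroup.orderOf_mk]
    exact ((hp.coprime_iff_not_dvd).2 fun h => by
      have := Nat.le_of_dvd (orderOf_pos v) h; omega).symm
  · rw [pow_zero, Subgroup.index_eq_one, eq_top_iff]
    rintro ⟨g, hg⟩ -
    obtain ⟨i, rfl⟩ := Subgroup.mem_zpowers_iff.1 hg
    exact ⟨i, Subtype.ext rfl⟩

/-- The conjugating hypothesis makes `|h^H|` divide `|h^G|`. -/
theorem index_dvd_of_elementary (H : Subgroup G) (hHall : Nat.Coprime (Nat.card H) H.index)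
    (hfus : ∀ x ∈ H, ∀ y ∈ H, IsConj x y → ∃ h ∈ H, h * x * h⁻¹ = y)
    (helem : ∀ (E : Subgroup G) (p : ℕ), p.Prime → IsElementary p E → Nat.card E ∣ Nat.card H →
      ∃ g : G, E.map (MulAut.conj g).toMonoidHom ≤ H) {h : G} (hh : h ∈ H) :
    Nat.card (Subgroup.centralizer ({h} : Set G)) ∣
      Nat.card ↥(H ⊓ Subgroup.centralizer ({h} : Set G)) * H.index := by
  classical
  set C := Subgroup.centralizer ({h} : Set G)
  have hC0 : Nat.card C ≠ 0 := Nat.card_pos.ne'
  have hCH0 : Nat.card ↥(H ⊓ C) ≠ 0 := Nat.card_pos.ne'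
  have hi0 : H.index ≠ 0 := Subgroup.index_ne_zero_of_finite
  rw [← Nat.factorization_le_iff_dvd hC0 (mul_ne_zero hCH0 hi0), Nat.factorization_mul hCH0 hi0]
  intro p
  by_cases hp : p.Prime
  swap
  · rw [Nat.factorization_eq_zero_of_not_prime _ hp]; exact Nat.zero_le _
  have hG : (Nat.card G).factorization p = (Nat.card H).factorization p + H.index.factorization p := by
    rw [← Subgroup.card_mul_index H, Nat.factorization_mul Nat.card_pos.ne' hi0]; rfl
  have hCG : (Nat.card C).factorization p ≤ (Nat.card G).factorization p :=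
    (Nat.factorization_le_iff_dvd hC0 Nat.card_pos.ne').2 C.card_subgroup_dvd_card p
  show _ ≤ (Nat.card ↥(H ⊓ C)).factorization p + H.index.factorization p
  by_cases hpH : p ∣ Nat.card H
  swap
  · rw [Nat.factorization_eq_zero_of_not_dvd hpH] at hG
    omega
  have := Fact.mk hp
  have hpi : ¬ p ∣ H.index := fun h' => hp.ne_one (Nat.eq_one_of_dvd_coprimes hHall hpH h')
  rw [Nat.factorization_eq_zero_of_not_dvd hpi] at hG ⊢
  obtain ⟨Q⟩ : Nonempty (Sylow p C) := inferInstance
  set j := (orderOf h).factorization p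
  set x := h ^ p ^ j with hxdef
  have ho : p ^ j ∣ orderOf h := Nat.ordProj_dvd _ _
  have hox : orderOf x = orderOf h / p ^ j := by rw [hxdef, orderOf_pow, Nat.gcd_eq_right ho]
  have hxcop : (orderOf x).Coprime p :=
    hox ▸ (Nat.coprime_ordCompl hp (orderOf_pos h).ne').symm
  set Q' : Subgroup G := (Q : Subgroup C).map C.subtype
  have hQC : Q' ≤ C := Subgroup.map_subtype_le _
  have hcQ : ∀ q ∈ Q', Commute x q := fun q hq =>
    (show Commute h q from (Subgroup.mem_centralizer_singleton_iff.1 (hQC hq)).symm).pow_left _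
  have hcardQ : Nat.card Q' = p ^ (Nat.card C).factorization p := by
    rw [Subgroup.card_map_of_injective C.subtype_injective]
    exact Q.card_eq_multiplicity
  let φ : Subgroup.zpowers x × Q' →* G :=
    { toFun := fun t => (t.1 : G) * t.2
      map_one' := by simp
      map_mul' := fun s t => by
        obtain ⟨i, hi⟩ := Subgroup.mem_zpowers_iff.1 t.1.2
        have hct : Commute (s.2 : G) t.1 := hi ▸ ((hcQ _ s.2.2).symm.zpow_right i)
        show (s.1 : G) * t.1 * ((s.2 : G) * t.2) = s.1 * s.2 * (t.1 * t.2)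
        rw [mul_assoc, mul_assoc, ← mul_assoc (t.1 : G), ← hct.eq, mul_assoc] }
  have hco : (Nat.card (Subgroup.zpowers x)).Coprime (Nat.card Q') := by
    rw [Nat.card_zpowers, hcardQ]; exact hxcop.pow_right _
  have hinj : Function.Injective φ :=
    Subgroup.mul_injective_of_disjoint (Subgroup.disjoint_of_coprime_natCard hco)
  let e := φ.ofInjective hinj
  have hEl : IsElementary p φ.range := by
    refine IsElementary.of_equiv e ⟨(⟨x, Subgroup.mem_zpowers x⟩, 1), ?_, ?_,
      (Nat.card C).factorization p, ?_⟩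
    · refine Subgroup.mem_center_iff.2 fun t => Prod.ext (Subtype.ext ?_) (by simp)
      obtain ⟨i, hi⟩ := Subgroup.mem_zpowers_iff.1 t.1.2
      show (t.1 : G) * x = x * (t.1 : G)
      rw [← hi]
      exact ((Commute.refl x).zpow_left i).eq
    · rw [Prod.orderOf]; simpa using hxcop
    · have h1 := Subgroup.card_mul_index
        (Subgroup.zpowers ((⟨x, Subgroup.mem_zpowers x⟩, 1) : Subgroup.zpowers x × Q'))
      rw [Nat.card_zpowers, Prod.orderOf, Subgroup.orderOf_mk, orderOf_one, Nat.lcm_one_right,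
        Nat.card_prod, Nat.card_zpowers, hcardQ] at h1
      exact Nat.eq_of_mul_eq_mul_left (orderOf_pos x) h1
  have hdvd : Nat.card φ.range ∣ Nat.card H := by
    rw [← Nat.card_congr e.toEquiv, Nat.card_prod]
    refine hco.mul_dvd_of_dvd_of_dvd ?_ ?_
    · refine Subgroup.card_dvd_of_le (Subgroup.zpowers_le.2 ?_)
      exact H.pow_mem hh _
    · rw [hcardQ]
      refine (pow_dvd_pow p ?_).trans (Nat.ordProj_dvd _ p)
      omega
  obtain ⟨g, hg⟩ := helem φ.range p hp hEl hdvd
  have hQE : Q' ≤ φ.range := fun q hq => ⟨(1, ⟨q, hq⟩), by simp [φ]⟩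
  have hxE : x ∈ φ.range := ⟨(⟨x, Subgroup.mem_zpowers x⟩, 1), by simp [φ]⟩
  have hhE : h ∈ φ.range := by
    -- the `p`-part of `h` lies in every Sylow subgroup of its centraliser
    set hC : C := ⟨h, Subgroup.mem_centralizer_singleton_iff.2 rfl⟩
    have hcentC : ∀ c : C, hC * c = c * hC := fun c =>
      Subtype.ext ((Subgroup.mem_centralizer_singleton_iff.1 c.2).symm)
    set y : C := hC ^ (orderOf h / p ^ j)
    have hy : orderOf y ∣ p ^ j := by
      refine orderOf_dvd_of_pow_eq_one ?_
      rw [← pow_mul, Nat.div_mul_cancel ho, ← orderOf_dvd_iff_pow_eq_one, Subgroup.orderOf_mk]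
    have hyQ : y ∈ (Q : Subgroup C) := by
      have hn : (Subgroup.zpowers y).Normal := ⟨fun z hz c => by
        obtain ⟨i, rfl⟩ := Subgroup.mem_zpowers_iff.1 hz
        have hcy : Commute c (y ^ i) := ((show Commute c hC from (hcentC c).symm).pow_right _).zpow_right i
        rw [hcy.eq, mul_inv_cancel_right]
        exact ⟨i, rfl⟩⟩
      have hpg : IsPGroup p (Subgroup.zpowers y) := by
        obtain ⟨i, -, hi⟩ := (Nat.dvd_prime_pow hp).1 hy
        exact IsPGroup.of_card (n := i) (by rw [Nat.card_zpowers, hi])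
      exact hpg.le_sylow_of_normal Q (Subgroup.mem_zpowers y)
    have hyE : h ^ (orderOf h / p ^ j) ∈ φ.range :=
      hQE ⟨y, hyQ, by simp [y, hC]⟩
    have hcop2 : (p ^ j).Coprime (orderOf h / p ^ j) :=
      Nat.Coprime.pow_left _ (Nat.coprime_ordCompl hp (orderOf_pos h).ne')
    have h1 : (h ^ (Int.gcd (p ^ j : ℕ) ((orderOf h / p ^ j : ℕ) : ℤ) : ℤ)) ∈ φ.range := by
      rw [Int.gcd_eq_gcd_ab, zpow_add, zpow_mul, zpow_mul, zpow_natCast, zpow_natCast]
      exact mul_mem (zpow_mem hxE _) (zpow_mem hyE _)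
    have h2 : Int.gcd ((p ^ j : ℕ) : ℤ) ((orderOf h / p ^ j : ℕ) : ℤ) = 1 := by
      rw [Int.gcd_natCast_natCast]; exact hcop2
    rw [h2] at h1
    simpa using h1
  have hh' : g * h * g⁻¹ ∈ H := hg ⟨h, hhE, rfl⟩
  obtain ⟨k, hk, hke⟩ := hfus _ hh' h hh (isConj_iff.2 ⟨g⁻¹, by group⟩)
  have hQle : Q'.map (MulAut.conj (k * g)).toMonoidHom ≤ H ⊓ C := by
    rintro _ ⟨q, hq, rfl⟩
    have hqH : g * q * g⁻¹ ∈ H := hg ⟨q, hQE hq, rfl⟩
    refine ⟨?_, ?_⟩
    · show k * g * q * (k * g)⁻¹ ∈ H
      rw [show k * g * q * (k * g)⁻¹ = k * (g * q * g⁻¹) * k⁻¹ by group]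
      exact H.mul_mem (H.mul_mem hk hqH) (H.inv_mem hk)
    · show k * g * q * (k * g)⁻¹ ∈ C
      rw [Subgroup.mem_centralizer_singleton_iff]
      have hqh : q * h = h * q := Subgroup.mem_centralizer_singleton_iff.1 (hQC hq)
      conv_lhs => rw [← hke]
      conv_rhs => rw [← hke]
      rw [show k * g * q * (k * g)⁻¹ * (k * (g * h * g⁻¹) * k⁻¹) = k * g * (q * h) * (k * g)⁻¹ by group,
        hqh]
      group
  have h2 := Subgroup.card_dvd_of_le hQle
  rw [Subgroup.card_map_of_injective (MulAut.conj (k * g)).injective, hcardQ] at h2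
  have h3 := (hp.pow_dvd_iff_le_factorization hCH0).1 h2
  omega

theorem brauer_suzuki (H : Subgroup G) (hHall : Nat.Coprime (Nat.card H) H.index)
    (hfus : ∀ x ∈ H, ∀ y ∈ H, IsConj x y → ∃ h ∈ H, h * x * h⁻¹ = y)
    (helem : ∀ (E : Subgroup G) (p : ℕ), p.Prime → IsElementary p E → Nat.card E ∣ Nat.card H →
      ∃ g : G, E.map (MulAut.conj g).toMonoidHom ≤ H) :
    ∃ K : Subgroup G, K.Normal ∧ K ⊔ H = ⊤ ∧ K ⊓ H = ⊥ := by
  classical
  have := Fintype.ofFinite G
  set n := Nat.card H
  set m := H.index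
  have hmn : Nat.card G = m * n := (Subgroup.index_mul_card H).symm
  have hcop : m.Coprime n := hHall.symm
  obtain ⟨a, b, hab, hb⟩ := exists_component (G := G) hmn.dvd hcop
  have hvdvd : ∀ v : G, (orderOf v).Coprime m → orderOf v ∣ n := fun v hv =>
    hv.dvd_of_dvd_mul_left (hmn ▸ orderOf_dvd_natCard v)
  have hfixH : ∀ h ∈ H, h ^ b = h := fun h hh => by
    have ho : orderOf h ∣ n := Subgroup.orderOf_mk h hh ▸ orderOf_dvd_natCard (⟨h, hh⟩ : H)
    have := hb 1 h (Commute.one_left h) (by simp) (hcop.symm.coprime_dvd_left ho)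
    rwa [one_mul] at this
  have hex : ∀ z : G, ∃ h : H, IsConj (z ^ b) (h : G) := fun z => by
    obtain ⟨p, hp, hE⟩ := isElementary_zpowers (z ^ b)
    obtain ⟨g, hg⟩ := helem _ p hp hE (by rw [Nat.card_zpowers]; exact hvdvd _ (hab z).2.2)
    exact ⟨⟨g * z ^ b * g⁻¹, hg ⟨_, Subgroup.mem_zpowers _, rfl⟩⟩, isConj_iff.2 ⟨g, rfl⟩⟩
  choose hπ hhπ using hex
  have huniq : ∀ (z : G) (h : H), IsConj (z ^ b) (h : G) → IsConj (hπ z) h := fun z h hz => by
    obtain ⟨k, hk, e⟩ := hfus _ (hπ z).2 _ h.2 ((hhπ z).symm.trans hz)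
    exact isConj_iff.2 ⟨⟨k, hk⟩, Subtype.ext e⟩
  have hcls : ∀ (θ : IrrCharacter H) (z : G) (h : H), IsConj (z ^ b) (h : G) →
      (θ : H → ℂ) (hπ z) = (θ : H → ℂ) h := fun θ z h hz =>
    classFun_isConj (isClassFunction_of_isIrr θ.2) (huniq z h hz)
  have hconjpow : ∀ z k : G, IsConj (z ^ b) ((k * z * k⁻¹) ^ b) := fun z k =>
    isConj_iff.2 ⟨k, conj_pow.symm⟩
  have hext : ∀ (θ : IrrCharacter H) (h : H), (θ : H → ℂ) (hπ h) = (θ : H → ℂ) h := fun θ h =>
    hcls θ _ h (by rw [hfixH h h.2])
  -- generalised characters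
  have hgen : ∀ θ : IrrCharacter H,
      IsGeneralizedCharacter G (fun z => (θ : H → ℂ) (hπ z)) := by
    intro θ
    refine isGeneralized_of_elementary (fun z k => ?_) fun E p hp hE => ?_
    · exact hcls θ _ _ ((hconjpow z k).symm.trans (hhπ z))
    have := IsElementary.isNilpotent hp hE
    have := Fintype.ofFinite E
    let U := coprimeSub (G := E) n
    let V := coprimeSub (G := E) m
    have hEmn : Nat.card E ∣ m * n := hmn ▸ Subgroup.card_subgroup_dvd_card E
    have hU : Nat.card U ∣ m :=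
      (card_coprimeSub n).dvd_of_dvd_mul_right ((Subgroup.card_subgroup_dvd_card U).trans hEmn)
    have hV : Nat.card V ∣ n :=
      (card_coprimeSub m).dvd_of_dvd_mul_left ((Subgroup.card_subgroup_dvd_card V).trans hEmn)
    have hUV : (Nat.card U).Coprime (Nat.card V) :=
      (hcop.coprime_dvd_left hU).coprime_dvd_right hV
    have hmul : ∀ z w : E, ((z : G) * w) ^ b = (z : G) ^ b * (w : G) ^ b := by
      intro z w
      obtain ⟨ez, huz, hvz⟩ := hab (z : G)
      obtain ⟨ew, huw, hvw⟩ := hab (w : G)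
      have hu : ∀ t : E, (orderOf ((t : G) ^ a)).Coprime n → t ^ a ∈ U := fun t ht => by
        rw [mem_coprimeSub, ← Subgroup.orderOf_coe]; simpa using ht
      have hv : ∀ t : E, (orderOf ((t : G) ^ b)).Coprime m → t ^ b ∈ V := fun t ht => by
        rw [mem_coprimeSub, ← Subgroup.orderOf_coe]; simpa using ht
      have hc1 : Commute ((z : G) ^ b) ((w : G) ^ a) := by
        simpa using ((Core.commute_of_coprime hUV (hu w huw) (hv z hvz)).symm.map E.subtype)
      have hc2 : Commute ((z : G) ^ a * (w : G) ^ a) ((z : G) ^ b * (w : G) ^ b) := by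
        simpa using ((Core.commute_of_coprime hUV (U.mul_mem (hu z huz) (hu w huw))
          (V.mul_mem (hv z hvz) (hv w hvw))).map E.subtype)
      have e1 : (z : G) * w = (z : G) ^ a * (w : G) ^ a * ((z : G) ^ b * (w : G) ^ b) := by
        conv_lhs => rw [← ez, ← ew]
        rw [mul_assoc, ← mul_assoc ((z : G) ^ b), hc1.eq, mul_assoc, ← mul_assoc]
      rw [e1]
      refine hb _ _ hc2 ?_ ?_
      · have := mem_coprimeSub.1 (U.mul_mem (hu z huz) (hu w huw))
        rw [← Subgroup.orderOf_coe] at this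
        simpa using this
      · have := mem_coprimeSub.1 (V.mul_mem (hv z hvz) (hv w hvw))
        rw [← Subgroup.orderOf_coe] at this
        simpa using this
    have hEl : IsElementary p (V.map E.subtype) :=
      IsElementary.of_equiv (V.equivMapOfInjective _ E.subtype_injective)
        (IsElementary.subgroup hp hE V)
    obtain ⟨g, hg⟩ := helem _ p hp hEl (by
      rw [Subgroup.card_map_of_injective E.subtype_injective]; exact hV)
    have hin : ∀ z : E, g * (z : G) ^ b * g⁻¹ ∈ H := fun z => by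
      refine hg ⟨_, ⟨z ^ b, ?_, rfl⟩, by simp⟩
      rw [SetLike.mem_coe, mem_coprimeSub, ← Subgroup.orderOf_coe]
      simpa using (hab (z : G)).2.2
    let φ : E →* H := MonoidHom.mk' (fun z => ⟨_, hin z⟩) fun z w => Subtype.ext (by
      show g * ((z : G) * w) ^ b * g⁻¹ = g * (z : G) ^ b * g⁻¹ * (g * (w : G) ^ b * g⁻¹)
      rw [hmul]; group)
    rw [show (fun z : E => (θ : H → ℂ) (hπ z)) = fun z : E => (θ : H → ℂ) (φ z) from
      funext fun z => hcls θ _ (φ z) (isConj_iff.2 ⟨g, rfl⟩)]
    exact isGeneralized_of_isCharacter (isCharacter_comp φ (IsIrr.isCharacter θ.2))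
  -- sections
  let F : ConjClasses H → Finset G := fun q =>
    Finset.univ.filter fun z => ConjClasses.mk (hπ z) = q
  have hF : ∀ (h : H) (z : G), z ∈ F (ConjClasses.mk h) ↔ IsConj (z ^ b) (h : G) := fun h z => by
    simp only [F, Finset.mem_filter, Finset.mem_univ, true_and]
    rw [ConjClasses.mk_eq_mk_iff_isConj]
    refine ⟨fun e => (hhπ z).trans ?_, huniq z h⟩
    exact H.subtype.map_isConj e
  have hge : ∀ h : H, m * Nat.card {x : H // IsConj h x} ≤ (F (ConjClasses.mk h)).card := by
    intro h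
    set C := Subgroup.centralizer ({(h : G)} : Set G)
    set S := F (ConjClasses.mk h)
    have hpos : 0 < S.card := Finset.card_pos.2 ⟨(h : G), (hF h _).2 (by rw [hfixH h h.2])⟩
    -- divisibility by `m`
    have hm : m ∣ S.card := by
      let θS : G → ℂ := fun z => if z ∈ S then (n : ℂ) else 0
      have hi := isIntegral_section hmn hcop (h : G) hb (θ := θS)
        (fun z hz => if_pos ((hF h z).2 hz)) (fun z hz => if_neg fun h' => hz ((hF h z).1 h'))
        (isCharacter_one (G := G))
      have hm0 : (m : ℂ) ≠ 0 := Nat.cast_ne_zero.2 Subgroup.index_ne_zero_of_finite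
      have hn0 : (n : ℂ) ≠ 0 := Nat.cast_ne_zero.2 Nat.card_pos.ne'
      have e : classInner θS (fun _ : G => (1 : ℂ)) = (((S.card : ℚ) / m : ℚ) : ℂ) := by
        simp only [classInner, map_one, mul_one, θS]
        rw [Finset.sum_ite_mem, Finset.univ_inter, Finset.sum_const, nsmul_eq_mul, hmn]
        push_cast
        field_simp
      rw [e] at hi
      obtain ⟨k, hk⟩ := exists_int_of_isIntegral_rat hi
      have hm0' : (m : ℚ) ≠ 0 := Nat.cast_ne_zero.2 Subgroup.index_ne_zero_of_finite
      refine Int.natCast_dvd_natCast.1 ⟨k, ?_⟩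
      have : (S.card : ℚ) = m * k := by rw [hk]; field_simp
      exact_mod_cast this
    -- divisibility by the size of the class
    have hc : C.index ∣ S.card := by
      let K : Finset G := Finset.univ.filter fun v => IsConj (h : G) v
      have hK : K.card = C.index := by
        rw [← card_isConj_eq_index, Nat.card_eq_fintype_card, Fintype.card_subtype]
      have hmaps : ∀ z ∈ S, z ^ b ∈ K := fun z hz =>
        Finset.mem_filter.2 ⟨Finset.mem_univ _, ((hF h z).1 hz).symm⟩
      rw [Finset.card_eq_sum_card_fiberwise hmaps, Finset.sum_congr rfl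
        (g := fun _ => (S.filter fun z => z ^ b = (h : G)).card) fun v hv => ?_, Finset.sum_const,
        smul_eq_mul, hK]
      · exact dvd_mul_right _ _
      obtain ⟨k, rfl⟩ := isConj_iff.1 (Finset.mem_filter.1 hv).2
      refine Finset.card_bij' (fun z _ => k⁻¹ * z * k) (fun z _ => k * z * k⁻¹) (fun z hz => ?_)
        (fun z hz => ?_) (fun z _ => by group) (fun z _ => by group)
      · obtain ⟨hzS, e⟩ := Finset.mem_filter.1 hz
        have e' : (k⁻¹ * z * k) ^ b = (h : G) := by
          have := conj_pow (a := k⁻¹) (b := z) (i := b)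
          rw [inv_inv] at this
          rw [this, e]; group
        exact Finset.mem_filter.2 ⟨(hF h _).2 (by rw [e']), e'⟩
      · obtain ⟨hzS, e⟩ := Finset.mem_filter.1 hz
        exact Finset.mem_filter.2 ⟨(hF h _).2 ((hconjpow z k).symm.trans ((hF h z).1 hzS)),
          by rw [conj_pow, e]⟩
    set CH := Subgroup.centralizer ({h} : Set H)
    have hCH : Nat.card CH = Nat.card ↥(H ⊓ C) := by
      refine Nat.card_congr
        { toFun := fun c => ⟨(c : H), (c : H).2,
            Subgroup.mem_centralizer_singleton_iff.2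
              (congrArg Subtype.val (Subgroup.mem_centralizer_singleton_iff.1 c.2))⟩
          invFun := fun c => ⟨⟨(c : G), c.2.1⟩, Subgroup.mem_centralizer_singleton_iff.2
            (Subtype.ext (Subgroup.mem_centralizer_singleton_iff.1 c.2.2))⟩
          left_inv := fun _ => rfl
          right_inv := fun _ => rfl }
    have hd : CH.index ∣ C.index := by
      have h1 := Nat.mul_dvd_mul_left CH.index (index_dvd_of_elementary H hHall hfus helem h.2)
      rw [← hCH, ← mul_assoc, Subgroup.index_mul_card, mul_comm n, ← hmn,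
        ← Subgroup.index_mul_card C] at h1
      exact Nat.dvd_of_mul_dvd_mul_right Nat.card_pos h1
    have hcop' : CH.index.Coprime m :=
      hcop.symm.coprime_dvd_left (Subgroup.index_dvd_card CH)
    rw [card_isConj_eq_index, mul_comm]
    exact Nat.le_of_dvd hpos (hcop'.mul_dvd_of_dvd_of_dvd (hd.trans hc) hm)
  have hclassH : ∀ q : ConjClasses H, ∀ h : H, ConjClasses.mk h = q →
      (Finset.univ.filter fun x : H => ConjClasses.mk x = q).card = Nat.card {x : H // IsConj h x} := by
    rintro q h rfl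
    rw [Nat.card_eq_fintype_card, Fintype.card_subtype]
    congr 1
    ext x
    simp only [Finset.mem_filter, Finset.mem_univ, true_and, ConjClasses.mk_eq_mk_iff_isConj]
    exact isConj_comm
  have hcard : ∀ q : ConjClasses H,
      (F q).card = m * (Finset.univ.filter fun x : H => ConjClasses.mk x = q).card := by
    have hle : ∀ q ∈ (Finset.univ : Finset (ConjClasses H)),
        m * (Finset.univ.filter fun x : H => ConjClasses.mk x = q).card ≤ (F q).card := by
      intro q _
      obtain ⟨h, rfl⟩ := ConjClasses.mk_surjective q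
      rw [hclassH _ h rfl]
      exact hge h
    have hsum : ∑ q : ConjClasses H, m * (Finset.univ.filter fun x : H => ConjClasses.mk x = q).card =
        ∑ q : ConjClasses H, (F q).card := by
      rw [← Finset.mul_sum, ← Finset.card_eq_sum_card_fiberwise (fun x _ => Finset.mem_univ _),
        ← Finset.card_eq_sum_card_fiberwise (fun x _ => Finset.mem_univ _), Finset.card_univ,
        Finset.card_univ, ← Nat.card_eq_fintype_card, ← Nat.card_eq_fintype_card, hmn]
    exact fun q => ((Finset.sum_eq_sum_iff_of_le hle).1 hsum q (Finset.mem_univ q)).symm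
  -- irreducibility
  have hirr : ∀ θ : IrrCharacter H, IsIrrCharacter G (fun z => (θ : H → ℂ) (hπ z)) := by
    intro θ
    refine IsGen.isIrr_of_norm_one (hgen θ) ?_ ?_
    · let f : H → ℂ := fun x => (θ : H → ℂ) x * conj ((θ : H → ℂ) x)
      have hfc : ∀ x y : H, IsConj x y → f x = f y := fun x y e => by
        simp only [f, classFun_isConj (isClassFunction_of_isIrr θ.2) e]
      have h1 : ∑ z : G, f (hπ z) = (m : ℂ) * ∑ x : H, f x := by
        rw [← Finset.sum_fiberwise Finset.univ (fun z => ConjClasses.mk (hπ z)),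
          ← Finset.sum_fiberwise Finset.univ (fun x : H => ConjClasses.mk x), Finset.mul_sum]
        refine Finset.sum_congr rfl fun q _ => ?_
        obtain ⟨h, rfl⟩ := ConjClasses.mk_surjective q
        rw [Finset.sum_congr rfl (g := fun _ => f h) fun z hz =>
            hfc _ _ (ConjClasses.mk_eq_mk_iff_isConj.1 (Finset.mem_filter.1 hz).2),
          Finset.sum_congr rfl (g := fun _ => f h) fun z hz =>
            hfc _ _ (ConjClasses.mk_eq_mk_iff_isConj.1 (Finset.mem_filter.1 hz).2),
          Finset.sum_const, Finset.sum_const, nsmul_eq_mul, nsmul_eq_mul,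
          show (Finset.univ.filter fun z => ConjClasses.mk (hπ z) = ConjClasses.mk h).card = _ from
            hcard _, Nat.cast_mul, mul_assoc]
      have h2 := classInner_irr_self θ.2
      rw [classInner] at h2 ⊢
      show (Nat.card G : ℂ)⁻¹ * ∑ z : G, f (hπ z) = 1
      rw [h1, hmn, ← h2]
      have hm0 : (m : ℂ) ≠ 0 := Nat.cast_ne_zero.2 Subgroup.index_ne_zero_of_finite
      push_cast
      field_simp
      show (∑ x, f x) * (n : ℂ) / n = ∑ x, f x
      rw [mul_div_assoc, div_self (Nat.cast_ne_zero.2 Nat.card_pos.ne'), mul_one]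
    · show 0 < ((θ : H → ℂ) (hπ 1)).re
      obtain ⟨d, hd0, hd⟩ := IsIrr.degree θ.2
      rw [← OneMemClass.coe_one H, hext, hd, Complex.natCast_re]
      exact Nat.cast_pos.2 hd0
  -- the complement
  have h1π : hπ 1 = 1 := by
    refine Subtype.ext ?_
    have := hhπ 1
    rw [one_pow, isConj_one_right] at this
    exact this
  let K : Subgroup G := ⨅ θ : IrrCharacter H, kerSubgroup (IsIrr.isCharacter (hirr θ))
  have hK : ∀ z, z ∈ K ↔ hπ z = 1 := fun z => by
    simp only [K, Subgroup.mem_iInf]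
    refine ⟨fun hz => eq_one_of_forall_irr fun θ => ?_, fun hz θ => ?_⟩
    · have := hz θ
      change (θ : H → ℂ) (hπ z) = (θ : H → ℂ) (hπ 1) at this
      rwa [h1π] at this
    · show (θ : H → ℂ) (hπ z) = (θ : H → ℂ) (hπ 1)
      rw [hz, h1π]
  have hKn : K.Normal := ⟨fun z hz k => by
    rw [hK] at hz ⊢
    have h2 : IsConj (hπ (k * z * k⁻¹)) (hπ z) := huniq _ _ ((hconjpow z k).symm.trans (hhπ z))
    rw [hz] at h2
    exact isConj_one_left.1 h2⟩
  have hdisj : K ⊓ H = ⊥ := (Subgroup.eq_bot_iff_forall _).2 fun z ⟨hzK, hzH⟩ => by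
    have h2 : IsConj (hπ z) (⟨z, hzH⟩ : H) := huniq z ⟨z, hzH⟩ (by rw [hfixH z hzH])
    rw [(hK z).1 hzK, isConj_one_right] at h2
    exact congrArg Subtype.val h2
  have hKc : Nat.card K = m := by
    have e1 : Nat.card K = (F (ConjClasses.mk 1)).card := by
      rw [Nat.card_eq_fintype_card]
      refine Fintype.card_of_subtype _ fun z => ?_
      simp only [F, Finset.mem_univ, true_and, Finset.mem_filter,
        ConjClasses.mk_eq_mk_iff_isConj, isConj_one_left]
      exact (hK z).symm
    rw [e1, hcard, hclassH _ 1 rfl]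
    have e2 : Nat.card {x : H // IsConj 1 x} = 1 := Nat.card_eq_one_iff_unique.2
      ⟨⟨fun x y => Subtype.ext ((isConj_one_right.1 x.2).trans (isConj_one_right.1 y.2).symm)⟩,
        ⟨⟨1, IsConj.refl 1⟩⟩⟩
    rw [e2, mul_one]
  refine ⟨K, hKn, ?_, hdisj⟩
  refine (Subgroup.isComplement'_of_card_mul_and_disjoint ?_ (disjoint_iff.2 hdisj)).sup_eq_top
  rw [hKc, hmn]

end Cfsg.Agent.Char
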