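import Mathlib
import Cfsg.Agent.Char.Clifford
import Cfsg.Agent.Char.ClassAlg
import Cfsg.Agent.Blocks.Idempotent
import Cfsg.Agent.BlockChar.Support

/-!
# Central characters of central products
-/

namespace Cfsg.Agent.Char.CentralProd

open scoped ComplexConjugate
open Cfsg.Agent Cfsg.Agent.Blocks

universe u

variable {G : Type u} [Group G] [Fintype G] {p : ℕ} {M : Ideal Cfsg.AlgInt}

/-- Two irreducible characters lie in the same block as soon as their central characters agree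
modulo `M` at the `p`-regular elements. -/
theorem sameBlock_of_regular (hM : Cfsg.IsPModular p M) (χ ψ : Cfsg.IrrCharacter G)
    (h : ∀ g : G, Cfsg.IsPRegular p g →
      Cfsg.MemLocalIdeal M (Cfsg.centralChar (χ : G → ℂ) g - Cfsg.centralChar (ψ : G → ℂ) g)) :
    Cfsg.SameBlock M (χ : G → ℂ) (ψ : G → ℂ) := by
  classical
  by_contra hne
  have hB := Blocks.isPBlock_blockOf (M := M) χ
  have : Finite (ConjClasses G) := Quotient.finite _
  have := Fintype.ofFinite (ConjClasses G)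
  have h1 : Cfsg.MemLocalIdeal M (omega (χ : G → ℂ) (Cfsg.blockCoeff (Cfsg.blockOf M (χ : G → ℂ))) -
      omega (ψ : G → ℂ) (Cfsg.blockCoeff (Cfsg.blockOf M (χ : G → ℂ)))) := by
    rw [omega_eq_sum_classes (Char.isClassFunction_of_isIrr χ.2) (isClassFunction_blockCoeff _),
      omega_eq_sum_classes (Char.isClassFunction_of_isIrr ψ.2) (isClassFunction_blockCoeff _),
      ← Finset.sum_sub_distrib]
    refine memLocalIdeal_sum hM _ fun C _ => ?_
    rw [← mul_sub]
    by_cases hC : Cfsg.IsPRegular p C.out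
    · exact memLocalIdeal_mul_left hM (memLocalRing_blockCoeff hM hB _) (h _ hC)
    · rw [BlockChar.blockCoeff_eq_zero hM hB hC, zero_mul]
      exact memLocalIdeal_zero hM
  rw [omega_blockCoeff, omega_blockCoeff, if_pos (mem_blockOf_self hM χ),
    if_neg (mt mem_blockOf.1 hne), sub_zero] at h1
  exact not_memLocalIdeal_one hM h1

omit [Fintype G] in
theorem index_eq_relIndex [Finite G] (H K : Subgroup G)
    (h : ∀ g : G, ∃ k ∈ K, ∃ a ∈ H, g = k * a) : H.index = H.relIndex K := by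
  rw [Subgroup.relIndex, Subgroup.index_eq_card, Subgroup.index_eq_card]
  refine (Nat.card_eq_of_bijective
    (Quotient.lift (fun k : K => ((k : G) : G ⧸ H)) fun a b hab => ?_) ⟨?_, ?_⟩).symm
  · rw [QuotientGroup.eq]
    exact (QuotientGroup.leftRel_apply.1 hab : a⁻¹ * b ∈ H.subgroupOf K)
  · intro a b hab
    induction a using QuotientGroup.induction_on with
    | H a =>
      induction b using QuotientGroup.induction_on with
      | H b =>
        refine QuotientGroup.eq.2 ?_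
        exact (QuotientGroup.eq.1 hab : (a : G)⁻¹ * b ∈ H)
  · intro q
    obtain ⟨g, rfl⟩ := QuotientGroup.mk_surjective q
    obtain ⟨k, hk, a, ha, rfl⟩ := h g
    exact ⟨((⟨k, hk⟩ : K) : K ⧸ H.subgroupOf K), (QuotientGroup.mk_mul_of_mem k ha).symm⟩

/-- The hypothesis of a central product. -/
structure Hyp (U₁ U₂ : Subgroup G) : Prop where
  comm : ∀ u ∈ U₁, ∀ v ∈ U₂, u * v = v * u
  gen : U₁ ⊔ U₂ = ⊤

variable {U₁ U₂ : Subgroup G}

omit [Fintype G] in
theorem Hyp.symm (h : Hyp U₁ U₂) : Hyp U₂ U₁ :=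
  ⟨fun v hv u hu => (h.comm u hu v hv).symm, by rw [sup_comm, h.gen]⟩

omit [Fintype G] in
theorem Hyp.normal (h : Hyp U₁ U₂) : U₁.Normal := by
  rw [← Subgroup.normalizer_eq_top_iff, eq_top_iff, ← h.gen]
  refine sup_le Subgroup.le_normalizer fun v hv => Subgroup.mem_normalizer_iff.2 fun u => ?_
  constructor
  · intro hu
    rwa [← h.comm u hu v hv, mul_inv_cancel_right]
  · intro hu
    have := h.comm _ hu v hv
    rw [mul_assoc (v * u), inv_mul_cancel, mul_one] at this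
    have h2 : v * u * v⁻¹ = u := by
      have h3 : v * u * v⁻¹ * v = v * (v * u * v⁻¹) := this.trans rfl ▸ h.comm _ hu v hv
      rw [inv_mul_cancel_right] at h3
      exact (mul_left_cancel h3).symm
    rwa [h2] at hu

omit [Fintype G] in
theorem Hyp.exists_mul (h : Hyp U₁ U₂) (g : G) : ∃ b ∈ U₁, ∃ c ∈ U₂, g = b * c := by
  have := h.normal
  obtain ⟨b, hb, c, hc, e⟩ :=
    Subgroup.mem_sup_of_normal_left.1 (h.gen ▸ Subgroup.mem_top g : g ∈ U₁ ⊔ U₂)
  exact ⟨b, hb, c, hc, e.symm⟩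

omit [Fintype G] in
theorem Hyp.index_centralizer [Finite G] (h : Hyp U₁ U₂) (u : U₁) :
    (Subgroup.centralizer ({(u : G)} : Set G)).index =
      (Subgroup.centralizer ({u} : Set U₁)).index := by
  rw [index_eq_relIndex _ U₁ fun g => ?_]
  · rw [Subgroup.relIndex]
    congr 1
    ext b
    simp only [Subgroup.mem_subgroupOf, Subgroup.mem_centralizer_singleton_iff, Subtype.ext_iff,
      Subgroup.coe_mul]
  · obtain ⟨b, hb, c, hc, rfl⟩ := h.exists_mul g
    exact ⟨b, hb, c, Subgroup.mem_centralizer_singleton_iff.2 (h.comm u u.2 c hc).symm, rfl⟩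

/-- The central character of a constituent on a factor. -/
theorem Hyp.centralChar_eq [Fintype U₁] (h : Hyp U₁ U₂) (χ : Cfsg.IrrCharacter G)
    (ψ : Cfsg.IrrCharacter U₁)
    (hψ : Cfsg.classInner (fun u : U₁ => (χ : G → ℂ) u) (ψ : U₁ → ℂ) ≠ 0) (u : U₁) :
    Cfsg.centralChar (χ : G → ℂ) u = Cfsg.centralChar (ψ : U₁ → ℂ) u := by
  classical
  have := h.normal
  have horb : orbit (ψ : U₁ → ℂ) = {(ψ : U₁ → ℂ)} := by
    refine Finset.eq_singleton_iff_unique_mem.2 ⟨self_mem_orbit _, fun η hη => ?_⟩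
    obtain ⟨g, rfl⟩ := mem_orbit.1 hη
    obtain ⟨b, hb, c, hc, rfl⟩ := h.exists_mul g
    funext n
    rw [conjFun_apply]
    have h1 : b * c * (n : G) * (b * c)⁻¹ = b * n * b⁻¹ := by
      have := h.comm n n.2 c hc
      rw [mul_inv_rev, show b * c * (n : G) * (c⁻¹ * b⁻¹) = b * (c * n) * c⁻¹ * b⁻¹ by group, ← this]
      group
    rw [← isClassFunction_of_isIrr ψ.2 n ⟨b, hb⟩]
    exact congrArg _ (Subtype.ext h1)
  have hv := clifford χ.2 ψ.2 hψ
  rw [horb, Finset.sum_singleton] at hv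
  have hv' : ∀ a : U₁, (χ : G → ℂ) a =
      Cfsg.classInner (fun u : U₁ => (χ : G → ℂ) u) (ψ : U₁ → ℂ) * (ψ : U₁ → ℂ) a := fun a =>
    congrFun hv a
  have h1 := hv' 1
  rw [OneMemClass.coe_one] at h1
  simp only [Cfsg.centralChar, hv' u, h1, h.index_centralizer]
  rw [mul_left_comm, mul_div_mul_left _ _ hψ]

omit [Fintype G] in
theorem Hyp.commute_of_regular (h : Hyp U₁ U₂) (hp : p.Prime) (hZ : IsPGroup p ↥(U₁ ⊓ U₂))
    {u v b c : G} (hu : u ∈ U₁) (hv : v ∈ U₂) (hb : b ∈ U₁) (hc : c ∈ U₂)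
    (hur : Cfsg.IsPRegular p u) (he : Commute (b * c) (u * v)) : Commute b u := by
  have hz : u⁻¹ * (b * u * b⁻¹) = v * (c * v * c⁻¹)⁻¹ := by
    have h1 : b * c * (u * v) * (b * c)⁻¹ = u * v := by rw [he.eq, mul_inv_cancel_right]
    have h2 : b * c * (u * v) * (b * c)⁻¹ = (b * u * b⁻¹) * (c * v * c⁻¹) := by
      have e1 := h.comm u hu c hc
      have e2 := (h.comm b⁻¹ (inv_mem hb) (c * v * c⁻¹) (mul_mem (mul_mem hc hv) (inv_mem hc)))
      rw [show b * c * (u * v) * (b * c)⁻¹ = b * (c * u) * (v * c⁻¹ * b⁻¹) by group, ← e1,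
        show b * (u * c) * (v * c⁻¹ * b⁻¹) = b * u * ((c * v * c⁻¹) * b⁻¹) by group, ← e2]
      group
    rw [h2] at h1
    rw [inv_mul_eq_iff_eq_mul, ← mul_assoc, eq_mul_inv_iff_mul_eq]
    exact h1
  have hzZ : u⁻¹ * (b * u * b⁻¹) ∈ U₁ ⊓ U₂ :=
    ⟨U₁.mul_mem (U₁.inv_mem hu) (U₁.mul_mem (U₁.mul_mem hb hu) (U₁.inv_mem hb)),
      hz ▸ mul_mem hv (U₂.inv_mem (mul_mem (mul_mem hc hv) (U₂.inv_mem hc)))⟩
  set z := u⁻¹ * (b * u * b⁻¹) with hzdef
  obtain ⟨k, hk⟩ := hZ ⟨z, hzZ⟩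
  have hk' : z ^ p ^ k = 1 := congrArg Subtype.val hk
  have hcomm : Commute u z := h.comm u hu z hzZ.2
  have hpow : z ^ orderOf u = 1 := by
    have h1 : (u * z) ^ orderOf u = 1 := by
      rw [hzdef, mul_inv_cancel_left, conj_pow, pow_orderOf_eq_one, mul_one, mul_inv_cancel]
    rwa [hcomm.mul_pow, pow_orderOf_eq_one, one_mul] at h1
  have hz1 : z = 1 := by
    rw [← pow_one z, ← ((hp.coprime_iff_not_dvd.2 hur).pow_left k).gcd_eq_one]
    exact pow_gcd_eq_one.2 ⟨hk', hpow⟩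
  have h3 : b * u * b⁻¹ = u := by
    have := hzdef.symm.trans hz1
    rwa [inv_mul_eq_one, eq_comm] at this
  exact mul_inv_eq_iff_eq_mul.1 h3

/-- The central character of a product of regular elements of the factors. -/
theorem Hyp.centralChar_mul (h : Hyp U₁ U₂) (hp : p.Prime) (hZ : IsPGroup p ↥(U₁ ⊓ U₂))
    (χ : Cfsg.IrrCharacter G) {u v : G} (hu : u ∈ U₁) (hv : v ∈ U₂) (hur : Cfsg.IsPRegular p u)
    (hvr : Cfsg.IsPRegular p v) :
    Cfsg.centralChar (χ : G → ℂ) (u * v) =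
      Cfsg.centralChar (χ : G → ℂ) u * Cfsg.centralChar (χ : G → ℂ) v := by
  have hval : (χ : G → ℂ) 1 * (χ : G → ℂ) (u * v) = (χ : G → ℂ) u * (χ : G → ℂ) v := by
    have h1 := sum_conj_mul χ.2 u v
    have h2 : ∀ a : G, (χ : G → ℂ) (a * u * a⁻¹ * v) = (χ : G → ℂ) (u * v) := by
      intro a
      obtain ⟨b, hb, c, hc, rfl⟩ := h.exists_mul a
      have e1 := h.comm u hu c hc
      have e2 := h.comm b⁻¹ (inv_mem hb) v hv
      rw [mul_inv_rev, show b * c * u * (c⁻¹ * b⁻¹) * v = b * (c * u) * c⁻¹ * (b⁻¹ * v) by group, ← e1,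
        e2, ← isClassFunction_of_isIrr χ.2 (u * v) b]
      congr 1
      group
    rw [Finset.sum_congr rfl fun a _ => h2 a, Finset.sum_const, Finset.card_univ, nsmul_eq_mul,
      ← Nat.card_eq_fintype_card] at h1
    apply mul_left_cancel₀ (card_ne_zero (G := G))
    linear_combination h1
  have hidx : (Subgroup.centralizer ({u * v} : Set G)).index =
      (Subgroup.centralizer ({u} : Set G)).index * (Subgroup.centralizer ({v} : Set G)).index := by
    have hinf : Subgroup.centralizer ({u * v} : Set G) =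
        Subgroup.centralizer ({u} : Set G) ⊓ Subgroup.centralizer ({v} : Set G) := by
      ext a
      simp only [Subgroup.mem_inf, Subgroup.mem_centralizer_singleton_iff]
      refine ⟨fun e => ?_, fun e => (Commute.mul_right e.1 e.2).eq⟩
      obtain ⟨b, hb, c, hc, rfl⟩ := h.exists_mul a
      have h1 := h.commute_of_regular hp hZ hu hv hb hc hur e
      have h2 : Commute c v := by
        refine h.symm.commute_of_regular hp (inf_comm U₁ U₂ ▸ hZ) hv hu hc hb hvr ?_
        have e' : Commute (b * c) (u * v) := e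
        rwa [h.comm b hb c hc, h.comm u hu v hv] at e'
      exact ⟨(h1.mul_left (h.comm u hu c hc).symm).eq,
        (Commute.mul_left (h.comm b hb v hv) h2).eq⟩
    rw [hinf, ← Subgroup.relIndex_mul_index (inf_le_right : Subgroup.centralizer ({u} : Set G) ⊓
      Subgroup.centralizer ({v} : Set G) ≤ _), Subgroup.inf_relIndex_right,
      ← index_eq_relIndex _ _ fun g => ?_]
    obtain ⟨b, hb, c, hc, rfl⟩ := h.exists_mul g
    exact ⟨b, Subgroup.mem_centralizer_singleton_iff.2 (h.comm b hb v hv), c,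
      Subgroup.mem_centralizer_singleton_iff.2 (h.comm u hu c hc).symm, rfl⟩
  have hne := IsIrr.one_ne_zero χ.2
  simp only [Cfsg.centralChar, hidx, Nat.cast_mul]
  field_simp
  linear_combination ((Subgroup.centralizer ({u} : Set G)).index : ℂ) *
    ((Subgroup.centralizer ({v} : Set G)).index : ℂ) * hval

omit [Fintype G] in
theorem Hyp.exists_mul_regular [Finite G] (h : Hyp U₁ U₂) (hp : p.Prime) {g : G}
    (hg : Cfsg.IsPRegular p g) :
    ∃ u ∈ U₁, ∃ v ∈ U₂, g = u * v ∧ Cfsg.IsPRegular p u ∧ Cfsg.IsPRegular p v := by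
  obtain ⟨b, hb, c, hc, rfl⟩ := h.exists_mul g
  set n := Nat.card G
  have hn : n ≠ 0 := Nat.card_pos.ne'
  have hcop : Nat.Coprime (p ^ n.factorization p) (orderOf (b * c)) :=
    (hp.coprime_iff_not_dvd.2 hg).pow_left _
  obtain ⟨k, hk0, hk1⟩ := Nat.chineseRemainder hcop 0 1
  have hreg : ∀ a : G, Cfsg.IsPRegular p (a ^ k) := by
    intro a hd
    have h1 : (a ^ k) ^ (n / p ^ n.factorization p) = 1 := by
      obtain ⟨m, hm⟩ := Nat.modEq_zero_iff_dvd.1 hk0
      rw [← pow_mul, hm, mul_right_comm, Nat.mul_div_cancel' (Nat.ordProj_dvd n p), pow_mul,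
        pow_card_eq_one', one_pow]
    exact Nat.not_dvd_ordCompl hp hn (hd.trans (orderOf_dvd_of_pow_eq_one h1))
  refine ⟨b ^ k, pow_mem hb k, c ^ k, pow_mem hc k, ?_, hreg b, hreg c⟩
  rw [← (show Commute b c from h.comm b hb c hc).mul_pow]
  conv_lhs => rw [← pow_one (b * c)]
  exact pow_eq_pow_iff_modEq.2 hk1.symm

theorem isPRegular_coe {H : Subgroup G} (a : H) :
    Cfsg.IsPRegular p (a : G) ↔ Cfsg.IsPRegular p a := by
  rw [Cfsg.IsPRegular, Cfsg.IsPRegular, Subgroup.orderOf_coe]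

theorem Hyp.mem_principalBlock_iff [Fintype U₁] [Fintype U₂] (h : Hyp U₁ U₂)
    (hM : Cfsg.IsPModular p M) (hZ : IsPGroup p ↥(U₁ ⊓ U₂)) (χ : Cfsg.IrrCharacter G)
    (ψ₁ : Cfsg.IrrCharacter U₁) (ψ₂ : Cfsg.IrrCharacter U₂)
    (h₁ : Cfsg.classInner (fun u : U₁ => (χ : G → ℂ) u) (ψ₁ : U₁ → ℂ) ≠ 0)
    (h₂ : Cfsg.classInner (fun u : U₂ => (χ : G → ℂ) u) (ψ₂ : U₂ → ℂ) ≠ 0) :
    χ ∈ Cfsg.principalBlock M G ↔
      (ψ₁ ∈ Cfsg.principalBlock M U₁ ∧ ψ₂ ∈ Cfsg.principalBlock M U₂) := by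
  have hp := hM.1
  let one : Cfsg.IrrCharacter G := ⟨_, isIrrCharacter_one⟩
  constructor
  · intro hχ
    refine ⟨sameBlock_of_regular hM ⟨_, isIrrCharacter_one⟩ ψ₁ fun u _ => ?_,
      sameBlock_of_regular hM ⟨_, isIrrCharacter_one⟩ ψ₂ fun v _ => ?_⟩
    · have := hχ (u : G)
      rwa [h.centralChar_eq χ ψ₁ h₁, Blocks.centralChar_one, h.index_centralizer,
        ← Blocks.centralChar_one] at this
    · have := hχ (v : G)
      rwa [h.symm.centralChar_eq χ ψ₂ h₂, Blocks.centralChar_one, h.symm.index_centralizer,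
        ← Blocks.centralChar_one] at this
  · rintro ⟨hψ₁, hψ₂⟩
    refine sameBlock_of_regular hM one χ fun g hg => ?_
    obtain ⟨u, hu, v, hv, rfl, hur, hvr⟩ := h.exists_mul_regular hp hg
    rw [h.centralChar_mul hp hZ χ hu hv hur hvr, h.centralChar_mul hp hZ one hu hv hur hvr]
    have d1 : Cfsg.MemLocalIdeal M (Cfsg.centralChar (one : G → ℂ) u - Cfsg.centralChar (χ : G → ℂ) u) := by
      have := hψ₁ ⟨u, hu⟩
      rwa [← h.centralChar_eq χ ψ₁ h₁, Blocks.centralChar_one, ← h.index_centralizer,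
        ← Blocks.centralChar_one] at this
    have d2 : Cfsg.MemLocalIdeal M (Cfsg.centralChar (one : G → ℂ) v - Cfsg.centralChar (χ : G → ℂ) v) := by
      have := hψ₂ ⟨v, hv⟩
      rwa [← h.symm.centralChar_eq χ ψ₂ h₂, Blocks.centralChar_one, ← h.symm.index_centralizer,
        ← Blocks.centralChar_one] at this
    rw [show Cfsg.centralChar (one : G → ℂ) u * Cfsg.centralChar (one : G → ℂ) v -
        Cfsg.centralChar (χ : G → ℂ) u * Cfsg.centralChar (χ : G → ℂ) v =
        (Cfsg.centralChar (one : G → ℂ) u - Cfsg.centralChar (χ : G → ℂ) u) *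
          Cfsg.centralChar (one : G → ℂ) v +
        Cfsg.centralChar (χ : G → ℂ) u *
          (Cfsg.centralChar (one : G → ℂ) v - Cfsg.centralChar (χ : G → ℂ) v) by ring]
    exact memLocalIdeal_add hM
      (memLocalIdeal_mul_right hM d1 (memLocalRing_centralChar hM one.2 _))
      (memLocalIdeal_mul_left hM (memLocalRing_centralChar hM χ.2 _) d2)

end Cfsg.Agent.Char.CentralProd
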