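import Mathlib
import Cfsg.Agent.Char.ClassBound
import Cfsg.Agent.Char.Glauberman.Count

/-!
# Conjugacy classes of a split extension of an abelian group
-/

namespace Cfsg.Agent.Char

universe u

variable {X : Type u} [Group X] [Finite X] {V G : Subgroup X} [V.Normal]

theorem eq_of_mul_eq (hGV : Subgroup.IsComplement' V G) {a b : X} (ha : a ∈ V) (hb : b ∈ V)
    {g h : X} (hg : g ∈ G) (hh : h ∈ G) (e : a * g = b * h) : a = b ∧ g = h := by
  have := hGV.1 (a₁ := (⟨a, ha⟩, ⟨g, hg⟩)) (a₂ := (⟨b, hb⟩, ⟨h, hh⟩)) e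
  simp only [Prod.mk.injEq, Subtype.mk.injEq] at this
  exact this

theorem exists_mul_eq (hGV : Subgroup.IsComplement' V G) (x : X) :
    ∃ a ∈ V, ∃ g ∈ G, a * g = x := by
  obtain ⟨⟨a, g⟩, h⟩ := hGV.2 x
  exact ⟨a, a.2, g, g.2, h⟩

theorem exists_mul_eq' (hGV : Subgroup.IsComplement' V G) (x : X) :
    ∃ g ∈ G, ∃ a ∈ V, g * a = x := by
  obtain ⟨a, ha, g, hg, rfl⟩ := exists_mul_eq hGV x
  exact ⟨g, hg, g⁻¹ * a * g, by simpa using ‹V.Normal›.conj_mem a ha g⁻¹, by group⟩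

/-- The centraliser of an element of `V`. -/
theorem card_centralizer (hab : ∀ a ∈ V, ∀ b ∈ V, a * b = b * a)
    (hGV : Subgroup.IsComplement' V G) {v : X} (hv : v ∈ V) :
    Nat.card (Subgroup.centralizer ({v} : Set X)) =
      Nat.card ↥(G ⊓ Subgroup.centralizer ({v} : Set X)) * Nat.card V := by
  let C := Subgroup.centralizer ({v} : Set X)
  have hVC : V ≤ C := fun a ha => Subgroup.mem_centralizer_singleton_iff.2 (hab a ha v hv)
  rw [mul_comm, ← Nat.card_prod]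
  refine (Nat.card_eq_of_bijective (fun q : V × ↥(G ⊓ C) => (⟨(q.1 : X) * q.2,
    C.mul_mem (hVC q.1.2) q.2.2.2⟩ : C)) ⟨fun q r e => ?_, fun c => ?_⟩).symm
  · obtain ⟨h1, h2⟩ := eq_of_mul_eq hGV q.1.2 r.1.2 q.2.2.1 r.2.2.1 (congrArg Subtype.val e)
    exact Prod.ext (Subtype.ext h1) (Subtype.ext h2)
  · obtain ⟨a, ha, g, hg, e⟩ := exists_mul_eq hGV (c : X)
    refine ⟨(⟨a, ha⟩, ⟨g, hg, ?_⟩), Subtype.ext e⟩
    have hac : a⁻¹ * (a * g) ∈ C := C.mul_mem (C.inv_mem (hVC ha)) (e ▸ c.2)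
    rwa [inv_mul_cancel_left] at hac

theorem card_conjClasses_quotient (hGV : Subgroup.IsComplement' V G) :
    Nat.card (ConjClasses (X ⧸ V)) = Nat.card (ConjClasses G) ∧
      Nat.card (X ⧸ V) = Nat.card G := by
  let φ : G →* X ⧸ V := (QuotientGroup.mk' V).comp G.subtype
  have hφ : Function.Bijective φ := by
    refine ⟨(injective_iff_map_eq_one _).2 fun g hg => ?_, fun q => ?_⟩
    · have hgV : (g : X) ∈ V := (QuotientGroup.eq_one_iff _).1 hg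
      exact Subtype.ext (eq_of_mul_eq hGV hgV V.one_mem G.one_mem g.2 (by simp)).1
    · obtain ⟨x, rfl⟩ := QuotientGroup.mk_surjective q
      obtain ⟨g, hg, a, ha, rfl⟩ := exists_mul_eq' hGV x
      exact ⟨⟨g, hg⟩, QuotientGroup.eq.2 (by simpa using ha)⟩
  exact ⟨(Glauberman.card_conjClasses_congr (MulEquiv.ofBijective φ hφ)).symm,
    (Nat.card_eq_of_bijective φ hφ).symm⟩

/-- Raising to a suitable power separates commuting coprime parts. -/
theorem exists_exponent_split (hcop : (Nat.card V).Coprime (Nat.card G)) :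
    ∃ k : ℕ, ∀ a ∈ V, ∀ g ∈ G, Commute a g → (a * g) ^ k = a := by
  obtain ⟨k, hk0, hk1⟩ := Nat.chineseRemainder hcop 1 0
  refine ⟨k, fun a ha g hg hc => ?_⟩
  have h1 : a ^ k = a := by
    have h2 : (⟨a, ha⟩ : V) ^ k = (⟨a, ha⟩ : V) ^ 1 :=
      pow_eq_pow_iff_modEq.2 (hk0.of_dvd (orderOf_dvd_natCard _))
    rw [pow_one] at h2
    exact congrArg Subtype.val h2
  have h3 : g ^ k = 1 := by
    have h2 : (⟨g, hg⟩ : G) ^ k = (⟨g, hg⟩ : G) ^ 0 :=
      pow_eq_pow_iff_modEq.2 (hk1.of_dvd (orderOf_dvd_natCard _))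
    rw [pow_zero] at h2
    exact congrArg Subtype.val h2
  rw [hc.mul_pow, h1, h3, mul_one]

/-- Every element is conjugate to a commuting product. -/
theorem exists_conj_commuting (hab : ∀ a ∈ V, ∀ b ∈ V, a * b = b * a)
    (hcop : (Nat.card V).Coprime (Nat.card G)) {g : X} (hg : g ∈ G) {w : X} (hw : w ∈ V) :
    ∃ a ∈ V, ∃ u ∈ V, Commute u g ∧ a * (u * g) * a⁻¹ = w * g := by
  have hn : ∀ x : V, (x : X) * g * (x : X)⁻¹ * g⁻¹ ∈ V := fun x => by
    rw [mul_assoc, mul_assoc, ← mul_assoc g]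
    exact V.mul_mem x.2 (‹V.Normal›.conj_mem _ (V.inv_mem x.2) g)
  let ψ : V →* V := MonoidHom.mk' (fun x => ⟨_, hn x⟩) fun x y => by
    apply Subtype.ext
    show (x : X) * y * g * ((x : X) * y)⁻¹ * g⁻¹ =
      (x : X) * g * (x : X)⁻¹ * g⁻¹ * ((y : X) * g * (y : X)⁻¹ * g⁻¹)
    rw [hab _ (hn x) _ (hn y)]
    have hcx : Commute ((x : X) * g * (x : X)⁻¹ * g⁻¹) (y : X) := hab _ (hn x) _ y.2
    calc (x : X) * y * g * ((x : X) * y)⁻¹ * g⁻¹
        = (x : X) * ((y : X) * g * (y : X)⁻¹ * g⁻¹) * (g * (x : X)⁻¹ * g⁻¹) := by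
          rw [hab _ x.2 _ y.2, mul_inv_rev, hab _ (V.inv_mem x.2) _ (V.inv_mem y.2)]
          rw [hab _ y.2 _ x.2]
          group
      _ = ((y : X) * g * (y : X)⁻¹ * g⁻¹) * ((x : X) * g * (x : X)⁻¹ * g⁻¹) := by
          rw [hab _ x.2 _ (hn y)]; group
  have hker : ∀ {y : V}, y ∈ ψ.ker ↔ Commute (y : X) g := fun {y} => by
    rw [MonoidHom.mem_ker, Subtype.ext_iff]
    show (y : X) * g * (y : X)⁻¹ * g⁻¹ = 1 ↔ _
    rw [mul_inv_eq_one, mul_inv_eq_iff_eq_mul]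
    rfl
  have hinf : ψ.range ⊓ ψ.ker = ⊥ := by
    rw [eq_bot_iff]
    rintro z ⟨⟨x, rfl⟩, hz⟩
    have hc : Commute ((ψ x : V) : X) g := hker.1 hz
    have h1 : ((ψ x : V) : X) * g = (x : X) * g * (x : X)⁻¹ := by
      show (x : X) * g * (x : X)⁻¹ * g⁻¹ * g = _
      group
    have h2 : ((ψ x : V) : X) ^ orderOf g = 1 := by
      have h3 := congrArg (· ^ orderOf g) h1
      simpa [hc.mul_pow, conj_pow, pow_orderOf_eq_one] using h3
    have hco : (Nat.card V).Coprime (orderOf g) := hcop.coprime_dvd_right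
      ((Subgroup.orderOf_mk g hg ▸ orderOf_dvd_natCard (⟨g, hg⟩ : G)))
    refine Subgroup.mem_bot.2 (Subtype.ext ?_)
    have h4 : orderOf ((ψ x : V) : X) = 1 := Nat.eq_one_of_dvd_coprimes hco
      ((Subgroup.orderOf_coe (ψ x)) ▸ orderOf_dvd_natCard (ψ x)) (orderOf_dvd_of_pow_eq_one h2)
    exact orderOf_eq_one_iff.1 h4
  have hcomm : ∀ x y : V, x * y = y * x := fun x y => Subtype.ext (hab x x.2 y y.2)
  have hsurj : ∀ z : V, ∃ a : V, ∃ u ∈ ψ.ker, ψ a * u = z := by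
    have hbij : Function.Bijective fun q : ψ.range × ψ.ker => (q.1 : V) * q.2 := by
      refine (Nat.bijective_iff_injective_and_card _).2 ⟨?_, ?_⟩
      · exact Subgroup.mul_injective_of_disjoint (disjoint_iff.2 hinf)
      · rw [Nat.card_prod, ← Subgroup.index_ker, mul_comm, Subgroup.card_mul_index]
    intro z
    obtain ⟨⟨⟨_, a, rfl⟩, u⟩, h⟩ := hbij.2 z
    exact ⟨a, u, u.2, h⟩
  obtain ⟨a, u, hu, e⟩ := hsurj ⟨w, hw⟩
  refine ⟨a, a.2, u, u.2, hker.1 hu, ?_⟩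
  have e' : (a : X) * g * (a : X)⁻¹ * g⁻¹ * (u : X) = w := congrArg Subtype.val e
  rw [hab _ (hn a) _ u.2] at e'
  rw [← e', ← mul_assoc, hab _ a.2 _ u.2]
  group

/-- Classes of a split extension of an abelian group by a coprime group. -/
theorem card_conjClasses_eq_sum (hab : ∀ a ∈ V, ∀ b ∈ V, a * b = b * a)
    (hGV : Subgroup.IsComplement' V G) (hcop : (Nat.card V).Coprime (Nat.card G)) (S : Finset X)
    (hSV : ∀ s ∈ S, s ∈ V) (hrep : ∀ v ∈ V, ∃! s, s ∈ S ∧ ∃ g ∈ G, g * v * g⁻¹ = s) :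
    Nat.card (ConjClasses X) =
      ∑ s ∈ S, Nat.card (ConjClasses ↥(G ⊓ Subgroup.centralizer ({s} : Set X))) := by
  classical
  rw [← Finset.sum_coe_sort, ← Nat.card_sigma]
  have hcS : ∀ (s : X) (c : ↥(G ⊓ Subgroup.centralizer ({s} : Set X))), Commute s (c : X) :=
    fun s c => ((Subgroup.mem_centralizer_singleton_iff.1 c.2.2)).symm
  let F : (Σ s : S, ConjClasses ↥(G ⊓ Subgroup.centralizer ({(s : X)} : Set X))) → ConjClasses X :=
    fun q => Quotient.lift (s := IsConj.setoid ↥(G ⊓ Subgroup.centralizer ({(q.1 : X)} : Set X)))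
      (fun c => ConjClasses.mk ((q.1 : X) * (c : X))) (fun c d hcd => by
      obtain ⟨k, rfl⟩ := isConj_iff.1 (show IsConj c d from hcd)
      refine ConjClasses.mk_eq_mk_iff_isConj.2 (isConj_iff.2 ⟨(k : X), ?_⟩)
      show (k : X) * ((q.1 : X) * c) * (k : X)⁻¹ = (q.1 : X) * ((k : X) * c * (k : X)⁻¹)
      rw [← mul_assoc, ← (hcS _ k).eq]
      group) q.2
  refine (Nat.card_eq_of_bijective F ⟨?_, ?_⟩).symm
  · rintro ⟨⟨s, hs⟩, q⟩ ⟨⟨t, ht⟩, r⟩ e
    obtain ⟨c, rfl⟩ := ConjClasses.mk_surjective q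
    obtain ⟨d, rfl⟩ := ConjClasses.mk_surjective r
    obtain ⟨x, hx⟩ := isConj_iff.1 (ConjClasses.mk_eq_mk_iff_isConj.1 e)
    change x * (s * (c : X)) * x⁻¹ = t * (d : X) at hx
    obtain ⟨k, hk⟩ := exists_exponent_split hcop
    have h1 : x * s * x⁻¹ = t := by
      have h2 := congrArg (· ^ k) hx
      simpa [conj_pow, hk s (hSV s hs) c c.2.1 (hcS s c), hk t (hSV t ht) d d.2.1 (hcS t d)] using h2
    have h3 : x * (c : X) * x⁻¹ = d := by
      have h2 : x * (s * (c : X)) * x⁻¹ = (x * s * x⁻¹) * (x * (c : X) * x⁻¹) := by group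
      rw [h2, h1] at hx
      exact mul_left_cancel hx
    obtain ⟨g, hg, a, ha, rfl⟩ := exists_mul_eq' hGV x
    have h4 : g * s * g⁻¹ = t := by
      rw [← h1, show g * a * s * (g * a)⁻¹ = g * (a * s * a⁻¹) * g⁻¹ by group,
        hab a ha s (hSV s hs), mul_inv_cancel_right]
    have hst : s = t := (hrep s (hSV s hs)).unique ⟨hs, 1, G.one_mem, by group⟩ ⟨ht, g, hg, h4⟩
    subst hst
    have hgC : g ∈ G ⊓ Subgroup.centralizer ({s} : Set X) :=
      ⟨hg, Subgroup.mem_centralizer_singleton_iff.2 (mul_inv_eq_iff_eq_mul.1 h4)⟩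
    have h5 : a * (c : X) * a⁻¹ = c := by
      have h6 : a * (c : X) * a⁻¹ ∈ G := by
        rw [show a * (c : X) * a⁻¹ = g⁻¹ * (g * a * (c : X) * (g * a)⁻¹) * g by group, h3]
        exact G.mul_mem (G.mul_mem (G.inv_mem hg) d.2.1) hg
      have h7 : a * (c : X) * a⁻¹ * (c : X)⁻¹ ∈ V := by
        rw [mul_assoc, mul_assoc, ← mul_assoc (c : X)]
        exact V.mul_mem ha (‹V.Normal›.conj_mem _ (V.inv_mem ha) _)
      exact mul_inv_eq_one.1 (eq_of_mul_eq hGV h7 V.one_mem G.one_mem (G.mul_mem h6 (G.inv_mem c.2.1))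
        (by group)).1
    refine Sigma.ext rfl (heq_of_eq (ConjClasses.mk_eq_mk_iff_isConj.2 (isConj_iff.2 ⟨⟨g, hgC⟩, Subtype.ext ?_⟩)))
    show g * (c : X) * g⁻¹ = d
    rw [← h3, show g * a * (c : X) * (g * a)⁻¹ = g * (a * (c : X) * a⁻¹) * g⁻¹ by group, h5]
  · intro q
    obtain ⟨x, rfl⟩ := ConjClasses.mk_surjective q
    obtain ⟨w, hw, g, hg, rfl⟩ := exists_mul_eq hGV x
    obtain ⟨a, -, u, hu, hug, e⟩ := exists_conj_commuting hab hcop hg hw
    obtain ⟨s, ⟨hs, k, hk, hks⟩, -⟩ := hrep u hu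
    have hmem : k * g * k⁻¹ ∈ G ⊓ Subgroup.centralizer ({s} : Set X) := by
      refine ⟨G.mul_mem (G.mul_mem hk hg) (G.inv_mem hk), Subgroup.mem_centralizer_singleton_iff.2 ?_⟩
      rw [← hks, show k * g * k⁻¹ * (k * u * k⁻¹) = k * (g * u) * k⁻¹ by group, ← hug.eq]
      group
    refine ⟨⟨⟨s, hs⟩, ConjClasses.mk ⟨_, hmem⟩⟩, ConjClasses.mk_eq_mk_iff_isConj.2 ?_⟩
    refine isConj_iff.2 ⟨a * k⁻¹, ?_⟩
    show a * k⁻¹ * (s * (k * g * k⁻¹)) * (a * k⁻¹)⁻¹ = w * g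
    rw [← e, ← hks]
    group

end Cfsg.Agent.Char
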