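import Mathlib
import Cfsg.Agent.Char.FS
import Cfsg.Agent.Char.Zero
import Cfsg.Agent.Char.Integral

/-!
# Congruences for integer valued characters
-/

namespace Cfsg.Agent.Char

open scoped ComplexConjugate

universe u

theorem dvd_int_of_isIntegral {p a : ℤ} (hp : p ≠ 0) {z : ℂ} (hz : IsIntegral ℤ z)
    (h : (a : ℂ) = p * z) : p ∣ a := by
  obtain ⟨m, hm⟩ := exists_int_of_isIntegral_rat (q := (a : ℚ) / p)
    (by
      have : (((a : ℚ) / p : ℚ) : ℂ) = z := by
        push_cast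
        rw [h, mul_div_cancel_left₀ z (Int.cast_ne_zero.2 hp)]
      rw [this]; exact hz)
  refine ⟨m, ?_⟩
  have h1 : (a : ℚ) = p * m := by
    rw [hm]; field_simp
  exact_mod_cast h1

theorem exists_sum_pow_prime {p : ℕ} (hp : p.Prime) {ι : Type*} (s : Finset ι) (μ : ι → ℂ)
    (h : ∀ i ∈ s, IsIntegral ℤ (μ i)) :
    ∃ z : ℂ, IsIntegral ℤ z ∧ (∑ i ∈ s, μ i) ^ p = (∑ i ∈ s, μ i ^ p) + p * z := by
  classical
  induction s using Finset.induction with
  | empty => exact ⟨0, isIntegral_zero, by simp [hp.ne_zero]⟩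
  | @insert i t hi ih =>
    obtain ⟨z, hz, e⟩ := ih fun j hj => h j (Finset.mem_insert_of_mem hj)
    let x : integralClosure ℤ ℂ := ⟨μ i, h i (Finset.mem_insert_self i t)⟩
    let y : integralClosure ℤ ℂ :=
      ⟨∑ j ∈ t, μ j, IsIntegral.sum _ fun j hj => h j (Finset.mem_insert_of_mem hj)⟩
    obtain ⟨r, hr⟩ := exists_add_pow_prime_eq hp x y
    have hr' := congrArg (fun w : integralClosure ℤ ℂ => (w : ℂ)) hr
    push_cast at hr'
    refine ⟨z + μ i * (∑ j ∈ t, μ j) * r, hz.add (((h i (Finset.mem_insert_self i t)).mul y.2).mul r.2), ?_⟩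
    rw [Finset.sum_insert hi, Finset.sum_insert hi]
    refine hr'.trans ?_
    show μ i ^ p + (∑ j ∈ t, μ j) ^ p + (p : ℂ) * μ i * (∑ j ∈ t, μ j) * r = _
    rw [e]
    ring

variable {S : Type u} [Group S] [Finite S] {χ : S → ℂ}

/-- An integer valued character at `x` and at `x ^ p`. -/
theorem int_char_pow_prime (h : IsCharacter S χ) {p : ℕ} (hp : p.Prime) {f : S → ℤ}
    (hf : ∀ x, χ x = f x) (x : S) : (p : ℤ) ∣ f (x ^ p) - f x := by
  obtain ⟨n, ρ, rfl⟩ := h
  obtain ⟨μ, b, hb, hμ, hχ⟩ := exists_eigenbasis ρ x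
  have hi : ∀ i, IsIntegral ℤ (μ i) := fun i => by
    exact IsIntegral.of_pow (orderOf_pos x) (by rw [hμ i]; exact isIntegral_one)
  obtain ⟨z, hz, e⟩ := exists_sum_pow_prime hp Finset.univ μ fun i _ => hi i
  have hpow : ∀ i, ρ (x ^ p) (b i) = μ i ^ p • b i := by
    intro i
    rw [map_pow]
    suffices hall : ∀ j : ℕ, ((ρ x) ^ j) (b i) = μ i ^ j • b i from hall p
    intro j
    induction j with
    | zero => simp
    | succ j ih => rw [pow_succ', Module.End.mul_apply, ih, map_smul, hb, smul_smul, pow_succ]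
  have h1 : ∑ i, μ i = (f x : ℂ) := hχ.symm.trans (hf x)
  have h2 : ∑ i, μ i ^ p = (f (x ^ p) : ℂ) :=
    (trace_eq_sum_of_eigenbasis _ b _ hpow).symm.trans (hf _)
  have h3 : ((f x ^ p - f (x ^ p) : ℤ) : ℂ) = ((p : ℤ) : ℂ) * z := by
    push_cast
    rw [← h1, ← h2, e]; ring
  have h4 := dvd_int_of_isIntegral (Int.natCast_ne_zero.2 hp.ne_zero) hz h3
  haveI := Fact.mk hp
  have h5 : ((f x ^ p - f (x ^ p) : ℤ) : ZMod p) = 0 := (ZMod.intCast_zmod_eq_zero_iff_dvd _ _).2 h4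
  rw [← ZMod.intCast_zmod_eq_zero_iff_dvd]
  push_cast at h5 ⊢
  rw [ZMod.pow_card] at h5
  linear_combination -h5

/-- A rational valued character takes congruent values modulo `4` at `x ^ 2` and `x ^ 4`. -/
theorem int_char_pow_four (h : IsCharacter S χ) {f : S → ℤ} (hf : ∀ x, χ x = f x) (x : S) :
    (4 : ℤ) ∣ f (x ^ 4) - f (x ^ 2) := by
  obtain ⟨s, a, hs, ha, hsum, hsq⟩ := exists_sym_alt h
  have hsq' : ∀ g : S, (f g : ℂ) * f g - f (g * g) = 2 * a g := fun g => by
    have h1 := congrFun hsum g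
    simp only [Pi.mul_apply, Pi.add_apply] at h1
    rw [← hf, ← hf, hsq, h1]; ring
  have hint : ∀ g : S, ∃ k : ℤ, a g = k := fun g => by
    obtain ⟨k, hk⟩ := dvd_int_of_isIntegral (p := 2) (a := f g * f g - f (g * g)) two_ne_zero
      (IsChar.isIntegral ha g) (by push_cast; exact hsq' g)
    refine ⟨k, mul_left_cancel₀ (two_ne_zero (α := ℂ)) ?_⟩
    rw [← hsq' g]
    exact_mod_cast hk
  choose k hk using hint
  have h2 := int_char_pow_prime ha Nat.prime_two hk x
  have h3 := int_char_pow_prime h Nat.prime_two hf x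
  have he : ∀ g : S, f g * f g - f (g * g) = 2 * k g := fun g => by
    have := hsq' g; rw [hk] at this; exact_mod_cast this
  have e1 := he x
  have e2 := he (x ^ 2)
  rw [← pow_two x] at e1
  rw [← pow_add] at e2
  obtain ⟨u, hu⟩ := h2
  obtain ⟨v, hv⟩ := h3
  refine ⟨v * f x + v * v - u, ?_⟩
  have hfx : f (x ^ 2) = f x + 2 * v := by push_cast at hv; linarith
  have hkx : k (x ^ 2) = k x + 2 * u := by push_cast at hu; linarith
  rw [hfx, hkx] at e2
  linear_combination e1 - e2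

end Cfsg.Agent.Char
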