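import Cfsg.Agent.Char.Clifford
import Cfsg.Agent.Char.ClassAlg
import Cfsg.Agent.Char.NormalAbelianSylow
import Cfsg.Agent.Blocks.Congr
import Mathlib

/-!
# A class of defect zero in a normal `p'`-subgroup gives a character of defect zero
-/

set_option autoImplicit false

namespace Cfsg.Agent.Char

open scoped ComplexConjugate

universe u

variable {G : Type u} [Group G] [Finite G]

/-- A sum of algebraic integers invariant under right translation by an element of order `p` is
`p` times an algebraic integer. -/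
theorem exists_eq_mul_of_translation {Q : Type u} [Group Q] [Fintype Q] {p : ℕ} {y : Q}
    (hy : orderOf y = p) (f : Q → ℂ) (hf : ∀ q, f (q * y) = f q)
    (hint : ∀ q, IsIntegral ℤ (f q)) : ∃ c : ℂ, IsIntegral ℤ c ∧ ∑ q, f q = (p : ℂ) * c := by
  classical
  set H := Subgroup.zpowers y with hH
  have hpow : ∀ (h : H) (q : Q), f (q * h) = f q := by
    rintro ⟨_, i, rfl⟩ q
    show f (q * y ^ i) = f q
    induction i using Int.induction_on generalizing q with
    | zero => simp
    | succ i ih => rw [zpow_add_one, ← mul_assoc, hf, ih]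
    | pred i ih => rw [zpow_sub_one, ← mul_assoc, ← hf (q * y ^ (-(i : ℤ)) * y⁻¹), inv_mul_cancel_right, ih]
  refine ⟨∑ c : Q ⧸ H, f c.out, IsIntegral.sum _ fun c _ => hint _, ?_⟩
  have hc : Nat.card H = p := by rw [hH, Nat.card_zpowers, hy]
  rw [← Equiv.sum_comp (Subgroup.groupEquivQuotientProdSubgroup (s := H)).symm, Fintype.sum_prod_type,
    Finset.mul_sum]
  refine Finset.sum_congr rfl fun c _ => ?_
  have hv : ∀ h : H, f ((Subgroup.groupEquivQuotientProdSubgroup (s := H)).symm (c, h)) = f c.out := by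
    intro h
    set g := (Subgroup.groupEquivQuotientProdSubgroup (s := H)).symm (c, h) with hg
    have h1 : (QuotientGroup.mk g : Q ⧸ H) = c := by
      have := (Subgroup.groupEquivQuotientProdSubgroup (s := H)).apply_symm_apply (c, h)
      rw [← hg] at this
      simpa [Subgroup.groupEquivQuotientProdSubgroup] using congrArg Prod.fst this
    have h2 : c.out⁻¹ * g ∈ H := by
      refine QuotientGroup.eq.1 ?_
      rw [QuotientGroup.out_eq', h1]
    rw [show g = c.out * (⟨_, h2⟩ : H) from (mul_inv_cancel_left _ _).symm]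
    exact hpow _ _
  rw [Finset.sum_congr rfl fun h _ => hv h, Finset.sum_const, Finset.card_univ,
    ← Nat.card_eq_fintype_card, hc, nsmul_eq_mul]

/-- **Classes of defect zero.** If a normal subgroup of order prime to `p` contains an element
whose centraliser has order prime to `p`, then there is a character of `p`-defect zero. -/
theorem exists_defectZero_of_class {p : ℕ} [hp : Fact p.Prime] (N : Subgroup G) [N.Normal]
    (hN : ¬ p ∣ Nat.card N) (z : N)
    (hz : ¬ p ∣ Nat.card (Subgroup.centralizer ({(z : G)} : Set G))) :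
    ∃ χ : IrrCharacter G,
      (Cfsg.charDegree (χ : G → ℂ)).factorization p = (Nat.card G).factorization p := by
  classical
  have := Fintype.ofFinite G
  have := Fintype.ofFinite N
  -- some inertia group has order prime to `p`
  obtain ⟨θ, hθ⟩ : ∃ θ : IrrCharacter N, ¬ p ∣ Nat.card (inertia (θ : N → ℂ)) := by
    by_contra! hall
    -- conjugates of `z` indexed by the cosets
    set w : G ⧸ N → N := fun q =>
      ⟨q.out * z * q.out⁻¹, (inferInstance : N.Normal).conj_mem _ z.2 _⟩ with hw
    set s := (Subgroup.centralizer ({z} : Set N)).index with hs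
    have hsw : ∀ q, (Subgroup.centralizer ({w q} : Set N)).index = s := by
      intro q
      have he : Subgroup.centralizer ({w q} : Set N) =
          (Subgroup.centralizer ({z} : Set N)).map (MulAut.conjNormal q.out).toMonoidHom := by
        ext x
        rw [Subgroup.mem_map_equiv, Subgroup.mem_centralizer_singleton_iff,
          Subgroup.mem_centralizer_singleton_iff]
        constructor
        · intro h
          refine (MulAut.conjNormal (H := N) q.out).injective ?_
          rw [map_mul, map_mul, MulEquiv.apply_symm_apply]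
          exact h
        · intro h
          have h' := congrArg (MulAut.conjNormal (H := N) q.out) h
          rw [map_mul, map_mul, MulEquiv.apply_symm_apply] at h'
          exact h'
      rw [he]
      exact Subgroup.index_map_of_bijective (MulEquiv.bijective _) _
    have hdiv : ∀ θ : IrrCharacter N, ∃ c : ℂ, IsIntegral ℤ c ∧
        ∑ q : G ⧸ N, ((s : ℂ) * (θ : N → ℂ) (w q) / (θ : N → ℂ) 1) = (p : ℂ) * c := by
      intro θ
      have hcl := isClassFunction_of_isIrr θ.2
      obtain ⟨⟨y, hy⟩, hyo⟩ := exists_prime_orderOf_dvd_card' (G := inertia (θ : N → ℂ)) p (hall θ)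
      rw [Subgroup.orderOf_mk] at hyo
      have hyN : y ∉ N := fun h => hN (hyo ▸ Subgroup.orderOf_dvd_natCard N h)
      have hyb : orderOf (y : G ⧸ N) = p := by
        refine orderOf_eq_prime ?_ fun e => hyN ((QuotientGroup.eq_one_iff y).1 e)
        rw [← QuotientGroup.mk_pow, ← hyo, pow_orderOf_eq_one, QuotientGroup.mk_one]
      -- `g ↦ θ (g z g⁻¹)` depends on `g N` only and is left invariant under `y`
      have hval : ∀ g : G, (θ : N → ℂ) (w (g : G ⧸ N)) =
          (θ : N → ℂ) ⟨g * z * g⁻¹, (inferInstance : N.Normal).conj_mem _ z.2 _⟩ := by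
        intro g
        obtain ⟨n, hn⟩ := QuotientGroup.mk_out_eq_mul N g
        have e : w (g : G ⧸ N) =
            (⟨g * n * g⁻¹, (inferInstance : N.Normal).conj_mem _ n.2 _⟩ : N) *
              ⟨g * z * g⁻¹, (inferInstance : N.Normal).conj_mem _ z.2 _⟩ *
              (⟨g * n * g⁻¹, (inferInstance : N.Normal).conj_mem _ n.2 _⟩ : N)⁻¹ := by
          refine Subtype.ext ?_
          simp only [hw, Subgroup.coe_mul, Subgroup.coe_inv, hn]
          group
        rw [e, hcl]
      have hinv : ∀ q : G ⧸ N, (s : ℂ) * (θ : N → ℂ) (w (q * (y : G ⧸ N))⁻¹) / (θ : N → ℂ) 1 =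
          (s : ℂ) * (θ : N → ℂ) (w q⁻¹) / (θ : N → ℂ) 1 := by
        intro q
        obtain ⟨g, rfl⟩ := QuotientGroup.mk_surjective q
        rw [← QuotientGroup.mk_mul, ← QuotientGroup.mk_inv, ← QuotientGroup.mk_inv, hval, hval]
        have hy' : conjFun y⁻¹ (θ : N → ℂ) = (θ : N → ℂ) := (inertia (θ : N → ℂ)).inv_mem hy
        have e := congrFun hy' ⟨g⁻¹ * z * g⁻¹⁻¹, (inferInstance : N.Normal).conj_mem _ z.2 _⟩
        rw [conjFun_apply] at e
        rw [← e]
        refine congrArg (fun t : N => (s : ℂ) * (θ : N → ℂ) t / (θ : N → ℂ) 1) (Subtype.ext ?_)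
        simp only
        group
      have hint : ∀ q : G ⧸ N,
          IsIntegral ℤ ((s : ℂ) * (θ : N → ℂ) (w q⁻¹) / (θ : N → ℂ) 1) := by
        intro q
        rw [← hsw q⁻¹]
        exact centralCharacter_isIntegral θ.2 (w q⁻¹)
      obtain ⟨c, hc, hcsum⟩ := exists_eq_mul_of_translation hyb
        (fun q : G ⧸ N => (s : ℂ) * (θ : N → ℂ) (w q⁻¹) / (θ : N → ℂ) 1) hinv hint
      exact ⟨c, hc, hcsum ▸ (Equiv.sum_comp (Equiv.inv (G ⧸ N))
        (fun q : G ⧸ N => (s : ℂ) * (θ : N → ℂ) (w q) / (θ : N → ℂ) 1)).symm⟩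
    choose c hc hcsum using hdiv
    -- evaluate against the second orthogonality relation
    set T := Finset.univ.filter fun q : G ⧸ N => IsConj (w q) z with hT
    set tot : ℂ := ∑ θ : IrrCharacter N, (θ : N → ℂ) 1 * conj ((θ : N → ℂ) z) *
      ∑ q : G ⧸ N, ((s : ℂ) * (θ : N → ℂ) (w q) / (θ : N → ℂ) 1) with htot
    have h1 : tot = ((T.card * Nat.card N : ℕ) : ℂ) := by
      rw [htot]
      simp only [Finset.mul_sum]
      rw [Finset.sum_comm]
      have hq : ∀ q : G ⧸ N, ∑ θ : IrrCharacter N, (θ : N → ℂ) 1 * conj ((θ : N → ℂ) z) *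
          ((s : ℂ) * (θ : N → ℂ) (w q) / (θ : N → ℂ) 1) =
          if IsConj (w q) z then (Nat.card N : ℂ) else 0 := by
        intro q
        rw [Finset.sum_congr rfl fun (θ : IrrCharacter N) _ => show
          (θ : N → ℂ) 1 * conj ((θ : N → ℂ) z) * ((s : ℂ) * (θ : N → ℂ) (w q) / (θ : N → ℂ) 1) =
            (s : ℂ) * ((θ : N → ℂ) (w q) * conj ((θ : N → ℂ) z)) by
          have := IsIrr.one_ne_zero θ.2
          field_simp, ← Finset.mul_sum, second_orthogonality]
        split_ifs
        · rw [← hsw q, ← Nat.cast_mul, Subgroup.index_mul_card]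
        · rw [mul_zero]
      rw [Finset.sum_congr rfl fun q _ => hq q, ← Finset.sum_filter, Finset.sum_const, nsmul_eq_mul,
        Nat.cast_mul]
    have h2 : IsIntegral ℤ (((T.card * Nat.card N : ℕ) : ℂ) / (p : ℂ)) := by
      rw [← h1, htot, Finset.sum_div]
      refine IsIntegral.sum _ fun θ _ => ?_
      rw [hcsum θ, ← mul_assoc, mul_comm _ (p : ℂ), mul_assoc, mul_div_cancel_left₀ _
        (Nat.cast_ne_zero.2 hp.out.ne_zero : (p : ℂ) ≠ 0)]
      refine ((IsChar.isIntegral (IsIrr.isCharacter θ.2) 1).mul ?_).mul (hc θ)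
      rw [← IsChar.inv_eq_conj (IsIrr.isCharacter θ.2)]
      exact IsChar.isIntegral (IsIrr.isCharacter θ.2) z⁻¹
    rcases hp.out.dvd_mul.1 (nat_dvd_of_isIntegral hp.out.ne_zero h2) with h3 | h3
    · refine hz ?_
      have hT' : T.card = Nat.card ((Subgroup.centralizer ({(z : G)} : Set G)).map (QuotientGroup.mk' N)) := by
        rw [← Fintype.card_coe, ← Nat.card_eq_fintype_card]
        refine Nat.card_congr (Equiv.subtypeEquivRight fun q => ?_)
        rw [hT, Finset.mem_filter, Subgroup.mem_map]
        constructor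
        · rintro ⟨-, h⟩
          obtain ⟨n, hn⟩ := isConj_iff.1 h
          refine ⟨(n : G) * q.out, Subgroup.mem_centralizer_singleton_iff.2 ?_, ?_⟩
          · have hn' : (n : G) * (q.out * z * q.out⁻¹) * (n : G)⁻¹ = z := congrArg Subtype.val hn
            calc (n : G) * q.out * z = ((n : G) * (q.out * z * q.out⁻¹) * (n : G)⁻¹) * (n * q.out) := by
                  group
              _ = _ := by rw [hn']
          · rw [map_mul, QuotientGroup.mk'_apply, QuotientGroup.mk'_apply,
              (QuotientGroup.eq_one_iff (n : G)).2 n.2, one_mul, QuotientGroup.out_eq']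
        · rintro ⟨g, hg, rfl⟩
          refine ⟨Finset.mem_univ _, isConj_iff.2 ?_⟩
          obtain ⟨n, hn⟩ := QuotientGroup.mk_out_eq_mul N g
          refine ⟨⟨g * (n : G)⁻¹ * g⁻¹, (inferInstance : N.Normal).conj_mem _ (N.inv_mem n.2) _⟩,
            Subtype.ext ?_⟩
          simp only [hw, Subgroup.coe_mul, Subgroup.coe_inv, QuotientGroup.mk'_apply, hn]
          have hg' := Subgroup.mem_centralizer_singleton_iff.1 hg
          calc g * (n : G)⁻¹ * g⁻¹ * (g * n * z * (g * n)⁻¹) * (g * (n : G)⁻¹ * g⁻¹)⁻¹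
              = g * z * g⁻¹ := by group
            _ = z := by rw [hg', mul_inv_cancel_right]
      exact (hT' ▸ h3).trans (Subgroup.card_map_dvd _ _)
    · exact hN h3
  -- the character over `θ`
  obtain ⟨χ, hχ⟩ := exists_over N θ
  refine ⟨χ, ?_⟩
  obtain ⟨d, hd0, hd⟩ := IsIrr.degree χ.2
  obtain ⟨t, -, ht⟩ := IsIrr.degree θ.2
  obtain ⟨e, he⟩ := classInner_isCharacter_eq_natCast (isCharacter_res N (IsIrr.isCharacter χ.2))
    (IsIrr.isCharacter θ.2)
  have h1 := degree_eq_of_clifford χ.2 θ.2 hχ
  rw [hd, he, ht] at h1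
  have h1' : d = e * (inertia (θ : N → ℂ)).index * t := by exact_mod_cast h1
  have hI : (inertia (θ : N → ℂ)).index.factorization p = (Nat.card G).factorization p := by
    rw [← (inertia (θ : N → ℂ)).card_mul_index, Nat.factorization_mul Nat.card_pos.ne'
      Subgroup.index_ne_zero_of_finite, Finsupp.add_apply, Nat.factorization_eq_zero_of_not_dvd hθ,
      zero_add]
  rw [Blocks.charDegree_eq hd]
  refine le_antisymm
    ((Nat.factorization_le_iff_dvd hd0.ne' Nat.card_pos.ne').2 (IsIrr.degree_dvd_card χ.2 hd) p) ?_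
  rw [← hI]
  exact (Nat.factorization_le_iff_dvd Subgroup.index_ne_zero_of_finite hd0.ne').2
    ⟨e * t, by rw [h1']; ring⟩ p

end Cfsg.Agent.Char
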