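import Cfsg.Agent.Char.NormalAbelianSylow
import Cfsg.Agent.Char.CliffordCorr
import Cfsg.Agent.S0864
import Mathlib

/-!
# Derived length of a Sylow subgroup and characters of degree divisible by `p`
-/

set_option autoImplicit false

namespace Cfsg.Agent.Char

open scoped ComplexConjugate

universe u

variable {G : Type u} [Group G] [Fintype G]

/-- A character restricting to a multiple of `lam` on `N` induces irreducibly from the inertia
subgroup. -/
theorem isIrr_ind_of_res (N : Subgroup G) [N.Normal] [Fintype N] {lam : N → ℂ}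
    (hlam : IsIrrCharacter N lam) [Fintype (inertia lam)] {ψ : inertia lam → ℂ}
    (hψ : IsIrrCharacter (inertia lam) ψ) {e : ℕ} (he : 0 < e)
    (hres : (fun n : N => ψ ⟨n, le_inertia (isClassFunction_of_isIrr hlam) n.2⟩) = (e : ℂ) • lam) :
    IsIrrCharacter G (indFun (inertia lam) ψ) := by
  classical
  set hle := le_inertia (N := N) (isClassFunction_of_isIrr hlam)
  have hI : indFun (inertia lam) ψ ≠ 0 := fun h => by
    have h1 := congrFun h 1
    rw [indFun_apply_one, Pi.zero_apply, mul_eq_zero, Nat.cast_eq_zero] at h1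
    exact h1.elim Subgroup.index_ne_zero_of_finite (IsIrr.one_ne_zero hψ)
  obtain ⟨χ, hχ⟩ := IsChar.exists_constituent (isCharacter_indFun _ (IsIrr.isCharacter hψ)) hI
  rw [classInner_indFun_left _ _ (isClassFunction_of_isIrr χ.2)] at hχ
  have hχ' : classInner (fun t : inertia lam => (χ : G → ℂ) t) ψ ≠ 0 := fun h => hχ (by
    rw [← classInner_conj_symm, h, map_zero])
  have hsub := IsChar.sub_constituent (isCharacter_res _ (IsIrr.isCharacter χ.2)) hψ hχ'
  have hresc : ∀ {η : inertia lam → ℂ}, IsCharacter (inertia lam) η →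
      IsCharacter N (fun n : N => η ⟨n, hle n.2⟩) := fun h => isCharacter_comp (Subgroup.inclusion hle) h
  obtain ⟨a, ha⟩ := classInner_isCharacter_eq_natCast (hresc hsub) (IsIrr.isCharacter hlam)
  have hval : classInner (fun n : N => (χ : G → ℂ) n) lam = (a : ℂ) + e := by
    have h1 : (fun n : N => (χ : G → ℂ) n) =
        (fun n : N => ((fun t : inertia lam => (χ : G → ℂ) t) - ψ) ⟨n, hle n.2⟩) + (e : ℂ) • lam := by
      rw [← hres]; funext n; simp
    rw [h1, classInner_add_left, ha, classInner_smul_left, classInner_irr_self hlam, mul_one]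
  have hne : classInner (fun n : N => (χ : G → ℂ) n) lam ≠ 0 := by
    rw [hval, ← Nat.cast_add, Nat.cast_ne_zero]; omega
  obtain ⟨ψ', hψ', hind, hres'⟩ := clifford_correspondence χ.2 hlam hne
  by_contra hnot
  have hne' : ψ' ≠ ψ := fun h => hnot (h ▸ hind ▸ χ.2)
  -- `ψ'` is a constituent of `χ|T − ψ`
  have hc : classInner (fun t : inertia lam => (χ : G → ℂ) t) ψ' ≠ 0 := by
    have h1 := classInner_indFun_left (inertia lam) ψ' (isClassFunction_of_isIrr χ.2)
    rw [hind, classInner_irr_self χ.2] at h1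
    intro h
    rw [← classInner_conj_symm, h, map_zero] at h1
    exact one_ne_zero h1
  have hc' : classInner ((fun t : inertia lam => (χ : G → ℂ) t) - ψ) ψ' ≠ 0 := by
    rw [classInner_sub_left, classInner_irr_ne hψ hψ' (Ne.symm hne'), sub_zero]; exact hc
  obtain ⟨b, hb⟩ := classInner_isCharacter_eq_natCast (hresc (IsChar.sub_constituent hsub hψ' hc'))
    (IsIrr.isCharacter hlam)
  have h2 : (a : ℂ) = b + classInner (fun n : N => (χ : G → ℂ) n) lam := by
    rw [← ha, ← hb]
    conv_rhs => arg 2; rw [← mul_one (classInner (fun n : N => (χ : G → ℂ) n) lam),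
      ← classInner_irr_self hlam, ← classInner_smul_left, ← hres']
    rw [← classInner_add_left]
    congr 1
    funext n
    simp
  rw [hval] at h2
  have h3 : a = b + (a + e) := by exact_mod_cast h2
  omega

omit [Fintype G] in
/-- The derived length bound. -/
theorem derivedSeries_sylow_le : ∀ (n : ℕ) (G : Type u) [Group G] [Finite G], Nat.card G = n →
    ∀ (p : ℕ) [Fact p.Prime], Cfsg.IsPSolvable p G → ∀ (P : Sylow p G),
    derivedSeries ↥(P : Subgroup G)
      (Nat.card {χ : IrrCharacter G // p ∣ Cfsg.charDegree (χ : G → ℂ)} + 1) = ⊥ := by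
  intro n
  induction n using Nat.strong_induction_on with
  | _ n IH => ?_
  intro G _ _ hn p hp hsol P
  classical
  subst hn
  have := Fintype.ofFinite G
  set num := Nat.card {χ : IrrCharacter G // p ∣ Cfsg.charDegree (χ : G → ℂ)} with hnum
  rcases Nat.eq_zero_or_pos num with h0 | hpos
  · -- all degrees are prime to `p`
    obtain ⟨Q, hQn, hQc, hQp, hQi⟩ := exists_normal_abelian_sylow _ G rfl (p := p) hsol fun χ hd => by
      have := Finite.card_eq_zero_iff.1 h0
      exact this.false ⟨χ, hd⟩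
    have hPQ : (P : Subgroup G) ≤ Q := by
      let _ : Unique (Sylow p G) := Sylow.unique_of_normal (hQp.toSylow hQi)
        (by rw [IsPGroup.toSylow_coe]; exact hQn)
      rw [Subsingleton.elim P (hQp.toSylow hQi), IsPGroup.toSylow_coe]
    rw [h0, zero_add, derivedSeries_one, commutator_def, Subgroup.commutator_eq_bot_iff_le_centralizer]
    intro a _
    rw [Subgroup.mem_centralizer_iff]
    intro b _
    exact Subtype.ext (hQc b (hPQ b.2) a (hPQ a.2))
  rcases subsingleton_or_nontrivial G with hs | hs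
  · exact Subsingleton.elim _ _
  obtain ⟨N, hN⟩ := Core.exists_isMinNormal (G := G)
  haveI := hN.normal
  have := Fintype.ofFinite N
  set f : (P : Subgroup G) →* G ⧸ N := (QuotientGroup.mk' N).comp (P : Subgroup G).subtype with hf
  -- the bound for the quotient
  set num' := Nat.card {χ : IrrCharacter (G ⧸ N) // p ∣ Cfsg.charDegree (χ : G ⧸ N → ℂ)} with hnum'
  have hquot : ∀ x ∈ derivedSeries (P : Subgroup G) (num' + 1), (x : G) ∈ N := by
    intro x hx
    set P' := P.mapSurjective (QuotientGroup.mk'_surjective N) with hP'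
    have h := IH _ (Core.card_quotient_lt hN.ne_bot) (G ⧸ N) rfl p
      (Layer.isPSolvable_of_surjective hsol (QuotientGroup.mk'_surjective N)) P'
    let g : (P : Subgroup G) →* ↥(P' : Subgroup (G ⧸ N)) := f.codRestrict _ fun u => by
      rw [hP', Sylow.coe_mapSurjective]
      exact ⟨u, u.2, rfl⟩
    have h1 := map_derivedSeries_le_derivedSeries g (num' + 1) ⟨x, hx, rfl⟩
    rw [h, Subgroup.mem_bot] at h1
    exact (QuotientGroup.eq_one_iff _).1 (congrArg Subtype.val h1)
  let inj : {χ : IrrCharacter (G ⧸ N) // p ∣ Cfsg.charDegree (χ : G ⧸ N → ℂ)} →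
      {χ : IrrCharacter G // p ∣ Cfsg.charDegree (χ : G → ℂ)} := fun χ =>
    ⟨⟨fun g => (χ.1 : G ⧸ N → ℂ) g, isIrrCharacter_mk N χ.1.2⟩, χ.2⟩
  have hinj : Function.Injective inj := fun a b e => Subtype.ext (Subtype.ext (funext fun q => by
    obtain ⟨g, rfl⟩ := QuotientGroup.mk_surjective q
    exact congrFun (congrArg (fun χ => (χ.1 : G → ℂ)) e) g))
  have hle : num' ≤ num := Nat.card_le_card_of_injective inj hinj
  rcases isMinNormal_card hsol hN with hNp | hNc
  swap
  · have hinf : (P : Subgroup G) ⊓ N = ⊥ := Layer.inf_eq_bot_of_isPGroup P.isPGroup' hNc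
    rw [eq_bot_iff]
    intro x hx
    have h1 := hquot x (derivedSeries_antitone _ (by omega) hx)
    have h2 : (x : G) ∈ (P : Subgroup G) ⊓ N := ⟨x.2, h1⟩
    rw [hinf, Subgroup.mem_bot] at h2
    exact Subgroup.mem_bot.2 (Subtype.ext h2)
  have hNsol : Group.IsSolvable N := by
    have := hNp.isNilpotent
    infer_instance
  have hNc : ∀ a ∈ N, ∀ b ∈ N, a * b = b * a := fun a ha b hb =>
    congrArg Subtype.val (hN.isMulCommutative.is_comm.comm ⟨a, ha⟩ ⟨b, hb⟩)
  have hfinal : ∀ m, m ≤ num → (∀ x ∈ derivedSeries (P : Subgroup G) m, (x : G) ∈ N) →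
      derivedSeries ↥(P : Subgroup G) (num + 1) = ⊥ := by
    intro m hm h
    refine le_bot_iff.1 ((derivedSeries_antitone _ (Nat.succ_le_succ hm)).trans (le_of_eq ?_))
    rw [derivedSeries_succ, Subgroup.commutator_eq_bot_iff_le_centralizer]
    intro a ha
    rw [Subgroup.mem_centralizer_iff]
    intro b hb
    exact Subtype.ext (hNc b (h b hb) a (h a ha))
  by_cases hex : ∃ χ : IrrCharacter G, p ∣ Cfsg.charDegree (χ : G → ℂ) ∧
      ∃ m ∈ N, (χ : G → ℂ) m ≠ (χ : G → ℂ) 1
  · obtain ⟨χ, hχd, m, hm, hne⟩ := hex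
    refine hfinal (num' + 1) (Nat.succ_le_iff.2 (lt_of_le_of_ne hle fun e => ?_)) hquot
    obtain ⟨η, hη⟩ := ((Nat.bijective_iff_injective_and_card inj).2 ⟨hinj, e⟩).2 ⟨χ, hχd⟩
    refine hne ?_
    rw [← congrArg (fun z => (z.1 : G → ℂ)) hη]
    show (η.1 : G ⧸ N → ℂ) (m : G ⧸ N) = (η.1 : G ⧸ N → ℂ) ((1 : G) : G ⧸ N)
    rw [(QuotientGroup.eq_one_iff m).2 hm, QuotientGroup.mk_one]
  push Not at hex
  -- a linear character of `N` extending to a linear character of `P`
  obtain ⟨n₀, hn₀⟩ : ∃ n₀ : N, n₀ ≠ 1 := by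
    obtain ⟨a, ha, hne⟩ := (Subgroup.bot_or_exists_ne_one N).resolve_left hN.ne_bot
    exact ⟨⟨a, ha⟩, fun h => hne (congrArg Subtype.val h)⟩
  obtain ⟨χ₀, hχ₀⟩ := exists_irr_ne_at_one (G := G) (g := (n₀ : G))
    fun h => hn₀ (Subtype.ext h)
  have hχd : ¬ p ∣ Cfsg.charDegree (χ₀ : G → ℂ) := fun h => hχ₀ (hex χ₀ h n₀ n₀.2)
  have hNP : N ≤ (P : Subgroup G) := hNp.le_sylow_of_normal P
  have := Fintype.ofFinite (P : Subgroup G)
  obtain ⟨m, hm, he, -⟩ := IsChar.exists_mult
    (isCharacter_res (P : Subgroup G) (IsIrr.isCharacter χ₀.2))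
  obtain ⟨η, hη0, hη⟩ : ∃ η : IrrCharacter (P : Subgroup G),
      m η ≠ 0 ∧ (η : ↥(P : Subgroup G) → ℂ) 1 = 1 := by
    by_contra! hall
    apply hχd
    have h1 := congrFun he 1
    simp only [Finset.sum_apply, Pi.smul_apply, smul_eq_mul, Subgroup.coe_one] at h1
    choose d hd0 hd using fun η : IrrCharacter (P : Subgroup G) => IsIrr.degree η.2
    simp only [hd, charDegree_spec' χ₀] at h1
    have h2 : Cfsg.charDegree (χ₀ : G → ℂ) = ∑ η, m η * d η := by exact_mod_cast h1
    rw [h2]
    refine Finset.dvd_sum fun η _ => ?_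
    rcases eq_or_ne (m η) 0 with hz | hz
    · simp [hz]
    obtain ⟨a, ha⟩ := P.isPGroup'.exists_card_eq
    obtain ⟨i, -, hi⟩ := (Nat.dvd_prime_pow hp.out).1 (ha ▸ IsIrr.degree_dvd_card η.2 (hd η))
    rcases Nat.eq_zero_or_pos i with hi0 | hi0
    · exact absurd (by rw [hd, hi, hi0, pow_zero, Nat.cast_one]) (hall η hz)
    · exact Dvd.dvd.mul_left (hi ▸ dvd_pow_self p hi0.ne') _
  obtain ⟨ν, hν⟩ := IsChar.exists_hom (IsIrr.isCharacter η.2) hη
  set lamh : N →* ℂˣ := ν.comp (Subgroup.inclusion hNP) with hlamh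
  set lam : N → ℂ := fun x => (lamh x : ℂ) with hlam
  have hlirr : IsIrrCharacter N lam := isIrrCharacter_hom lamh
  have hle' := le_inertia (N := N) (isClassFunction_of_isIrr hlirr)
  -- `lam` is a constituent of `χ₀` on `N`
  have hover : classInner (fun x : N => (χ₀ : G → ℂ) x) lam ≠ 0 := by
    have hsub := isCharacter_comp (Subgroup.inclusion hNP) (IsChar.sub_constituent
      (isCharacter_res (P : Subgroup G) (IsIrr.isCharacter χ₀.2)) η.2
        (by rw [hm, Nat.cast_ne_zero]; exact hη0))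
    obtain ⟨a, ha⟩ := classInner_isCharacter_eq_natCast hsub (IsIrr.isCharacter hlirr)
    have e : (fun x : N => (χ₀ : G → ℂ) x) = (fun x : N => ((fun u : (P : Subgroup G) =>
        (χ₀ : G → ℂ) u) - (η : ↥(P : Subgroup G) → ℂ)) (Subgroup.inclusion hNP x)) + lam := by
      funext x
      simp [hlam, hlamh, hν]
    rw [e, classInner_add_left, ha, classInner_irr_self hlirr, ← Nat.cast_one, ← Nat.cast_add,
      Nat.cast_ne_zero]
    omega
  have hlne : lam ≠ fun _ => 1 := by
    intro h1
    apply hχ₀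
    have h := congrFun (clifford χ₀.2 hlirr hover) n₀
    have h' := congrFun (clifford χ₀.2 hlirr hover) 1
    have horb : ∀ ψ ∈ orbit lam, ψ = fun _ => 1 := by
      intro ψ hψ
      obtain ⟨g, rfl⟩ := mem_orbit.1 hψ
      funext x
      rw [h1]
      rfl
    simp only [Pi.smul_apply, Finset.sum_apply] at h h'
    rw [Finset.sum_congr rfl fun ψ hψ => congrFun (horb ψ hψ) _] at h h'
    exact h.trans h'.symm
  set T := inertia lam with hT
  have := Fintype.ofFinite T
  have hPT : (P : Subgroup G) ≤ T := fun u hu => funext fun x => by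
    show (lamh _ : ℂ) = lamh x
    congr 1
    simp only [hlamh, MonoidHom.comp_apply]
    have : ν (⟨u, hu⟩ * Subgroup.inclusion hNP x * ⟨u, hu⟩⁻¹) = ν (Subgroup.inclusion hNP x) := by
      simp [mul_comm]
    exact this
  -- extend `lam` to `T`
  have hlamN' : IsCharacter (N.subgroupOf T) (fun x : N.subgroupOf T => lam ⟨(x : T), Subgroup.mem_subgroupOf.1 x.2⟩) ∧
      (fun x : N.subgroupOf T => lam ⟨(x : T), Subgroup.mem_subgroupOf.1 x.2⟩) 1 = 1 :=
    ⟨isCharacter_comp (Subgroup.subgroupOfEquivOfLe hle').toMonoidHom (isCharacter_hom lamh),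
      by show (lamh 1 : ℂ) = 1; rw [map_one, Units.val_one]⟩
  obtain ⟨μ, hμc, hμ1, hμ⟩ := S0864.result (N.subgroupOf T) _ hlamN'
    (fun g x => congrFun (g.2 : conjFun (g : G) lam = lam) ⟨(x : T), Subgroup.mem_subgroupOf.1 x.2⟩)
    fun r hr hrd => by
      have hrp : r = p := by
        obtain ⟨a, ha⟩ := hNp.exists_card_eq
        have h1 : (fun x : N.subgroupOf T => lam ⟨(x : T), Subgroup.mem_subgroupOf.1 x.2⟩) ^ p ^ a = 1 := by
          funext x
          show (lamh _ : ℂ) ^ p ^ a = 1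
          rw [← Units.val_pow_eq_pow_val, ← map_pow, ← ha, pow_card_eq_one', map_one, Units.val_one]
        exact (Nat.prime_dvd_prime_iff_eq hr hp.out).1
          (hr.dvd_of_dvd_pow (hrd.trans (orderOf_dvd_of_pow_eq_one h1)))
      subst hrp
      refine ⟨(P : Subgroup G).subgroupOf T, fun x hx => hNP hx, fun u => (ν ⟨(u : T), u.2⟩ : ℂ),
        ((hr.coprime_iff_not_dvd).2 fun h => P.not_dvd_index
          (h.trans ?_)).symm, ?_, isCharacter_hom (ν.comp (Subgroup.subgroupOfEquivOfLe hPT).toMonoidHom),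
        by
          show (ν 1 : ℂ) = 1
          rw [map_one, Units.val_one], fun x => rfl⟩
      · exact Subgroup.relIndex_dvd_index_of_le hPT
      · obtain ⟨a, ha⟩ := P.isPGroup'.exists_card_eq
        obtain ⟨i, -, hi⟩ := (Nat.dvd_prime_pow hr).1 (ha ▸ ((Subgroup.relIndex_dvd_card
          (N.subgroupOf T) ((P : Subgroup G).subgroupOf T)).trans
          (Nat.card_congr (Subgroup.subgroupOfEquivOfLe hPT).toEquiv).dvd))
        exact ⟨i, hi⟩
  obtain ⟨μh, hμh⟩ := IsChar.exists_hom hμc hμ1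
  -- degrees of `T ⧸ N`
  have hTdeg : ∀ β : IrrCharacter (T ⧸ N.subgroupOf T),
      ¬ p ∣ Cfsg.charDegree (β : T ⧸ N.subgroupOf T → ℂ) := by
    intro β hβd
    obtain ⟨d, hd0, hd⟩ := IsIrr.degree β.2
    have hψ : IsIrrCharacter T (fun t => (μh t : ℂ) * (β : T ⧸ N.subgroupOf T → ℂ) t) := by
      have hb := isIrrCharacter_mk (N.subgroupOf T) β.2
      have hc : IsCharacter T (fun t => (μh t : ℂ) * (β : T ⧸ N.subgroupOf T → ℂ) t) :=
        isCharacter_mul (isCharacter_hom μh) (IsIrr.isCharacter hb)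
      rw [isIrr_iff_norm_one hc, ← classInner_irr_self hb]
      simp only [classInner]
      refine congrArg _ (Finset.sum_congr rfl fun x _ => ?_)
      have hu : ‖(μh x : ℂ)‖ = 1 := by
        refine Complex.norm_eq_one_of_pow_eq_one (n := Nat.card T) ?_ Nat.card_pos.ne'
        rw [← Units.val_pow_eq_pow_val, ← map_pow, pow_card_eq_one', map_one, Units.val_one]
      rw [map_mul, mul_mul_mul_comm, Complex.mul_conj', hu]
      simp
    have hres : (fun x : N => (fun t : T => (μh t : ℂ) * (β : T ⧸ N.subgroupOf T → ℂ) t) ⟨x, hle' x.2⟩) =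
        (d : ℂ) • lam := by
      funext x
      have h1 := hμ ⟨⟨x, hle' x.2⟩, Subgroup.mem_subgroupOf.2 x.2⟩
      rw [hμh] at h1
      replace h1 : (μh ⟨(x : G), hle' x.2⟩ : ℂ) = lam x := h1
      show (μh _ : ℂ) * (β : T ⧸ N.subgroupOf T → ℂ) _ = (d : ℂ) * lam x
      rw [show ((⟨x, hle' x.2⟩ : T) : T ⧸ N.subgroupOf T) = 1 from
        (QuotientGroup.eq_one_iff _).2 (Subgroup.mem_subgroupOf.2 x.2), hd, h1, mul_comm]
    set χ : IrrCharacter G := ⟨_, isIrr_ind_of_res N hlirr hψ hd0 hres⟩
    have hdeg : Cfsg.charDegree (χ : G → ℂ) = T.index * d := by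
      refine Blocks.charDegree_eq ?_
      show indFun T _ 1 = _
      rw [indFun_apply_one, map_one, Units.val_one, one_mul, QuotientGroup.mk_one, hd, Nat.cast_mul]
    rw [Blocks.charDegree_eq hd] at hβd
    obtain ⟨x, hx⟩ : ∃ x : N, lam x ≠ 1 := by
      by_contra! h; exact hlne (funext h)
    have hker := hex χ (hdeg ▸ hβd.mul_left _) x x.2
    -- `χ` lies over `lam`, so `lam` would be trivial
    have hc : classInner (fun y : N => (χ : G → ℂ) y) lam ≠ 0 := by
      intro h0
      have h1 := classInner_indFun_left T (fun t => (μh t : ℂ) * (β : T ⧸ N.subgroupOf T → ℂ) t)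
        (isClassFunction_of_isIrr χ.2)
      rw [show indFun T (fun t => (μh t : ℂ) * (β : T ⧸ N.subgroupOf T → ℂ) t) = (χ : G → ℂ) from rfl,
        classInner_irr_self χ.2] at h1
      have hnz : classInner (fun t : T => (χ : G → ℂ) t)
          (fun t => (μh t : ℂ) * (β : T ⧸ N.subgroupOf T → ℂ) t) ≠ 0 := by
        rw [← classInner_conj_symm, ← h1]; simp
      have hsub := isCharacter_comp (Subgroup.inclusion hle')
        (IsChar.sub_constituent (isCharacter_res T (IsIrr.isCharacter χ.2)) hψ hnz)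
      obtain ⟨a, ha⟩ := classInner_isCharacter_eq_natCast hsub (IsIrr.isCharacter hlirr)
      have h2 : (0 : ℂ) = a + d := by
        rw [← h0, ← ha, ← mul_one (d : ℂ), ← classInner_irr_self hlirr, ← classInner_smul_left,
          ← hres, ← classInner_add_left]
        congr 1
        funext y
        exact (sub_add_cancel _ _).symm
      have h3 : (0 : ℕ) = a + d := by exact_mod_cast h2
      omega
    have hclif := clifford χ.2 hlirr hc
    have hxall : (fun y : N => (χ : G → ℂ) y) = ((χ : G → ℂ) 1) • fun _ => 1 := by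
      funext y
      rw [Pi.smul_apply, smul_eq_mul, mul_one]
      exact hex χ (hdeg ▸ hβd.mul_left _) y y.2
    rw [hxall, classInner_smul_left, classInner_irr_ne isIrrCharacter_one hlirr (Ne.symm hlne),
      mul_zero] at hc
    exact hc rfl
  obtain ⟨Q, hQn, hQc, hQp, hQi⟩ := exists_normal_abelian_sylow _ (T ⧸ N.subgroupOf T) rfl (p := p)
    (Layer.isPSolvable_of_surjective (Offender.isPSolvable_subgroup hsol T)
      (QuotientGroup.mk'_surjective _)) hTdeg
  refine hfinal 1 hpos ?_
  intro x hx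
  let j : (P : Subgroup G) →* T ⧸ N.subgroupOf T :=
    (QuotientGroup.mk' _).comp (Subgroup.inclusion hPT)
  have hjQ : ∀ u, j u ∈ Q := by
    let _ : Unique (Sylow p (T ⧸ N.subgroupOf T)) := Sylow.unique_of_normal (hQp.toSylow hQi)
      (by rw [IsPGroup.toSylow_coe]; exact hQn)
    obtain ⟨R, hR⟩ := (P.isPGroup'.of_surjective j.rangeRestrict j.rangeRestrict_surjective).exists_le_sylow
    intro u
    have h := hR ⟨u, rfl⟩
    rwa [Subsingleton.elim R (hQp.toSylow hQi), IsPGroup.toSylow_coe] at h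
  have hcomm : derivedSeries (P : Subgroup G) 1 ≤ j.ker := by
    rw [derivedSeries_one, commutator_def, Subgroup.commutator_le]
    intro a _ b _
    rw [MonoidHom.mem_ker, commutatorElement_def, map_mul, map_mul, map_mul, map_inv, map_inv,
      hQc _ (hjQ a) _ (hjQ b), mul_inv_cancel_right, mul_inv_cancel]
  exact Subgroup.mem_subgroupOf.1 ((QuotientGroup.eq_one_iff (Subgroup.inclusion hPT x)).1 (hcomm hx))

end Cfsg.Agent.Char
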