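import Cfsg.Agent.Char.FixedExt
import Cfsg.Agent.Blocks.Idempotent
import Cfsg.Agent.ProjExt.Dade
import Cfsg.Agent.ProjExt.Ratio

/-!
# Galois-fixed characters and the principal 2-block over a normal subgroup of odd index
-/

namespace Cfsg.Agent.Char

open scoped ComplexConjugate

universe u

section General

variable {G : Type u} [Group G] [Fintype G]

omit [Fintype G] in
theorem index_centralizer_map {H : Type u} [Group H] (e : G ≃* H) (x : G) :
    (Subgroup.centralizer ({e x} : Set H)).index = (Subgroup.centralizer ({x} : Set G)).index := by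
  rw [← Subgroup.index_comap_of_surjective _ (f := e.toMonoidHom) e.surjective]
  congr 1
  ext g
  simp only [Subgroup.mem_comap, Subgroup.mem_centralizer_singleton_iff, MulEquiv.coe_toMonoidHom,
    ← map_mul, e.injective.eq_iff]

theorem centralizer_pow_eq {k : ℕ} (hk : k.Coprime (Nat.card G)) (g : G) :
    Subgroup.centralizer ({g ^ k} : Set G) = Subgroup.centralizer ({g} : Set G) := by
  ext x
  simp only [Subgroup.mem_centralizer_singleton_iff]
  refine ⟨fun h => ?_, fun h => (show Commute x g from h).pow_right k⟩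
  obtain ⟨j, hj⟩ := exists_pow_eq_self_of_coprime
    (hk.of_dvd_right (orderOf_dvd_natCard g))
  rw [← hj]
  exact (show Commute x (g ^ k) from h).pow_right j

theorem exists_fixed_pow (k e : ℕ) (hk : k.Coprime (Nat.card G))
    (hke : k ^ (2 ^ e) ≡ 1 [MOD Nat.card G]) :
    ∃ (σ : ℂ →+* ℂ) (τ : Equiv.Perm (IrrCharacter G)),
      (∀ z : ℂ, z ^ Nat.card G = 1 → σ z = z ^ k) ∧
      (∀ (χ : IrrCharacter G) g, ((τ χ : IrrCharacter G) : G → ℂ) g = σ ((χ : G → ℂ) g)) ∧
      (∀ (χ : IrrCharacter G) g, ((τ χ : IrrCharacter G) : G → ℂ) g = (χ : G → ℂ) (g ^ k)) ∧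
      τ ^ (2 ^ e) = 1 := by
  obtain ⟨σ, hσ⟩ := exists_galois (Nat.card G) k Nat.card_pos.ne' hk
  have hap : ∀ (χ : IrrCharacter G) g, σ ((χ : G → ℂ) g) = (χ : G → ℂ) (g ^ k) := fun χ g =>
    galois_apply_pow σ hσ (IsIrr.isCharacter χ.2) (orderOf_dvd_natCard g)
  let f : IrrCharacter G → IrrCharacter G := fun χ => ⟨_, isIrr_map σ χ.2⟩
  have hinj : Function.Injective f := fun a b h =>
    Subtype.ext (funext fun g => σ.injective (congrFun (congrArg Subtype.val h) g))
  let τ := Equiv.ofBijective f (Finite.injective_iff_bijective.1 hinj)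
  refine ⟨σ, τ, hσ, fun χ g => rfl, hap, ?_⟩
  have hit : ∀ (j : ℕ) (χ : IrrCharacter G) g,
      (((τ ^ j) χ : IrrCharacter G) : G → ℂ) g = (χ : G → ℂ) (g ^ k ^ j) := by
    intro j
    induction j with
    | zero => intro χ g; simp
    | succ j ih =>
      intro χ g
      rw [pow_succ, Equiv.Perm.mul_apply, ih]
      show σ ((χ : G → ℂ) (g ^ k ^ j)) = _
      rw [hap, ← pow_mul, ← pow_succ]
  refine Equiv.ext fun χ => Subtype.ext (funext fun g => ?_)
  rw [hit, Equiv.Perm.one_apply,
    pow_eq_pow_iff_modEq.2 (hke.of_dvd (orderOf_dvd_natCard g)), pow_one]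

omit [Fintype G] in
theorem pow_succ_mem_of_odd_index [Finite G] (N : Subgroup G) [N.Normal] (hidx : Odd N.index)
    {k : ℕ} (hk₂ : ∀ g : G, Odd (orderOf g) → g ^ k = g⁻¹) (g : G) : g ^ (k + 1) ∈ N := by
  set a := (orderOf g).factorization 2
  have hodd : Odd (orderOf (g ^ 2 ^ a)) := by
    rw [orderOf_pow' g (by positivity), Nat.gcd_eq_right (Nat.ordProj_dvd _ _)]
    exact Nat.odd_iff.2 (Nat.two_dvd_ne_zero.1
      (Nat.not_dvd_ordCompl Nat.prime_two (orderOf_pos g).ne'))
  have h1 : (g ^ (k + 1)) ^ 2 ^ a = 1 := by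
    rw [← pow_mul, mul_comm, pow_mul, pow_succ, hk₂ _ hodd, inv_mul_cancel]
  rw [← QuotientGroup.eq_one_iff]
  have h2 : (QuotientGroup.mk (g ^ (k + 1)) : G ⧸ N) ^ 2 ^ a = 1 := by
    rw [← QuotientGroup.mk_pow, h1, QuotientGroup.mk_one]
  refine orderOf_eq_one_iff.1 (Nat.eq_one_of_dvd_coprimes
    ((Nat.coprime_two_left.2 hidx).pow_left a) (orderOf_dvd_of_pow_eq_one h2) ?_)
  rw [Subgroup.index_eq_card]
  exact orderOf_dvd_natCard _

end General

variable {G : Type u} [Group G] [Fintype G]

open scoped Classical in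
/-- Over a normal subgroup of odd index, the fixed character over `θ` lies in the principal
2-block iff `θ` does. -/
theorem mem_principalBlock_iff_of_fixed (M : Ideal Cfsg.AlgInt) (hM : Cfsg.IsPModular 2 M)
    (N : Subgroup G) [N.Normal] [Fintype N] (hidx : Odd N.index) (k e : ℕ)
    (hk : k.Coprime (Nat.card G)) (hke : k ^ (2 ^ e) ≡ 1 [MOD Nat.card G])
    (hk₂ : ∀ g : G, Odd (orderOf g) → g ^ k = g⁻¹) (θ : IrrCharacter N)
    (hθ : ∀ n : N, (θ : N → ℂ) (n ^ k) = (θ : N → ℂ) n) (χ : IrrCharacter G)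
    (hχ : ∀ g : G, (χ : G → ℂ) (g ^ k) = (χ : G → ℂ) g)
    (hover : classInner (fun n : N => (χ : G → ℂ) n) (θ : N → ℂ) ≠ 0) :
    χ ∈ Cfsg.principalBlock M G ↔ θ ∈ Cfsg.principalBlock M N := by
  have h2f : Fact (Nat.Prime 2) := ⟨Nat.prime_two⟩
  set B := Cfsg.principalBlock M G with hB
  set b := Cfsg.principalBlock M N with hb
  have hBb := Blocks.isPBlock_principalBlock (G := G) M
  have hbb := Blocks.isPBlock_principalBlock (G := N) M
  let one₀ : IrrCharacter G := ⟨fun _ => 1, isIrrCharacter_one⟩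
  let oneN : IrrCharacter N := ⟨fun _ => 1, isIrrCharacter_one⟩
  have h1B : one₀ ∈ B := Blocks.sameBlock_refl hM _
  have h1b : oneN ∈ b := Blocks.sameBlock_refl hM _
  have hconjb : ∀ (g : G) (φ : IrrCharacter N), φ ∈ b →
      (⟨_, isIrr_conjFun g φ.2⟩ : IrrCharacter N) ∈ b := by
    intro g φ hφ n
    let ce : N ≃* N := MulAut.conjNormal g
    have hc : ce n = ⟨g * n * g⁻¹, (inferInstance : N.Normal).conj_mem (n : G) n.2 g⟩ := rfl
    have h := hφ (ce n)
    simp only [Cfsg.centralChar, index_centralizer_map ce n] at h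
    simp only [Cfsg.centralChar, conjFun_apply_one]
    rwa [hc] at h
  constructor
  · intro hχB
    by_contra hθb
    set a := Cfsg.blockCoeff b with ha
    have hinv : ∀ (g : G) (n : N),
        a ⟨g * n * g⁻¹, (inferInstance : N.Normal).conj_mem (n : G) n.2 g⟩ = a n := by
      intro g n
      simp only [ha, Blocks.blockCoeff_eq_sum b]
      congr 1
      let f : IrrCharacter N → IrrCharacter N := fun φ => ⟨_, isIrr_conjFun g φ.2⟩
      have hf : Function.Injective f := fun x y h =>
        Subtype.ext (conjFun_injective g (congrArg Subtype.val h))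
      have hfb : ∀ φ, f φ ∈ b ↔ φ ∈ b := fun φ => by
        refine ⟨fun h => ?_, hconjb g φ⟩
        have h' := hconjb g⁻¹ (f φ) h
        rwa [show (⟨_, isIrr_conjFun g⁻¹ (f φ).2⟩ : IrrCharacter N) = φ from
          Subtype.ext (conjFun_inv_cancel g _)] at h'
      exact Fintype.sum_equiv (Equiv.ofBijective f (Finite.injective_iff_bijective.1 hf)) _ _
        fun φ => by
          simp only [Equiv.ofBijective_apply, hfb]
          simp only [f, conjFun_apply_one]
          rfl
    set F : G → ℂ := extendByZero N a with hF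
    have hFc : IsClassFunction G F := by
      intro x s
      by_cases hx : x ∈ N
      · rw [hF, extendByZero_of_mem _ _ hx,
          extendByZero_of_mem _ _ ((inferInstance : N.Normal).conj_mem x hx s)]
        exact hinv s ⟨x, hx⟩
      · have hx' : s * x * s⁻¹ ∉ N := fun h => hx (by
          simpa [mul_assoc] using (inferInstance : N.Normal).conj_mem _ h s⁻¹)
        rw [hF, extendByZero_of_not_mem _ _ hx, extendByZero_of_not_mem _ _ hx']
    have hFR : ∀ x, Cfsg.MemLocalRing M (F x) := fun x => by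
      by_cases hx : x ∈ N
      · rw [hF, extendByZero_of_mem _ _ hx]
        exact Blocks.memLocalRing_blockCoeff hM hbb _
      · rw [hF, extendByZero_of_not_mem _ _ hx]
        exact Blocks.memLocalRing_of_isIntegral hM isIntegral_zero
    have homega : ∀ ψ : G → ℂ, ∑ g : G, F g * ψ g = ∑ n : N, a n * ψ n := fun ψ => by
      rw [← Finset.sum_subset (Finset.subset_univ (Finset.univ.filter (· ∈ N))) fun x _ hx => by
        rw [hF, extendByZero_of_not_mem _ _ (fun h => hx (Finset.mem_filter.2 ⟨Finset.mem_univ _, h⟩)),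
          zero_mul],
        Finset.sum_subtype (Finset.univ.filter (· ∈ N)) (p := fun x => x ∈ N) (fun x => by simp)]
      exact Finset.sum_congr rfl fun n _ => by rw [hF, extendByZero_coe]
    have hsb : Cfsg.SameBlock M (fun _ : G => (1 : ℂ)) (χ : G → ℂ) := hχB
    have h := Blocks.memLocalIdeal_omega_sub hM isIrrCharacter_one χ.2 hFc hFR hsb
    simp only [Blocks.omega, homega] at h
    have h1 : ∑ n : N, a n * 1 = 1 := by
      have h' := Blocks.omega_blockCoeff b oneN
      rw [if_pos h1b, Blocks.omega] at h'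
      simpa [oneN] using h'
    have h0 : ∑ n : N, a n * (χ : G → ℂ) n = 0 := by
      have hcl := clifford χ.2 θ.2 hover
      have horb : ∀ ψ ∈ orbit (G := G) (θ : N → ℂ), ∑ n : N, a n * ψ n = 0 := by
        intro ψ hψ
        obtain ⟨g, rfl⟩ := mem_orbit.1 hψ
        let φ : IrrCharacter N := ⟨_, isIrr_conjFun g θ.2⟩
        have hφ : φ ∉ b := fun h => hθb (by
          have h' := hconjb g⁻¹ φ h
          rwa [show (⟨_, isIrr_conjFun g⁻¹ φ.2⟩ : IrrCharacter N) = θ from
            Subtype.ext (conjFun_inv_cancel g _)] at h')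
        have h' := Blocks.omega_blockCoeff b φ
        rw [if_neg hφ, Blocks.omega, div_eq_zero_iff] at h'
        exact h'.resolve_right (IsIrr.one_ne_zero φ.2)
      calc ∑ n : N, a n * (χ : G → ℂ) n
          = ∑ n : N, ∑ ψ ∈ orbit (G := G) (θ : N → ℂ),
              classInner (fun n : N => (χ : G → ℂ) n) (θ : N → ℂ) * (a n * ψ n) := by
            refine Finset.sum_congr rfl fun n _ => ?_
            rw [congrFun hcl n, Pi.smul_apply, Finset.sum_apply, smul_eq_mul, Finset.mul_sum,
              Finset.mul_sum]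
            exact Finset.sum_congr rfl fun ψ _ => by ring
        _ = 0 := by
            rw [Finset.sum_comm]
            refine Finset.sum_eq_zero fun ψ hψ => ?_
            rw [← Finset.mul_sum, horb ψ hψ, mul_zero]
    rw [h1, h0, zero_div, div_one, sub_zero] at h
    exact Blocks.not_memLocalIdeal_one hM h
  · intro hθb
    by_contra hχB
    obtain ⟨σ, τ, hσ, hτσ, hτk, hτe⟩ := exists_fixed_pow k e hk hke
    have hN1 := pow_succ_mem_of_odd_index N hidx hk₂
    -- blocks are stable
    have hτB : ∀ ψ : IrrCharacter G, τ ψ ∈ B ↔ ψ ∈ B := by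
      have hone : ∀ ψ : IrrCharacter G, ψ ∈ B → τ ψ ∈ B := fun ψ hψ g => by
        have h := hψ (g ^ k)
        simp only [Cfsg.centralChar, centralizer_pow_eq hk g] at h
        simpa only [Cfsg.centralChar, hτk, one_pow] using h
      have hcard : ∀ j : ℕ, ∀ ψ : IrrCharacter G, ψ ∈ B → (τ ^ j) ψ ∈ B := by
        intro j
        induction j with
        | zero => exact fun ψ h => h
        | succ j ih => exact fun ψ h => by rw [pow_succ, Equiv.Perm.mul_apply]; exact ih _ (hone ψ h)
      refine fun ψ => ⟨fun h => ?_, hone ψ⟩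
      obtain ⟨j, hj⟩ : ∃ j, 2 ^ e = j + 1 := ⟨2 ^ e - 1, by
        have := Nat.two_pow_pos e; omega⟩
      have h' := hcard j _ h
      rwa [← Equiv.Perm.mul_apply, ← pow_succ, ← hj, hτe] at h'
    set aB := Cfsg.blockCoeff B with haB
    have key : ∀ φ : IrrCharacter N, (∀ n : N, (φ : N → ℂ) (n ^ k) = (φ : N → ℂ) n) →
        ∀ χ₁ : IrrCharacter G, (∀ g : G, (χ₁ : G → ℂ) (g ^ k) = (χ₁ : G → ℂ) g) →
        classInner (fun n : N => (χ₁ : G → ℂ) n) (φ : N → ℂ) ≠ 0 →
        ∃ r w : ℕ, (r : ℂ) = (N.index : ℂ) * Blocks.omega (φ : N → ℂ) (fun n : N => aB n) ∧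
          classInner (fun n : N => (χ₁ : G → ℂ) n) (φ : N → ℂ) * (χ₁ : G → ℂ) 1 =
            (φ : N → ℂ) 1 * w ∧
          (χ₁ ∉ B → 2 ∣ r) ∧ (χ₁ ∈ B → (r : ℤ) % 2 = (w : ℤ) % 2) := by
      intro φ hφ χ₁ hχ₁ hover₁
      have hfixφ : SigmaFixed σ (φ : N → ℂ) := fun n => by
        rw [galois_apply_pow σ hσ (IsIrr.isCharacter φ.2)
          ((orderOf_dvd_natCard n).trans (Subgroup.card_subgroup_dvd_card N)), hφ]
      obtain ⟨ω₀, -, huniq⟩ := exists_unique_fixed_over N hσ dvd_rfl hidx hN1 φ.2 hfixφ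
      have hw : ∀ ψ : IrrCharacter G, ∃ w : ℕ,
          classInner (fun n : N => (ψ : G → ℂ) n) (φ : N → ℂ) * (ψ : G → ℂ) 1 =
            (φ : N → ℂ) 1 * w := by
        intro ψ
        by_cases h0 : classInner (fun n : N => (ψ : G → ℂ) n) (φ : N → ℂ) = 0
        · exact ⟨0, by rw [h0]; simp⟩
        · obtain ⟨e', he'⟩ := classInner_isCharacter_eq_natCast
            (isCharacter_res N (IsIrr.isCharacter ψ.2)) (IsIrr.isCharacter φ.2)
          obtain ⟨r', hr', -⟩ := ProjExt.exists_ratio_dvd_index ψ.2 φ.2 h0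
          exact ⟨e' * r', by rw [he', hr']; push_cast; ring⟩
      choose w hw using hw
      refine ⟨∑ ψ : IrrCharacter G, if ψ ∈ B then w ψ else 0, w χ₁, ?_, hw χ₁, ?_⟩
      · have hφ1 := IsIrr.one_ne_zero φ.2
        refine mul_left_cancel₀ hφ1 ?_
        rw [Blocks.omega, Nat.cast_sum, Finset.mul_sum, mul_left_comm,
          mul_div_cancel₀ _ hφ1, haB]
        simp only [Blocks.blockCoeff_eq_sum B, mul_assoc, Finset.sum_mul]
        simp only [Finset.mul_sum]
        conv_rhs => rw [Finset.sum_comm]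
        refine Finset.sum_congr rfl fun ψ _ => ?_
        by_cases hψ : ψ ∈ B
        · simp only [if_pos hψ]
          rw [← hw ψ]
          have hcs : classInner (fun n : N => (ψ : G → ℂ) n) (φ : N → ℂ) =
              classInner (φ : N → ℂ) (fun n : N => (ψ : G → ℂ) n) := by
            obtain ⟨e', he'⟩ := classInner_isCharacter_eq_natCast
              (isCharacter_res N (IsIrr.isCharacter ψ.2)) (IsIrr.isCharacter φ.2)
            have h := classInner_conj_symm (φ := fun n : N => (ψ : G → ℂ) n) (ψ := (φ : N → ℂ))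
            rw [he', Complex.conj_natCast] at h
            exact he'.trans h
          rw [hcs, classInner]
          have hcard : (Nat.card G : ℂ) = (Nat.card N : ℂ) * (N.index : ℂ) := by
            rw [← Nat.cast_mul, Subgroup.card_mul_index]
          rw [hcard, Finset.mul_sum, Finset.sum_mul]
          refine Finset.sum_congr rfl fun n _ => ?_
          have h1 : (Nat.card N : ℂ) ≠ 0 := Nat.cast_ne_zero.2 Nat.card_pos.ne'
          have h2 : (N.index : ℂ) ≠ 0 := Nat.cast_ne_zero.2 Subgroup.index_ne_zero_of_finite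
          field_simp
        · simp [hψ]
      · -- parity
        let P := Subgroup.zpowers τ
        have hP : IsPGroup 2 P := fun x => ⟨e, by
          obtain ⟨i, hi⟩ := Subgroup.mem_zpowers_iff.1 x.2
          refine Subtype.ext ?_
          rw [SubmonoidClass.coe_pow, ← hi, ← zpow_natCast, zpow_comm, zpow_natCast, hτe, one_zpow,
            OneMemClass.coe_one]⟩
        let W : IrrCharacter G → ℕ := fun ψ => if ψ ∈ B ∧ ψ ≠ χ₁ then w ψ else 0
        have hτ₁ : τ χ₁ = χ₁ := Subtype.ext (funext fun g => by rw [hτk, hχ₁])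
        have hWτ : ∀ ψ, W (τ ψ) = W ψ := by
          intro ψ
          have hne : τ ψ ≠ χ₁ ↔ ψ ≠ χ₁ := by
            refine not_congr ⟨fun h => τ.injective (h.trans hτ₁.symm), fun h => h ▸ hτ₁⟩
          have hwτ : w (τ ψ) = w ψ := by
            have hi : classInner (fun n : N => ((τ ψ : IrrCharacter G) : G → ℂ) n) (φ : N → ℂ) =
                σ (classInner (fun n : N => (ψ : G → ℂ) n) (φ : N → ℂ)) := by
              rw [← classInner_map σ (IsIrr.isCharacter φ.2),
                show (fun n : N => σ ((φ : N → ℂ) n)) = (φ : N → ℂ) from funext hfixφ]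
              simp only [hτσ]
            obtain ⟨e', he'⟩ := classInner_isCharacter_eq_natCast
              (isCharacter_res N (IsIrr.isCharacter ψ.2)) (IsIrr.isCharacter φ.2)
            have h1 := hw (τ ψ)
            rw [hi, he', map_natCast, hτk, one_pow, ← he', hw ψ] at h1
            exact (Nat.cast_injective (R := ℂ) (mul_left_cancel₀ (IsIrr.one_ne_zero φ.2) h1)).symm
          simp only [W, hτB, hne, hwτ]
        have hWP : ∀ (g : P) ψ, W (g • ψ) = W ψ := by
          rintro ⟨g, hg⟩ ψ
          obtain ⟨j, -, rfl⟩ := Submonoid.mem_powers_iff g τ |>.1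
            ((isOfFinOrder_of_finite τ).mem_powers_iff_mem_zpowers.2 hg) |> fun ⟨j, hj⟩ =>
              (⟨j, trivial, hj⟩ : ∃ j, True ∧ τ ^ j = g)
          show W ((τ ^ j) ψ) = W ψ
          induction j with
          | zero => rfl
          | succ j ih =>
            rw [pow_succ', Equiv.Perm.mul_apply, hWτ]
            exact ih (pow_mem (Subgroup.mem_zpowers τ) j)
        have hdvd := ProjExt.dvd_sum_of_fixed hP W hWP fun ψ hψ => by
          by_cases hne : W ψ = 0
          · rw [hne]; exact dvd_zero _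
          · exfalso
            simp only [W, ne_eq, ite_eq_right_iff, not_forall] at hne
            obtain ⟨⟨-, hne1⟩, hw0⟩ := hne
            have hfix : τ ψ = ψ := hψ ⟨τ, Subgroup.mem_zpowers τ⟩
            have hfσ : SigmaFixed σ (ψ : G → ℂ) := fun g => by rw [← hτσ, hfix]
            have hc : classInner (fun n : N => (ψ : G → ℂ) n) (φ : N → ℂ) ≠ 0 := fun h => by
              have h1 := hw ψ
              rw [h, zero_mul] at h1
              rcases mul_eq_zero.1 h1.symm with h2 | h2
              · exact IsIrr.one_ne_zero φ.2 h2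
              · exact hw0 (Nat.cast_eq_zero.1 h2)
            have hfσ₁ : SigmaFixed σ (χ₁ : G → ℂ) := fun g => by rw [← hτσ, hτ₁]
            exact hne1 (Subtype.ext ((huniq _ ψ.2 hfσ hc).trans (huniq _ χ₁.2 hfσ₁ hover₁).symm))
        have hsplit : (∑ ψ : IrrCharacter G, if ψ ∈ B then w ψ else 0) =
            (∑ ψ, W ψ) + if χ₁ ∈ B then w χ₁ else 0 := by
          rw [← Finset.sum_ite_eq' Finset.univ χ₁ (fun ψ => if ψ ∈ B then w ψ else 0)
            |>.trans (if_pos (Finset.mem_univ _)), ← Finset.sum_add_distrib]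
          exact Finset.sum_congr rfl fun ψ _ => by
            simp only [W]; by_cases h1 : ψ ∈ B <;> by_cases h2 : ψ = χ₁ <;> simp [h1, h2]
        refine ⟨fun h => by rw [hsplit, if_neg h, add_zero]; exact hdvd, fun h => ?_⟩
        rw [hsplit, if_pos h]
        obtain ⟨c, hc⟩ := hdvd
        rw [hc]
        push_cast
        omega
    obtain ⟨r, -, hr, -, hev, -⟩ := key θ hθ χ hχ hover
    obtain ⟨r₁, w₁, hr₁, hw₁, -, hodd₁⟩ := key oneN (fun _ => rfl) one₀ (fun _ => rfl) (by
      show classInner (fun _ : N => (1 : ℂ)) (fun _ : N => (1 : ℂ)) ≠ 0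
      rw [classInner_irr_self isIrrCharacter_one]; exact one_ne_zero)
    have hw₁' : w₁ = 1 := by
      rw [show classInner (fun n : N => (one₀ : G → ℂ) n) (oneN : N → ℂ) = 1 from
        classInner_irr_self isIrrCharacter_one] at hw₁
      simp only [one₀, oneN, mul_one, one_mul] at hw₁
      exact_mod_cast hw₁.symm
    have hsb : Cfsg.SameBlock M (θ : N → ℂ) (oneN : N → ℂ) := Blocks.sameBlock_symm hθb
    have hfc : IsClassFunction N (fun n : N => aB n) := fun n s =>
      Blocks.isClassFunction_blockCoeff B (n : G) (s : G)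
    have h := Blocks.memLocalIdeal_omega_sub hM θ.2 oneN.2 hfc
      (fun n => Blocks.memLocalRing_blockCoeff hM hBb _) hsb
    have h' := Blocks.memLocalIdeal_mul_left hM (Blocks.memLocalRing_natCast hM N.index) h
    rw [mul_sub, ← hr, ← hr₁, ← Int.cast_natCast r, ← Int.cast_natCast r₁, ← Int.cast_sub,
      Blocks.memLocalIdeal_intCast_iff hM] at h'
    have h2 := hodd₁ h1B
    have h3 := hev hχB
    rw [hw₁'] at h2
    omega

end Cfsg.Agent.Char
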