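import Cfsg.Agent.Char.Perm
import Mathlib.GroupTheory.Complement

/-!
# Characters of Frobenius groups
-/

namespace Cfsg.Agent.Char

open scoped ComplexConjugate

universe u w

/-- Transport of irreducible characters along an isomorphism. -/
noncomputable def irrEquiv {G : Type u} [Group G] {H : Type w} [Group H] (e : H ≃* G) :
    IrrCharacter G ≃ IrrCharacter H where
  toFun χ := ⟨fun h => (χ : G → ℂ) (e h), (isIrrCharacter_comp_equiv e).2 χ.2⟩
  invFun ψ := ⟨fun g => (ψ : H → ℂ) (e.symm g), (isIrrCharacter_comp_equiv e.symm).2 ψ.2⟩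
  left_inv χ := Subtype.ext (funext fun g => congrArg (χ : G → ℂ) (e.apply_symm_apply g))
  right_inv ψ := Subtype.ext (funext fun h => congrArg (ψ : H → ℂ) (e.symm_apply_apply h))

variable {G : Type u} [Group G] [Finite G] {K H : Subgroup G} [hK : K.Normal]

omit hK [Finite G] in
theorem exists_mul_eq_of_sup [K.Normal] (hKH : K ⊔ H = ⊤) (g : G) :
    ∃ k ∈ K, ∃ h ∈ H, k * h = g := by
  have hg : g ∈ ((K ⊔ H : Subgroup G) : Set G) := by rw [hKH]; trivial
  rw [Subgroup.normal_mul] at hg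
  exact hg

/-- In a Frobenius group every element of a non-trivial coset of the kernel is conjugate, under
the kernel, to the complement element. -/
theorem exists_conj_of_fpf {h : G} (hfix : ∀ k ∈ K, h * k = k * h → k = 1) (c : G) (hc : c ∈ K) :
    ∃ u ∈ K, c * h = u * h * u⁻¹ := by
  let F : K → K := fun u => ⟨u * (h * (u : G)⁻¹ * h⁻¹), K.mul_mem u.2
    (hK.conj_mem _ (K.inv_mem u.2) h)⟩
  have hinj : Function.Injective F := by
    intro a b hab
    have e : (a : G) * (h * (a : G)⁻¹ * h⁻¹) = b * (h * (b : G)⁻¹ * h⁻¹) := congrArg Subtype.val hab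
    have e2 : (b : G)⁻¹ * a = 1 := by
      refine hfix _ (K.mul_mem (K.inv_mem b.2) a.2) ?_
      have e4 : (a : G) * h * (a : G)⁻¹ = b * h * (b : G)⁻¹ := by
        have e3 := congrArg (fun x => x * h) e
        simpa [mul_assoc] using e3
      calc h * ((b : G)⁻¹ * a) = (b : G)⁻¹ * (b * h * (b : G)⁻¹) * a := by group
        _ = (b : G)⁻¹ * (a * h * (a : G)⁻¹) * a := by rw [e4]
        _ = (b : G)⁻¹ * a * h := by group
    exact Subtype.ext (inv_mul_eq_one.1 e2).symm
  obtain ⟨u, hu⟩ := (Finite.injective_iff_surjective.1 hinj) ⟨c, hc⟩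
  refine ⟨u, u.2, ?_⟩
  have e : (u : G) * (h * (u : G)⁻¹ * h⁻¹) = c := congrArg Subtype.val hu
  rw [← e]; simp [mul_assoc]

/-- The inertia subgroup of a non-trivial irreducible character of a Frobenius kernel is the
kernel. -/
theorem inertia_eq_of_frobenius (hKH : K ⊔ H = ⊤)
    (hfpf : ∀ h ∈ H, h ≠ 1 → ∀ k ∈ K, h * k = k * h → k = 1) {τ : K → ℂ}
    (hτ : IsIrrCharacter K τ) (hτ1 : τ ≠ fun _ => 1) : inertia τ = K := by
  classical
  refine le_antisymm (fun g hg => ?_) (le_inertia (isClassFunction_of_isIrr hτ))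
  obtain ⟨k, hk, h, hh, rfl⟩ := exists_mul_eq_of_sup hKH g
  have hhin : conjFun h τ = τ := by
    have := (inertia τ).mul_mem ((inertia τ).inv_mem
      (le_inertia (isClassFunction_of_isIrr hτ) hk)) hg
    rwa [inv_mul_cancel_left] at this
  by_cases h1 : h = 1
  · subst h1; simpa using hk
  exfalso
  have := Fintype.ofFinite G
  let a : MulAut K := MulAut.conjNormal h
  have hσ : ∀ χ : IrrCharacter K, IsIrrCharacter K (fun x => (χ : K → ℂ) (a x)) := fun χ =>
    (isIrrCharacter_comp_equiv a).2 χ.2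
  have key := brauer_permutation (fun χ : IrrCharacter K => ⟨_, hσ χ⟩)
    (ConjClasses.map a.toMonoidHom) fun χ g g' e =>
      classFun_isConj (isClassFunction_of_isIrr χ.2) (ConjClasses.mk_eq_mk_iff_isConj.1 e)
  have honeC : Nat.card {C : ConjClasses K // ConjClasses.map a.toMonoidHom C = C} ≤ 1 := by
    have : Finite (ConjClasses K) := Quotient.finite _
    refine Finite.card_le_one_iff_subsingleton.2 ⟨?_⟩
    have hall : ∀ E : {C : ConjClasses K // ConjClasses.map a.toMonoidHom C = C},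
        E.1 = ConjClasses.mk 1 := by
      rintro ⟨E, hE⟩
      obtain ⟨x, rfl⟩ := ConjClasses.mk_surjective E
      obtain ⟨c, hc⟩ := isConj_iff.1 (ConjClasses.mk_eq_mk_iff_isConj.1 hE).symm
      have hc' : (c : G) * x * (c : G)⁻¹ = h * x * h⁻¹ := congrArg Subtype.val hc
      obtain ⟨u, hu, hcu⟩ := exists_conj_of_fpf (hfpf h hh h1) ((c : G)⁻¹) (K.inv_mem c.2)
      have hcomm : h * ((u⁻¹ * x * u : G)) = u⁻¹ * x * u * h := by
        have e1 : ((c : G)⁻¹ * h) * x = x * ((c : G)⁻¹ * h) := by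
          rw [mul_assoc, show h * (x : G) = (h * x * h⁻¹) * h by group, ← hc']
          group
        rw [hcu] at e1
        have e2 := congrArg (fun t => u⁻¹ * t * u) e1
        simpa [mul_assoc] using e2
      have hx1 := hfpf h hh h1 _ (K.mul_mem (K.mul_mem (K.inv_mem hu) x.2) hu) hcomm
      show ConjClasses.mk x = _
      congr 1
      apply Subtype.ext
      show (x : G) = 1
      calc (x : G) = u * (u⁻¹ * x * u) * u⁻¹ := by group
        _ = 1 := by rw [hx1]; group
    intro C D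
    exact Subtype.ext ((hall C).trans (hall D).symm)
  rw [← key] at honeC
  have := Finite.card_le_one_iff_subsingleton.1 honeC
  refine hτ1 ?_
  have e := Subsingleton.elim
    (⟨⟨τ, hτ⟩, Subtype.ext hhin⟩ : {χ : IrrCharacter K // (⟨_, hσ χ⟩ : IrrCharacter K) = χ})
    ⟨⟨fun _ => 1, isIrrCharacter_one⟩, rfl⟩
  exact congrArg (fun z => (z.1 : K → ℂ)) e

theorem isIrr_indFun_frobenius [Fintype G] (hKH : K ⊔ H = ⊤)
    (hfpf : ∀ h ∈ H, h ≠ 1 → ∀ k ∈ K, h * k = k * h → k = 1) {τ : K → ℂ}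
    (hτ : IsIrrCharacter K τ) (hτ1 : τ ≠ fun _ => 1) : IsIrrCharacter G (indFun K τ) := by
  have := Fintype.ofFinite K
  exact isIrr_indFun_of_inertia hτ (inertia_eq_of_frobenius hKH hfpf hτ hτ1)

/-- Class counting in a Frobenius group. -/
theorem card_conjClasses_frobenius (hcap : K ⊓ H = ⊥) (hKH : K ⊔ H = ⊤)
    (hfpf : ∀ h ∈ H, h ≠ 1 → ∀ k ∈ K, h * k = k * h → k = 1) :
    Nat.card H * Nat.card (ConjClasses G) + 1 =
      Nat.card H * Nat.card (ConjClasses H) + Nat.card (ConjClasses K) := by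
  classical
  have := Fintype.ofFinite G
  have := Fintype.ofFinite K
  have hbij : Function.Bijective ((QuotientGroup.mk' K).comp H.subtype) := by
    refine ⟨fun a b hab => Subtype.ext ?_, fun q => ?_⟩
    · have hab' : (a : G)⁻¹ * b ∈ K := QuotientGroup.eq.1 hab
      have : (a : G)⁻¹ * b ∈ K ⊓ H := ⟨hab', H.mul_mem (H.inv_mem a.2) b.2⟩
      rw [hcap, Subgroup.mem_bot] at this
      exact inv_mul_eq_one.1 this
    · obtain ⟨g, rfl⟩ := QuotientGroup.mk_surjective q
      obtain ⟨k, hk, h, hh, rfl⟩ := exists_mul_eq_of_sup hKH g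
      refine ⟨⟨h, hh⟩, QuotientGroup.eq.2 ?_⟩
      simpa [mul_assoc] using hK.conj_mem k hk h⁻¹
  let e : H ≃* G ⧸ K := MulEquiv.ofBijective _ hbij
  have hidx : K.index = Nat.card H := by
    rw [Subgroup.index_eq_card]; exact (Nat.card_congr e.toEquiv).symm
  let P : IrrCharacter G → Prop := fun χ => ∀ n ∈ K, (χ : G → ℂ) n = (χ : G → ℂ) 1
  have hP : Nat.card {χ // P χ} = Nat.card (ConjClasses H) := by
    rw [← card_irrCharacter, Nat.card_congr (irrEquiv e).symm, Nat.card_congr (quotientEquiv K)]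
  let one' : IrrCharacter K := ⟨fun _ => 1, isIrrCharacter_one⟩
  have hne : ∀ τ : {τ : IrrCharacter K // τ ≠ one'}, (τ.1 : K → ℂ) ≠ fun _ => 1 :=
    fun τ h => τ.2 (Subtype.ext h)
  have hirr := fun τ : {τ : IrrCharacter K // τ ≠ one'} =>
    isIrr_indFun_frobenius hKH hfpf τ.1.2 (hne τ)
  have hnP : ∀ τ : {τ : IrrCharacter K // τ ≠ one'}, ¬ P ⟨_, hirr τ⟩ := by
    intro τ hh
    have hc : classInner (fun n : K => indFun K (τ.1 : K → ℂ) n) (τ.1 : K → ℂ) ≠ 0 := by
      rw [← classInner_indFun_right K _ (isClassFunction_indFun K _),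
        classInner_irr_self (hirr τ)]
      exact one_ne_zero
    have h1 := fun n : K => IsChar.constituent_kernel
      (isCharacter_res K (IsIrr.isCharacter (hirr τ))) τ.1.2 hc (g := n)
      ((hh n n.2).trans (by simp))
    obtain ⟨d, hd0, hd⟩ := IsIrr.degree τ.1.2
    have hz := classInner_irr_ne τ.1.2 isIrrCharacter_one (hne τ)
    simp only [classInner, map_one, mul_one, h1, Finset.sum_const, Finset.card_univ,
      nsmul_eq_mul, hd, mul_eq_zero, inv_eq_zero, Nat.cast_eq_zero, Fintype.card_ne_zero,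
      Nat.card_pos.ne', false_or] at hz
    omega
  let F : {τ : IrrCharacter K // τ ≠ one'} → {χ // ¬ P χ} := fun τ => ⟨_, hnP τ⟩
  have hfib : ∀ χ : {χ // ¬ P χ}, (Finset.univ.filter fun τ => F τ = χ).card = Nat.card H := by
    rintro ⟨χ, hχ⟩
    obtain ⟨φ, hφ⟩ := exists_constituent_res (N := K) χ.2
    have hφ1 : φ ≠ one' := by
      intro he
      subst he
      have hcl := clifford χ.2 one'.2 hφ
      have horb : orbit (one' : K → ℂ) = {(one' : K → ℂ)} := by
        ext ψ
        simp only [mem_orbit, Finset.mem_singleton]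
        exact ⟨fun ⟨g, hg⟩ => hg ▸ rfl, fun h => ⟨1, by rw [h, conjFun_one]⟩⟩
      rw [horb, Finset.sum_singleton] at hcl
      exact hχ fun n hn => (congrFun hcl ⟨n, hn⟩).trans (congrFun hcl 1).symm
    have hFφ : F ⟨φ, hφ1⟩ = ⟨χ, hχ⟩ := by
      apply Subtype.ext; apply Subtype.ext
      show indFun K (φ : K → ℂ) = (χ : G → ℂ)
      by_contra hne'
      have h0 := classInner_irr_ne (hirr ⟨φ, hφ1⟩) χ.2 hne'
      rw [classInner_indFun_left K _ (isClassFunction_of_isIrr χ.2), ← classInner_conj_symm,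
        map_eq_zero] at h0
      exact hφ h0
    rw [← hidx, ← congrArg Subgroup.index (inertia_eq_of_frobenius hKH hfpf φ.2 (hne ⟨φ, hφ1⟩)),
      ← card_orbit]
    refine Finset.card_bij (fun τ _ => (τ.1 : K → ℂ)) (fun τ hτ => ?_)
      (fun a _ b _ h => Subtype.ext (Subtype.ext h)) (fun ψ hψ => ?_)
    · have hτ' : indFun K (τ.1 : K → ℂ) = (χ : G → ℂ) :=
        congrArg (fun z : {χ // ¬ P χ} => (z.1 : G → ℂ)) (Finset.mem_filter.1 hτ).2
      refine constituent_mem_orbit χ.2 φ.2 τ.1.2 hφ ?_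
      rw [← classInner_indFun_right K _ (isClassFunction_of_isIrr χ.2), hτ',
        classInner_irr_self χ.2]
      exact one_ne_zero
    · obtain ⟨g, rfl⟩ := mem_orbit.1 hψ
      have hψ1 : (⟨conjFun g (φ : K → ℂ), isIrr_conjFun g φ.2⟩ : IrrCharacter K) ≠ one' :=
        fun h => hφ1 (Subtype.ext (conjFun_injective g
          ((congrArg Subtype.val h).trans rfl)))
      refine ⟨⟨_, hψ1⟩, Finset.mem_filter.2 ⟨Finset.mem_univ _, ?_⟩, rfl⟩
      rw [← hFφ]
      apply Subtype.ext; apply Subtype.ext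
      show indFun K (conjFun g (φ : K → ℂ)) = indFun K (φ : K → ℂ)
      by_contra hne'
      have h0 := classInner_irr_ne (hirr ⟨_, hψ1⟩) (hirr ⟨φ, hφ1⟩) hne'
      rw [classInner_indFun_indFun (isIrr_conjFun g φ.2) φ.2, mul_eq_zero, inv_eq_zero,
        Nat.cast_eq_zero, Nat.cast_eq_zero] at h0
      rcases h0 with h0 | h0
      · exact Nat.card_pos.ne' h0
      · have : Nonempty {x : G // conjFun x (conjFun g (φ : K → ℂ)) = φ} :=
          ⟨⟨g⁻¹, conjFun_inv_cancel g _⟩⟩
        exact Nat.card_pos.ne' h0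
  have hcountK : Nat.card (IrrCharacter K) = Nat.card {τ : IrrCharacter K // τ ≠ one'} + 1 := by
    rw [Nat.card_eq_fintype_card (α := {τ : IrrCharacter K // τ ≠ one'}),
      Fintype.card_subtype_compl, Fintype.card_subtype_eq, Nat.card_eq_fintype_card]
    have : 0 < Fintype.card (IrrCharacter K) := Fintype.card_pos_iff.2 ⟨one'⟩
    omega
  have hcountτ : Nat.card {τ : IrrCharacter K // τ ≠ one'} = Nat.card H * Nat.card {χ // ¬ P χ} := by
    rw [Nat.card_eq_fintype_card (α := {τ : IrrCharacter K // τ ≠ one'}), ← Finset.card_univ,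
      Finset.card_eq_sum_card_fiberwise (f := F) (t := Finset.univ) (fun _ _ => Finset.mem_univ _),
      Finset.sum_congr rfl fun χ _ => hfib χ, Finset.sum_const, Finset.card_univ, smul_eq_mul,
      Nat.card_eq_fintype_card (α := {χ // ¬ P χ}), mul_comm]
  have hsplit : Nat.card (IrrCharacter G) = Nat.card {χ // P χ} + Nat.card {χ // ¬ P χ} := by
    rw [← Nat.card_congr (Equiv.sumCompl P), Nat.card_sum]
  rw [← card_irrCharacter, hsplit, hP, ← card_irrCharacter (G := K), hcountK, hcountτ, mul_add]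
  ring

end Cfsg.Agent.Char
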