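import Cfsg.Agent.Char.Clifford
import Cfsg.Agent.Char.Linear
import Cfsg.Agent.Blocks.Congr
import Cfsg.Agent.Char.Galois
import Cfsg.Agent.Invol.BaerSuzuki
import Cfsg.Agent.Core.FrobeniusGroup
import Cfsg.Agent.Core.PCore
import Cfsg.Agent.Fusion.PGroup

/-!
# Characters vanishing on all but two conjugacy classes
-/

namespace Cfsg.Agent.Char

open scoped ComplexConjugate

universe u

variable {G : Type u} [Group G] [Fintype G]

/-- The hypothesis that `χ` is non-zero on exactly two classes, with a representative. -/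
structure Gagola (χ : IrrCharacter G) (x : G) : Prop where
  card : 2 < Nat.card G
  ne_one : x ≠ 1
  support : ∀ g : G, (χ : G → ℂ) g ≠ 0 ↔ g = 1 ∨ IsConj x g

omit [Fintype G] in
theorem ncard_carrier_mul [Finite G] (z : G) :
    (ConjClasses.mk z).carrier.ncard * Nat.card (Subgroup.centralizer ({z} : Set G)) =
      Nat.card G := by
  have h1 := MulAction.index_stabilizer (ConjAct G) z
  rw [ConjAct.orbit_eq_carrier_conjClasses] at h1
  rw [← h1, Subgroup.nat_card_centralizer_nat_card_stabilizer z, mul_comm]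
  exact Subgroup.card_mul_index _

omit [Fintype G] in
theorem ncard_carrier [Finite G] (z : G) :
    (ConjClasses.mk z).carrier.ncard = (Subgroup.centralizer ({z} : Set G)).index := by
  refine Nat.eq_of_mul_eq_mul_right (Nat.card_pos (α := Subgroup.centralizer ({z} : Set G))) ?_
  rw [ncard_carrier_mul, mul_comm, Subgroup.card_mul_index]

theorem exists_gagola (hG : 2 < Nat.card G) (χ : IrrCharacter G)
    (hχ : Nat.card {C : ConjClasses G // ∃ g ∈ C.carrier, (χ : G → ℂ) g ≠ 0} = 2) :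
    ∃ x, Gagola χ x := by
  have hcl := isClassFunction_of_isIrr χ.2
  let one' : {C : ConjClasses G // ∃ g ∈ C.carrier, (χ : G → ℂ) g ≠ 0} :=
    ⟨ConjClasses.mk 1, 1, ConjClasses.mem_carrier_mk, IsIrr.one_ne_zero χ.2⟩
  obtain ⟨c, hc, hcu⟩ := (Nat.card_eq_two_iff' one').1 hχ
  obtain ⟨x, hx, hx0⟩ := c.2
  have hcx : (c : ConjClasses G) = ConjClasses.mk x := (ConjClasses.mem_carrier_iff_mk_eq.1 hx).symm
  refine ⟨x, hG, fun h => hc (Subtype.ext (by rw [hcx, h])), fun g => ⟨fun hg => ?_, ?_⟩⟩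
  · by_cases h1 : ConjClasses.mk g = ConjClasses.mk 1
    · exact Or.inl (isConj_one_left.1 (ConjClasses.mk_eq_mk_iff_isConj.1 h1))
    · have := hcu ⟨ConjClasses.mk g, g, ConjClasses.mem_carrier_mk, hg⟩
        (fun h => h1 (congrArg Subtype.val h))
      exact Or.inr (ConjClasses.mk_eq_mk_iff_isConj.1 ((congrArg Subtype.val this).trans hcx)).symm
  · rintro (rfl | h)
    · exact IsIrr.one_ne_zero χ.2
    · rwa [← classFun_isConj hcl h]

namespace Gagola

variable {χ : IrrCharacter G} {x : G}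

theorem value_eq (h : Gagola χ x) {g : G} (hg : IsConj x g) :
    (χ : G → ℂ) g = (χ : G → ℂ) x :=
  (classFun_isConj (isClassFunction_of_isIrr χ.2) hg).symm

theorem exists_not_support (h : Gagola χ x) : ∃ g : G, g ≠ 1 ∧ ¬ IsConj x g := by
  classical
  by_contra! hc
  set c := (Subgroup.centralizer ({x} : Set G)).index with hcdef
  have hcar : Nat.card (ConjClasses.mk x).carrier = c := by
    rw [hcdef, ← ncard_carrier]
    exact Nat.card_coe_set_eq _
  have hcompl : Nat.card (ConjClasses.mk x).carrier = Nat.card G - 1 := by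
    rw [Nat.card_eq_fintype_card, Fintype.card_subtype,
      show (Finset.univ.filter fun g => g ∈ (ConjClasses.mk x).carrier) = Finset.univ.erase 1 from ?_,
      Finset.card_erase_of_mem (Finset.mem_univ _), Finset.card_univ, Nat.card_eq_fintype_card]
    ext g
    simp only [Finset.mem_filter, Finset.mem_univ, true_and, Finset.mem_erase, and_true,
      ConjClasses.mem_carrier_iff_mk_eq, ConjClasses.mk_eq_mk_iff_isConj]
    exact ⟨fun hg e => h.ne_one (isConj_one_left.1 (e ▸ hg.symm : IsConj x 1)),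
      fun hg => (hc g hg).symm⟩
  have hdvd : c ∣ Nat.card G := Subgroup.index_dvd_card _
  rw [← hcar, hcompl] at hdvd
  have h2 : Nat.card G - 1 ∣ 1 := by
    have h3 := Nat.dvd_sub hdvd (dvd_refl (Nat.card G - 1))
    rwa [Nat.sub_sub_self (by have := h.card; omega)] at h3
  have := Nat.le_of_dvd one_pos h2
  have := h.card
  omega

theorem degree_ne_one (h : Gagola χ x) : (χ : G → ℂ) 1 ≠ 1 := by
  intro h1
  obtain ⟨f, hf⟩ := IsChar.exists_hom (IsIrr.isCharacter χ.2) h1
  obtain ⟨g, hg1, hgc⟩ := h.exists_not_support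
  rcases (h.support g).1 (by rw [hf]; exact (f g).ne_zero) with h' | h'
  · exact hg1 h'
  · exact hgc h'

theorem kernel (h : Gagola χ x) (ψ : IrrCharacter G) (hψ : ψ ≠ χ) :
    (ψ : G → ℂ) x = (ψ : G → ℂ) 1 := by
  classical
  set K := Finset.univ.filter fun g : G => IsConj x g with hK
  have key : ∀ φ : IrrCharacter G, φ ≠ χ →
      (χ : G → ℂ) 1 * conj ((φ : G → ℂ) 1) +
        (K.card : ℂ) * ((χ : G → ℂ) x * conj ((φ : G → ℂ) x)) = 0 := by
    intro φ hφ
    have h0 := classInner_irr_ne χ.2 φ.2 fun e => hφ (Subtype.ext e.symm)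
    rw [classInner, mul_eq_zero, inv_eq_zero] at h0
    have h1 : (1 : G) ∉ K := by
      simp only [hK, Finset.mem_filter, Finset.mem_univ, true_and]
      exact fun e => h.ne_one (isConj_one_left.1 e)
    rw [← Finset.sum_subset (Finset.subset_univ (insert 1 K)) fun g _ hg => ?_,
      Finset.sum_insert h1, Finset.sum_congr rfl fun g hg => by
        rw [h.value_eq (Finset.mem_filter.1 hg).2, ← classFun_isConj (isClassFunction_of_isIrr φ.2)
          (Finset.mem_filter.1 hg).2], Finset.sum_const, nsmul_eq_mul] at h0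
    · exact h0.resolve_left card_ne_zero
    · have hg0 : (χ : G → ℂ) g = 0 := by
        by_contra hne
        rcases (h.support g).1 hne with h' | h'
        · exact hg (Finset.mem_insert.2 (Or.inl h'))
        · exact hg (Finset.mem_insert_of_mem (Finset.mem_filter.2 ⟨Finset.mem_univ _, h'⟩))
      rw [hg0, zero_mul]
  have hone : (⟨fun _ => 1, isIrrCharacter_one⟩ : IrrCharacter G) ≠ χ := fun e =>
    h.degree_ne_one (congrArg (fun φ : IrrCharacter G => (φ : G → ℂ) 1) e).symm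
  have h1 := key _ hone
  simp only [map_one, mul_one] at h1
  have h2 := key ψ hψ
  have h3 : (χ : G → ℂ) 1 * (conj ((ψ : G → ℂ) 1) - conj ((ψ : G → ℂ) x)) = 0 := by
    linear_combination h2 - conj ((ψ : G → ℂ) x) * h1
  exact ((starRingEnd ℂ).injective
    (sub_eq_zero.1 ((mul_eq_zero.1 h3).resolve_left (IsIrr.one_ne_zero χ.2)))).symm

/-- The support is a normal subgroup, lying in the kernel of all other characters. -/
theorem exists_subgroup (h : Gagola χ x) :
    ∃ N : Subgroup G, N.Normal ∧ (∀ g, g ∈ N ↔ (χ : G → ℂ) g ≠ 0) ∧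
      ∀ g ∈ N, ∀ ψ : IrrCharacter G, ψ ≠ χ → (ψ : G → ℂ) g = (ψ : G → ℂ) 1 := by
  classical
  set N : Subgroup G := ⨅ ψ : {ψ : IrrCharacter G // ψ ≠ χ},
    kerSubgroup (IsIrr.isCharacter ψ.1.2) with hN
  have hmem : ∀ g, g ∈ N ↔ ∀ ψ : IrrCharacter G, ψ ≠ χ → (ψ : G → ℂ) g = (ψ : G → ℂ) 1 :=
    fun g => by simp [hN, Subgroup.mem_iInf]
  have hn : N.Normal := Subgroup.normal_iInf_normal fun ψ => inferInstance
  refine ⟨N, hn, fun g => ⟨fun hg => ?_, fun hg => ?_⟩, fun g hg => (hmem g).1 hg⟩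
  · by_cases hg1 : g = 1
    · exact hg1 ▸ IsIrr.one_ne_zero χ.2
    intro h0
    have h1 := regular_eq_sum g
    rw [if_neg hg1, ← Finset.add_sum_erase _ _ (Finset.mem_univ χ), h0, mul_zero, zero_add,
      Finset.sum_congr rfl fun ψ hψ => by
        rw [(hmem g).1 hg ψ (Finset.ne_of_mem_erase hψ), ← sq]] at h1
    let one₀ : IrrCharacter G := ⟨fun _ => 1, isIrrCharacter_one⟩
    have hpos : 0 < ∑ ψ ∈ Finset.univ.erase χ, (Cfsg.charDegree (ψ : G → ℂ)) ^ 2 := by
      refine Finset.sum_pos' (fun _ _ => Nat.zero_le _) ⟨one₀, Finset.mem_erase.2 ⟨fun e =>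
        h.degree_ne_one (congrArg (fun φ : IrrCharacter G => (φ : G → ℂ) 1) e).symm,
        Finset.mem_univ _⟩, ?_⟩
      obtain ⟨n, hn0, hn⟩ := IsIrr.degree one₀.2
      rw [Blocks.charDegree_eq hn]
      exact pow_pos (Nat.pos_of_ne_zero (by omega)) 2
    have hc : ((∑ ψ ∈ Finset.univ.erase χ, (Cfsg.charDegree (ψ : G → ℂ)) ^ 2 : ℕ) : ℂ) = 0 := by
      push_cast
      refine Eq.trans (Finset.sum_congr rfl fun ψ _ => ?_) h1
      obtain ⟨n, -, hn⟩ := IsIrr.degree ψ.2
      rw [Blocks.charDegree_eq hn, hn]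
    exact hpos.ne' (Nat.cast_eq_zero.1 hc)
  · rcases (h.support g).1 hg with rfl | hc
    · exact N.one_mem
    · exact (hmem g).2 fun ψ hψ => by
        rw [← classFun_isConj (isClassFunction_of_isIrr ψ.2) hc]; exact h.kernel ψ hψ

theorem faithful (h : Gagola χ x) {g : G} (hg : (χ : G → ℂ) g = (χ : G → ℂ) 1) : g = 1 := by
  refine ((h.support g).1 (by rw [hg]; exact IsIrr.one_ne_zero χ.2)).resolve_right fun hc => ?_
  refine h.ne_one (eq_one_of_forall_irr fun ψ => ?_)
  by_cases hψ : ψ = χ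
  · rw [hψ, ← hg]; exact (h.value_eq hc).symm
  · exact h.kernel ψ hψ

theorem eq_of_faithful (h : Gagola χ x) {ψ : IrrCharacter G}
    (hψ : ∀ g : G, (ψ : G → ℂ) g = (ψ : G → ℂ) 1 → g = 1) : ψ = χ :=
  by_contra fun hne => h.ne_one (hψ x (h.kernel ψ hne))

section Subgroup

variable {N : Subgroup G}

theorem conj_of_mem (h : Gagola χ x) (hN : ∀ g, g ∈ N ↔ (χ : G → ℂ) g ≠ 0) {a : G} (ha : a ∈ N)
    (ha1 : a ≠ 1) : IsConj x a :=
  ((h.support a).1 ((hN a).1 ha)).resolve_left ha1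

theorem mem_x (h : Gagola χ x) (hN : ∀ g, g ∈ N ↔ (χ : G → ℂ) g ≠ 0) : x ∈ N :=
  (hN x).2 ((h.support x).2 (Or.inr (IsConj.refl x)))

theorem le_of_normal (h : Gagola χ x) (hN : ∀ g, g ∈ N ↔ (χ : G → ℂ) g ≠ 0) {K : Subgroup G}
    [K.Normal] (hK : K ≠ ⊥) : N ≤ K := by
  intro a ha
  by_cases ha1 : a = 1
  · exact ha1 ▸ K.one_mem
  suffices hx : x ∈ K by
    obtain ⟨g, hg⟩ := isConj_iff.1 (h.conj_of_mem hN ha ha1)
    exact hg ▸ (inferInstance : K.Normal).conj_mem x hx g
  by_contra hx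
  have hq : (QuotientGroup.mk x : G ⧸ K) ≠ 1 := fun e => hx ((QuotientGroup.eq_one_iff x).1 e)
  obtain ⟨φ, hne⟩ := exists_irr_ne_at_one hq
  set ψ : IrrCharacter G := ⟨_, isIrrCharacter_mk K φ.2⟩ with hψ
  have hψχ : ψ = χ := by
    by_contra e
    exact hne (h.kernel ψ e)
  obtain ⟨b, hb, hb1⟩ := (Subgroup.ne_bot_iff_exists_ne_one.1 hK) |> fun ⟨b, hb⟩ =>
    (⟨b.1, b.2, fun e => hb (Subtype.ext e)⟩ : ∃ b, b ∈ K ∧ b ≠ 1)
  refine hb1 (h.faithful ?_)
  rw [← hψχ]
  show (φ : G ⧸ K → ℂ) (QuotientGroup.mk b) = (φ : G ⧸ K → ℂ) (QuotientGroup.mk 1)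
  rw [(QuotientGroup.eq_one_iff b).2 hb]
  rfl

theorem ker_iff (h : Gagola χ x) (hN : ∀ g, g ∈ N ↔ (χ : G → ℂ) g ≠ 0) (ψ : IrrCharacter G) :
    (∀ n ∈ N, (ψ : G → ℂ) n = (ψ : G → ℂ) 1) ↔ ψ ≠ χ := by
  refine ⟨fun hker e => h.ne_one (h.faithful ?_), fun hψ n hn => ?_⟩
  · rw [← e]; exact hker x (h.mem_x hN)
  · by_cases hn1 : n = 1
    · rw [hn1]
    · rw [← classFun_isConj (isClassFunction_of_isIrr ψ.2) (h.conj_of_mem hN hn hn1)]
      exact h.kernel ψ hψ

theorem card_centralizer_quotient (h : Gagola χ x) [N.Normal]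
    (hN : ∀ g, g ∈ N ↔ (χ : G → ℂ) g ≠ 0) {y : G} (hy : y ∉ N) :
    Nat.card (Subgroup.centralizer ({y} : Set G)) =
      Nat.card (Subgroup.centralizer ({(y : G ⧸ N)} : Set (G ⧸ N))) := by
  classical
  have := Fintype.ofFinite (G ⧸ N)
  have h1 := second_orthogonality y y
  have h2 := second_orthogonality (G := G ⧸ N) (y : G ⧸ N) (y : G ⧸ N)
  rw [if_pos (IsConj.refl _)] at h1 h2
  have hχy : (χ : G → ℂ) y = 0 := by_contra fun e => hy ((hN y).2 e)
  refine Nat.cast_injective (R := ℂ) ?_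
  rw [← h1, ← h2, ← Finset.add_sum_erase _ _ (Finset.mem_univ χ), hχy, zero_mul, zero_add]
  have e : IrrCharacter (G ⧸ N) ≃ {ψ : IrrCharacter G // ψ ∈ Finset.univ.erase χ} :=
    (quotientEquiv N).trans (Equiv.subtypeEquivRight fun ψ => by simp [h.ker_iff hN])
  rw [← Finset.sum_coe_sort]
  refine (Fintype.sum_equiv ((quotientEquiv N).trans
    (Equiv.subtypeEquivRight fun ψ => by simp [h.ker_iff hN])) _ _ fun φ => ?_).symm
  rfl

theorem conj_coset (h : Gagola χ x) [N.Normal] (hN : ∀ g, g ∈ N ↔ (χ : G → ℂ) g ≠ 0) {y : G}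
    (hy : y ∉ N) {a : G} (ha : (a : G ⧸ N) = (y : G ⧸ N)) : IsConj y a := by
  classical
  have := Fintype.ofFinite (G ⧸ N)
  set T : Set G := QuotientGroup.mk ⁻¹' (ConjClasses.mk (y : G ⧸ N)).carrier with hT
  have hsub : (ConjClasses.mk y).carrier ⊆ T := by
    intro b hb
    rw [ConjClasses.mem_carrier_iff_mk_eq, ConjClasses.mk_eq_mk_iff_isConj] at hb
    rw [hT, Set.mem_preimage, ConjClasses.mem_carrier_iff_mk_eq, ConjClasses.mk_eq_mk_iff_isConj]
    exact (QuotientGroup.mk' N).map_isConj hb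
  have hcl : ∀ {H : Type u} [Group H] [Finite H] (z : H),
      (ConjClasses.mk z).carrier.ncard * Nat.card (Subgroup.centralizer ({z} : Set H)) =
        Nat.card H := by
    intro H _ _ z
    have h1 := MulAction.index_stabilizer (ConjAct H) z
    rw [ConjAct.orbit_eq_carrier_conjClasses] at h1
    rw [← h1, Subgroup.nat_card_centralizer_nat_card_stabilizer z, mul_comm]
    exact Subgroup.card_mul_index _
  have hcard : T.ncard = (ConjClasses.mk y).carrier.ncard := by
    refine Nat.eq_of_mul_eq_mul_right (Nat.card_pos (α := Subgroup.centralizer ({y} : Set G))) ?_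
    rw [hcl y, ← Nat.card_coe_set_eq, hT,
      Nat.card_congr (QuotientGroup.preimageMkEquivSubgroupProdSet N _), Nat.card_prod,
      Nat.card_coe_set_eq, mul_assoc, h.card_centralizer_quotient hN hy, hcl,
      mul_comm, ← Subgroup.card_eq_card_quotient_mul_card_subgroup]
  have heq : (ConjClasses.mk y).carrier = T :=
    Set.eq_of_subset_of_ncard_le hsub hcard.le
  have haT : a ∈ T := by
    rw [hT, Set.mem_preimage, ha]
    exact ConjClasses.mem_carrier_mk
  rw [← heq, ConjClasses.mem_carrier_iff_mk_eq, ConjClasses.mk_eq_mk_iff_isConj] at haT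
  exact haT.symm

theorem pow_prime_eq_one (h : Gagola χ x) {p : ℕ} [Fact p.Prime]
    (hN : ∀ g, g ∈ N ↔ (χ : G → ℂ) g ≠ 0) (hNp : IsPGroup p N) {a : G} (ha : a ∈ N) :
    a ^ p = 1 := by
  obtain ⟨k, hk⟩ := hNp.exists_orderOf_eq_pow (g := (⟨x, h.mem_x hN⟩ : N))
  rw [Subgroup.orderOf_mk] at hk
  have hx : x ^ p = 1 := by
    cases k with
    | zero => rw [orderOf_eq_one_iff.1 (hk.trans (pow_zero p))]; simp
    | succ k =>
      have hne : x ^ p ^ k ≠ 1 := fun e => by
        have := Nat.le_of_dvd (pow_pos (Fact.out : p.Prime).pos k) (hk ▸ orderOf_dvd_of_pow_eq_one e)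
        have := Nat.pow_lt_pow_succ (a := p) (n := k) (Fact.out : p.Prime).one_lt
        omega
      obtain ⟨c, hc⟩ := isConj_iff.1 (h.conj_of_mem hN (N.pow_mem (h.mem_x hN) _) hne)
      have h1 : (c * x * c⁻¹) ^ p = 1 := by
        rw [hc, ← pow_mul, ← pow_succ, ← hk, pow_orderOf_eq_one]
      rwa [conj_pow, conj_eq_one_iff] at h1
  by_cases ha1 : a = 1
  · simp [ha1]
  · obtain ⟨c, rfl⟩ := isConj_iff.1 (h.conj_of_mem hN ha ha1)
    rw [conj_pow, hx]; simp

theorem comm (h : Gagola χ x) [N.Normal] {p : ℕ} [Fact p.Prime]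
    (hN : ∀ g, g ∈ N ↔ (χ : G → ℂ) g ≠ 0) (hNp : IsPGroup p N) {a b : G} (ha : a ∈ N)
    (hb : b ∈ N) : a * b = b * a := by
  have hnt : Nontrivial N := ⟨⟨x, h.mem_x hN⟩, 1, fun e => h.ne_one (congrArg Subtype.val e)⟩
  obtain ⟨z, hz, hz1⟩ : ∃ z : N, z ∈ Subgroup.center N ∧ z ≠ 1 := by
    have := hNp.center_nontrivial
    obtain ⟨z, hz⟩ := exists_ne (1 : Subgroup.center N)
    exact ⟨z, z.2, fun e => hz (Subtype.ext e)⟩
  by_cases ha1 : a = 1
  · simp [ha1]
  obtain ⟨c, hc⟩ := isConj_iff.1 ((h.conj_of_mem hN z.2 (fun e => hz1 (Subtype.ext e))).symm.trans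
    (h.conj_of_mem hN ha ha1))
  have hb' : c⁻¹ * b * c ∈ N := by
    simpa using (inferInstance : N.Normal).conj_mem b hb c⁻¹
  have := congrArg Subtype.val (Subgroup.mem_center_iff.1 hz ⟨_, hb'⟩)
  simp only [Subgroup.coe_mul] at this
  rw [← hc]
  calc c * z * c⁻¹ * b = c * ((z : G) * (c⁻¹ * b * c)) * c⁻¹ := by group
    _ = b * (c * z * c⁻¹) := by rw [← this]; group

theorem isPGroup_centralizer (h : Gagola χ x) [N.Normal] {p : ℕ} [Fact p.Prime]
    (hN : ∀ g, g ∈ N ↔ (χ : G → ℂ) g ≠ 0) (hNp : IsPGroup p N) {a : G} (ha : a ∈ N) (ha1 : a ≠ 1) :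
    IsPGroup p (Subgroup.centralizer ({a} : Set G)) := by
  set C := Subgroup.centralizer ({a} : Set G) with hC
  refine IsPGroup.of_card (n := (Nat.card C).primeFactorsList.length)
    (Nat.eq_prime_pow_of_unique_prime_dvd Nat.card_pos.ne' fun {r} hr hrd => ?_)
  by_contra hne
  have : Fact r.Prime := ⟨hr⟩
  obtain ⟨y, hy⟩ := exists_prime_orderOf_dvd_card' (G := C) r hrd
  rw [← Subgroup.orderOf_coe] at hy
  have hrp : ¬ r ∣ p := fun e =>
    hne (((Nat.dvd_prime (Fact.out : p.Prime)).1 e).resolve_left hr.one_lt.ne')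
  have hyN : (y : G) ∉ N := fun hm => by
    have := orderOf_dvd_of_pow_eq_one (h.pow_prime_eq_one hN hNp hm)
    rw [hy] at this
    exact hrp this
  have hcomm : Commute (y : G) a := Subgroup.mem_centralizer_singleton_iff.1 y.2
  obtain ⟨g, hg⟩ := isConj_iff.1 (h.conj_coset hN hyN (a := (y : G) * a) (by
    rw [QuotientGroup.eq]; simpa using ha))
  have h1 : ((y : G) * a) ^ r = 1 := by
    rw [← hg, conj_pow, ← hy, pow_orderOf_eq_one, mul_one, mul_inv_cancel]
  rw [hcomm.mul_pow, ← hy, pow_orderOf_eq_one, one_mul, hy] at h1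
  have h2 := orderOf_dvd_of_pow_eq_one h1
  have h3 := orderOf_dvd_of_pow_eq_one (h.pow_prime_eq_one hN hNp ha)
  exact ha1 (orderOf_eq_one_iff.1 (Nat.eq_one_of_dvd_coprimes (hr.coprime_iff_not_dvd.2 hrp) h2 h3))

theorem index_centralizer (h : Gagola χ x) (hN : ∀ g, g ∈ N ↔ (χ : G → ℂ) g ≠ 0) {a : G}
    (ha : a ∈ N) (ha1 : a ≠ 1) :
    (Subgroup.centralizer ({a} : Set G)).index + 1 = Nat.card N := by
  classical
  have hca : IsConj x a := h.conj_of_mem hN ha ha1
  have hset : (ConjClasses.mk a).carrier = (N : Set G) \ {1} := by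
    ext b
    rw [ConjClasses.mem_carrier_iff_mk_eq, ConjClasses.mk_eq_mk_iff_isConj, Set.mem_diff,
      Set.mem_singleton_iff, SetLike.mem_coe, hN]
    refine ⟨fun hb => ?_, fun ⟨hb, hb1⟩ => ?_⟩
    · have hb' := hca.trans hb.symm
      exact ⟨(h.support b).2 (Or.inr hb'), fun e => h.ne_one (isConj_one_left.1 (e ▸ hb'))⟩
    · exact (((h.support b).1 hb).resolve_left hb1).symm.trans hca
  rw [← ncard_carrier, hset,
    Set.ncard_diff (Set.singleton_subset_iff.2 N.one_mem), Set.ncard_singleton,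
    ← Nat.card_coe_set_eq]
  have : 0 < Nat.card N := Nat.card_pos
  exact Nat.sub_add_cancel this

theorem not_dvd_index_centralizer (h : Gagola χ x) {p : ℕ} [Fact p.Prime]
    (hN : ∀ g, g ∈ N ↔ (χ : G → ℂ) g ≠ 0) (hNp : IsPGroup p N) {a : G} (ha : a ∈ N) (ha1 : a ≠ 1) :
    ¬ p ∣ (Subgroup.centralizer ({a} : Set G)).index := by
  intro hd
  obtain ⟨k, hk⟩ := IsPGroup.iff_card.1 hNp
  have h1 := h.index_centralizer hN ha ha1
  rw [hk] at h1
  cases k with
  | zero =>
    rw [pow_zero] at h1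
    have : (Subgroup.centralizer ({a} : Set G)).index ≠ 0 := Subgroup.index_ne_zero_of_finite
    omega
  | succ k =>
    have h2 : p ∣ (Subgroup.centralizer ({a} : Set G)).index + 1 := h1 ▸ dvd_pow_self p k.succ_ne_zero
    exact (Fact.out : p.Prime).not_dvd_one ((Nat.dvd_add_right hd).1 h2)

/-- The centralizer of a non-trivial element of the support is a Sylow subgroup. -/
theorem exists_sylow (h : Gagola χ x) [N.Normal] {p : ℕ} [Fact p.Prime]
    (hN : ∀ g, g ∈ N ↔ (χ : G → ℂ) g ≠ 0) (hNp : IsPGroup p N) {a : G} (ha : a ∈ N) (ha1 : a ≠ 1) :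
    ∃ P : Sylow p G, Subgroup.centralizer ({a} : Set G) = P :=
  ⟨(h.isPGroup_centralizer hN hNp ha ha1).toSylow (h.not_dvd_index_centralizer hN hNp ha ha1), rfl⟩

theorem classInner_res (h : Gagola χ x) [N.Normal] [Fintype N] {p : ℕ} [Fact p.Prime]
    (hN : ∀ g, g ∈ N ↔ (χ : G → ℂ) g ≠ 0) (hNp : IsPGroup p N) (μ : IrrCharacter N)
    (hμ : (μ : N → ℂ) ≠ fun _ => 1) :
    classInner (fun n : N => (χ : G → ℂ) n) (μ : N → ℂ) ≠ 0 := by
  classical
  have hμ1 : (μ : N → ℂ) 1 = 1 := IsIrr.degree_one_of_comm μ.2 fun a b =>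
    Subtype.ext (h.comm hN hNp a.2 b.2)
  have h0 := classInner_irr_ne μ.2 isIrrCharacter_one hμ
  simp only [classInner, map_one, mul_one, mul_eq_zero, inv_eq_zero, card_ne_zero, false_or] at h0
  have hsum : ∑ n : N, (χ : G → ℂ) n * conj ((μ : N → ℂ) n) =
      (χ : G → ℂ) 1 - (χ : G → ℂ) x := by
    have hrest : ∀ n ∈ Finset.univ.erase (1 : N), (χ : G → ℂ) n * conj ((μ : N → ℂ) n) =
        (χ : G → ℂ) x * conj ((μ : N → ℂ) n) := fun n hn => by
      rw [h.value_eq (h.conj_of_mem hN n.2 fun e => Finset.ne_of_mem_erase hn (Subtype.ext e))]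
    rw [← Finset.add_sum_erase _ _ (Finset.mem_univ (1 : N)), Finset.sum_congr rfl hrest,
      ← Finset.mul_sum, Finset.sum_erase_eq_sub (Finset.mem_univ _), ← map_sum, h0, map_zero,
      hμ1, map_one, OneMemClass.coe_one]
    ring
  rw [classInner, mul_ne_zero_iff]
  refine ⟨inv_ne_zero card_ne_zero, ?_⟩
  rw [hsum, sub_ne_zero]
  intro e
  exact h.ne_one (h.faithful e.symm)

theorem index_inertia (h : Gagola χ x) [N.Normal] [Fintype N] {p : ℕ} [Fact p.Prime]
    (hN : ∀ g, g ∈ N ↔ (χ : G → ℂ) g ≠ 0) (hNp : IsPGroup p N) (μ : IrrCharacter N)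
    (hμ : (μ : N → ℂ) ≠ fun _ => 1) :
    (inertia (G := G) (μ : N → ℂ)).index + 1 = Nat.card N := by
  classical
  let oneN : IrrCharacter N := ⟨fun _ => 1, isIrrCharacter_one⟩
  have hirr : Nat.card (IrrCharacter N) = Nat.card N := by
    rw [card_irrCharacter, card_conjClasses_eq_card_iff]
    exact fun a b => Subtype.ext (h.comm hN hNp a.2 b.2)
  have horb : ((Finset.univ.erase oneN).image fun φ : IrrCharacter N => (φ : N → ℂ)) =
      orbit (G := G) (μ : N → ℂ) := by
    ext φ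
    simp only [Finset.mem_image, Finset.mem_erase, Finset.mem_univ, and_true]
    constructor
    · rintro ⟨φ', hne, rfl⟩
      exact constituent_mem_orbit χ.2 μ.2 φ'.2 (h.classInner_res hN hNp μ hμ)
        (h.classInner_res hN hNp φ' fun e => hne (Subtype.ext e))
    · intro hφ
      obtain ⟨g, rfl⟩ := mem_orbit.1 hφ
      refine ⟨⟨_, isIrr_conjFun g μ.2⟩, fun e => hμ ?_, rfl⟩
      have e' : conjFun g (μ : N → ℂ) = fun _ => 1 := congrArg Subtype.val e
      rw [← conjFun_inv_cancel g (μ : N → ℂ), e']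
      rfl
  rw [← card_orbit, ← horb, Finset.card_image_of_injective _ Subtype.val_injective,
    Finset.card_erase_of_mem (Finset.mem_univ _), Finset.card_univ, ← Nat.card_eq_fintype_card,
    hirr]
  have : 0 < Nat.card N := Nat.card_pos
  exact Nat.sub_add_cancel this

theorem exists_sylow_inertia (h : Gagola χ x) [N.Normal] [Fintype N] {p : ℕ} [Fact p.Prime]
    (hN : ∀ g, g ∈ N ↔ (χ : G → ℂ) g ≠ 0) (hNp : IsPGroup p N) (μ : IrrCharacter N)
    (hμ : (μ : N → ℂ) ≠ fun _ => 1) :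
    ∃ P : Sylow p G, (P : Subgroup G) = inertia (G := G) (μ : N → ℂ) := by
  set I := inertia (G := G) (μ : N → ℂ)
  have hxN := h.mem_x hN
  have hidx : I.index = (Subgroup.centralizer ({x} : Set G)).index :=
    Nat.add_right_cancel ((h.index_inertia hN hNp μ hμ).trans
      (h.index_centralizer hN hxN h.ne_one).symm)
  obtain ⟨k, hk⟩ := IsPGroup.iff_card.1 (h.isPGroup_centralizer hN hNp hxN h.ne_one)
  have hI : Nat.card I = p ^ k := by
    refine Nat.eq_of_mul_eq_mul_right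
      (Nat.pos_of_ne_zero
      (Subgroup.index_ne_zero_of_finite (H := Subgroup.centralizer ({x} : Set G)))) ?_
    rw [← hk, Subgroup.card_mul_index, ← hidx, Subgroup.card_mul_index]
  exact ⟨(IsPGroup.of_card hI).toSylow (hidx ▸ h.not_dvd_index_centralizer hN hNp hxN h.ne_one), rfl⟩

theorem le_sylow [N.Normal] {p : ℕ} [Fact p.Prime] (hNp : IsPGroup p N) (P : Sylow p G) :
    N ≤ (P : Subgroup G) := by
  have hsup : IsPGroup p ↥((P : Subgroup G) ⊔ N) := P.2.to_sup_of_normal_right hNp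
  rw [← P.3 hsup le_sup_left]
  exact le_sup_right

theorem card_centralizer_bound (h : Gagola χ x) [N.Normal] {p : ℕ} [Fact p.Prime]
    (hN : ∀ g, g ∈ N ↔ (χ : G → ℂ) g ≠ 0) (hNp : IsPGroup p N) (P : Sylow p G) {z : G}
    (hz : z ∈ (P : Subgroup G)) (hzN : z ∉ N) :
    Nat.card (Subgroup.centralizer ({(⟨z, hz⟩ : (P : Subgroup G))} : Set (P : Subgroup G))) *
      Nat.card N ≤ Nat.card (P : Subgroup G) := by
  set CP := Subgroup.centralizer ({(⟨z, hz⟩ : (P : Subgroup G))} : Set (P : Subgroup G)) with hCP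
  have h1 : Nat.card CP ∣ Nat.card (Subgroup.centralizer ({z} : Set G)) := by
    rw [← Nat.card_congr (CP.equivMapOfInjective _ (P : Subgroup G).subtype_injective).symm.toEquiv]
    refine Subgroup.card_dvd_of_le ?_
    rintro _ ⟨c, hc, rfl⟩
    rw [Subgroup.mem_centralizer_singleton_iff]
    exact congrArg Subtype.val (Subgroup.mem_centralizer_singleton_iff.1 hc)
  rw [h.card_centralizer_quotient hN hzN] at h1
  have h2 : Nat.card CP * Nat.card N ∣ Nat.card G := by
    rw [Subgroup.card_eq_card_quotient_mul_card_subgroup N]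
    exact Nat.mul_dvd_mul_right (h1.trans (Subgroup.card_subgroup_dvd_card _)) _
  obtain ⟨i, hi⟩ := IsPGroup.iff_card.1 (P.2.to_subgroup CP)
  obtain ⟨j, hj⟩ := IsPGroup.iff_card.1 hNp
  rw [hi, hj, ← pow_add] at h2 ⊢
  rw [P.card_eq_multiplicity]
  exact Nat.pow_le_pow_right (Fact.out : p.Prime).pos
    (((Fact.out : p.Prime).pow_dvd_iff_le_factorization Nat.card_pos.ne').1 h2)

theorem center_le (h : Gagola χ x) [N.Normal] {p : ℕ} [Fact p.Prime]
    (hN : ∀ g, g ∈ N ↔ (χ : G → ℂ) g ≠ 0) (hNp : IsPGroup p N) (P : Sylow p G) :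
    (Subgroup.center (P : Subgroup G)).map (P : Subgroup G).subtype ≤ N := by
  rintro _ ⟨z, hz, rfl⟩
  by_contra hzN
  have h1 := h.card_centralizer_bound hN hNp P z.2 hzN
  rw [Subgroup.centralizer_eq_top_iff_subset.2 (Set.singleton_subset_iff.2 hz), Subgroup.card_top]
    at h1
  have hq : 1 < Nat.card N := by
    rw [Finite.one_lt_card_iff_nontrivial]
    exact ⟨⟨x, h.mem_x hN⟩, 1, fun e => h.ne_one (congrArg Subtype.val e)⟩
  have hP : 0 < Nat.card (P : Subgroup G) := Nat.card_pos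
  nlinarith

theorem exists_upperCentral (h : Gagola χ x) [N.Normal] {p : ℕ} [Fact p.Prime]
    (hN : ∀ g, g ∈ N ↔ (χ : G → ℂ) g ≠ 0) (hNp : IsPGroup p N) (P : Sylow p G) :
    ∃ i, Subgroup.upperCentralSeries (P : Subgroup G) i = N.subgroupOf (P : Subgroup G) := by
  classical
  have := Fintype.ofFinite (P : Subgroup G)
  have hnil : Group.IsNilpotent (P : Subgroup G) := P.2.isNilpotent
  obtain ⟨c, hc⟩ := hnil.nilpotent'
  by_cases htop : N.subgroupOf (P : Subgroup G) = ⊤
  · exact ⟨c, by rw [hc, htop]⟩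
  have hex : ∃ i, ¬ Subgroup.upperCentralSeries (P : Subgroup G) i ≤ N.subgroupOf (P : Subgroup G) :=
    ⟨c, by rw [hc]; exact fun e => htop (top_le_iff.1 e)⟩
  obtain ⟨i, hi, hmin⟩ : ∃ i, ¬ Subgroup.upperCentralSeries (P : Subgroup G) i ≤
      N.subgroupOf (P : Subgroup G) ∧ ∀ j < i, Subgroup.upperCentralSeries (P : Subgroup G) j ≤
      N.subgroupOf (P : Subgroup G) :=
    ⟨Nat.find hex, Nat.find_spec hex, fun j hj => not_not.1 (Nat.find_min hex hj)⟩
  cases i with
  | zero => exact absurd bot_le (Subgroup.upperCentralSeries_zero (P : Subgroup G) ▸ hi)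
  | succ i =>
    refine ⟨i, ?_⟩
    set Z := Subgroup.upperCentralSeries (P : Subgroup G) i with hZ
    obtain ⟨z, hz, hzN⟩ := SetLike.not_le_iff_exists.1 hi
    rw [Subgroup.mem_subgroupOf] at hzN
    have hzc : ∀ y : (P : Subgroup G), z * y * z⁻¹ * y⁻¹ ∈ Z :=
      fun y => Subgroup.mem_upperCentralSeries_succ_iff.1 hz y
    set cl := (ConjClasses.mk z).carrier
    have hcl : cl.ncard * Nat.card (Subgroup.centralizer ({z} : Set (P : Subgroup G))) =
        Nat.card (P : Subgroup G) := by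
      have h1 := MulAction.index_stabilizer (ConjAct (P : Subgroup G)) z
      rw [ConjAct.orbit_eq_carrier_conjClasses] at h1
      rw [← h1, Subgroup.nat_card_centralizer_nat_card_stabilizer z, mul_comm]
      exact Subgroup.card_mul_index _
    have hle : cl.ncard ≤ Nat.card Z := by
      rw [← Nat.card_coe_set_eq]
      refine Nat.card_le_card_of_injective (fun w => (⟨z * (w : (P : Subgroup G))⁻¹, ?_⟩ : Z)) ?_
      · obtain ⟨y, hy⟩ := isConj_iff.1 (ConjClasses.mk_eq_mk_iff_isConj.1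
          (ConjClasses.mem_carrier_iff_mk_eq.1 w.2)).symm
        rw [← hy, show z * (y * z * y⁻¹)⁻¹ = z * y * z⁻¹ * y⁻¹ by group]
        exact hzc y
      · intro a b hab
        exact Subtype.ext (inv_injective (mul_left_cancel (congrArg Subtype.val hab)))
    have hb := h.card_centralizer_bound hN hNp P z.2 hzN
    refine Subgroup.eq_of_le_of_card_ge (hmin i (Nat.lt_succ_self i)) ?_
    rw [Nat.card_congr (Subgroup.subgroupOfEquivOfLe (le_sylow hNp P)).toEquiv]
    refine le_trans ?_ hle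
    refine Nat.le_of_mul_le_mul_right ?_
      (Nat.card_pos (α := Subgroup.centralizer ({z} : Set (P : Subgroup G))))
    rw [hcl, mul_comm]
    exact hb

theorem centralizer_le_pCore (h : Gagola χ x) [N.Normal] {p : ℕ} [Fact p.Prime]
    (hN : ∀ g, g ∈ N ↔ (χ : G → ℂ) g ≠ 0) (hNp : IsPGroup p N) :
    Subgroup.centralizer (N : Set G) ≤ Cfsg.pCore p G := by
  have : (Subgroup.centralizer (N : Set G)).Normal := inferInstance
  refine Core.le_pCore ((h.isPGroup_centralizer hN hNp (h.mem_x hN) h.ne_one).to_le ?_)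
  exact Subgroup.centralizer_le (Set.singleton_subset_iff.2 (h.mem_x hN))

/-- If `N` is the `p`-core then `N` is a Sylow subgroup. -/
theorem not_dvd_index_of_eq_pCore (h : Gagola χ x) [N.Normal] {p : ℕ} [hp : Fact p.Prime]
    (hN : ∀ g, g ∈ N ↔ (χ : G → ℂ) g ≠ 0) (hNp : IsPGroup p N) (hcore : N = Cfsg.pCore p G) :
    ¬ p ∣ N.index := by
  classical
  intro hdvd
  have hCN : ∀ g : G, (∀ n ∈ N, g * n = n * g) → g ∈ N := by
    intro g hg
    rw [hcore]
    exact h.centralizer_le_pCore hN hNp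
      (Subgroup.mem_centralizer_iff.2 fun n hn => (hg n hn).symm)
  have hfpf : ∀ t : G, ∀ n ∈ N, t * n = n * t → ¬ p ∣ orderOf t → t = 1 ∨ n = 1 := by
    intro t n hn hc ht
    by_cases hn1 : n = 1
    · exact Or.inr hn1
    obtain ⟨k, hk⟩ := (h.isPGroup_centralizer hN hNp hn hn1).exists_orderOf_eq_pow
      (g := (⟨t, Subgroup.mem_centralizer_singleton_iff.2 hc⟩ :
        Subgroup.centralizer ({n} : Set G)))
    rw [Subgroup.orderOf_mk] at hk
    cases k with
    | zero => exact Or.inl (orderOf_eq_one_iff.1 (hk.trans (pow_zero p)))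
    | succ k => exact absurd (hk ▸ dvd_pow_self p k.succ_ne_zero) ht
  by_cases hp2 : p = 2
  · subst hp2
    obtain ⟨ū, hū⟩ := exists_prime_orderOf_dvd_card' (G := G ⧸ N) 2
      (by rwa [← Subgroup.index_eq_card])
    have hū1 : ū ≠ 1 := fun e => by rw [e, orderOf_one] at hū; omega
    obtain ⟨_, h', hh1, hhodd, hhinv, -⟩ := Invol.exists_inverted_odd hū fun M hM hMp hmem => by
      have hnorm : (M.comap (QuotientGroup.mk' N)).Normal := hM.comap _
      have hp' : IsPGroup 2 (M.comap (QuotientGroup.mk' N)) :=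
        hMp.comap_of_ker_isPGroup (QuotientGroup.mk' N) (by rw [QuotientGroup.ker_mk']; exact hNp)
      have hle : M.comap (QuotientGroup.mk' N) ≤ N := (Core.le_pCore hp').trans hcore.ge
      obtain ⟨u, rfl⟩ := QuotientGroup.mk_surjective ū
      exact hū1 ((QuotientGroup.eq_one_iff u).2 (hle hmem))
    set ℓ := (orderOf h').minFac with hℓdef
    have hℓ : ℓ.Prime := Nat.minFac_prime (fun e => hh1 (orderOf_eq_one_iff.1 e))
    set q := h' ^ (orderOf h' / ℓ) with hq
    have hqord : orderOf q = ℓ :=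
      orderOf_pow_orderOf_div (orderOf_pos h').ne' (Nat.minFac_dvd _)
    have hqinv : ū * q * ū⁻¹ = q⁻¹ := by rw [hq, ← conj_pow, hhinv, inv_pow]
    have hℓodd : Odd ℓ := hhodd.of_dvd_nat (Nat.minFac_dvd _)
    obtain ⟨y₀, hy₀⟩ := QuotientGroup.mk_surjective q
    set y := y₀ ^ ordProj[2] (orderOf y₀) with hy
    have hyodd : ¬ 2 ∣ orderOf y := by
      rw [hy, orderOf_pow' _ (by positivity), Nat.gcd_eq_right (Nat.ordProj_dvd _ _)]
      exact Nat.not_dvd_ordCompl Nat.prime_two (orderOf_pos y₀).ne'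
    have hymk : (y : G ⧸ N) = q ^ ordProj[2] (orderOf y₀) := by
      rw [hy, QuotientGroup.mk_pow, hy₀]
    have hyN : y ∉ N := by
      intro hm
      rw [← QuotientGroup.eq_one_iff, hymk, ← orderOf_dvd_iff_pow_eq_one, hqord] at hm
      have := hℓ.dvd_of_dvd_pow hm
      rw [Nat.prime_dvd_prime_iff_eq hℓ Nat.prime_two] at this
      rw [this] at hℓodd
      exact absurd hℓodd (by decide)
    have hy1 : y ≠ 1 := fun e => hyN (e ▸ N.one_mem)
    obtain ⟨u, rfl⟩ := QuotientGroup.mk_surjective ū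
    have hinv : ((u * y⁻¹ * u⁻¹ : G) : G ⧸ N) = (y : G ⧸ N) := by
      rw [QuotientGroup.mk_mul, QuotientGroup.mk_mul, QuotientGroup.mk_inv, QuotientGroup.mk_inv,
        hymk, ← inv_pow, ← conj_pow, show (u : G ⧸ N) * q⁻¹ * (u : G ⧸ N)⁻¹ = q by
          have e := congrArg (·⁻¹) hqinv
          simpa [mul_assoc] using e]
    -- the coset `y N` is a single orbit under `N`
    have horb : ∀ m ∈ N, ∃ n ∈ N, n * y * n⁻¹ = y * m := by
      intro m hm
      let f : N → N := fun n => ⟨y⁻¹ * n * y * (n : G)⁻¹, N.mul_mem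
        (by simpa using (inferInstance : N.Normal).conj_mem _ n.2 y⁻¹) (N.inv_mem n.2)⟩
      have hf : Function.Injective f := by
        intro a b hab
        have e : y⁻¹ * (a : G) * y * (a : G)⁻¹ = y⁻¹ * b * y * (b : G)⁻¹ := congrArg Subtype.val hab
        have hcm : y * ((b : G)⁻¹ * a) = ((b : G)⁻¹ * a) * y := by
          have e' : (a : G) * y * (a : G)⁻¹ = b * y * (b : G)⁻¹ := by
            simpa [mul_assoc] using e
          calc y * ((b : G)⁻¹ * a) = (b : G)⁻¹ * (b * y * (b : G)⁻¹) * a := by group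
            _ = ((b : G)⁻¹ * a) * y := by rw [← e']; group
        rcases hfpf y _ (N.mul_mem (N.inv_mem b.2) a.2) hcm hyodd with h1 | h1
        · exact absurd h1 hy1
        · exact Subtype.ext (inv_mul_eq_one.1 h1).symm
      obtain ⟨n, hn⟩ := (Finite.injective_iff_surjective.1 hf) ⟨m, hm⟩
      refine ⟨n, n.2, ?_⟩
      have e : y⁻¹ * (n : G) * y * (n : G)⁻¹ = m := congrArg Subtype.val hn
      rw [← e]; group
    obtain ⟨n, hn, hne⟩ := horb (y⁻¹ * (u * y⁻¹ * u⁻¹)) (QuotientGroup.eq.1 hinv.symm)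
    rw [mul_inv_cancel_left] at hne
    set g := n⁻¹ * u with hg
    have hgy : g * y * g⁻¹ = y⁻¹ := by
      have e : n * y⁻¹ * n⁻¹ = u * y * u⁻¹ := by
        have e := congrArg (·⁻¹) hne
        simpa [mul_assoc] using e
      calc g * y * g⁻¹ = n⁻¹ * (u * y * u⁻¹) * n := by rw [hg]; group
        _ = y⁻¹ := by rw [← e]; group
    have hgN : g ∉ N := fun hm => hū1 ((QuotientGroup.eq_one_iff u).2 (by
      have := N.mul_mem hn hm
      rwa [hg, mul_inv_cancel_left] at this))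
    have hg2N : g * g ∈ N := by
      rw [← QuotientGroup.eq_one_iff, hg, QuotientGroup.mk_mul, QuotientGroup.mk_mul,
        (QuotientGroup.eq_one_iff (n⁻¹)).2 (N.inv_mem hn), one_mul, ← sq, ← hū, pow_orderOf_eq_one]
    have hg2 : g * g = 1 := by
      refine (hfpf y (g * g) hg2N ?_ hyodd).resolve_left hy1
      have e1 : g * g * y * (g * g)⁻¹ = y := by
        calc g * g * y * (g * g)⁻¹ = g * (g * y * g⁻¹) * g⁻¹ := by group
          _ = g * y⁻¹ * g⁻¹ := by rw [hgy]
          _ = (g * y * g⁻¹)⁻¹ := by group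
          _ = y := by rw [hgy, inv_inv]
      exact (mul_inv_eq_iff_eq_mul.1 e1).symm
    refine hgN (hCN g fun m hm => ?_)
    obtain ⟨c, hc⟩ := isConj_iff.1 (h.conj_coset hN hgN (a := g * m) (by
      rw [QuotientGroup.eq]; simpa using hm))
    have h1 : (g * m) * (g * m) = 1 := by
      rw [← hc, show c * g * c⁻¹ * (c * g * c⁻¹) = c * (g * g) * c⁻¹ by group, hg2]; group
    have hm2 : m⁻¹ = m := by
      have := h.pow_prime_eq_one hN hNp hm
      rw [sq] at this
      exact inv_eq_of_mul_eq_one_right this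
    calc g * m = (g * m)⁻¹ := (inv_eq_of_mul_eq_one_right h1).symm
      _ = m * g := by rw [mul_inv_rev, hm2, inv_eq_of_mul_eq_one_right hg2]
  · -- odd primes
    have hpodd : Odd p := hp.out.odd_of_ne_two hp2
    obtain ⟨k, hk⟩ := IsPGroup.iff_card.1 hNp
    have h2G : 2 ∣ Nat.card G := by
      refine dvd_trans ?_ (Subgroup.index_dvd_card (Subgroup.centralizer ({x} : Set G)))
      have h1 := h.index_centralizer hN (h.mem_x hN) h.ne_one
      rw [hk] at h1
      rcases Nat.even_or_odd (Subgroup.centralizer ({x} : Set G)).index with he | ho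
      · exact he.two_dvd
      · have : Odd (p ^ k) := hpodd.pow
        rw [← h1] at this
        exact absurd this (Nat.not_odd_iff_even.2 (ho.add_odd odd_one))
    obtain ⟨t, ht⟩ := exists_prime_orderOf_dvd_card' (G := G) 2 h2G
    have ht2 : t * t = 1 := by rw [← sq, ← ht, pow_orderOf_eq_one]
    have ht1 : t ≠ 1 := fun e => by rw [e, orderOf_one] at ht; omega
    have htp : ¬ p ∣ orderOf t := fun e => by
      rw [ht] at e
      exact hp2 ((Nat.prime_dvd_prime_iff_eq hp.out Nat.prime_two).1 e)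
    have htinv : t⁻¹ = t := inv_eq_of_mul_eq_one_right ht2
    have hinv : ∀ n ∈ N, t * n * t⁻¹ = n⁻¹ := by
      intro n hn
      have hm : t * n * t⁻¹ ∈ N := (inferInstance : N.Normal).conj_mem n hn t
      refine eq_inv_of_mul_eq_one_left
        ((hfpf t _ (N.mul_mem hm hn) ?_ htp).resolve_left ht1)
      calc t * (t * n * t⁻¹ * n) = (t * t) * (n * t⁻¹) * n := by group
        _ = n * (t * n) := by rw [ht2, htinv]; group
        _ = n * (t * n * t⁻¹) * t := by group
        _ = (t * n * t⁻¹ * n) * t := by rw [h.comm hN hNp hn hm]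
    have hK : ∀ g : G, ∃ m ∈ N, ∃ c : G, t * c = c * t ∧ g = m * c := by
      intro g
      have ha : g * t * g⁻¹ * t ∈ N := by
        refine hCN _ fun n hn => ?_
        have hn' : g⁻¹ * n * g ∈ N := by
          simpa using (inferInstance : N.Normal).conj_mem n hn g⁻¹
        calc g * t * g⁻¹ * t * n = g * t * g⁻¹ * (t * n * t⁻¹) * t := by group
          _ = g * (t * (g⁻¹ * n * g)⁻¹ * t⁻¹) * t * g⁻¹ * t := by rw [hinv n hn]; group
          _ = n * (g * t * g⁻¹ * t) := by rw [hinv _ (N.inv_mem hn')]; group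
      set a := g * t * g⁻¹ * t with hadef
      obtain ⟨r, hr⟩ := hpodd
      have hap : a ^ p = 1 := h.pow_prime_eq_one hN hNp ha
      refine ⟨a ^ (r + 1), N.pow_mem ha _, (a ^ (r + 1))⁻¹ * g, ?_, by group⟩
      have hm2 : a ^ (r + 1) * a ^ (r + 1) = a := by
        rw [← pow_add, show r + 1 + (r + 1) = p + 1 by omega, pow_succ, hap, one_mul]
      set m := a ^ (r + 1) with hm
      have hmN : m ∈ N := N.pow_mem ha _
      have hgt : g * t = a * t * g := by
        rw [hadef, mul_assoc (g * t * g⁻¹) t t, ht2]; group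
      calc t * (m⁻¹ * g) = (t * m⁻¹ * t⁻¹) * t * g := by group
        _ = m * t * g := by rw [hinv _ (N.inv_mem hmN), inv_inv]
        _ = m⁻¹ * (a * t * g) := by rw [← hm2]; group
        _ = m⁻¹ * g * t := by rw [← hgt]; group
    have hKN : ∀ c ∈ N, t * c = c * t → c = 1 := fun c hc e =>
      (hfpf t c hc e htp).resolve_left ht1
    -- an element of order `p` centralizing `t` outside `N`
    set K := Subgroup.centralizer ({t} : Set G) with hKdef
    have hmemK : ∀ c, c ∈ K ↔ t * c = c * t := fun c => by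
      rw [hKdef, Subgroup.mem_centralizer_singleton_iff]; exact eq_comm
    have hKq : Function.Surjective ((QuotientGroup.mk' N).comp K.subtype) := by
      intro q
      obtain ⟨g, rfl⟩ := QuotientGroup.mk_surjective q
      obtain ⟨m, hm, c, hc, rfl⟩ := hK g
      refine ⟨⟨c, (hmemK c).2 hc⟩, ?_⟩
      show (c : G ⧸ N) = ((m * c : G) : G ⧸ N)
      rw [QuotientGroup.mk_mul, (QuotientGroup.eq_one_iff m).2 hm, one_mul]
    obtain ⟨⟨z, hzK⟩, hz⟩ := exists_prime_orderOf_dvd_card' (G := K) p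
      (hdvd.trans (by rw [Subgroup.index_eq_card]; exact Subgroup.card_dvd_of_surjective _ hKq))
    rw [Subgroup.orderOf_mk] at hz
    have hz1 : z ≠ 1 := fun e => by rw [e, orderOf_one] at hz; exact hp.out.ne_one hz.symm
    have hzN : z ∉ N := fun hm => hz1 (hKN z hm ((hmemK z).1 hzK))
    obtain ⟨P, hP⟩ := IsPGroup.exists_le_sylow
      (IsPGroup.of_card (p := p) (G := Subgroup.zpowers z) (n := 1)
        (by rw [Nat.card_zpowers, hz, pow_one]))
    have hzP : z ∈ (P : Subgroup G) := hP (Subgroup.mem_zpowers z)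
    have hNP := le_sylow (N := N) hNp P
    obtain ⟨w, hw, hw1⟩ : ∃ w : (P : Subgroup G), w ∈ N.subgroupOf P ⊓ Subgroup.center _ ∧ w ≠ 1 := by
      have hne : N.subgroupOf (P : Subgroup G) ≠ ⊥ := fun e => h.ne_one (by
        have hx' : (⟨x, hNP (h.mem_x hN)⟩ : (P : Subgroup G)) ∈ N.subgroupOf (P : Subgroup G) :=
          Subgroup.mem_subgroupOf.2 (h.mem_x hN)
        rw [e, Subgroup.mem_bot] at hx'
        exact congrArg Subtype.val hx')
      obtain ⟨⟨w, hw⟩, hw1⟩ := Subgroup.ne_bot_iff_exists_ne_one.1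
        (Fusion.pGroup_inf_center_ne_bot P.2 _ hne)
      exact ⟨w, hw, fun e => hw1 (Subtype.ext e)⟩
    have hwz : (w : G) * z = z * w :=
      (congrArg Subtype.val (Subgroup.mem_center_iff.1 hw.2 ⟨z, hzP⟩)).symm
    let f : N → N := fun a => ⟨(a : G) * z * (a : G)⁻¹ * z⁻¹, by
      rw [mul_assoc, mul_assoc, ← mul_assoc z]
      exact N.mul_mem a.2 ((inferInstance : N.Normal).conj_mem _ (N.inv_mem a.2) z)⟩
    have hfni : ¬ Function.Injective f := by
      intro hf
      have e := hf (a₁ := ⟨w, Subgroup.mem_subgroupOf.1 hw.1⟩) (a₂ := 1) (Subtype.ext (by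
        show (w : G) * z * (w : G)⁻¹ * z⁻¹ = (1 : G) * z * (1 : G)⁻¹ * z⁻¹
        rw [hwz]; group))
      have e' : (w : G) = 1 := congrArg Subtype.val e
      exact hw1 (Subtype.ext e')
    have hfns : ¬ Function.Surjective f := fun hf => hfni (Finite.injective_iff_surjective.2 hf)
    simp only [Function.Surjective, not_forall, not_exists] at hfns
    obtain ⟨n, hn⟩ := hfns
    obtain ⟨g, hg⟩ := isConj_iff.1 (h.conj_coset hN hzN (a := (n : G) * z) (by
      rw [QuotientGroup.mk_mul, (QuotientGroup.eq_one_iff (n : G)).2 n.2, one_mul]))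
    obtain ⟨m, hm, c, hc, rfl⟩ := hK g
    have hcz : c * z * c⁻¹ * z⁻¹ = 1 := by
      refine hKN _ ?_ ((hmemK _).1 (K.mul_mem (K.mul_mem (K.mul_mem ((hmemK c).2 hc) hzK)
        (K.inv_mem ((hmemK c).2 hc))) (K.inv_mem hzK)))
      rw [show c * z * c⁻¹ * z⁻¹ = m⁻¹ * (m * c * z * (m * c)⁻¹) * m * z⁻¹ by group, hg,
        mul_assoc, mul_assoc, mul_assoc, ← mul_assoc z]
      exact N.mul_mem (N.inv_mem hm) (N.mul_mem n.2
        (by simpa [mul_assoc] using (inferInstance : N.Normal).conj_mem m hm z))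
    refine hn ⟨m, hm⟩ (Subtype.ext ?_)
    show m * z * m⁻¹ * z⁻¹ = (n : G)
    calc m * z * m⁻¹ * z⁻¹ = m * (c * z * c⁻¹ * z⁻¹)⁻¹ * (c * z * c⁻¹) * m⁻¹ * z⁻¹ := by group
      _ = m * c * z * (m * c)⁻¹ * z⁻¹ := by rw [hcz]; group
      _ = n := by rw [hg]; group

end Subgroup

end Gagola

end Cfsg.Agent.Char
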