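import Mathlib
import Cfsg.Agent.Char.UniqueDivisible

/-!
# `p`-groups in which non-linear characters of equal degree are Galois conjugate
-/

namespace Cfsg.Agent.Char

open scoped ComplexConjugate commutatorElement

universe u

/-- Non-linear irreducible characters of equal degree have the same kernel. -/
def CommonKernel (Q : Type u) [Group Q] : Prop :=
  ∀ χ ψ : IrrCharacter Q, (χ : Q → ℂ) 1 ≠ 1 → (χ : Q → ℂ) 1 = (ψ : Q → ℂ) 1 →
    ∀ g, (χ : Q → ℂ) g = (χ : Q → ℂ) 1 → (ψ : Q → ℂ) g = (ψ : Q → ℂ) 1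

theorem CommonKernel.quotient {Q : Type u} [Group Q] [Finite Q] (h : CommonKernel Q)
    (N : Subgroup Q) [N.Normal] : CommonKernel (Q ⧸ N) := by
  intro χ ψ h1 he q hq
  obtain ⟨g, rfl⟩ := QuotientGroup.mk_surjective q
  exact h ⟨_, isIrrCharacter_mk N χ.2⟩ ⟨_, isIrrCharacter_mk N ψ.2⟩ h1 he g hq

variable {Q : Type u} [Group Q] [Finite Q] {p : ℕ} [hp : Fact p.Prime]

theorem commutator_quotient (L : Subgroup Q) [L.Normal] :
    commutator (Q ⧸ L) = (commutator Q).map (QuotientGroup.mk' L) := by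
  rw [commutator_def, commutator_def, Subgroup.map_commutator,
    Subgroup.map_top_of_surjective _ (QuotientGroup.mk'_surjective L)]

/-- The data attached to a subgroup of index `p` in the derived subgroup. -/
theorem quotient_props (hQ : IsPGroup p Q) {L : Subgroup Q} [L.Normal] (hL : L ≤ commutator Q)
    (hcard : Nat.card (commutator Q) = p * Nat.card L) :
    Nat.card (commutator (Q ⧸ L)) = p ∧ commutator (Q ⧸ L) ≤ Subgroup.center (Q ⧸ L) := by
  have hc : Nat.card (commutator (Q ⧸ L)) = p := by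
    rw [commutator_quotient]
    let f : commutator Q →* Q ⧸ L := (QuotientGroup.mk' L).comp (commutator Q).subtype
    have hr : f.range = (commutator Q).map (QuotientGroup.mk' L) := by
      rw [MonoidHom.range_comp, Subgroup.range_subtype]
    have hk : f.ker = L.subgroupOf (commutator Q) := by
      ext x; simp [f, Subgroup.mem_subgroupOf]
    rw [← hr, ← Subgroup.index_ker, hk]
    have h2 := Subgroup.index_mul_card (L.subgroupOf (commutator Q))
    rw [Nat.card_congr (Subgroup.subgroupOfEquivOfLe hL).toEquiv, hcard] at h2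
    exact Nat.eq_of_mul_eq_mul_right Nat.card_pos h2
  exact ⟨hc, Fusion.le_center_of_card_eq_prime (hQ.to_quotient L) _ hc⟩

/-- Powers land in the centre of the quotient. -/
theorem pow_mem_center_quotient (hQ : IsPGroup p Q) {L : Subgroup Q} [L.Normal]
    (hL : L ≤ commutator Q) (hcard : Nat.card (commutator Q) = p * Nat.card L) (x : Q) :
    ((x ^ p : Q) : Q ⧸ L) ∈ Subgroup.center (Q ⧸ L) := by
  obtain ⟨hc, hle⟩ := quotient_props hQ hL hcard
  refine Subgroup.mem_center_iff.2 fun y => (commutatorElement_eq_one_iff_mul_comm.1 ?_).symm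
  rw [QuotientGroup.mk_pow, Fusion.commutatorElement_pow_left_of_le_center hle]
  have h2 := pow_card_eq_one' (x := (⟨⁅(x : Q ⧸ L), y⁆,
    Subgroup.commutator_mem_commutator (Subgroup.mem_top _) (Subgroup.mem_top _)⟩ : commutator (Q ⧸ L)))
  rw [hc] at h2
  exact congrArg Subtype.val h2

/-- In a cyclic group an element whose order divides that of another is one of its powers. -/
theorem mem_zpowers_of_orderOf_dvd {C : Type u} [Group C] [Finite C] [IsCyclic C] {a b : C}
    (h : orderOf a ∣ orderOf b) : a ∈ Subgroup.zpowers b := by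
  classical
  have := Fintype.ofFinite C
  have hle := IsCyclic.card_pow_eq_one_le (α := C) (n := orderOf b) (orderOf_pos b)
  let T : Finset C := Finset.univ.filter fun x => x ∈ Subgroup.zpowers b
  have hsub : T ⊆ Finset.univ.filter fun x : C => x ^ orderOf b = 1 := fun x hx =>
    Finset.mem_filter.2 ⟨Finset.mem_univ _,
      orderOf_dvd_iff_pow_eq_one.1 (orderOf_dvd_of_mem_zpowers (Finset.mem_filter.1 hx).2)⟩
  have hT : T.card = orderOf b := by
    rw [← Nat.card_zpowers, Nat.card_eq_fintype_card, Fintype.card_subtype]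
  have heq := Finset.eq_of_subset_of_card_le hsub (by rw [hT]; exact hle)
  have : a ∈ T := by
    rw [heq]
    exact Finset.mem_filter.2 ⟨Finset.mem_univ _, orderOf_dvd_iff_pow_eq_one.1 h⟩
  exact (Finset.mem_filter.1 this).2

/-- The degree attached to a subgroup of index `p` in the derived subgroup does not depend on it. -/
theorem same_degree (hQ : IsPGroup p Q) (hk : CommonKernel Q) {L L' : Subgroup Q} [L.Normal]
    [L'.Normal] (hL : L ≤ commutator Q) (hcard : Nat.card (commutator Q) = p * Nat.card L)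
    (hL' : L' ≤ commutator Q) (hcard' : Nat.card (commutator Q) = p * Nat.card L')
    (χ : IrrCharacter (Q ⧸ L)) (hχ : (χ : Q ⧸ L → ℂ) 1 ≠ 1)
    (ψ : IrrCharacter (Q ⧸ L')) (hψ : (ψ : Q ⧸ L' → ℂ) 1 ≠ 1) :
    (χ : Q ⧸ L → ℂ) 1 = (ψ : Q ⧸ L' → ℂ) 1 := by
  have key : ∀ (M : Subgroup Q) [M.Normal], M ≤ commutator Q →
      Nat.card (commutator Q) = p * Nat.card M → ∀ θ : IrrCharacter (Q ⧸ M),
      (θ : Q ⧸ M → ℂ) 1 ≠ 1 → ∃ d k : ℕ, (θ : Q ⧸ M → ℂ) 1 = d ∧ (∃ r, d = p ^ r) ∧
        k ≤ 1 ∧ d ^ 2 * p ^ k * Nat.card (frattini Q) = Nat.card Q := by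
    intro M _ hM hMc θ hθ
    obtain ⟨hc, hle⟩ := quotient_props hQ hM hMc
    obtain ⟨d, -, hd⟩ := IsIrr.degree θ.2
    have hsq : Nat.card (Subgroup.center (Q ⧸ M)) * d ^ 2 = Nat.card (Q ⧸ M) := by
      have := center_mul_sq hp.out hle hc θ.2 hθ
      rw [hd] at this
      exact_mod_cast this
    obtain ⟨r, hr⟩ : ∃ r, d = p ^ r := by
      obtain ⟨m, hm⟩ := IsPGroup.iff_card.1 (hQ.to_quotient M)
      obtain ⟨r, -, hr⟩ := (Nat.dvd_prime_pow hp.out).1
        (hm ▸ (dvd_pow_self d two_ne_zero).trans (Dvd.intro_left _ hsq))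
      exact ⟨r, hr⟩
    have := Fintype.ofFinite (Subgroup.center (Q ⧸ M))
    have hcyc : IsCyclic (Subgroup.center (Q ⧸ M)) :=
      isCyclic_center_of_common_kernel hp.out hc fun a b ha hb => hk.quotient M a b ha (by
        have e1 := center_mul_sq hp.out hle hc a.2 ha
        have e2 := center_mul_sq hp.out hle hc b.2 hb
        have h0 : (Nat.card (Subgroup.center (Q ⧸ M)) : ℂ) ≠ 0 := card_ne_zero
        obtain ⟨i, -, hi⟩ := IsIrr.degree a.2
        obtain ⟨j, -, hj⟩ := IsIrr.degree b.2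
        rw [hi, hj]
        rw [hi] at e1
        rw [hj] at e2
        have e3 : ((i ^ 2 : ℕ) : ℂ) = ((j ^ 2 : ℕ) : ℂ) := by
          push_cast
          exact mul_left_cancel₀ h0 (e1.trans e2.symm)
        exact_mod_cast Nat.pow_left_injective two_ne_zero (by exact_mod_cast e3))
    -- the Frattini subgroup inside the preimage of the centre
    let Z := (Subgroup.center (Q ⧸ M)).comap (QuotientGroup.mk' M)
    have hΦZ : frattini Q ≤ Z := by
      refine Fusion.frattini_le_of_elementary (p := p) _ (fun x hx => ?_)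
        (pow_mem_center_quotient hQ hM hMc)
      exact hle (commutator_quotient M ▸ Subgroup.mem_map_of_mem _ hx)
    have : Group.IsNilpotent Q := hQ.isNilpotent
    have hMΦ : M ≤ frattini Q := hM.trans Core.commutator_le_frattini
    obtain ⟨⟨q, hq⟩, hgen⟩ := hcyc.exists_generator
    obtain ⟨u, rfl⟩ := QuotientGroup.mk_surjective q
    let f : Z →* Q ⧸ frattini Q := (QuotientGroup.mk' (frattini Q)).comp Z.subtype
    have hker : f.ker = (frattini Q).subgroupOf Z := by
      ext x; simp [f, Subgroup.mem_subgroupOf]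
    have hrange : f.range ≤ Subgroup.zpowers ((u : Q) : Q ⧸ frattini Q) := by
      rintro _ ⟨⟨z, hz⟩, rfl⟩
      obtain ⟨i, hi⟩ := Subgroup.mem_zpowers_iff.1 (hgen ⟨_, hz⟩)
      have hi' : ((u ^ i : Q) : Q ⧸ M) = (z : Q ⧸ M) := congrArg Subtype.val hi
      refine ⟨i, ?_⟩
      show ((u : Q) : Q ⧸ frattini Q) ^ i = (z : Q ⧸ frattini Q)
      rw [← QuotientGroup.mk_zpow, QuotientGroup.eq]
      exact hMΦ (QuotientGroup.eq.1 hi')
    have hdvd : Nat.card f.range ∣ p := by
      refine (Subgroup.card_dvd_of_le hrange).trans ?_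
      rw [Nat.card_zpowers]
      refine orderOf_dvd_of_pow_eq_one ?_
      rw [← QuotientGroup.mk_pow, QuotientGroup.eq_one_iff]
      exact Core.pow_mem_frattini hQ u
    have hZc : Nat.card Z = Nat.card f.range * Nat.card (frattini Q) := by
      rw [← Subgroup.index_ker, hker, ← Subgroup.index_mul_card ((frattini Q).subgroupOf Z),
        Nat.card_congr (Subgroup.subgroupOfEquivOfLe hΦZ).toEquiv]
    have hZM : Nat.card Z = Nat.card (Subgroup.center (Q ⧸ M)) * Nat.card M := by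
      let g : Z →* Q ⧸ M := (QuotientGroup.mk' M).comp Z.subtype
      have hMZ : M ≤ Z := hMΦ.trans hΦZ
      have hk : g.ker = M.subgroupOf Z := by ext x; simp [g, Subgroup.mem_subgroupOf]
      have hr : g.range = Subgroup.center (Q ⧸ M) := by
        rw [MonoidHom.range_comp, Subgroup.range_subtype]
        exact Subgroup.map_comap_eq_self_of_surjective (QuotientGroup.mk'_surjective M) _
      rw [← hr, ← Subgroup.index_ker, hk, ← Subgroup.index_mul_card (M.subgroupOf Z),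
        Nat.card_congr (Subgroup.subgroupOfEquivOfLe hMZ).toEquiv]
    obtain ⟨k, hk1, hkc⟩ := (Nat.dvd_prime_pow hp.out).1 ((pow_one p).symm ▸ hdvd)
    refine ⟨d, k, hd, ⟨r, hr⟩, hk1, ?_⟩
    rw [← Subgroup.card_mul_index M, Subgroup.index_eq_card, ← hsq, mul_assoc, ← hkc, ← hZc, hZM]
    ring
  obtain ⟨d, k, hd, ⟨r, rfl⟩, hk1, he⟩ := key L hL hcard χ hχ
  obtain ⟨d', k', hd', ⟨r', rfl⟩, hk1', he'⟩ := key L' hL' hcard' ψ hψ
  have h1 : p ^ (2 * r + k) = p ^ (2 * r' + k') := by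
    refine Nat.eq_of_mul_eq_mul_right (Nat.card_pos (α := frattini Q)) ?_
    rw [pow_add, pow_add, mul_comm 2 r, mul_comm 2 r', pow_mul, pow_mul, he, he']
  have h2 := Nat.pow_right_injective hp.out.two_le h1
  rw [hd, hd', show r = r' by omega]

/-- There is only one normal subgroup of index `p` in the derived subgroup. -/
theorem eq_of_index_prime (hQ : IsPGroup p Q) (hk : CommonKernel Q) {L L' : Subgroup Q} [L.Normal]
    [L'.Normal] (hL : L ≤ commutator Q) (hcard : Nat.card (commutator Q) = p * Nat.card L)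
    (hL' : L' ≤ commutator Q) (hcard' : Nat.card (commutator Q) = p * Nat.card L') : L = L' := by
  obtain ⟨hc, -⟩ := quotient_props hQ hL hcard
  obtain ⟨hc', -⟩ := quotient_props hQ hL' hcard'
  obtain ⟨χ, hχ⟩ := exists_nonlinear (Q := Q ⧸ L) fun e => hp.out.ne_one (by
    rw [← hc, e, Subgroup.card_bot])
  obtain ⟨ψ, hψ⟩ := exists_nonlinear (Q := Q ⧸ L') fun e => hp.out.ne_one (by
    rw [← hc', e, Subgroup.card_bot])
  have hle : L ≤ L' := by
    intro l hl
    rw [← QuotientGroup.eq_one_iff]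
    have hl' : ((χ : Q ⧸ L → ℂ) ((l : Q) : Q ⧸ L)) = (χ : Q ⧸ L → ℂ) 1 := by
      rw [(QuotientGroup.eq_one_iff l).2 hl]
    have hψl := hk ⟨_, isIrrCharacter_mk L χ.2⟩ ⟨_, isIrrCharacter_mk L' ψ.2⟩ hχ
      (same_degree hQ hk hL hcard hL' hcard' χ hχ ψ hψ) l hl'
    exact faithful_of_common_kernel hp.out hc' (fun a b ha hb => hk.quotient L' a b ha
      (same_degree hQ hk hL' hcard' hL' hcard' a ha b hb)) ψ hψ hψl
  exact Subgroup.eq_of_le_of_card_ge hle
    (Nat.eq_of_mul_eq_mul_left hp.out.pos (hcard'.symm.trans hcard)).le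

/-- The derived subgroup has order different from `p ^ 2`. -/
theorem card_commutator_ne_sq (hQ : IsPGroup p Q) (hk : CommonKernel Q) :
    Nat.card (commutator Q) ≠ p ^ 2 := by
  intro hQ'
  have hpp := hp.out
  have hne : commutator Q ≠ ⊥ := fun e => by
    rw [e, Subgroup.card_bot] at hQ'
    exact (Nat.one_lt_pow two_ne_zero hpp.one_lt).ne hQ'
  obtain ⟨L, hL, hLZ, hLn, hLc⟩ := Fusion.exists_central_card_prime hQ (commutator Q) hne
  have := hLn
  have hcard : Nat.card (commutator Q) = p * Nat.card L := by rw [hQ', hLc, sq]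
  obtain ⟨hc, hle⟩ := quotient_props hQ hL hcard
  have hcentral : ∀ a ∈ L, ∀ b : Q, a * b = b * a := fun a ha b =>
    (Subgroup.mem_center_iff.1 (hLZ ha) b).symm
  have hpowL : ∀ a ∈ L, a ^ p = 1 := fun a ha => by
    have h2 := pow_card_eq_one' (x := (⟨a, ha⟩ : L))
    rw [hLc] at h2
    exact congrArg Subtype.val h2
  have hcomm : ∀ a b : Q, ⁅a, b⁆ ∈ commutator Q := fun a b =>
    Subgroup.commutator_mem_commutator (Subgroup.mem_top a) (Subgroup.mem_top b)
  have hsame : ∀ a b : IrrCharacter (Q ⧸ L), (a : Q ⧸ L → ℂ) 1 ≠ 1 → (b : Q ⧸ L → ℂ) 1 ≠ 1 →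
      ∀ g, (a : Q ⧸ L → ℂ) g = (a : Q ⧸ L → ℂ) 1 → (b : Q ⧸ L → ℂ) g = (b : Q ⧸ L → ℂ) 1 :=
    fun a b ha hb => hk.quotient L a b ha (same_degree hQ hk hL hcard hL hcard a ha b hb)
  have hcyc := isCyclic_center_of_common_kernel hpp hc hsame
  by_cases hcen : commutator Q ≤ Subgroup.center Q
  · -- a central derived subgroup of order `p ^ 2`
    have huniq : ∀ t ∈ commutator Q, t ^ p = 1 → t ∈ L := by
      intro t ht htp
      by_cases h1 : t = 1
      · rw [h1]; exact one_mem L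
      have hn : (Subgroup.zpowers t).Normal := ⟨fun a ha g => by
        rwa [Subgroup.mem_center_iff.1 (hcen (Subgroup.zpowers_le.2 ht ha)) g, mul_inv_cancel_right]⟩
      have he := eq_of_index_prime hQ hk (L := L) (L' := Subgroup.zpowers t) hL hcard
        (Subgroup.zpowers_le.2 ht) (by rw [hQ', Nat.card_zpowers, orderOf_eq_prime htp h1, sq])
      rw [he]
      exact Subgroup.mem_zpowers t
    obtain ⟨x, y, hxy⟩ : ∃ x y : Q, ⁅x, y⁆ ^ p ≠ 1 := by
      by_contra! hall
      have hle' : commutator Q ≤ L := by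
        rw [commutator_def, Subgroup.commutator_le]
        exact fun a _ b _ => huniq _ (hcomm a b) (hall a b)
      have h3 := (Subgroup.card_le_of_le hle').trans_eq hLc
      rw [hQ', sq] at h3
      nlinarith [hpp.two_le]
    have hx := pow_mem_center_quotient hQ hL hcard x
    have hy := pow_mem_center_quotient hQ hL hcard y
    have key : ∀ x y : Q, ∀ k : ℤ, ((y ^ p : Q) : Q ⧸ L) = ((x ^ p : Q) : Q ⧸ L) ^ k →
        ⁅x, y⁆ ^ p = 1 := by
      intro x y k hk
      set z := x ^ (-k) with hz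
      have hxz : ⁅x, y * z⁆ = ⁅x, y⁆ := by
        rw [Fusion.commutatorElement_mul_right_of_le_center hcen]
        have : ⁅x, z⁆ = 1 :=
          commutatorElement_eq_one_iff_mul_comm.2 ((Commute.refl x).zpow_right _).eq
        rw [this, mul_one]
      have hcz : ∀ g h : Q, Commute ⁅g, h⁆ g ∧ Commute ⁅g, h⁆ h := fun g h =>
        ⟨(Subgroup.mem_center_iff.1 (hcen (hcomm g h)) g).symm,
          (Subgroup.mem_center_iff.1 (hcen (hcomm g h)) h).symm⟩
      have hpow : (y * z) ^ p ∈ commutator Q := by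
        rw [Fusion.mul_pow_of_commute_commutator (hcz z y).2 (hcz z y).1]
        refine mul_mem ?_ (pow_mem (hcomm z y) _)
        refine hL ((QuotientGroup.eq_one_iff _).1 ?_)
        rw [QuotientGroup.mk_mul, hk, hz, ← zpow_natCast (x ^ (-k)), ← zpow_mul, neg_mul, zpow_neg,
          QuotientGroup.mk_inv, mul_comm k, zpow_mul, zpow_natCast, QuotientGroup.mk_zpow,
          mul_inv_cancel]
      rw [← hxz, ← inv_inj, ← inv_pow, commutatorElement_inv, inv_one,
        ← Fusion.commutatorElement_pow_left_of_le_center hcen]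
      exact commutatorElement_eq_one_iff_mul_comm.2 (Subgroup.mem_center_iff.1 (hcen hpow) x).symm
    obtain ⟨m, hm⟩ := IsPGroup.iff_card.1 (hQ.to_quotient L)
    have hord : ∀ a : Subgroup.center (Q ⧸ L), ∃ i, orderOf a = p ^ i := fun a => by
      obtain ⟨i, -, hi⟩ := (Nat.dvd_prime_pow hpp).1
        (hm ▸ (orderOf_dvd_natCard a).trans (Subgroup.card_subgroup_dvd_card _))
      exact ⟨i, hi⟩
    obtain ⟨i, hi⟩ := hord ⟨_, hx⟩
    obtain ⟨j, hj⟩ := hord ⟨_, hy⟩
    rcases le_total j i with h | h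
    · obtain ⟨k, hk⟩ := Subgroup.mem_zpowers_iff.1 (mem_zpowers_of_orderOf_dvd
        (a := (⟨_, hy⟩ : Subgroup.center (Q ⧸ L))) (b := ⟨_, hx⟩) (hi ▸ hj ▸ pow_dvd_pow p h))
      exact hxy (key x y k (congrArg Subtype.val hk).symm)
    · obtain ⟨k, hk⟩ := Subgroup.mem_zpowers_iff.1 (mem_zpowers_of_orderOf_dvd
        (a := (⟨_, hx⟩ : Subgroup.center (Q ⧸ L))) (b := ⟨_, hy⟩) (hi ▸ hj ▸ pow_dvd_pow p h))
      refine hxy ?_
      rw [← commutatorElement_inv y x, inv_pow, key y x k (congrArg Subtype.val hk).symm, inv_one]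
  -- a non-central derived subgroup
  obtain ⟨c, hcQ, hcZ⟩ := SetLike.not_le_iff_exists.1 hcen
  obtain ⟨w, hw⟩ : ∃ w : Q, ⁅c, w⁆ ≠ 1 := by
    by_contra! hall
    exact hcZ (Subgroup.mem_center_iff.2 fun g => (commutatorElement_eq_one_iff_mul_comm.1 (hall g)).symm)
  have hcL : c ∉ L := fun h => hcZ (hLZ h)
  -- elements central modulo `L`
  have hLmem : ∀ u : Q, (u : Q ⧸ L) ∈ Subgroup.center (Q ⧸ L) → ∀ g, ⁅u, g⁆ ∈ L := fun u hu g => by
    rw [← QuotientGroup.eq_one_iff, ← QuotientGroup.mk'_apply, map_commutatorElement,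
      commutatorElement_eq_one_iff_mul_comm]
    exact (Subgroup.mem_center_iff.1 hu _).symm
  have hmul : ∀ u v g : Q, ⁅v, g⁆ ∈ L → ⁅u * v, g⁆ = ⁅u, g⁆ * ⁅v, g⁆ := fun u v g hv => by
    have e : ⁅u * v, g⁆ = u * ⁅v, g⁆ * u⁻¹ * ⁅u, g⁆ := by
      simp only [commutatorElement_def]; group
    rw [e, ← hcentral _ hv u, mul_inv_cancel_right, hcentral _ hv]
  let Z := (Subgroup.center (Q ⧸ L)).comap (QuotientGroup.mk' L)
  have hcc : (c : Q ⧸ L) ∈ Subgroup.center (Q ⧸ L) :=
    hle (commutator_quotient L ▸ Subgroup.mem_map_of_mem _ hcQ)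
  have hZle : Z ≤ commutator Q := by
    intro u0 hu0
    obtain ⟨⟨q, hq⟩, hgen⟩ := hcyc.exists_generator
    obtain ⟨u, rfl⟩ := QuotientGroup.mk_surjective q
    let φ : Z →* Q :=
      MonoidHom.mk' (fun z => ⁅(z : Q), w⁆) fun a b => hmul _ _ _ (hLmem _ b.2 w)
    obtain ⟨i, hi⟩ := Subgroup.mem_zpowers_iff.1 (hgen ⟨_, hcc⟩)
    have hi' : ((u : Q) : Q ⧸ L) ^ i = (c : Q ⧸ L) := congrArg Subtype.val hi
    have hφu : φ ⟨u, hq⟩ ^ p = 1 := hpowL _ (hLmem u hq w)
    have hφc : ⁅c, w⁆ = φ ⟨u, hq⟩ ^ i := by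
      rw [← map_zpow]
      have hl : (u ^ i)⁻¹ * c ∈ L := QuotientGroup.eq.1 (by rw [QuotientGroup.mk_zpow]; exact hi')
      have h1 : ⁅(u ^ i)⁻¹ * c, w⁆ = 1 :=
        commutatorElement_eq_one_iff_mul_comm.2 (hcentral _ hl w)
      show ⁅c, w⁆ = ⁅((⟨u, hq⟩ : Z) ^ i : Z).1, w⁆
      rw [SubgroupClass.coe_zpow]
      calc ⁅c, w⁆ = ⁅u ^ i * ((u ^ i)⁻¹ * c), w⁆ := by rw [mul_inv_cancel_left]
        _ = _ := by rw [hmul _ _ _ (h1 ▸ one_mem L), h1, mul_one]
    have hnd : ¬ (p : ℤ) ∣ i := by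
      rintro ⟨j, rfl⟩
      exact hw (by rw [hφc, zpow_mul, zpow_natCast, hφu, one_zpow])
    -- so the image of `c` generates the centre
    obtain ⟨a, b, hab⟩ := ((Nat.prime_iff_prime_int.mp hpp).coprime_iff_not_dvd).mpr hnd
    have hcp : ((c : Q) : Q ⧸ L) ^ p = 1 := by
      have h2 := pow_card_eq_one' (x := (⟨_, (commutator_quotient L ▸
        Subgroup.mem_map_of_mem _ hcQ : (c : Q ⧸ L) ∈ commutator (Q ⧸ L))⟩ : commutator (Q ⧸ L)))
      rw [hc] at h2
      exact congrArg Subtype.val h2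
    obtain ⟨m, hm⟩ := IsPGroup.iff_card.1 (hQ.to_quotient L)
    have hu : ((u : Q) : Q ⧸ L) ∈ Subgroup.zpowers ((c : Q) : Q ⧸ L) := by
      obtain ⟨k, hk⟩ : ∃ k : ℕ, orderOf ((u : Q) : Q ⧸ L) = p ^ k := by
        obtain ⟨k, -, hk⟩ := (Nat.dvd_prime_pow hpp).1 (hm ▸ orderOf_dvd_natCard ((u : Q) : Q ⧸ L))
        exact ⟨k, hk⟩
      have h1 : ((u : Q) : Q ⧸ L) ^ (i * p) = 1 := by
        rw [zpow_mul, hi', zpow_natCast, hcp]
      rw [← orderOf_dvd_iff_zpow_eq_one, hk] at h1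
      have h2 : k ≤ 1 := by
        by_contra h3
        push Not at h3
        have h4 : ((p : ℤ) * p) ∣ i * p := dvd_trans (by
          rw [← sq]; exact_mod_cast pow_dvd_pow p h3) h1
        exact hnd (Int.dvd_of_mul_dvd_mul_right (Int.natCast_ne_zero.2 hpp.ne_zero) h4)
      have h5 : ((u : Q) : Q ⧸ L) ^ (p : ℤ) = 1 := by
        rw [zpow_natCast, ← orderOf_dvd_iff_pow_eq_one, hk]
        exact (pow_dvd_pow p h2).trans (by rw [pow_one])
      refine ⟨b, ?_⟩
      show ((c : Q) : Q ⧸ L) ^ b = _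
      rw [← hi', ← zpow_mul, show i * b = 1 + (p : ℤ) * (-a) by linear_combination hab, zpow_add,
        zpow_one, zpow_mul, h5, one_zpow, mul_one]
    obtain ⟨j, hj⟩ := Subgroup.mem_zpowers_iff.1 (hgen ⟨_, hu0⟩)
    have hj' : ((u : Q) : Q ⧸ L) ^ j = (u0 : Q ⧸ L) := congrArg Subtype.val hj
    obtain ⟨k, hk⟩ := Subgroup.mem_zpowers_iff.1 hu
    rw [← hk, ← zpow_mul, ← QuotientGroup.mk_zpow, QuotientGroup.eq] at hj'
    have := mul_mem (zpow_mem hcQ (k * j)) (hL hj')
    rwa [mul_inv_cancel_left] at this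
  have hcenterbar : Subgroup.center (Q ⧸ L) = commutator (Q ⧸ L) := by
    refine le_antisymm (fun q hq => ?_) hle
    obtain ⟨u, rfl⟩ := QuotientGroup.mk_surjective q
    rw [commutator_quotient]
    exact Subgroup.mem_map_of_mem _ (hZle hq)
  -- the centraliser of the derived subgroup
  let C := Subgroup.centralizer ((commutator Q : Subgroup Q) : Set Q)
  have hcl : commutator Q ⊓ Subgroup.center Q ≤ L := by
    have h1 : L ≤ commutator Q ⊓ Subgroup.center Q := le_inf hL hLZ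
    have h2 : Nat.card ↥(commutator Q ⊓ Subgroup.center Q) ∣ p ^ 2 :=
      hQ' ▸ Subgroup.card_dvd_of_le inf_le_left
    obtain ⟨k, hk2, hkc⟩ := (Nat.dvd_prime_pow hpp).1 h2
    refine (Subgroup.eq_of_le_of_card_ge h1 ?_).ge
    rcases Nat.lt_or_ge k 2 with h3 | h3
    · rw [hkc, hLc]
      calc p ^ k ≤ p ^ 1 := Nat.pow_le_pow_right hpp.pos (by omega)
        _ = p := pow_one p
    · exfalso
      apply hcZ
      have : commutator Q ⊓ Subgroup.center Q = commutator Q :=
        Subgroup.eq_of_le_of_card_ge inf_le_left (by rw [hkc, hQ', show k = 2 by omega])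
      exact (this.ge hcQ).2
  have hCC : ⁅C, C⁆ ≤ L := by
    have hCtop : ⁅⁅C, (⊤ : Subgroup Q)⁆, C⁆ = ⊥ := by
      rw [Subgroup.commutator_eq_bot_iff_le_centralizer]
      refine (Subgroup.commutator_mono le_top le_rfl).trans ?_
      exact Subgroup.le_centralizer_iff.1 le_rfl
    have hTC : ⁅⁅(⊤ : Subgroup Q), C⁆, C⁆ = ⊥ := by
      rw [Subgroup.commutator_comm ⊤ C]; exact hCtop
    have h3 := Subgroup.commutator_commutator_eq_bot_of_rotate hCtop hTC
    refine le_trans (le_inf (Subgroup.commutator_mono le_top le_top) ?_) hcl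
    rw [Subgroup.commutator_eq_bot_iff_le_centralizer] at h3
    refine h3.trans (fun z hz => Subgroup.mem_center_iff.2 fun g => ?_)
    exact Subgroup.mem_centralizer_iff.1 hz g (Subgroup.mem_top g)
  have hsup : ∀ t ∈ commutator Q, ∀ g, ⁅g, c⁆ = 1 → Commute g t := by
    intro t ht g hg
    have hS : L ⊔ Subgroup.zpowers c = commutator Q := by
      refine Subgroup.eq_of_le_of_card_ge (sup_le hL (Subgroup.zpowers_le.2 hcQ)) ?_
      have hlt : L < L ⊔ Subgroup.zpowers c := lt_of_le_of_ne le_sup_left fun e =>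
        hcL (e ▸ le_sup_right (a := L) (Subgroup.mem_zpowers c))
      obtain ⟨k, -, hk⟩ := (Nat.dvd_prime_pow hpp).1
        (hQ' ▸ Subgroup.card_dvd_of_le (sup_le hL (Subgroup.zpowers_le.2 hcQ)))
      have h1 := Core.card_lt_of_lt hlt
      rw [hLc, hk] at h1
      rw [hk, hQ']
      refine Nat.pow_le_pow_right hpp.pos ?_
      by_contra h2
      have : p ^ k ≤ p ^ 1 := Nat.pow_le_pow_right hpp.pos (by omega)
      rw [pow_one] at this
      omega
    have hle2 : L ⊔ Subgroup.zpowers c ≤ Subgroup.centralizer {g} :=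
      sup_le (fun a ha => Subgroup.mem_centralizer_singleton_iff.2 (hcentral a ha g))
        (Subgroup.zpowers_le.2 (Subgroup.mem_centralizer_singleton_iff.2
          (commutatorElement_eq_one_iff_mul_comm.1 hg).symm))
    exact (Subgroup.mem_centralizer_singleton_iff.1 (hle2 (hS.ge ht))).symm
  have hgc : ∀ g : Q, ⁅g, c⁆ ∈ L := fun g => by
    rw [← commutatorElement_inv c g]; exact inv_mem (hLmem c hcc g)
  have hCidx : C.index ∣ p := by
    let φ : Q →* L := MonoidHom.mk' (fun g => ⟨_, hgc g⟩) fun a b =>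
      Subtype.ext (hmul a b c (hgc b))
    have hk : φ.ker ≤ C := fun g hg =>
      Subgroup.mem_centralizer_iff.2 fun t ht => ((hsup t ht g (congrArg Subtype.val hg)).eq).symm
    refine (Subgroup.index_dvd_of_le hk).trans ?_
    rw [Subgroup.index_ker]
    exact (Subgroup.card_subgroup_dvd_card _).trans hLc.dvd
  -- `Q ⧸ L` has an abelian subgroup of index at most `p`
  obtain ⟨χ, hχ⟩ := exists_nonlinear (Q := Q ⧸ L) fun e => hpp.ne_one (by rw [← hc, e, Subgroup.card_bot])
  obtain ⟨θ, hθ⟩ := CharArith.degree_le_index_mul χ.2 (C.map (QuotientGroup.mk' L))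
  have hθ1 : charDegree (θ : C.map (QuotientGroup.mk' L) → ℂ) = 1 := by
    refine charDegree_eq_natCast (d := 1) ?_
    rw [Nat.cast_one]
    refine IsIrr.degree_one_of_comm θ.2 ?_
    rintro ⟨_, a, ha, rfl⟩ ⟨_, b, hb, rfl⟩
    refine Subtype.ext (commutatorElement_eq_one_iff_mul_comm.1 ?_)
    rw [← map_commutatorElement, QuotientGroup.mk'_apply, QuotientGroup.eq_one_iff]
    exact hCC (Subgroup.commutator_mem_commutator ha hb)
  obtain ⟨d, -, hd⟩ := IsIrr.degree χ.2
  have hdp : d ≤ p := by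
    rw [hθ1, mul_one, charDegree_eq_natCast hd] at hθ
    refine hθ.trans (Nat.le_of_dvd hpp.pos (dvd_trans ?_ hCidx))
    exact C.index_map_dvd (QuotientGroup.mk'_surjective L)
  have hcardQ : Nat.card Q ≤ p ^ 4 := by
    have h1 := center_mul_sq hpp hle hc χ.2 hχ
    rw [hcenterbar, hc, hd] at h1
    have h2 : p * d ^ 2 = Nat.card (Q ⧸ L) := by exact_mod_cast h1
    rw [← Subgroup.card_mul_index L, Subgroup.index_eq_card, ← h2, hLc]
    calc p * (p * d ^ 2) ≤ p * (p * p ^ 2) := by gcongr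
      _ = p ^ 4 := by ring
  have hdeg : ∀ ψ : IrrCharacter Q, (ψ : Q → ℂ) 1 ≠ 1 → (ψ : Q → ℂ) 1 = p := by
    intro ψ hψ
    obtain ⟨e, -, he⟩ := IsIrr.degree ψ.2
    obtain ⟨m, hm⟩ := IsPGroup.iff_card.1 hQ
    obtain ⟨k, -, rfl⟩ : ∃ k, k ≤ m ∧ e = p ^ k := by
      have := Fintype.ofFinite Q
      have hdiv := IsIrr.degree_dvd_card ψ.2 he
      rw [hm] at hdiv
      exact (Nat.dvd_prime_pow hpp).1 hdiv
    have hk0 : k ≠ 0 := fun h => hψ (by rw [he, h]; simp)
    have h1 := CharArith.card_center_mul_sq_le ψ.2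
    rw [charDegree_eq_natCast he] at h1
    have hZc : p ≤ Nat.card (Subgroup.center Q) := hLc ▸ Subgroup.card_le_of_le hLZ
    have h2 : p ^ (2 * k + 1) ≤ p ^ 4 := by
      calc p ^ (2 * k + 1) = p * (p ^ k) ^ 2 := by ring
        _ ≤ Nat.card (Subgroup.center Q) * (p ^ k) ^ 2 := Nat.mul_le_mul_right _ hZc
        _ ≤ p ^ 4 := h1.trans hcardQ
    have h3 := (Nat.pow_le_pow_iff_right hpp.one_lt).1 h2
    rw [he, show k = 1 by omega, pow_one]
  obtain ⟨⟨l, hl⟩, hl1⟩ : ∃ l : L, l ≠ 1 := by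
    have : Nontrivial L := Finite.one_lt_card_iff_nontrivial.1 (hLc ▸ hpp.one_lt)
    exact exists_ne 1
  obtain ⟨ψ, hψ⟩ := exists_irr_ne_at_one (g := l) (fun e => hl1 (Subtype.ext e))
  have hψ1 : (ψ : Q → ℂ) 1 ≠ 1 := fun e => hψ (by
    rw [e, apply_commutator_of_linear (IsIrr.isCharacter ψ.2) e (hL hl)])
  let χ' : IrrCharacter Q := ⟨_, isIrrCharacter_mk L χ.2⟩
  refine hψ (hk χ' ψ hχ ((hdeg χ' hχ).trans (hdeg ψ hψ1).symm) l ?_)
  show (χ : Q ⧸ L → ℂ) (QuotientGroup.mk l) = (χ : Q ⧸ L → ℂ) (QuotientGroup.mk 1)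
  rw [(QuotientGroup.eq_one_iff l).2 hl]; rfl

/-- One direction of the characterisation. -/
theorem center_cyclic_of_galois (hQ : IsPGroup p Q) (hna : commutator Q ≠ ⊥) (hk : CommonKernel Q) :
    IsCyclic (Subgroup.center Q) ∧ Nat.card (commutator Q) = p := by
  obtain ⟨m, hm⟩ := IsPGroup.iff_card.1 (hQ.to_subgroup (commutator Q))
  rcases m with _ | _ | m
  · rw [pow_zero] at hm
    exact absurd (Subgroup.card_eq_one.1 hm) hna
  · rw [zero_add, pow_one] at hm
    have hle := Fusion.le_center_of_card_eq_prime hQ _ hm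
    refine ⟨isCyclic_center_of_common_kernel hp.out hm fun a b ha hb => hk a b ha ?_, hm⟩
    have e1 := center_mul_sq hp.out hle hm a.2 ha
    have e2 := center_mul_sq hp.out hle hm b.2 hb
    have := Fintype.ofFinite (Subgroup.center Q)
    have h0 : (Nat.card (Subgroup.center Q) : ℂ) ≠ 0 := card_ne_zero
    obtain ⟨i, -, hi⟩ := IsIrr.degree a.2
    obtain ⟨j, -, hj⟩ := IsIrr.degree b.2
    rw [hi] at e1
    rw [hj] at e2
    rw [hi, hj]
    have e3 : ((i ^ 2 : ℕ) : ℂ) = ((j ^ 2 : ℕ) : ℂ) := by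
      push_cast
      exact mul_left_cancel₀ h0 (e1.trans e2.symm)
    exact_mod_cast Nat.pow_left_injective two_ne_zero (by exact_mod_cast e3)
  · exfalso
    obtain ⟨M, hMn, hM, hMc⟩ := Fusion.exists_normal_le_card_eq hQ (commutator Q) (i := m)
      (by rw [hm]; exact Nat.pow_le_pow_right hp.out.pos (by omega))
    have := hMn
    refine card_commutator_ne_sq (hQ.to_quotient M) (hk.quotient M) ?_
    rw [commutator_quotient]
    let f : commutator Q →* Q ⧸ M := (QuotientGroup.mk' M).comp (commutator Q).subtype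
    have hr : f.range = (commutator Q).map (QuotientGroup.mk' M) := by
      rw [MonoidHom.range_comp, Subgroup.range_subtype]
    have hkr : f.ker = M.subgroupOf (commutator Q) := by ext x; simp [f, Subgroup.mem_subgroupOf]
    rw [← hr, ← Subgroup.index_ker, hkr]
    have h2 := Subgroup.index_mul_card (M.subgroupOf (commutator Q))
    rw [Nat.card_congr (Subgroup.subgroupOfEquivOfLe hM).toEquiv, hm, hMc,
      show p ^ (m + 1 + 1) = p ^ 2 * p ^ m by ring] at h2
    exact Nat.eq_of_mul_eq_mul_right (pow_pos hp.out.pos m) h2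

/-- The other direction. -/
theorem galois_of_center_cyclic (hQ : IsPGroup p Q) (hc : IsCyclic (Subgroup.center Q))
    (hQ' : Nat.card (commutator Q) = p) (χ ψ : IrrCharacter Q) (hχ : (χ : Q → ℂ) 1 ≠ 1)
    (he : (χ : Q → ℂ) 1 = (ψ : Q → ℂ) 1) :
    ∃ k : ℕ, k.Coprime (Nat.card Q) ∧ ∀ g : Q, (ψ : Q → ℂ) g = (χ : Q → ℂ) (g ^ k) := by
  have hpp := hp.out
  have hle := Fusion.le_center_of_card_eq_prime hQ _ hQ'
  obtain ⟨m, hm⟩ := IsPGroup.iff_card.1 hQ
  have hinj : ∀ θ : IrrCharacter Q, (θ : Q → ℂ) 1 ≠ 1 → ∀ ω : Subgroup.center Q →* ℂˣ,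
      (∀ z : Subgroup.center Q, (θ : Q → ℂ) z = (θ : Q → ℂ) 1 * (ω z : ℂ)) → Function.Injective ω := by
    intro θ hθ ω hω
    refine (injective_iff_map_eq_one ω).2 fun z hz => ?_
    by_contra hz1
    obtain ⟨t, ht, ht1⟩ := (Subgroup.bot_or_exists_ne_one (commutator Q)).resolve_left fun e =>
      hpp.ne_one (by rw [← hQ', e, Subgroup.card_bot])
    obtain ⟨j, -, hj⟩ := (Nat.dvd_prime_pow hpp).1
      (hm ▸ (orderOf_dvd_natCard z).trans (Subgroup.card_subgroup_dvd_card _))
    have hord : orderOf (⟨t, hle ht⟩ : Subgroup.center Q) = p := by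
      rw [Subgroup.orderOf_mk]
      refine orderOf_eq_prime ?_ ht1
      have h2 := pow_card_eq_one' (x := (⟨t, ht⟩ : commutator Q))
      rw [hQ'] at h2
      exact congrArg Subtype.val h2
    obtain ⟨i, hi⟩ := Subgroup.mem_zpowers_iff.1 (mem_zpowers_of_orderOf_dvd
      (a := (⟨t, hle ht⟩ : Subgroup.center Q)) (b := z) (by
        rw [hord, hj]
        rcases j with _ | j
        · exact absurd (orderOf_eq_one_iff.1 (hj.trans (pow_zero p))) hz1
        · exact dvd_pow_self p j.succ_ne_zero))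
    refine apply_ne_of_nonlinear hpp hQ' θ.2 hθ ht ht1 ?_
    have h3 : ω ⟨t, hle ht⟩ = 1 := by rw [← hi, map_zpow, hz, one_zpow]
    have := hω ⟨t, hle ht⟩
    rw [h3, Units.val_one, mul_one] at this
    exact this
  have hψ : (ψ : Q → ℂ) 1 ≠ 1 := he ▸ hχ
  obtain ⟨ω, hω⟩ := exists_central_hom χ.2
  obtain ⟨ω', hω'⟩ := exists_central_hom ψ.2
  obtain ⟨g0, hg0⟩ := hc.exists_generator
  have := Fintype.ofFinite (Subgroup.center Q)
  have hprim : ∀ ν : Subgroup.center Q →* ℂˣ, Function.Injective ν →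
      IsPrimitiveRoot (ν g0) (orderOf g0) := fun ν hν => by
    have := IsPrimitiveRoot.orderOf (ν g0)
    rwa [orderOf_injective ν hν] at this
  have : NeZero (orderOf g0) := ⟨(orderOf_pos g0).ne'⟩
  obtain ⟨k, -, hk'⟩ := (IsPrimitiveRoot.coe_units_iff.2 (hprim ω (hinj χ hχ ω hω))).eq_pow_of_pow_eq_one
    (IsPrimitiveRoot.coe_units_iff.2 (hprim ω' (hinj ψ hψ ω' hω'))).pow_eq_one
  have hk : ω g0 ^ k = ω' g0 := Units.ext (by rw [Units.val_pow_eq_pow_val]; exact hk')
  have hkp : ¬ p ∣ k := by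
    intro hd
    have h1 : (ω g0 ^ k).1 ^ (orderOf g0 / p) = 1 := by
      obtain ⟨e, rfl⟩ := hd
      rw [← Units.val_pow_eq_pow_val, ← pow_mul, mul_comm p e, mul_assoc,
        Nat.mul_div_cancel', mul_comm, pow_mul, (hprim ω (hinj χ hχ ω hω)).pow_eq_one, one_pow,
        Units.val_one]
      obtain ⟨t, ht, ht1⟩ := (Subgroup.bot_or_exists_ne_one (commutator Q)).resolve_left fun e =>
        hpp.ne_one (by rw [← hQ', e, Subgroup.card_bot])
      have hord : orderOf (⟨t, hle ht⟩ : Subgroup.center Q) = p := by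
        rw [Subgroup.orderOf_mk]
        refine orderOf_eq_prime ?_ ht1
        have h2 := pow_card_eq_one' (x := (⟨t, ht⟩ : commutator Q))
        rw [hQ'] at h2
        exact congrArg Subtype.val h2
      rw [← hord]
      exact orderOf_dvd_of_mem_zpowers (hg0 _)
    rw [← Units.val_pow_eq_pow_val, Units.val_eq_one] at h1
    rw [hk, ← orderOf_dvd_iff_pow_eq_one, orderOf_injective ω' (hinj ψ hψ ω' hω')] at h1
    have hpd : p ∣ orderOf g0 := by
      have h2 := orderOf_dvd_natCard g0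
      obtain ⟨j, -, hj⟩ := (Nat.dvd_prime_pow hpp).1
        (hm ▸ h2.trans (Subgroup.card_subgroup_dvd_card _))
      rw [hj]
      rcases j with _ | j
      · exfalso
        have hg1 : g0 = 1 := orderOf_eq_one_iff.1 (hj.trans (pow_zero p))
        have hcard : Nat.card (Subgroup.center Q) = 1 := Nat.card_eq_one_iff_unique.2
          ⟨⟨fun a b => by
            obtain ⟨i, hi⟩ := Subgroup.mem_zpowers_iff.1 (hg0 a)
            obtain ⟨i', hi'⟩ := Subgroup.mem_zpowers_iff.1 (hg0 b)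
            rw [← hi, ← hi', hg1, one_zpow, one_zpow]⟩, ⟨1⟩⟩
        have := (Subgroup.card_le_of_le hle).trans_eq hcard
        rw [hQ'] at this
        exact absurd this (not_le.2 hpp.one_lt)
      · exact dvd_pow_self p j.succ_ne_zero
    have h2 : 0 < orderOf g0 / p := Nat.div_pos (Nat.le_of_dvd (orderOf_pos g0) hpd) hpp.pos
    exact absurd (Nat.le_of_dvd h2 h1) (not_le.2 (Nat.div_lt_self (orderOf_pos g0) hpp.one_lt))
  have hcop : k.Coprime (Nat.card Q) := hm ▸
    Nat.Coprime.pow_right _ ((Nat.coprime_comm).1 ((hpp.coprime_iff_not_dvd).2 hkp))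
  refine ⟨k, hcop, fun g => ?_⟩
  by_cases hg : g ∈ Subgroup.center Q
  · obtain ⟨i, hi⟩ := Subgroup.mem_zpowers_iff.1 (hg0 ⟨g, hg⟩)
    rw [hω' ⟨g, hg⟩, show (g ^ k : Q) = (((⟨g, hg⟩ : Subgroup.center Q) ^ k : Subgroup.center Q) : Q)
      from rfl, hω, he]
    congr 1
    congr 1
    rw [← hi, map_pow, map_zpow, map_zpow, ← hk, ← zpow_natCast, ← zpow_natCast, ← zpow_mul,
      ← zpow_mul, mul_comm]
  · rw [apply_eq_zero_of_not_center hpp hle hQ' ψ.2 hψ hg,
      apply_eq_zero_of_not_center hpp hle hQ' χ.2 hχ fun h => hg ?_]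
    obtain ⟨r, hr⟩ := exists_pow_eq_self_of_coprime (hcop.coprime_dvd_right (orderOf_dvd_natCard g))
    rw [← hr]
    exact pow_mem h r

end Cfsg.Agent.Char
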