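import Cfsg.Agent.Char.RealOdd

/-!
# The invariant bilinear form of a real irreducible character, and its symmetry
-/

namespace Cfsg.Agent.Char

open Matrix

universe u

variable {G : Type u} [Group G] [Fintype G] {n : ℕ}

local notation "tM" => LinearMap.toMatrix'

theorem form_iff (ρ : Representation ℂ G (Fin n → ℂ)) (M : Matrix (Fin n) (Fin n) ℂ) :
    (∀ g, (tM (ρ g))ᵀ * M * tM (ρ g) = M) ↔ ∀ g, M * tM (ρ g) = (tM (ρ g⁻¹))ᵀ * M := by
  have key : ∀ g, tM (ρ g) * tM (ρ g⁻¹) = 1 := fun g => by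
    rw [← LinearMap.toMatrix'_mul, ← map_mul, mul_inv_cancel, map_one, Module.End.one_eq_id,
      LinearMap.toMatrix'_id]
  constructor
  · intro h g
    conv_rhs => rw [← h g]
    rw [← mul_assoc, ← mul_assoc, ← Matrix.transpose_mul, key g, Matrix.transpose_one, one_mul]
  · intro h g
    rw [mul_assoc, h g, ← mul_assoc, ← Matrix.transpose_mul]
    have := key g⁻¹
    rw [inv_inv] at this
    rw [this, Matrix.transpose_one, one_mul]

/-- A real irreducible character carries an invertible invariant form. -/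
theorem exists_form (ρ : Representation ℂ G (Fin n → ℂ))
    (hreal : ∀ g, (ρ.character g).im = 0) :
    ∃ M M' : Matrix (Fin n) (Fin n) ℂ, M * M' = 1 ∧ M' * M = 1 ∧
      ∀ g, (tM (ρ g))ᵀ * M * tM (ρ g) = M := by
  classical
  have hAmul : ∀ g h, tM (ρ (g * h)) = tM (ρ g) * tM (ρ h) := fun g h => by
    simp only [map_mul, LinearMap.toMatrix'_mul]
  let σ : Representation ℂ G (Fin n → ℂ) :=
    { toFun := fun g => Matrix.toLin' (tM (ρ g⁻¹))ᵀ
      map_one' := by
        rw [inv_one, map_one, Module.End.one_eq_id, LinearMap.toMatrix'_id, Matrix.transpose_one,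
          Matrix.toLin'_one]
      map_mul' := fun g h => by
        rw [_root_.mul_inv_rev, hAmul, Matrix.transpose_mul, Matrix.toLin'_mul]; rfl }
  have hchar : ρ.character = σ.character := by
    funext g
    show ρ.character g = LinearMap.trace ℂ _ (Matrix.toLin' (tM (ρ g⁻¹))ᵀ)
    rw [Matrix.trace_toLin'_eq, Matrix.trace_transpose, ← Complex.conj_eq_iff_im.2 (hreal g),
      ← IsChar.inv_eq_conj (isCharacter_of_rep ρ) g, Representation.character,
      LinearMap.trace_eq_matrix_trace ℂ (Pi.basisFun ℂ (Fin n)),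
      LinearMap.toMatrix_eq_toMatrix']
  obtain ⟨e, he⟩ := nonempty_equiv_of_character_eq ρ σ hchar
  refine ⟨tM e.toLinearMap, tM e.symm.toLinearMap, ?_, ?_, (form_iff ρ _).2 fun g => ?_⟩
  · rw [← LinearMap.toMatrix'_comp, LinearEquiv.comp_symm, LinearMap.toMatrix'_id]
  · rw [← LinearMap.toMatrix'_comp, LinearEquiv.symm_comp, LinearMap.toMatrix'_id]
  · have h1 : e.toLinearMap ∘ₗ ρ g = Matrix.toLin' (tM (ρ g⁻¹))ᵀ ∘ₗ e.toLinearMap :=
      LinearMap.ext (he g)
    have h2 := congrArg LinearMap.toMatrix' h1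
    rwa [LinearMap.toMatrix'_comp, LinearMap.toMatrix'_comp, LinearMap.toMatrix'_toLin'] at h2

/-- Every invariant form of an irreducible representation is symmetric or alternating according
to the Frobenius–Schur indicator. -/
theorem form_transpose (ρ : Representation ℂ G (Fin n → ℂ)) (hρ : ρ.IsIrreducible)
    (hreal : ∀ g, (ρ.character g).im = 0) (N : Matrix (Fin n) (Fin n) ℂ)
    (hN : ∀ g, (tM (ρ g))ᵀ * N * tM (ρ g) = N) : Nᵀ = fsInd ρ.character • N := by
  classical
  set A : G → Matrix (Fin n) (Fin n) ℂ := fun g => tM (ρ g) with hA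
  obtain ⟨M, M', hMM', hM'M, hM⟩ := exists_form ρ hreal
  have hint : ∀ g, M * A g = (A g⁻¹)ᵀ * M := (form_iff ρ M).1 hM
  -- all invariant forms are multiples of `M`
  have hsc : ∀ K : Matrix (Fin n) (Fin n) ℂ, (∀ g, K * A g = (A g⁻¹)ᵀ * K) →
      ∃ c : ℂ, K = c • M := by
    intro K hK
    obtain ⟨c, hc, -⟩ := commute_eq_scalar ρ hρ (Matrix.toLin' (M' * K)) fun g => by
      apply LinearMap.toMatrix'.injective
      rw [LinearMap.toMatrix'_mul, LinearMap.toMatrix'_mul, LinearMap.toMatrix'_toLin']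
      show M' * K * A g = A g * (M' * K)
      have h5 : M' * (A g⁻¹)ᵀ = A g * M' := by
        calc M' * (A g⁻¹)ᵀ = M' * ((A g⁻¹)ᵀ * M) * M' := by
              rw [mul_assoc, mul_assoc, hMM', mul_one]
          _ = M' * (M * A g) * M' := by rw [hint]
          _ = A g * M' := by rw [← mul_assoc M' M, hM'M, one_mul]
      rw [mul_assoc, hK g, ← mul_assoc, h5, mul_assoc]
    have h1 := congrArg LinearMap.toMatrix' hc
    rw [LinearMap.toMatrix'_toLin', map_smul, LinearMap.toMatrix'_id] at h1
    refine ⟨c, ?_⟩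
    have h2 := congrArg (M * ·) h1
    simpa [← mul_assoc, hMM'] using h2
  obtain ⟨ε, hε⟩ := hsc Mᵀ fun g => by
    have h4 := congrArg Matrix.transpose (hint g⁻¹)
    rw [Matrix.transpose_mul, Matrix.transpose_mul, inv_inv, Matrix.transpose_transpose] at h4
    exact h4.symm
  have hn : 0 < n := by
    obtain ⟨hnt, -⟩ := isIrreducible_iff.1 hρ
    rcases Nat.eq_zero_or_pos n with rfl | h
    · exact absurd hnt (not_nontrivial_iff_subsingleton.2 inferInstance)
    · exact h
  have hM0 : M ≠ 0 := fun h => by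
    have := congrFun (congrFun hMM' ⟨0, hn⟩) ⟨0, hn⟩
    rw [h, zero_mul] at this
    simp at this
  have hε2 : ε * ε = 1 := by
    have h1 := congrArg Matrix.transpose hε
    rw [Matrix.transpose_transpose, Matrix.transpose_smul, hε, smul_smul] at h1
    refine smul_left_injective ℂ hM0 ?_
    show (ε * ε) • M = (1 : ℂ) • M
    rw [one_smul]; exact h1.symm
  have hM't : M'ᵀ = ε • M' := by
    have h1 : M'ᵀ * M = ε • (1 : Matrix (Fin n) (Fin n) ℂ) := by
      calc M'ᵀ * M = M'ᵀ * (ε • Mᵀ) := by rw [hε, smul_smul, hε2, one_smul]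
        _ = ε • (M * M')ᵀ := by rw [Matrix.mul_smul, Matrix.transpose_mul]
        _ = ε • 1 := by rw [hMM', Matrix.transpose_one]
    calc M'ᵀ = M'ᵀ * M * M' := by rw [mul_assoc, hMM', mul_one]
      _ = ε • M' := by rw [h1, Matrix.smul_mul, one_mul]
  have hn0 : (n : ℂ) ≠ 0 := Nat.cast_ne_zero.2 hn.ne'
  have hsum : (∑ g, A g * M' * (A g⁻¹)ᵀ) = ((Nat.card G : ℂ) / n) • M'ᵀ := by
    ext i l
    rw [Matrix.sum_apply, Matrix.smul_apply, smul_eq_mul, div_mul_eq_mul_div, eq_div_iff hn0]
    simp only [Matrix.mul_apply, Matrix.transpose_apply, Finset.sum_mul]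
    rw [Finset.sum_comm, Finset.sum_congr rfl fun x _ => Finset.sum_comm]
    calc _ = ∑ k, ∑ j, M' j k * ((n : ℂ) * ∑ g, A g i j * A g⁻¹ l k) := by
          refine Finset.sum_congr rfl fun k _ => Finset.sum_congr rfl fun j _ => ?_
          rw [Finset.mul_sum, Finset.mul_sum]
          exact Finset.sum_congr rfl fun g _ => by ring
      _ = _ := by
          simp only [hA, schur_matrix ρ hρ, ite_and, mul_ite, mul_zero]
          simp [mul_comm]
  have hval : ∀ g, ρ.character (g * g) = (A g * M' * (A g⁻¹)ᵀ * M).trace := by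
    intro g
    rw [Representation.character, LinearMap.trace_eq_matrix_trace ℂ (Pi.basisFun ℂ (Fin n)),
      LinearMap.toMatrix_eq_toMatrix']
    show (tM (ρ (g * g))).trace = _
    rw [map_mul, LinearMap.toMatrix'_mul, mul_assoc (A g * M'), ← hint, ← mul_assoc,
      mul_assoc (A g) M' M, hM'M, mul_one]
  have hfs : fsInd ρ.character = ε := by
    rw [fsInd, Finset.sum_congr rfl fun g _ => hval g, ← Matrix.trace_sum, ← Finset.sum_mul, hsum,
      Matrix.smul_mul, hM't, Matrix.smul_mul, hM'M, Matrix.trace_smul, Matrix.trace_smul,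
      Matrix.trace_one, Fintype.card_fin, smul_eq_mul, smul_eq_mul]
    field_simp [card_ne_zero]
  obtain ⟨c, rfl⟩ := hsc N ((form_iff ρ N).1 hN)
  rw [Matrix.transpose_smul, hε, hfs, smul_comm]

/-- If the fixed space of a subgroup is one-dimensional, the indicator is not `-1`. -/
theorem fsInd_ne_neg_one (ρ : Representation ℂ G (Fin n → ℂ)) (hρ : ρ.IsIrreducible)
    (hreal : ∀ g, (ρ.character g).im = 0) (H : Subgroup G) [Fintype H]
    (h1 : classInner (fun x : H => ρ.character x) (fun _ => 1) = 1) :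
    fsInd ρ.character ≠ -1 := by
  classical
  intro hfs
  obtain ⟨M, M', hMM', hM'M, hM⟩ := exists_form ρ hreal
  have hMt := form_transpose ρ hρ hreal M hM
  rw [hfs, neg_one_smul] at hMt
  have : Invertible (Nat.card H : ℂ) := invertibleOfNonzero card_ne_zero
  set S := Representation.averageMap (ρ.comp H.subtype) with hS
  have htr := (Representation.isProj_averageMap (ρ.comp H.subtype)).trace
  have h2 : LinearMap.trace ℂ _ S = classInner (fun x : H => ρ.character x) (fun _ => 1) := by
    simp [classInner, GroupAlgebra.average, hS, Representation.averageMap, map_sum,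
      Representation.character, Finset.mul_sum]
  rw [h2, h1] at htr
  have hrk : Module.finrank ℂ (Representation.invariants (ρ.comp H.subtype)) = 1 := by
    exact_mod_cast htr.symm
  obtain ⟨⟨v, hv⟩, hv0, hspan⟩ := finrank_eq_one_iff'.1 hrk
  set φ : (Fin n → ℂ) →ₗ[ℂ] ℂ :=
    { toFun := fun u => v ⬝ᵥ (M *ᵥ u)
      map_add' := fun a b => by rw [Matrix.mulVec_add, dotProduct_add]
      map_smul' := fun c a => by rw [Matrix.mulVec_smul, dotProduct_smul]; rfl } with hφ
  have hinv : ∀ (x : H) (u : Fin n → ℂ), φ (ρ x u) = φ u := by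
    intro x u
    have hfix : tM (ρ (x : G)) *ᵥ v = v := by
      rw [LinearMap.toMatrix'_mulVec]; exact hv x
    show v ⬝ᵥ (M *ᵥ (ρ x u)) = v ⬝ᵥ (M *ᵥ u)
    conv_rhs => rw [← hM (x : G)]
    rw [← Matrix.mulVec_mulVec, ← Matrix.mulVec_mulVec, Matrix.dotProduct_mulVec v (tM (ρ (x : G)))ᵀ,
      Matrix.vecMul_transpose, hfix, LinearMap.toMatrix'_mulVec]
  have hvv : φ v = 0 := by
    have h3 : φ v = - φ v := by
      show v ⬝ᵥ (M *ᵥ v) = -(v ⬝ᵥ (M *ᵥ v))
      conv_lhs => rw [Matrix.dotProduct_mulVec, ← Matrix.mulVec_transpose, hMt,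
        Matrix.neg_mulVec, neg_dotProduct, dotProduct_comm]
    exact self_eq_neg.1 h3
  have hzero : ∀ u, φ u = 0 := by
    intro u
    obtain ⟨c, hc⟩ := hspan ⟨S u, (Representation.isProj_averageMap (ρ.comp H.subtype)).map_mem u⟩
    have hc' : c • v = S u := congrArg Subtype.val hc
    have h4 : φ (S u) = φ u := by
      simp only [hS, Representation.averageMap, GroupAlgebra.average, map_smul, map_sum,
        LinearMap.smul_apply, LinearMap.sum_apply, Representation.asAlgebraHom_single_one,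
        MonoidAlgebra.of_apply, smul_eq_mul]
      rw [Finset.sum_congr rfl (g := fun _ => φ u) fun x _ => by
        simpa using hinv x u, Finset.sum_const, Finset.card_univ, nsmul_eq_mul, ← mul_assoc,
        invOf_mul_self, one_mul]
    rw [← h4, ← hc', map_smul, hvv, smul_zero]
  refine hv0 (Subtype.ext ?_)
  show v = 0
  funext i
  have h5 : v ⬝ᵥ (M *ᵥ (M' *ᵥ Pi.single i 1)) = 0 := hzero _
  rw [Matrix.mulVec_mulVec, hMM', Matrix.one_mulVec, dotProduct_single, mul_one] at h5
  exact h5

end Cfsg.Agent.Char
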