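import Mathlib
import Cfsg.Agent.Char.RealForm

/-!
# A real character with an odd number of fixed points of a subgroup is not symplectic
-/

namespace Cfsg.Agent.Char

open Matrix

universe u

variable {G : Type u} [Group G] [Fintype G] {n : ℕ}

local notation "tM" => LinearMap.toMatrix'

/-- If the fixed space of a subgroup has odd dimension, the indicator is not `-1`. -/
theorem fsInd_ne_neg_one_of_odd (ρ : Representation ℂ G (Fin n → ℂ)) (hρ : ρ.IsIrreducible)
    (hreal : ∀ g, (ρ.character g).im = 0) (H : Subgroup G) [Fintype H] {a : ℕ} (hodd : Odd a)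
    (h1 : classInner (fun x : H => ρ.character x) (fun _ => 1) = a) :
    fsInd ρ.character ≠ -1 := by
  classical
  intro hfs
  obtain ⟨M, M', hMM', hM'M, hM⟩ := exists_form ρ hreal
  have hMt := form_transpose ρ hρ hreal M hM
  rw [hfs, neg_one_smul] at hMt
  have : Invertible (Nat.card H : ℂ) := invertibleOfNonzero card_ne_zero
  set S := Representation.averageMap (ρ.comp H.subtype) with hS
  have htr := (Representation.isProj_averageMap (ρ.comp H.subtype)).trace
  have h2 : LinearMap.trace ℂ _ S = classInner (fun x : H => ρ.character x) (fun _ => 1) := by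
    simp [classInner, GroupAlgebra.average, hS, Representation.averageMap, map_sum,
      Representation.character, Finset.mul_sum]
  rw [h2, h1] at htr
  have hrk : Module.finrank ℂ (Representation.invariants (ρ.comp H.subtype)) = a := by
    exact_mod_cast htr.symm
  let b := Module.finBasisOfFinrankEq ℂ (Representation.invariants (ρ.comp H.subtype)) hrk
  let Φ : (Fin n → ℂ) → ((Fin n → ℂ) →ₗ[ℂ] ℂ) := fun v =>
    { toFun := fun u => v ⬝ᵥ (M *ᵥ u)
      map_add' := fun a b => by rw [Matrix.mulVec_add, dotProduct_add]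
      map_smul' := fun c a => by rw [Matrix.mulVec_smul, dotProduct_smul]; rfl }
  have hskew : ∀ v u, Φ v u = - Φ u v := fun v u => by
    show v ⬝ᵥ (M *ᵥ u) = -(u ⬝ᵥ (M *ᵥ v))
    conv_lhs => rw [Matrix.dotProduct_mulVec, ← Matrix.mulVec_transpose, hMt,
      Matrix.neg_mulVec, neg_dotProduct, dotProduct_comm]
  let Q : Matrix (Fin a) (Fin a) ℂ := fun i j => Φ (b i : Fin n → ℂ) (b j : Fin n → ℂ)
  have hQ : Qᵀ = -Q := by
    ext i j
    exact hskew _ _
  have hdet : Q.det = 0 := by
    have := congrArg Matrix.det hQ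
    rw [Matrix.det_transpose, Matrix.det_neg, Fintype.card_fin, hodd.neg_one_pow, neg_one_mul] at this
    exact self_eq_neg.1 this
  obtain ⟨c, hc0, hc⟩ := Matrix.exists_vecMul_eq_zero_iff.2 hdet
  set w := ∑ i, c i • b i with hw
  have hwv : ∀ u, Φ (w : Fin n → ℂ) u = ∑ i, c i * Φ (b i : Fin n → ℂ) u := fun u => by
    show (w : Fin n → ℂ) ⬝ᵥ (M *ᵥ u) = ∑ i, c i * ((b i : Fin n → ℂ) ⬝ᵥ (M *ᵥ u))
    rw [hw, AddSubmonoidClass.coe_finsetSum, sum_dotProduct]
    exact Finset.sum_congr rfl fun i _ => by rw [SetLike.val_smul, smul_dotProduct, smul_eq_mul]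
  have hw0 : ∀ j, Φ (w : Fin n → ℂ) (b j : Fin n → ℂ) = 0 := fun j => by
    rw [hwv]; exact congrFun hc j
  have hinv : ∀ (x : H) (u : Fin n → ℂ), Φ (w : Fin n → ℂ) (ρ x u) = Φ (w : Fin n → ℂ) u := by
    intro x u
    have hfix : tM (ρ (x : G)) *ᵥ (w : Fin n → ℂ) = w := by
      rw [LinearMap.toMatrix'_mulVec]; exact w.2 x
    show (w : Fin n → ℂ) ⬝ᵥ (M *ᵥ (ρ x u)) = (w : Fin n → ℂ) ⬝ᵥ (M *ᵥ u)
    conv_rhs => rw [← hM (x : G)]
    rw [← Matrix.mulVec_mulVec, ← Matrix.mulVec_mulVec,
      Matrix.dotProduct_mulVec (w : Fin n → ℂ) (tM (ρ (x : G)))ᵀ,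
      Matrix.vecMul_transpose, hfix, LinearMap.toMatrix'_mulVec]
  have hzero : ∀ u, Φ (w : Fin n → ℂ) u = 0 := by
    intro u
    set su : Representation.invariants (ρ.comp H.subtype) :=
      ⟨S u, (Representation.isProj_averageMap (ρ.comp H.subtype)).map_mem u⟩
    have hc' : S u = ∑ j, b.repr su j • (b j : Fin n → ℂ) := by
      have h6 := congrArg Subtype.val (b.sum_repr su)
      rw [AddSubmonoidClass.coe_finsetSum] at h6
      exact h6.symm
    have h4 : Φ (w : Fin n → ℂ) (S u) = Φ (w : Fin n → ℂ) u := by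
      simp only [hS, Representation.averageMap, GroupAlgebra.average, map_smul, map_sum,
        LinearMap.smul_apply, LinearMap.sum_apply, Representation.asAlgebraHom_single_one,
        MonoidAlgebra.of_apply, smul_eq_mul]
      rw [Finset.sum_congr rfl (g := fun _ => Φ (w : Fin n → ℂ) u) fun x _ => by
        simpa using hinv x u, Finset.sum_const, Finset.card_univ, nsmul_eq_mul, ← mul_assoc,
        invOf_mul_self, one_mul]
    rw [← h4, hc', map_sum, Finset.sum_eq_zero fun j _ => by rw [map_smul, hw0, smul_zero]]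
  have hwz : w = 0 := by
    refine Subtype.ext (funext fun i => ?_)
    have h5 : (w : Fin n → ℂ) ⬝ᵥ (M *ᵥ (M' *ᵥ Pi.single i 1)) = 0 := hzero _
    rw [Matrix.mulVec_mulVec, hMM', Matrix.one_mulVec, dotProduct_single, mul_one] at h5
    exact h5
  exact hc0 (funext fun i => Fintype.linearIndependent_iff.1 b.linearIndependent c hwz i)

end Cfsg.Agent.Char
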