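import Mathlib
import Cfsg.Agent.Char.Artin
import Cfsg.Agent.Char.FS
import Cfsg.Agent.Char.Ortho

/-!
# A character of full defect at the primes of the involution centralisers
-/

namespace Cfsg.Agent.Char

open scoped ComplexConjugate

universe u

variable {G : Type u} [Group G] [Fintype G]

theorem invol_defect (heven : Even (Nat.card G)) (χ : IrrCharacter G) {d : ℕ}
    (hd : (χ : G → ℂ) 1 = d) (h2 : 2 ^ (Nat.card G).factorization 2 ∣ d)
    (hp : ∀ p : ℕ, p.Prime → p ≠ 2 → (∃ g : G, orderOf g = 2 * p) →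
      p ^ (Nat.card G).factorization p ∣ d) :
    (∀ s t : G, orderOf s = 2 → orderOf t = 2 → IsConj s t) ∧
    (∀ s : G, orderOf s = 2 → Nat.card (Subgroup.centralizer ({s} : Set G)) = d ∧
      (Nat.card (Subgroup.centralizer ({s} : Set G))).Coprime
        (Subgroup.centralizer ({s} : Set G)).index) ∧
    fsInd (χ : G → ℂ) = 1 := by
  classical
  have hG0 : Nat.card G ≠ 0 := Nat.card_pos.ne'
  let Rel : ℕ → Prop := fun p => p = 2 ∨ (p ≠ 2 ∧ ∃ g : G, orderOf g = 2 * p)
  have hfull : ∀ p, p.Prime → Rel p → p ^ (Nat.card G).factorization p ∣ d := by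
    intro p hpp hrel
    rcases hrel with rfl | ⟨h, hg⟩
    · exact h2
    · exact hp p hpp h hg
  have hvan : ∀ p, p.Prime → Rel p → ∀ x : G, p ∣ orderOf x → (χ : G → ℂ) x = 0 := fun p hpp hrel =>
    defect_zero χ.2 hpp (Nat.ordProj_dvd _ _) (Nat.pow_succ_factorization_not_dvd hG0 hpp) hd
      (hfull p hpp hrel)
  have h2f : 1 ≤ (Nat.card G).factorization 2 :=
    Nat.Prime.factorization_pos_of_dvd Nat.prime_two hG0 (even_iff_two_dvd.1 heven)
  have hd0 : 0 < d := Nat.pos_of_ne_zero fun e => IsIrr.one_ne_zero χ.2 (by rw [hd, e, Nat.cast_zero])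
  have hd1 : d ≠ 1 := fun e => by
    have := Nat.le_of_dvd hd0 h2
    have := (Nat.le_self_pow (show (Nat.card G).factorization 2 ≠ 0 by omega) 2).trans this
    omega
  -- the squares on which `χ` can be non-zero
  have hkey : ∀ g : G, (χ : G → ℂ) (g * g) ≠ 0 → g * g ≠ 1 → Odd (orderOf g) := by
    intro g hne hne1
    by_contra hodd
    rw [Nat.not_odd_iff_even] at hodd
    obtain ⟨j, hj⟩ := even_iff_two_dvd.1 hodd
    have hj0 : 0 < j := by have := orderOf_pos g; omega
    have hsq : orderOf (g * g) = j := by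
      rw [← pow_two, orderOf_pow, hj, Nat.gcd_eq_right (dvd_mul_right 2 j),
        Nat.mul_div_cancel_left _ two_pos]
    have hj1 : j ≠ 1 := fun e => hne1 (orderOf_eq_one_iff.1 (hsq.trans e))
    obtain ⟨p, hpp, hpj⟩ := Nat.exists_prime_and_dvd hj1
    refine hne (hvan p hpp ?_ _ (hsq.symm ▸ hpj))
    by_cases h : p = 2
    · exact Or.inl h
    refine Or.inr ⟨h, g ^ (j / p), ?_⟩
    obtain ⟨k, rfl⟩ := hpj
    rw [Nat.mul_div_cancel_left _ hpp.pos, orderOf_pow, hj,
      Nat.gcd_eq_right (Dvd.intro_left (2 * p) (by ring)), show 2 * (p * k) = 2 * p * k by ring,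
      Nat.mul_div_cancel _ (Nat.pos_of_mul_pos_left hj0)]
  let I : Finset G := Finset.univ.filter fun g => orderOf g = 2
  have hI : ∀ g : G, g ∈ I ↔ g * g = 1 ∧ g ≠ 1 := fun g => by
    simp only [I, Finset.mem_filter, Finset.mem_univ, true_and]
    rw [← pow_two, orderOf_eq_iff two_pos]
    refine ⟨fun h => ⟨h.1, by simpa using h.2 1 one_lt_two one_pos⟩, fun h => ⟨h.1, fun m hm hm0 => ?_⟩⟩
    obtain rfl : m = 1 := by omega
    simpa using h.2
  have hne_one : (χ : G → ℂ) ≠ fun _ => 1 := fun e => hd1 (by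
    have := congrFun e 1; rw [hd] at this; exact_mod_cast this)
  let O : Finset G := Finset.univ.filter fun g => Odd (orderOf g)
  have hsum0 : ∑ g ∈ O, (χ : G → ℂ) g = 0 := by
    have h1 := classInner_irr_ne χ.2 isIrrCharacter_one hne_one
    rw [classInner, inv_mul_eq_iff_eq_mul₀ card_ne_zero, mul_zero] at h1
    simp only [map_one, mul_one] at h1
    rw [← h1]
    refine Finset.sum_subset (Finset.subset_univ _) fun g _ hg => ?_
    simp only [O, Finset.mem_filter, Finset.mem_univ, true_and, Nat.not_odd_iff_even] at hg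
    exact hvan 2 Nat.prime_two (Or.inl rfl) g (even_iff_two_dvd.1 hg)
  have hsq0 : ∑ g ∈ O, (χ : G → ℂ) (g * g) = 0 := by
    rw [← hsum0]
    have hmaps : ∀ g ∈ O, g * g ∈ O := fun g hg => by
      simp only [O, Finset.mem_filter, Finset.mem_univ, true_and] at hg ⊢
      exact hg.of_dvd_nat (by rw [← pow_two]; exact orderOf_pow_dvd 2)
    have hinj : ∀ a ∈ O, ∀ b ∈ O, a * a = b * b → a = b := fun a ha b hb e => by
      simp only [O, Finset.mem_filter, Finset.mem_univ, true_and] at ha hb
      have hroot : ∀ x : G, Odd (orderOf x) → (x * x) ^ ((orderOf x + 1) / 2) = x := fun x hx => by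
        obtain ⟨k, hk⟩ := hx
        rw [← pow_two, ← pow_mul, show 2 * ((orderOf x + 1) / 2) = orderOf x + 1 by omega,
          pow_succ, pow_orderOf_eq_one, one_mul]
      have hord : orderOf a = orderOf b := by
        have h1 : ∀ x : G, Odd (orderOf x) → orderOf (x * x) = orderOf x := fun x hx => by
          rw [← pow_two, Nat.Coprime.orderOf_pow]
          exact (Nat.coprime_two_right.2 hx)
        rw [← h1 a ha, ← h1 b hb, e]
      rw [← hroot a ha, ← hroot b hb, e, hord]
    exact Finset.sum_bij (fun g _ => g * g) hmaps hinj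
      (fun b hb => by
        obtain ⟨a, ha, hab⟩ := Finset.surjOn_of_injOn_of_card_le (fun g => g * g)
          (fun g hg => hmaps g hg) (fun a ha b hb e => hinj a ha b hb e) le_rfl hb
        exact ⟨a, ha, hab⟩) (fun _ _ => rfl)
  have htotal : ∑ g, (χ : G → ℂ) (g * g) = (I.card : ℂ) * d := by
    have hdisj : Disjoint I O := Finset.disjoint_left.2 fun g h1 h2 => by
      simp only [I, O, Finset.mem_filter, Finset.mem_univ, true_and] at h1 h2
      rw [h1] at h2
      exact absurd h2 (by decide)
    rw [← Finset.sum_subset (Finset.subset_univ (I ∪ O)) fun g _ hg => ?_, Finset.sum_union hdisj,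
      hsq0, add_zero, Finset.sum_congr rfl fun g hg => by rw [((hI g).1 hg).1, hd], Finset.sum_const,
      nsmul_eq_mul]
    by_contra hne
    apply hg
    by_cases h1 : g * g = 1
    · by_cases hg1 : g = 1
      · exact Finset.mem_union_right _ (by simp [O, hg1])
      · exact Finset.mem_union_left _ ((hI g).2 ⟨h1, hg1⟩)
    · exact Finset.mem_union_right _ (by simp [O, hkey g hne h1])
  have : Fact (Nat.Prime 2) := ⟨Nat.prime_two⟩
  obtain ⟨s₀, hs₀⟩ := exists_prime_orderOf_dvd_card' 2 (even_iff_two_dvd.1 heven)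
  have hIpos : 0 < I.card := Finset.card_pos.2 ⟨s₀, by simp [I, hs₀]⟩
  have hfs : fsInd (χ : G → ℂ) = 1 ∧ I.card * d = Nat.card G := by
    have h := htotal
    have he : fsInd (χ : G → ℂ) = ((I.card * d : ℕ) : ℂ) / (Nat.card G : ℕ) := by
      rw [fsInd, h, div_eq_inv_mul]; push_cast; ring
    have hpos : (I.card * d : ℕ) ≠ 0 := (Nat.mul_pos hIpos hd0).ne'
    have hne0 : (Nat.card G : ℂ) ≠ 0 := card_ne_zero
    rcases fsInd_irr χ with ⟨h0, -⟩ | ⟨h1 | h1, -⟩
    · rw [he, div_eq_zero_iff] at h0
      rcases h0 with h0 | h0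
      · exact absurd (Nat.cast_eq_zero.1 h0) hpos
      · exact absurd h0 hne0
    · refine ⟨h1, ?_⟩
      rw [he, div_eq_one_iff_eq hne0] at h1
      exact_mod_cast h1
    · rw [he, div_eq_iff hne0, neg_one_mul, eq_neg_iff_add_eq_zero, ← Nat.cast_add,
        Nat.cast_eq_zero] at h1
      omega
  obtain ⟨hfs1, hcard⟩ := hfs
  have hC : ∀ s : G, orderOf s = 2 →
      Nat.card (Subgroup.centralizer ({s} : Set G)) = d ∧
      (Nat.card (Subgroup.centralizer ({s} : Set G))).Coprime
        (Subgroup.centralizer ({s} : Set G)).index ∧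
      (Finset.univ.filter fun x => IsConj s x) = I := by
    intro s hs
    set C := Subgroup.centralizer ({s} : Set G)
    have hrel : ∀ p, p.Prime → p ∣ Nat.card C → Rel p := by
      intro p hpp hpC
      by_cases h : p = 2
      · exact Or.inl h
      refine Or.inr ⟨h, ?_⟩
      have := Fact.mk hpp
      obtain ⟨⟨c, hcC⟩, hc⟩ := exists_prime_orderOf_dvd_card' p hpC
      rw [Subgroup.orderOf_mk] at hc
      refine ⟨s * c, ?_⟩
      rw [(show Commute s c from (Subgroup.mem_centralizer_singleton_iff.1 hcC).symm).orderOf_mul_eq_mul_orderOf_of_coprime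
        (by rw [hs, hc]; exact (Nat.coprime_primes Nat.prime_two hpp).2 (Ne.symm h)), hs, hc]
    have hdvd : Nat.card C ∣ d := by
      rw [← Nat.factorization_le_iff_dvd Nat.card_pos.ne' hd0.ne']
      intro p
      by_cases hpp : p.Prime
      · by_cases hpC : p ∣ Nat.card C
        · refine le_trans ?_ ((hpp.pow_dvd_iff_le_factorization hd0.ne').1 (hfull p hpp (hrel p hpp hpC)))
          exact (Nat.factorization_le_iff_dvd Nat.card_pos.ne' hG0).2 C.card_subgroup_dvd_card p
        · rw [Nat.factorization_eq_zero_of_not_dvd hpC]; exact Nat.zero_le _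
      · simp [Nat.factorization_eq_zero_of_not_prime _ hpp]
    have hsub : (Finset.univ.filter fun x => IsConj s x) ⊆ I := fun x hx => by
      obtain ⟨c, rfl⟩ := isConj_iff.1 (Finset.mem_filter.1 hx).2
      refine Finset.mem_filter.2 ⟨Finset.mem_univ _, ?_⟩
      rw [← hs]
      exact ((MulAut.conj c).toEquiv.injective |> fun _ => MulEquiv.orderOf_eq (MulAut.conj c) s)
    have hcls : (Finset.univ.filter fun x => IsConj s x).card = C.index := by
      rw [← card_isConj_eq_index, Nat.card_eq_fintype_card, Fintype.card_subtype]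
    have hle := Finset.card_le_card hsub
    have hCd := Nat.le_of_dvd hd0 hdvd
    have hprod : C.index * Nat.card C = I.card * d := (Subgroup.index_mul_card C).trans hcard.symm
    have hidx : 0 < C.index := Nat.pos_of_ne_zero Subgroup.index_ne_zero_of_finite
    have heq : Nat.card C = d := by
      rw [hcls] at hle
      refine le_antisymm hCd ?_
      by_contra hlt
      push Not at hlt
      have := Nat.mul_lt_mul_of_lt_of_le (a := Nat.card C) (c := d) hlt hle hIpos
      rw [mul_comm _ C.index, mul_comm d] at this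
      omega
    refine ⟨heq, ?_, Finset.eq_of_subset_of_card_le hsub ?_⟩
    · refine Nat.coprime_of_dvd fun p hpp hpC hpi => ?_
      have hfac := (hpp.pow_dvd_iff_le_factorization hd0.ne').1 (hfull p hpp (hrel p hpp hpC))
      rw [← heq] at hfac
      have h1 : (Nat.card G).factorization p = C.index.factorization p + (Nat.card C).factorization p := by
        rw [← Subgroup.index_mul_card C, Nat.factorization_mul hidx.ne' Nat.card_pos.ne']
        rfl
      have h3 := Nat.Prime.factorization_pos_of_dvd hpp hidx.ne' hpi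
      omega
    · rw [heq] at hprod
      rw [hcls]
      exact (Nat.eq_of_mul_eq_mul_right hd0 hprod).ge
  refine ⟨fun s t hs ht => ?_, fun s hs => ⟨(hC s hs).1, (hC s hs).2.1⟩, hfs1⟩
  have : t ∈ I := by simp [I, ht]
  rw [← (hC s hs).2.2] at this
  exact (Finset.mem_filter.1 this).2

end Cfsg.Agent.Char
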