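import Mathlib.GroupTheory.Transfer
import Mathlib.GroupTheory.SpecificGroups.Cyclic
import Cfsg.Agent.Char.Basic

/-!
# Groups with a Sylow 2-subgroup of order 4 and no normal 2-complement
-/

namespace Cfsg.Agent.Char

universe u

variable {G : Type u} [Group G] [Finite G]

/-- A normal complement of a Sylow 2-subgroup of order 4 centralised by its normalizer. -/
theorem exists_complement_of_normalizer_le {g₀ : ℕ} (hG : Nat.card G = 4 * g₀) (hodd : Odd g₀)
    (P : Sylow 2 G)
    (h : Subgroup.normalizer ((P : Subgroup G) : Set G) ≤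
      Subgroup.centralizer ((P : Subgroup G) : Set G)) :
    ∃ N : Subgroup G, N.Normal ∧ Nat.card N = g₀ ∧ Subgroup.IsComplement' N (P : Subgroup G) := by
  have hc := MonoidHom.ker_transferSylow_isComplement' P h
  refine ⟨_, MonoidHom.normal_ker _, ?_, hc⟩
  have h1 := hc.card_mul_card
  have h2 : Nat.card (P : Subgroup G) = 4 := by
    rw [P.card_eq_multiplicity, hG, Nat.factorization_mul (by norm_num) hodd.pos.ne',
      Finsupp.add_apply, Nat.factorization_eq_zero_of_not_dvd
        (Nat.two_dvd_ne_zero.2 (Nat.odd_iff.1 hodd)), show (4 : ℕ) = 2 ^ 2 from rfl,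
      Nat.prime_two.factorization_pow, Finsupp.single_eq_same, add_zero]
  rw [h2, hG, mul_comm 4 g₀] at h1
  exact Nat.eq_of_mul_eq_mul_right (by norm_num) h1

variable {g₀ : ℕ}

theorem card_sylow_four (hG : Nat.card G = 4 * g₀) (hodd : Odd g₀) (P : Sylow 2 G) :
    Nat.card (P : Subgroup G) = 4 := by
  rw [P.card_eq_multiplicity, hG, Nat.factorization_mul (by norm_num) hodd.pos.ne',
    Finsupp.add_apply, Nat.factorization_eq_zero_of_not_dvd
      (Nat.two_dvd_ne_zero.2 (Nat.odd_iff.1 hodd)), show (4 : ℕ) = 2 ^ 2 from rfl,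
    Nat.prime_two.factorization_pow, Finsupp.single_eq_same, add_zero]

theorem sylow_four_comm (hG : Nat.card G = 4 * g₀) (hodd : Odd g₀) (P : Sylow 2 G)
    {a b : G} (ha : a ∈ (P : Subgroup G)) (hb : b ∈ (P : Subgroup G)) : a * b = b * a := by
  let : CommGroup (P : Subgroup G) := IsPGroup.commGroupOfCardEqPrimeSq (p := 2)
    (card_sylow_four hG hodd P)
  exact congrArg Subtype.val (mul_comm (⟨a, ha⟩ : (P : Subgroup G)) ⟨b, hb⟩)

/-- An odd power of an element normalising an abelian Sylow 2-subgroup centralises it. -/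
theorem exists_odd_pow_centralizes (hG : Nat.card G = 4 * g₀) (hodd : Odd g₀) (P : Sylow 2 G)
    {n : G} (hn : n ∈ Subgroup.normalizer ((P : Subgroup G) : Set G)) :
    ∃ m : ℕ, Odd m ∧ ∀ z ∈ (P : Subgroup G), n ^ m * z * (n ^ m)⁻¹ = z := by
  set N := Subgroup.normalizer ((P : Subgroup G) : Set G) with hN
  refine ⟨((P : Subgroup G).subgroupOf N).index, ?_, fun z hz => ?_⟩
  · exact hodd.of_dvd_nat (by
      have h := (P : Subgroup G).index_eq_card
      have h2 : (P : Subgroup G).relIndex N ∣ (P : Subgroup G).index :=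
        Subgroup.relIndex_dvd_index_of_le Subgroup.le_normalizer
      have h3 := (P : Subgroup G).card_mul_index
      rw [card_sylow_four hG hodd P, hG] at h3
      rw [Nat.eq_of_mul_eq_mul_left (by norm_num) h3] at h2
      exact h2)
  · have : ((P : Subgroup G).subgroupOf N).Normal := Subgroup.normal_in_normalizer
    have hmem := Subgroup.pow_index_mem ((P : Subgroup G).subgroupOf N) (⟨n, hn⟩ : N)
    rw [Subgroup.mem_subgroupOf] at hmem
    simp only [SubgroupClass.coe_pow] at hmem
    rw [sylow_four_comm hG hodd P hmem hz, mul_inv_cancel_right]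

theorem iterate_conj (n : G) (m : ℕ) (z : G) :
    (fun y => n * y * n⁻¹)^[m] z = n ^ m * z * (n ^ m)⁻¹ := by
  induction m with
  | zero => simp
  | succ m ih => rw [Function.iterate_succ_apply', ih, pow_succ']; group

theorem iterate_two_mul {α : Type*} (f : α → α) (z : α) (h : f (f z) = z) :
    ∀ j : ℕ, f^[2 * j] z = z
  | 0 => rfl
  | j + 1 => by
      rw [Nat.mul_succ, Function.iterate_add_apply]
      show f^[2 * j] (f (f z)) = z
      rw [h, iterate_two_mul f z h j]

/-- A normalising element fixing a non-trivial element of the Sylow subgroup centralises it. -/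
theorem normalizer_fix_all (hG : Nat.card G = 4 * g₀) (hodd : Odd g₀) (P : Sylow 2 G) {n J : G}
    (hn : n ∈ Subgroup.normalizer ((P : Subgroup G) : Set G)) (hJ : J ∈ (P : Subgroup G))
    (hJ1 : J ≠ 1) (hfix : n * J * n⁻¹ = J) {z : G} (hz : z ∈ (P : Subgroup G)) :
    n * z * n⁻¹ = z := by
  classical
  obtain ⟨m, hm, hfixm⟩ := exists_odd_pow_centralizes hG hodd P hn
  set f : G → G := fun y => n * y * n⁻¹ with hf
  have hinj : Function.Injective f := fun a b h => mul_left_cancel (mul_right_cancel h)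
  have hfP : ∀ y ∈ (P : Subgroup G), f y ∈ (P : Subgroup G) :=
    fun y hy => (Subgroup.mem_normalizer_iff.1 hn y).1 hy
  have hz' : f^[m] z = z := by rw [hf, iterate_conj]; exact hfixm z hz
  by_contra hne
  have hf1 : f 1 = 1 := by simp [hf]
  have hz1 : z ≠ 1 := fun h => hne (by rw [h]; simpa [hf] using hf1)
  have hzJ : z ≠ J := fun h => hne (by rw [h]; exact hfix)
  have h2 : f (f z) = z := by
    by_contra h2
    have hsub : ({1, J, z, f z, f (f z)} : Finset G) ⊆
        (Set.toFinite ((P : Subgroup G) : Set G)).toFinset := by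
      intro y hy
      simp only [Finset.mem_insert, Finset.mem_singleton] at hy
      rw [Set.Finite.mem_toFinset]
      rcases hy with rfl | rfl | rfl | rfl | rfl
      · exact one_mem _
      · exact hJ
      · exact hz
      · exact hfP _ hz
      · exact hfP _ (hfP _ hz)
    have hcard := Finset.card_le_card hsub
    rw [← Set.ncard_eq_toFinset_card, ← Nat.card_coe_set_eq] at hcard
    have h4 : Nat.card ((P : Subgroup G) : Set G) = 4 := card_sylow_four hG hodd P
    rw [h4] at hcard
    have a1 : f z ≠ z := hne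
    have a2 : f z ≠ 1 := fun h => hz1 (hinj (h.trans hf1.symm))
    have a3 : f z ≠ J := fun h => hzJ (hinj (h.trans hfix.symm))
    have a4 : f (f z) ≠ 1 := fun h => a2 (hinj (h.trans hf1.symm))
    have a5 : f (f z) ≠ J := fun h => a3 (hinj (h.trans hfix.symm))
    have a6 : f (f z) ≠ f z := fun h => a1 (hinj h)
    rw [Finset.card_insert_of_notMem, Finset.card_insert_of_notMem, Finset.card_insert_of_notMem,
      Finset.card_insert_of_notMem, Finset.card_singleton] at hcard
    · omega
    · simp only [Finset.mem_singleton]; exact Ne.symm a6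
    · simp only [Finset.mem_insert, Finset.mem_singleton, not_or]
      exact ⟨Ne.symm a1, Ne.symm h2⟩
    · simp only [Finset.mem_insert, Finset.mem_singleton, not_or]
      exact ⟨Ne.symm hzJ, Ne.symm a3, Ne.symm a5⟩
    · simp only [Finset.mem_insert, Finset.mem_singleton, not_or]
      exact ⟨Ne.symm hJ1, Ne.symm hz1, Ne.symm a2, Ne.symm a4⟩
  obtain ⟨j, rfl⟩ := hm
  rw [show 2 * j + 1 = (2 * j).succ from rfl, Function.iterate_succ_apply',
    iterate_two_mul f z h2 j] at hz'
  exact hne hz'

/-- All non-trivial elements of the Sylow subgroup are conjugate involutions. -/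
theorem sylow_four_involutions (hG : Nat.card G = 4 * g₀) (hodd : Odd g₀)
    (hnc : ¬ ∃ N : Subgroup G, N.Normal ∧ Nat.card N = g₀) (P : Sylow 2 G) {J : G}
    (hJ : J ∈ (P : Subgroup G)) (hJ2 : orderOf J = 2) {z : G} (hz : z ∈ (P : Subgroup G))
    (hz1 : z ≠ 1) : orderOf z = 2 ∧ IsConj J z := by
  classical
  have hle : ¬ Subgroup.normalizer ((P : Subgroup G) : Set G) ≤
      Subgroup.centralizer ((P : Subgroup G) : Set G) := fun h => by
    obtain ⟨N, hN, hcard, -⟩ := exists_complement_of_normalizer_le hG hodd P h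
    exact hnc ⟨N, hN, hcard⟩
  obtain ⟨n, hn, hnc'⟩ := SetLike.not_le_iff_exists.1 hle
  obtain ⟨w, hw, hwn⟩ : ∃ w ∈ (P : Subgroup G), n * w * n⁻¹ ≠ w := by
    by_contra h
    push Not at h
    exact hnc' (Subgroup.mem_centralizer_iff.2 fun w hw => (mul_inv_eq_iff_eq_mul.1 (h w hw)).symm)
  obtain ⟨m, hm, hfixm⟩ := exists_odd_pow_centralizes hG hodd P hn
  set f : G → G := fun y => n * y * n⁻¹ with hf
  have hinj : Function.Injective f := fun a b h => mul_left_cancel (mul_right_cancel h)
  have hfP : ∀ y ∈ (P : Subgroup G), f y ∈ (P : Subgroup G) :=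
    fun y hy => (Subgroup.mem_normalizer_iff.1 hn y).1 hy
  have hmove : ∀ y ∈ (P : Subgroup G), y ≠ 1 → f y ≠ y := fun y hy hy1 h =>
    hwn (normalizer_fix_all hG hodd P hn hy hy1 h hw)
  have hJ1 : J ≠ 1 := fun h => by rw [h, orderOf_one] at hJ2; omega
  have hf1 : f 1 = 1 := by simp [hf]
  have a1 : f J ≠ J := hmove J hJ hJ1
  have a2 : f J ≠ 1 := fun h => hJ1 (hinj (h.trans hf1.symm))
  have a4 : f (f J) ≠ 1 := fun h => a2 (hinj (h.trans hf1.symm))
  have a6 : f (f J) ≠ f J := fun h => a1 (hinj h)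
  have a5 : f (f J) ≠ J := by
    intro h
    obtain ⟨j, hj⟩ := hm
    have hJm : f^[m] J = J := by rw [hf, iterate_conj]; exact hfixm J hJ
    rw [hj, show 2 * j + 1 = (2 * j).succ from rfl, Function.iterate_succ_apply',
      iterate_two_mul f J h j] at hJm
    exact a1 hJm
  have hmem : z = J ∨ z = f J ∨ z = f (f J) := by
    by_contra hcon
    push Not at hcon
    obtain ⟨h1, h2, h3⟩ := hcon
    have hsub : ({1, z, J, f J, f (f J)} : Finset G) ⊆
        (Set.toFinite ((P : Subgroup G) : Set G)).toFinset := by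
      intro y hy
      simp only [Finset.mem_insert, Finset.mem_singleton] at hy
      rw [Set.Finite.mem_toFinset]
      rcases hy with rfl | rfl | rfl | rfl | rfl
      · exact one_mem _
      · exact hz
      · exact hJ
      · exact hfP _ hJ
      · exact hfP _ (hfP _ hJ)
    have hcard := Finset.card_le_card hsub
    rw [← Set.ncard_eq_toFinset_card, ← Nat.card_coe_set_eq] at hcard
    have h4 : Nat.card ((P : Subgroup G) : Set G) = 4 := card_sylow_four hG hodd P
    rw [h4] at hcard
    rw [Finset.card_insert_of_notMem, Finset.card_insert_of_notMem, Finset.card_insert_of_notMem,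
      Finset.card_insert_of_notMem, Finset.card_singleton] at hcard
    · omega
    · simp only [Finset.mem_singleton]; exact Ne.symm a6
    · simp only [Finset.mem_insert, Finset.mem_singleton, not_or]
      exact ⟨Ne.symm a1, Ne.symm a5⟩
    · simp only [Finset.mem_insert, Finset.mem_singleton, not_or]
      exact ⟨h1, h2, h3⟩
    · simp only [Finset.mem_insert, Finset.mem_singleton, not_or]
      exact ⟨Ne.symm hz1, Ne.symm hJ1, Ne.symm a2, Ne.symm a4⟩
  have hc : IsConj J z := by
    rcases hmem with rfl | rfl | rfl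
    · exact IsConj.refl z
    · exact isConj_iff.2 ⟨n, rfl⟩
    · exact (isConj_iff.2 ⟨n, rfl⟩ : IsConj J (f J)).trans (isConj_iff.2 ⟨n, rfl⟩)
  refine ⟨?_, hc⟩
  obtain ⟨c, rfl⟩ := isConj_iff.1 hc
  rw [← MulAut.conj_apply, MulEquiv.orderOf_eq, hJ2]

/-- There are no elements of order divisible by 4. -/
theorem not_four_dvd_orderOf (hG : Nat.card G = 4 * g₀) (hodd : Odd g₀)
    (hnc : ¬ ∃ N : Subgroup G, N.Normal ∧ Nat.card N = g₀) (P : Sylow 2 G) {J : G}
    (hJ : J ∈ (P : Subgroup G)) (hJ2 : orderOf J = 2) (s : G) : ¬ 4 ∣ orderOf s := by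
  intro h
  have : Fact (Nat.Prime 2) := ⟨Nat.prime_two⟩
  have hs0 := orderOf_pos s
  set t := s ^ (orderOf s / 4) with ht
  have ht4 : orderOf t = 4 := by
    rw [ht, orderOf_pow_of_dvd (Nat.div_pos (Nat.le_of_dvd hs0 h) (by norm_num)).ne'
      (Nat.div_dvd_of_dvd h), Nat.div_div_self h hs0.ne']
  have hp : IsPGroup 2 (Subgroup.zpowers t) :=
    IsPGroup.of_card (n := 2) (by rw [Nat.card_zpowers, ht4]; rfl)
  obtain ⟨Q, hQ⟩ := hp.exists_le_sylow
  obtain ⟨c, hc⟩ := MulAction.exists_smul_eq G Q P
  have hmem : c * t * c⁻¹ ∈ (P : Subgroup G) := by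
    rw [← hc, Sylow.coe_subgroup_smul, ← MulAut.conj_apply]
    exact Subgroup.smul_mem_pointwise_smul _ _ _ (hQ (Subgroup.mem_zpowers t))
  have ho : orderOf (c * t * c⁻¹) = 4 := by rw [← MulAut.conj_apply, MulEquiv.orderOf_eq, ht4]
  have hne : c * t * c⁻¹ ≠ 1 := fun h1 => by rw [h1, orderOf_one] at ho; omega
  have := (sylow_four_involutions hG hodd hnc P hJ hJ2 hmem hne).1
  omega

end Cfsg.Agent.Char
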