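import Mathlib
import Cfsg.Agent.Char.LargerDegree

/-!
# The nilpotent length is bounded by the number of character degrees
-/

namespace Cfsg.Agent.Char

universe u

/-- The set of irreducible character degrees. -/
def degSet (G : Type u) [Group G] : Set ℕ :=
  {d : ℕ | ∃ χ : IrrCharacter G, Cfsg.charDegree (χ : G → ℂ) = d}

theorem degSet_finite (G : Type u) [Group G] [Finite G] : (degSet G).Finite := by
  have : Finite (IrrCharacter G) := instFiniteIrrCharacter
  exact (Set.finite_range fun χ : IrrCharacter G => Cfsg.charDegree (χ : G → ℂ)).subset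
    fun _ hd => hd

theorem degSet_one_mem (G : Type u) [Group G] [Finite G] : 1 ∈ degSet G := by
  refine ⟨⟨fun _ => 1, isIrrCharacter_one⟩, ?_⟩
  simp [Cfsg.charDegree]

/-- The largest degree is not a degree of the quotient by the Fitting subgroup. -/
theorem ncard_degSet_quotient_lt {G : Type u} [Group G] [Finite G] [hsol : Group.IsSolvable G]
    (hF : fittingSubgroup G ≠ ⊤) :
    (degSet (G ⧸ fittingSubgroup G)).ncard < (degSet G).ncard := by
  classical
  let := Fintype.ofFinite G
  set F := fittingSubgroup G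
  have hsub : degSet (G ⧸ F) ⊆ degSet G := by
    rintro d ⟨χ, rfl⟩
    exact ⟨⟨fun g : G => (χ : G ⧸ F → ℂ) g,
      isIrrCharacter_comp (QuotientGroup.mk' F) (QuotientGroup.mk'_surjective F) χ.2⟩, rfl⟩
  refine Set.ncard_lt_ncard ⟨hsub, fun hsup => ?_⟩ (degSet_finite G)
  obtain ⟨d, hd, hmax⟩ := Set.exists_max_image (degSet G) id (degSet_finite G)
    ⟨1, degSet_one_mem G⟩
  -- a nonprincipal character of `G ⧸ F` of this degree
  obtain ⟨χ, hχd, hχ1⟩ : ∃ χ : IrrCharacter (G ⧸ F), Cfsg.charDegree (χ : G ⧸ F → ℂ) = d ∧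
      (χ : G ⧸ F → ℂ) ≠ fun _ => 1 := by
    obtain ⟨χ, hχ⟩ := hsup hd
    by_cases h1 : (χ : G ⧸ F → ℂ) = fun _ => 1
    · have hd1 : d = 1 := by rw [← hχ, h1]; simp [Cfsg.charDegree]
      have : Nontrivial (G ⧸ F) := QuotientGroup.nontrivial_iff.2 hF
      obtain ⟨c, hc⟩ := exists_ne (1 : G ⧸ F)
      obtain ⟨ξ, hξ⟩ := exists_irr_ne_at_one hc
      refine ⟨ξ, ?_, fun e => hξ (by rw [e])⟩
      rw [hd1]
      have h2 : Cfsg.charDegree (ξ : G ⧸ F → ℂ) ≤ d := hmax _ (hsub ⟨ξ, rfl⟩)
      obtain ⟨k, hk, hk'⟩ := IsIrr.degree ξ.2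
      have h3 : Cfsg.charDegree (ξ : G ⧸ F → ℂ) = k := by simp [Cfsg.charDegree, hk']
      omega
    · exact ⟨χ, hχ, h1⟩
  set χG : G → ℂ := fun g => (χ : G ⧸ F → ℂ) g with hχG
  have hirr : IsIrrCharacter G χG :=
    isIrrCharacter_comp (QuotientGroup.mk' F) (QuotientGroup.mk'_surjective F) χ.2
  let K := kerSubgroup (IsIrr.isCharacter hirr)
  have : K.Normal := ⟨fun n hn g => by
    show χG (g * n * g⁻¹) = χG 1
    rw [classFun_isConj (isClassFunction_of_isIrr hirr)
      (isConj_iff.2 ⟨g, rfl⟩ : IsConj n (g * n * g⁻¹)).symm]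
    exact hn⟩
  have hFK : F ≤ K := fun f hf => by
    show χG f = χG 1
    simp [hχG, (QuotientGroup.eq_one_iff f).2 hf]
  have hK : K ≠ ⊤ := by
    intro e
    apply hχ1
    funext c
    obtain ⟨g, rfl⟩ := QuotientGroup.mk_surjective c
    have hc : ∀ x : G, χG x = χG 1 := fun x => (e ▸ Subgroup.mem_top x : x ∈ K)
    have h := classInner_irr_self hirr
    obtain ⟨k, hk, hk'⟩ := IsIrr.degree hirr
    simp only [classInner, hc, hk', map_natCast, Finset.sum_const, Finset.card_univ, nsmul_eq_mul,
      ← Nat.card_eq_fintype_card] at h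
    rw [← mul_assoc, inv_mul_cancel₀ card_ne_zero, one_mul] at h
    have hk1 : k = 1 := Nat.eq_one_of_mul_eq_one_right (m := k) (by exact_mod_cast h)
    show χG g = 1
    rw [hc, hk', hk1, Nat.cast_one]
  have hcase : ¬ K ≤ fittingSubgroup G ∨
      (K = fittingSubgroup G ∧ Group.IsSolvable (G ⧸ K) ∧ K ≠ ⊤) := by
    by_cases hKF : K ≤ F
    · exact Or.inr ⟨le_antisymm hKF hFK, inferInstance, hK⟩
    · exact Or.inl hKF
  obtain ⟨ψ, hψ, hlt, -⟩ := exists_larger_degree hirr (fun g => Iff.rfl) hcase
  have h2 : Cfsg.charDegree ψ ≤ d := hmax _ ⟨⟨ψ, hψ⟩, rfl⟩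
  rw [re_one_eq hirr, re_one_eq hψ, Nat.cast_lt] at hlt
  have h3 : Cfsg.charDegree χG = d := hχd
  omega

/-- A chain of normal subgroups with nilpotent factors, indexed by `ℕ`. -/
theorem exists_nilpotent_chain : ∀ (n : ℕ) {G : Type u} [Group G] [Finite G] [Group.IsSolvable G],
    (degSet G).ncard ≤ n → ∃ N : ℕ → Subgroup G, N 0 = ⊥ ∧ N n = ⊤ ∧ Monotone N ∧
      (∀ i, (N i).Normal) ∧ ∀ i, ∀ _ : ((N i).subgroupOf (N (i + 1))).Normal,
        Group.IsNilpotent (↥(N (i + 1)) ⧸ (N i).subgroupOf (N (i + 1))) := by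
  intro n
  induction n with
  | zero =>
    intro G _ _ _ h
    exact absurd ((Set.ncard_pos (degSet_finite G)).2 ⟨1, degSet_one_mem G⟩) (by omega)
  | succ n ih =>
    intro G _ _ _ h
    set F := fittingSubgroup G with hFd
    by_cases hF : F = ⊤
    · refine ⟨fun i => if i = 0 then ⊥ else ⊤, by simp, by simp, ?_, ?_, ?_⟩
      · refine monotone_nat_of_le_succ fun i => ?_
        rcases i with _ | i <;> simp
      · intro i
        rcases i with _ | i <;> simp <;> infer_instance
      · intro i hn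
        have h1 : Group.IsNilpotent G :=
          Group.isNilpotent_top.mp (hF ▸ Core.fittingSubgroup_isNilpotent)
        infer_instance
    · have hlt := ncard_degSet_quotient_lt hF
      obtain ⟨M, hM0, hMn, hmono, hnorm, hnil⟩ := ih (G := G ⧸ F) (Nat.lt_succ_iff.1 (lt_of_lt_of_le hlt h))
      let f := QuotientGroup.mk' F
      let N : ℕ → Subgroup G := fun i => Nat.casesOn i ⊥ fun j => (M j).comap f
      have hNs : ∀ j, N (j + 1) = (M j).comap f := fun j => rfl
      refine ⟨N, rfl, ?_, ?_, ?_, ?_⟩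
      · rw [hNs, hMn, Subgroup.comap_top]
      · refine monotone_nat_of_le_succ fun i => ?_
        rcases i with _ | i
        · exact bot_le
        · exact Subgroup.comap_mono (hmono (Nat.le_succ i))
      · intro i
        rcases i with _ | i
        · exact (inferInstance : (⊥ : Subgroup G).Normal)
        · exact (hnorm _).comap f
      · intro i hn
        rcases i with _ | i
        · have he : N (0 + 1) = F := by
            rw [hNs, hM0, MonoidHom.comap_bot, QuotientGroup.ker_mk']
          have h1 : Group.IsNilpotent ↥(N (0 + 1)) := by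
            rw [he]
            exact Core.fittingSubgroup_isNilpotent
          infer_instance
        · change Group.IsNilpotent
            (↥((M (i + 1)).comap f) ⧸ ((M i).comap f).subgroupOf ((M (i + 1)).comap f))
          have hn' : ((M i).subgroupOf (M (i + 1))).Normal :=
            (hnorm i).subgroupOf (M (i + 1))
          let φ : (M (i + 1)).comap f →* M (i + 1) := f.subgroupComap (M (i + 1))
          have := hnil i hn'
          let ψ : ↥((M (i + 1)).comap f) ⧸ ((M i).comap f).subgroupOf ((M (i + 1)).comap f) →*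
              ↥(M (i + 1)) ⧸ (M i).subgroupOf (M (i + 1)) :=
            QuotientGroup.map _ _ φ fun x hx => hx
          refine Subgroup.isNilpotent_of_ker_le_center ψ ?_
          intro x hx
          obtain ⟨y, rfl⟩ := QuotientGroup.mk_surjective x
          have hy : (y : G) ∈ (M i).comap f := by
            have h2 : φ y ∈ (M i).subgroupOf (M (i + 1)) := (QuotientGroup.eq_one_iff _).1 hx
            exact h2
          rw [(QuotientGroup.eq_one_iff y).2 (Subgroup.mem_subgroupOf.2 hy)]
          exact Subgroup.one_mem _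

end Cfsg.Agent.Char
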