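import Cfsg.Agent.Char.Ortho
import Cfsg.Agent.Char.Linear
import Cfsg.Agent.Blocks.Congr
import Mathlib.GroupTheory.Commutator.Basic

/-!
# An element seen by only one nonlinear irreducible character

If all nonlinear irreducible characters other than `χ` vanish at a non-central `g` with `χ g ≠ 0`,
then `G'` is the union of `ker χ` and the class of `g`, `χ` vanishes off `G'`, and `χ` is the only
nonlinear character of `G ⧸ ker χ`.
-/

set_option autoImplicit false

namespace Cfsg.Agent.Char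

open scoped ComplexConjugate commutatorElement Classical

universe u

variable {G : Type u} [Group G] [Finite G]

/-- The sum of all linear characters. -/
theorem sum_linear_apply (x : G) :
    ∑ ψ : {ψ : IrrCharacter G // (ψ : G → ℂ) 1 = 1}, ((ψ : IrrCharacter G) : G → ℂ) x =
      if x ∈ commutator G then ((commutator G).index : ℂ) else 0 := by
  classical
  have := Fintype.ofFinite (G ⧸ commutator G)
  have hcomm : ∀ a b : G ⧸ commutator G, a * b = b * a := fun a b => by
    obtain ⟨a, rfl⟩ := QuotientGroup.mk_surjective a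
    obtain ⟨b, rfl⟩ := QuotientGroup.mk_surjective b
    exact mul_comm (Abelianization.of a) (Abelianization.of b)
  have h1 := regular_eq_sum (QuotientGroup.mk x : G ⧸ commutator G)
  simp only [IsIrr.degree_one_of_comm (Subtype.prop _) hcomm, one_mul, QuotientGroup.eq_one_iff,
    ← Subgroup.index_eq_card] at h1
  rw [← h1]
  refine (Fintype.sum_equiv ((quotientEquiv (commutator G)).trans
    (Equiv.subtypeEquivRight fun χ => ⟨fun h => ?_, fun h n hn => ?_⟩)) _ _ fun φ => rfl).symm
  · obtain ⟨φ, hφ, he⟩ := IsIrr.exists_quotient (commutator G) χ.2 h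
    rw [he, QuotientGroup.mk_one]
    exact IsIrr.degree_one_of_comm hφ hcomm
  · obtain ⟨f, hf⟩ := IsChar.exists_hom (IsIrr.isCharacter χ.2) h
    rw [h, hf]
    simp [hom_commutator_eq_one f hn]

/-- All nonlinear irreducible characters but `χ` vanish at the non-central element `g`. -/
structure OneNonlinear (χ : IrrCharacter G) (g : G) : Prop where
  not_central : g ∉ Subgroup.center G
  degree : (χ : G → ℂ) 1 ≠ 1
  value : (χ : G → ℂ) g ≠ 0
  other : ∀ ψ : IrrCharacter G, (ψ : G → ℂ) 1 ≠ 1 → ψ ≠ χ → (ψ : G → ℂ) g = 0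

namespace OneNonlinear

variable {χ : IrrCharacter G} {g : G}

theorem linear_apply {ψ : IrrCharacter G} (hψ : (ψ : G → ℂ) 1 = 1) {x : G}
    (hx : x ∈ commutator G) : (ψ : G → ℂ) x = 1 := by
  obtain ⟨f, hf⟩ := IsChar.exists_hom (IsIrr.isCharacter ψ.2) hψ
  rw [hf]
  simp [hom_commutator_eq_one f hx]

/-- Column orthogonality at `g`. -/
theorem column (h : OneNonlinear χ g) (x : G) :
    ∑ ψ : {ψ : IrrCharacter G // (ψ : G → ℂ) 1 = 1},
        ((ψ : IrrCharacter G) : G → ℂ) g * conj (((ψ : IrrCharacter G) : G → ℂ) x) +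
      (χ : G → ℂ) g * conj ((χ : G → ℂ) x) =
      if IsConj g x then (Nat.card (Subgroup.centralizer ({g} : Set G)) : ℂ) else 0 := by
  classical
  have h1 := second_orthogonality g x
  rw [← Finset.sum_filter_add_sum_filter_not _ (fun ψ : IrrCharacter G => (ψ : G → ℂ) 1 = 1),
    Finset.sum_eq_single_of_mem (s := Finset.univ.filter fun ψ : IrrCharacter G => ¬ (ψ : G → ℂ) 1 = 1)
      χ (Finset.mem_filter.2 ⟨Finset.mem_univ _, h.degree⟩)
      (fun ψ hψ hne => by rw [h.other ψ (Finset.mem_filter.1 hψ).2 hne, zero_mul])] at h1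
  rw [← Finset.sum_subtype (Finset.univ.filter fun ψ : IrrCharacter G => (ψ : G → ℂ) 1 = 1)
    (fun ψ => by simp) (fun ψ => (ψ : G → ℂ) g * conj ((ψ : G → ℂ) x))]
  convert h1

theorem column_one (h : OneNonlinear χ g) :
    (if g ∈ commutator G then ((commutator G).index : ℂ) else 0) +
      (χ : G → ℂ) g * (χ : G → ℂ) 1 = 0 := by
  classical
  obtain ⟨n, -, hn⟩ := IsIrr.degree χ.2
  have h1 := h.column 1
  rw [if_neg (fun hc => h.not_central (by
    rw [isConj_one_left.1 hc]; exact one_mem _)), hn, Complex.conj_natCast, ← hn] at h1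
  rw [← sum_linear_apply g]
  convert h1 using 3 with ψ
  rw [ψ.2, map_one, mul_one]

theorem mem_commutator (h : OneNonlinear χ g) : g ∈ commutator G := by
  classical
  by_contra hg
  have h1 := h.column_one
  rw [if_neg hg, zero_add, mul_eq_zero] at h1
  exact h1.elim h.value (IsIrr.one_ne_zero χ.2)

theorem value_eq (h : OneNonlinear χ g) :
    (χ : G → ℂ) g = -(((commutator G).index : ℂ) / (χ : G → ℂ) 1) := by
  classical
  have h1 := h.column_one
  rw [if_pos h.mem_commutator] at h1
  have := IsIrr.one_ne_zero χ.2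
  field_simp
  linear_combination h1

theorem value_off (h : OneNonlinear χ g) {x : G} (hx : x ∉ commutator G) :
    (χ : G → ℂ) x = 0 := by
  classical
  have h1 := h.column x
  rw [if_neg (fun hc => hx (by
    obtain ⟨c, rfl⟩ := isConj_iff.1 hc
    exact (inferInstance : (commutator G).Normal).conj_mem g h.mem_commutator c)),
    Finset.sum_congr rfl fun ψ _ => by rw [linear_apply ψ.2 h.mem_commutator, one_mul],
    ← map_sum, sum_linear_apply, if_neg hx, map_zero, zero_add, mul_eq_zero] at h1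
  simpa using h1.resolve_left h.value

theorem value_of_not_isConj (h : OneNonlinear χ g) {x : G} (hx : x ∈ commutator G)
    (hc : ¬ IsConj g x) : (χ : G → ℂ) x = (χ : G → ℂ) 1 := by
  classical
  have h1 := h.column x
  rw [if_neg hc, Finset.sum_congr rfl fun ψ _ => by rw [linear_apply ψ.2 h.mem_commutator, one_mul],
    ← map_sum, sum_linear_apply, if_pos hx, Complex.conj_natCast] at h1
  have h2 : (χ : G → ℂ) g * conj ((χ : G → ℂ) x) = (χ : G → ℂ) g * (χ : G → ℂ) 1 := by
    have h3 := h.column_one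
    rw [if_pos h.mem_commutator] at h3
    linear_combination h1 - h3
  obtain ⟨n, -, hn⟩ := IsIrr.degree χ.2
  have h4 := congrArg conj (mul_left_cancel₀ h.value h2)
  rwa [Complex.conj_conj, hn, Complex.conj_natCast, ← hn] at h4

/-- The kernel of `χ`. -/
abbrev ker (χ : IrrCharacter G) : Subgroup G := kerSubgroup (IsIrr.isCharacter χ.2)

theorem not_mem_ker (h : OneNonlinear χ g) : g ∉ ker χ := by
  intro hk
  have hk' : (χ : G → ℂ) g = (χ : G → ℂ) 1 := hk
  obtain ⟨n, hn0, hn⟩ := IsIrr.degree χ.2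
  have h1 := h.column_one
  classical
  rw [if_pos h.mem_commutator, hk', hn, ← Nat.cast_mul, ← Nat.cast_add, Nat.cast_eq_zero] at h1
  have := Subgroup.index_ne_zero_of_finite (H := commutator G)
  omega

theorem mem_ker_iff_not_isConj (h : OneNonlinear χ g) {x : G} (hx : x ∈ commutator G) :
    x ∈ ker χ ↔ ¬ IsConj g x :=
  ⟨fun hk hc => h.not_mem_ker (by
    show (χ : G → ℂ) g = _
    rw [classFun_isConj (isClassFunction_of_isIrr χ.2) hc]; exact hk),
    h.value_of_not_isConj hx⟩

theorem ker_le (h : OneNonlinear χ g) : ker χ ≤ commutator G := by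
  intro x (hx : (χ : G → ℂ) x = (χ : G → ℂ) 1)
  by_contra hn
  rw [h.value_off hn] at hx
  exact IsIrr.one_ne_zero χ.2 hx.symm

theorem isConj_of_not_mem_ker (h : OneNonlinear χ g) {x : G} (hx : x ∈ commutator G)
    (hk : x ∉ ker χ) : IsConj g x :=
  by_contra fun hc => hk ((h.mem_ker_iff_not_isConj hx).2 hc)

theorem commutator_eq (h : OneNonlinear χ g) :
    (commutator G : Set G) =
      {x : G | (χ : G → ℂ) x = (χ : G → ℂ) 1} ∪ {y : G | IsConj g y} := by
  ext x
  refine ⟨fun hx => ?_, ?_⟩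
  · by_cases hk : x ∈ ker χ
    · exact Or.inl hk
    · exact Or.inr (h.isConj_of_not_mem_ker hx hk)
  · rintro (hx | hx)
    · exact h.ker_le hx
    · obtain ⟨c, rfl⟩ := isConj_iff.1 hx
      exact (inferInstance : (commutator G).Normal).conj_mem g h.mem_commutator c

theorem eq_of_ker_le (h : OneNonlinear χ g) {ψ : IrrCharacter G} (hψ1 : (ψ : G → ℂ) 1 ≠ 1)
    (hk : ∀ x : G, (χ : G → ℂ) x = (χ : G → ℂ) 1 → (ψ : G → ℂ) x = (ψ : G → ℂ) 1) : ψ = χ := by
  classical
  have := Fintype.ofFinite G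
  by_contra hne
  have h0 : ∀ f : {f : IrrCharacter G // (f : G → ℂ) 1 = 1},
      ∑ x : G, (ψ : G → ℂ) x * conj (((f : IrrCharacter G) : G → ℂ) x) = 0 := fun f => by
    have h1 := classInner_irr_ne ψ.2 f.1.2 fun e => hψ1 (by rw [e, f.2])
    rw [classInner, mul_eq_zero, inv_eq_zero] at h1
    exact h1.resolve_left card_ne_zero
  have h2 : ∑ x : G, (ψ : G → ℂ) x * conj
      (if x ∈ commutator G then ((commutator G).index : ℂ) else 0) = 0 := by
    simp only [← sum_linear_apply, map_sum, Finset.mul_sum]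
    rw [Finset.sum_comm]
    exact Finset.sum_eq_zero fun f _ => h0 f
  simp only [apply_ite conj, Complex.conj_natCast, map_zero, mul_ite, mul_zero] at h2
  rw [← Finset.sum_filter, ← Finset.sum_mul, mul_eq_zero] at h2
  have h3 := h2.resolve_right (Nat.cast_ne_zero.2 Subgroup.index_ne_zero_of_finite)
  rw [← Finset.sum_filter_add_sum_filter_not _ (fun x => x ∈ ker χ),
    Finset.sum_eq_zero (s := Finset.filter (fun x => ¬ x ∈ ker χ) _) fun x hx => by
      simp only [Finset.mem_filter, Finset.mem_univ, true_and] at hx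
      rw [← classFun_isConj (isClassFunction_of_isIrr ψ.2) (h.isConj_of_not_mem_ker hx.1 hx.2)]
      exact h.other ψ hψ1 hne, add_zero,
    Finset.sum_congr (g := fun _ => (ψ : G → ℂ) 1) rfl fun x hx => by
      simp only [Finset.mem_filter] at hx
      exact hk x hx.2, Finset.sum_const,
    nsmul_eq_mul, mul_eq_zero, Nat.cast_eq_zero, Finset.card_eq_zero] at h3
  refine h3.elim (fun he => ?_) (IsIrr.one_ne_zero ψ.2)
  have : (1 : G) ∈ (∅ : Finset G) := he ▸ by simp
  simp at this

/-- An element that is central modulo `ker χ` lies in `G'`. -/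
theorem mem_commutator_of_central (h : OneNonlinear χ g) {z : G}
    (hz : ∀ x : G, ⁅z, x⁆ ∈ ker χ) : z ∈ commutator G := by
  classical
  by_contra hzD
  set K := ker χ with hK
  have := Fintype.ofFinite (G ⧸ K)
  have hc : (QuotientGroup.mk z : G ⧸ K) ∈ Subgroup.center (G ⧸ K) := by
    rw [Subgroup.mem_center_iff]
    intro q
    obtain ⟨x, rfl⟩ := QuotientGroup.mk_surjective q
    have h1 := (QuotientGroup.eq_one_iff _).2 (hz x)
    rw [commutatorElement_def] at h1
    simp only [QuotientGroup.mk_mul, QuotientGroup.mk_inv] at h1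
    exact (commutatorElement_eq_one_iff_mul_comm.1 (by rw [commutatorElement_def]; exact h1)).symm
  have h1 := second_orthogonality (G := G ⧸ K) (z : G ⧸ K) (z : G ⧸ K)
  have h2 := sum_sq_degree (G := G ⧸ K)
  rw [if_pos (IsConj.refl _), Subgroup.centralizer_eq_top_iff_subset.2
    (Set.singleton_subset_iff.2 hc), Subgroup.card_top, ← h2] at h1
  have e1 : ∑ φ : IrrCharacter (G ⧸ K), (φ : G ⧸ K → ℂ) z * conj ((φ : G ⧸ K → ℂ) z) =
      ∑ ψ : {ψ : IrrCharacter G // ∀ n ∈ K, (ψ : G → ℂ) n = (ψ : G → ℂ) 1},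
        (ψ.1 : G → ℂ) z * conj ((ψ.1 : G → ℂ) z) :=
    Fintype.sum_equiv (quotientEquiv K) _ _ fun φ => rfl
  have e2 : ∑ φ : IrrCharacter (G ⧸ K), (φ : G ⧸ K → ℂ) 1 ^ 2 =
      ∑ ψ : {ψ : IrrCharacter G // ∀ n ∈ K, (ψ : G → ℂ) n = (ψ : G → ℂ) 1},
        (ψ.1 : G → ℂ) 1 ^ 2 :=
    Fintype.sum_equiv (quotientEquiv K) _ _ fun φ => rfl
  rw [e1, e2,
    ← sub_eq_zero, ← Finset.sum_sub_distrib,
    Finset.sum_eq_single (⟨χ, fun n hn => hn⟩ : {ψ : IrrCharacter G //
      ∀ n ∈ K, (ψ : G → ℂ) n = (ψ : G → ℂ) 1})] at h1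
  · simp only [h.value_off hzD, zero_mul, zero_sub, neg_eq_zero, sq_eq_zero_iff] at h1
    exact IsIrr.one_ne_zero χ.2 h1
  · intro ψ _ hne
    have h3 : (ψ.1 : G → ℂ) 1 = 1 := by_contra fun h4 =>
      hne (Subtype.ext (h.eq_of_ker_le h4 fun x hx => ψ.2 x hx))
    obtain ⟨f, hf⟩ := IsChar.exists_hom (IsIrr.isCharacter ψ.1.2) h3
    rw [h3, hf]
    have h5 : starRingEnd ℂ (f z : ℂ) * (f z : ℂ) = 1 := by
      rw [← Complex.normSq_eq_conj_mul_self, Complex.normSq_eq_norm_sq]
      have h6 : ((f z : ℂ)) ^ Nat.card G = 1 := by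
        rw [← Units.val_pow_eq_pow_val, ← map_pow, pow_card_eq_one', map_one, Units.val_one]
      rw [Complex.norm_eq_one_of_pow_eq_one h6 Nat.card_pos.ne']
      simp
    simp only [one_pow]
    linear_combination h5
  · simp

end OneNonlinear

end Cfsg.Agent.Char
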