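import Mathlib
import Cfsg.Agent.Char.OneNonlinear
import Cfsg.Agent.Fusion.Tate
import Cfsg.Agent.Core.Frattini

/-!
# Structure forced by an element seen by only one nonlinear character
-/

set_option autoImplicit false

namespace Cfsg.Agent.Char

open scoped ComplexConjugate commutatorElement Classical
open Polynomial

universe u

/-- A vanishing sum of `p`-power roots of unity has a number of terms divisible by `p`. -/
theorem dvd_card_of_sum_root_eq_zero {ι : Type*} [Fintype ι] {p k : ℕ} [Fact p.Prime] (a : ι → ℂ)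
    (ha : ∀ i, a i ^ p ^ k = 1) (h : ∑ i, a i = 0) : p ∣ Fintype.card ι := by
  have hp := (Fact.out : p.Prime)
  set N := p ^ (k + 1) with hN
  have hN0 : N ≠ 0 := pow_ne_zero _ hp.ne_zero
  haveI : NeZero N := ⟨hN0⟩
  have hζ := Complex.isPrimitiveRoot_exp N hN0
  set ζ := Complex.exp (2 * Real.pi * Complex.I / N)
  have hex : ∀ i, ∃ n : ℕ, ζ ^ n = a i := fun i => by
    obtain ⟨n, -, hn⟩ := hζ.eq_pow_of_pow_eq_one (ξ := a i) (by
      rw [hN, pow_succ, pow_mul, ha, one_pow])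
    exact ⟨n, hn⟩
  choose n hn using hex
  set f : ℤ[X] := ∑ i, X ^ n i with hf
  have h0 : aeval ζ f = 0 := by simp [hf, hn, h]
  have hd : cyclotomic N ℤ ∣ f := by
    rw [cyclotomic_eq_minpoly hζ (Nat.pos_of_ne_zero hN0)]
    exact minpoly.isIntegrallyClosed_dvd (hζ.isIntegral (Nat.pos_of_ne_zero hN0)) h0
  have h1 := Polynomial.eval_dvd (x := (1 : ℤ)) hd
  rw [hN, eval_one_cyclotomic_prime_pow] at h1
  simp only [hf, eval_finset_sum, eval_pow, eval_X, one_pow, Finset.sum_const, Finset.card_univ,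
    nsmul_eq_mul, mul_one] at h1
  exact_mod_cast h1

variable {G : Type u} [Group G] [Finite G]

/-- Linear characters separate the cosets of the commutator subgroup. -/
theorem exists_linear_ne_one {x : G} (hx : x ∉ commutator G) : ∃ f : G →* ℂˣ, f x ≠ 1 := by
  by_contra! h
  have h1 := sum_linear_apply x
  rw [if_neg hx, Finset.sum_congr (g := fun _ => (1 : ℂ)) rfl fun ψ _ => by
    obtain ⟨f, hf⟩ := IsChar.exists_hom (IsIrr.isCharacter ψ.1.2) ψ.2
    rw [hf]
    simp [h f], Finset.sum_const, Finset.card_univ, nsmul_eq_mul, mul_one, Nat.cast_eq_zero,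
    ← Nat.card_eq_fintype_card, card_linear] at h1
  exact Subgroup.index_ne_zero_of_finite h1

namespace OneNonlinear

variable {χ : IrrCharacter G} {g : G}

theorem exists_prime (h : OneNonlinear χ g) :
    ∃ p : ℕ, p.Prime ∧ (∃ k, g ^ p ^ k = 1) ∧ (∀ x ∈ commutator G, x ^ p ∈ ker χ) ∧
      ∀ x ∈ commutator G, ∀ y ∈ commutator G, ⁅x, y⁆ ∈ ker χ := by
  set D := commutator G with hD
  set K := ker χ with hK
  have ho : orderOf (QuotientGroup.mk g : G ⧸ K) ≠ 1 := fun e =>
    h.not_mem_ker ((QuotientGroup.eq_one_iff g).1 (orderOf_eq_one_iff.1 e))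
  obtain ⟨p, hp, hpd⟩ := Nat.exists_prime_and_dvd ho
  haveI := Fact.mk hp
  set y := g ^ (orderOf (QuotientGroup.mk g : G ⧸ K) / p) with hy
  have hyD : y ∈ D := pow_mem h.mem_commutator _
  have hyo : orderOf (QuotientGroup.mk y : G ⧸ K) = p := by
    rw [hy, QuotientGroup.mk_pow]
    exact orderOf_pow_orderOf_div (orderOf_pos _).ne' hpd
  obtain ⟨a, t, ht, hyn⟩ := Nat.exists_eq_pow_mul_and_not_dvd (orderOf_pos y).ne' p hp.ne_one
  have hgp : ∃ k, g ^ p ^ k = 1 := by
    have hnk : y ^ t ∉ K := fun hk => by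
      rw [← QuotientGroup.eq_one_iff, QuotientGroup.mk_pow, ← orderOf_dvd_iff_pow_eq_one, hyo] at hk
      exact ht hk
    obtain ⟨c, hc⟩ := isConj_iff.1 (h.isConj_of_not_mem_ker (pow_mem hyD t) hnk)
    refine ⟨a, ?_⟩
    have h1 : (y ^ t) ^ p ^ a = 1 := by rw [← pow_mul, mul_comm, ← hyn, pow_orderOf_eq_one]
    rw [← hc, conj_pow, conj_eq_one_iff] at h1
    exact h1
  have hpow : ∀ x ∈ D, x ^ p ∈ K := by
    intro x hx
    by_cases hxK : x ∈ K
    · exact pow_mem hxK p
    obtain ⟨c, rfl⟩ := isConj_iff.1 (h.isConj_of_not_mem_ker hx hxK)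
    rw [conj_pow]
    refine (inferInstance : K.Normal).conj_mem _ ?_ c
    by_contra hgK
    have h1 := h.isConj_of_not_mem_ker (pow_mem h.mem_commutator p) hgK
    obtain ⟨d, hd⟩ := isConj_iff.1 h1
    obtain ⟨k, hk⟩ := hgp
    obtain ⟨j, -, hj⟩ := (Nat.dvd_prime_pow hp).1 (orderOf_dvd_of_pow_eq_one hk)
    have h2 : orderOf (g ^ p) = orderOf g := by
      rw [← hd]; exact orderOf_injective (MulAut.conj d).toMonoidHom (MulAut.conj d).injective g
    have hj0 : j ≠ 0 := fun e => hgK (by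
      rw [orderOf_eq_one_iff.1 (by rw [hj, e, pow_zero] : orderOf g = 1), one_pow]
      exact one_mem _)
    rw [orderOf_pow' g hp.ne_zero, Nat.gcd_eq_right (by rw [hj]; exact dvd_pow_self p hj0)] at h2
    exact absurd h2 (Nat.div_lt_self (orderOf_pos g) hp.one_lt).ne
  refine ⟨p, hp, hgp, hpow, ?_⟩
  -- the `p`-group `D / K` is abelian
  set KD := K.subgroupOf D
  have hpg : IsPGroup p (D ⧸ KD) := fun q => by
    obtain ⟨x, rfl⟩ := QuotientGroup.mk_surjective q
    exact ⟨1, by rw [pow_one, ← QuotientGroup.mk_pow, QuotientGroup.eq_one_iff]; exact hpow x x.2⟩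
  haveI : Nontrivial (D ⧸ KD) := ⟨⟨QuotientGroup.mk ⟨g, h.mem_commutator⟩, 1, fun e =>
    h.not_mem_ker ((QuotientGroup.eq_one_iff (N := KD) _).1 e)⟩⟩
  haveI := hpg.center_nontrivial
  obtain ⟨⟨zq, hzq⟩, hz1⟩ := exists_ne (1 : Subgroup.center (D ⧸ KD))
  obtain ⟨⟨z, hzD⟩, rfl⟩ := QuotientGroup.mk_surjective zq
  have hzK : z ∉ K := fun e => hz1 (Subtype.ext ((QuotientGroup.eq_one_iff _).2 e))
  have hzc : ∀ w ∈ D, ⁅z, w⁆ ∈ K := fun w hw => by
    have h1 := Subgroup.mem_center_iff.1 hzq (QuotientGroup.mk ⟨w, hw⟩)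
    exact (QuotientGroup.eq_one_iff (N := KD) ⟨_, Subgroup.commutator_le_right _ _
      (Subgroup.commutator_mem_commutator (Subgroup.mem_top z) hw)⟩).1 (by
        show QuotientGroup.mk (⁅(⟨z, hzD⟩ : D), ⟨w, hw⟩⁆) = (1 : D ⧸ KD)
        rw [← QuotientGroup.mk'_apply, map_commutatorElement]
        exact commutatorElement_eq_one_iff_mul_comm.2 h1.symm)
  intro x hx w hw
  by_cases hxK : x ∈ K
  · exact Subgroup.commutator_le_left _ _ (Subgroup.commutator_mem_commutator hxK (Subgroup.mem_top w))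
  obtain ⟨c, hc⟩ := isConj_iff.1
    ((h.isConj_of_not_mem_ker hzD hzK).symm.trans (h.isConj_of_not_mem_ker hx hxK))
  rw [← hc, show ⁅c * z * c⁻¹, w⁆ = c * ⁅z, c⁻¹ * w * c⁆ * c⁻¹ by
    simp only [commutatorElement_def]; group]
  exact (inferInstance : K.Normal).conj_mem _
    (hzc _ (by simpa using (inferInstance : D.Normal).conj_mem w hw c⁻¹)) c

/-- The Tate condition: `ker χ ⊓ P ≤ P'` for a Sylow subgroup `P` containing `g`. -/
theorem ker_inf_le (h : OneNonlinear χ g) {p : ℕ} [Fact p.Prime] (P : Sylow p G) (hg : g ∈ P) :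
    ker χ ⊓ (P : Subgroup G) ≤ (commutator (P : Subgroup G)).map (P : Subgroup G).subtype := by
  have := Fintype.ofFinite G
  rintro u ⟨huK, huP⟩
  by_contra hnot
  obtain ⟨l, hl⟩ := exists_linear_ne_one (x := (⟨u, huP⟩ : (P : Subgroup G)))
    fun e => hnot ⟨_, e, rfl⟩
  set lam : ↥(P : Subgroup G) → ℂ := fun v => (l v : ℂ) with hlam
  have hS : ∀ ψ : IrrCharacter G, (∀ x : G, x ∈ ker χ → (ψ : G → ℂ) x = (ψ : G → ℂ) 1) →
      ∑ v : (P : Subgroup G), conj ((ψ : G → ℂ) v) * lam v = 0 := by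
    intro ψ hψ
    set S := ∑ v : (P : Subgroup G), conj ((ψ : G → ℂ) v) * lam v with hSdef
    have h1 : S = (l ⟨u, huP⟩ : ℂ) * S := by
      rw [hSdef, Finset.mul_sum]
      refine (Fintype.sum_equiv (Equiv.mulLeft (⟨u, huP⟩ : (P : Subgroup G))) _ _ fun v => ?_).symm
      show _ = conj ((ψ : G → ℂ) (u * v)) * lam (⟨u, huP⟩ * v)
      rw [IsChar.mul_left_of_mem_kernel (IsIrr.isCharacter ψ.2) (hψ u huK)]
      simp only [hlam, map_mul, Units.val_mul]
      ring
    have h2 : (1 - (l ⟨u, huP⟩ : ℂ)) * S = 0 := by linear_combination h1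
    exact (mul_eq_zero.1 h2).resolve_left fun e => hl (Units.ext (sub_eq_zero.1 e).symm)
  have hsum : ∑ v : (P : Subgroup G), (if IsConj g v then lam v else 0) = 0 := by
    have h1 : ∑ v : (P : Subgroup G), lam v *
        ∑ ψ : IrrCharacter G, (ψ : G → ℂ) g * conj ((ψ : G → ℂ) v) = 0 := by
      simp only [Finset.mul_sum]
      rw [Finset.sum_comm]
      refine Finset.sum_eq_zero fun ψ _ => ?_
      by_cases hψg : (ψ : G → ℂ) g = 0
      · simp [hψg]
      · rw [Finset.sum_congr rfl fun v _ => show lam v * ((ψ : G → ℂ) g * conj ((ψ : G → ℂ) v)) =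
          (ψ : G → ℂ) g * (conj ((ψ : G → ℂ) v) * lam v) by ring, ← Finset.mul_sum, hS ψ ?_,
          mul_zero]
        intro x hx
        by_cases hψ1 : (ψ : G → ℂ) 1 = 1
        · rw [linear_apply hψ1 (h.ker_le hx), hψ1]
        · have e : ψ = χ := by_contra fun e => hψg (h.other ψ hψ1 e)
          rw [e]
          exact hx
    simp only [second_orthogonality, mul_ite, mul_zero] at h1
    rw [← Finset.sum_filter, ← Finset.sum_mul, Finset.sum_filter, mul_eq_zero, Nat.cast_eq_zero] at h1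
    exact h1.resolve_right Nat.card_pos.ne'
  -- the sum over all conjugating elements
  set F : G → ℂ := fun x => if hx : x⁻¹ * g * x ∈ P then lam ⟨_, hx⟩ else 0 with hF
  have hFsum : ∑ x : G, F x = 0 := by
    set w : G → ℂ := fun y => if hy : y ∈ P then lam ⟨y, hy⟩ else 0 with hw
    have h1 : ∑ x : G, F x = ∑ y ∈ Finset.univ.image (fun x : G => x⁻¹ * g * x),
        ((Finset.univ.filter fun x : G => x⁻¹ * g * x = y).card : ℂ) * w y := by
      rw [← Finset.sum_fiberwise_of_maps_to (g := fun x : G => x⁻¹ * g * x)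
        (fun x _ => Finset.mem_image_of_mem _ (Finset.mem_univ x))]
      refine Finset.sum_congr rfl fun y _ => ?_
      rw [Finset.sum_congr rfl fun x hx => show F x = w y from by
        rw [← (Finset.mem_filter.1 hx).2], Finset.sum_const, nsmul_eq_mul]
    have hfib : ∀ y ∈ Finset.univ.image (fun x : G => x⁻¹ * g * x),
        (Finset.univ.filter fun x : G => x⁻¹ * g * x = y).card =
          (Finset.univ.filter fun x : G => x⁻¹ * g * x = g).card := by
      intro y hy
      obtain ⟨a, -, rfl⟩ := Finset.mem_image.1 hy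
      refine Finset.card_bij (fun x _ => x * a⁻¹) (fun x hx => ?_)
        (fun x _ x' _ e => mul_right_cancel e) (fun x hx => ⟨x * a, ?_, mul_inv_cancel_right x a⟩)
      · simp only [Finset.mem_filter, Finset.mem_univ, true_and] at hx ⊢
        rw [show (x * a⁻¹)⁻¹ * g * (x * a⁻¹) = a * (x⁻¹ * g * x) * a⁻¹ by group, hx]
        group
      · simp only [Finset.mem_filter, Finset.mem_univ, true_and] at hx ⊢
        rw [show (x * a)⁻¹ * g * (x * a) = a⁻¹ * (x⁻¹ * g * x) * a by group, hx]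
    rw [h1, Finset.sum_congr rfl fun y hy => by rw [hfib y hy], ← Finset.mul_sum]
    refine mul_eq_zero_of_right _ ?_
    rw [← hsum, ← Finset.sum_filter]
    symm
    refine Finset.sum_bij_ne_zero (fun v _ _ => (v : G)) (fun v hv _ => ?_)
      (fun v _ _ v' _ _ e => Subtype.ext e) (fun y hy hy0 => ?_) fun v _ _ => by
        simp [hw, v.2]
    · obtain ⟨c, hc⟩ := isConj_iff.1 (Finset.mem_filter.1 hv).2
      exact Finset.mem_image.2 ⟨c⁻¹, Finset.mem_univ _, by rw [inv_inv]; exact hc⟩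
    · obtain ⟨a, -, rfl⟩ := Finset.mem_image.1 hy
      have hP : a⁻¹ * g * a ∈ P := by
        by_contra hn
        exact hy0 (by simp [hw, hn])
      exact ⟨⟨_, hP⟩, Finset.mem_filter.2 ⟨Finset.mem_univ _,
        isConj_iff.2 ⟨a⁻¹, by rw [inv_inv]⟩⟩, by simpa [hw, hP] using hy0, rfl⟩
  -- fixed cosets
  let Q := G ⧸ (P : Subgroup G)
  have := Fintype.ofFinite Q
  have hconst : ∀ (x : G) (v : (P : Subgroup G)), F (x * v) = F x := by
    intro x v
    have e : (x * v)⁻¹ * g * (x * v) = (v : G)⁻¹ * (x⁻¹ * g * x) * v := by group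
    by_cases hx : x⁻¹ * g * x ∈ P
    · have hxv : (x * v)⁻¹ * g * (x * v) ∈ P := by
        rw [e]; exact mul_mem (mul_mem (inv_mem v.2) hx) v.2
      simp only [hF, dif_pos hx, dif_pos hxv, hlam]
      rw [show (⟨_, hxv⟩ : (P : Subgroup G)) = v⁻¹ * ⟨_, hx⟩ * v from Subtype.ext e, map_mul,
        map_mul, map_inv, mul_comm, mul_inv_cancel_left]
    · have hxv : ¬ (x * v)⁻¹ * g * (x * v) ∈ P := fun hm => hx (by
        have h2 := mul_mem (mul_mem v.2 hm) (inv_mem v.2)
        rwa [e, show (v : G) * ((v : G)⁻¹ * (x⁻¹ * g * x) * v) * (v : G)⁻¹ = x⁻¹ * g * x by group]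
          at h2)
      simp only [hF, dif_neg hx, dif_neg hxv]
  have hQ : ∑ q : Q, F q.out = 0 := by
    have h1 : ∑ x : G, F x = ∑ a : Q × (P : Subgroup G), F a.1.out := by
      refine Fintype.sum_equiv Subgroup.groupEquivQuotientProdSubgroup _ _ fun x => ?_
      obtain ⟨v, hv⟩ := QuotientGroup.mk_out_eq_mul (P : Subgroup G) x
      show F x = F (QuotientGroup.mk x : Q).out
      rw [hv, hconst]
    rw [Fintype.sum_prod_type] at h1
    simp only [Finset.sum_const, Finset.card_univ, ← Finset.smul_sum, nsmul_eq_mul,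
      ← Finset.mul_sum] at h1
    rw [h1] at hFsum
    exact (mul_eq_zero.1 hFsum).resolve_left (Nat.cast_ne_zero.2 Fintype.card_ne_zero)
  -- a congruence
  have hpz : IsPGroup p (Subgroup.zpowers g) := P.isPGroup'.to_le (Subgroup.zpowers_le.2 hg)
  have hfix : ∀ q : Q, q ∈ MulAction.fixedPoints (Subgroup.zpowers g) Q ↔
      q.out⁻¹ * g * q.out ∈ P := by
    intro q
    rw [MulAction.mem_fixedPoints]
    have e : (∀ m : Subgroup.zpowers g, m • q = q) ↔ g • q = q :=
      ⟨fun hm => hm ⟨g, Subgroup.mem_zpowers g⟩, fun hm m => by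
        obtain ⟨n, hn⟩ := m.2
        have : g ∈ MulAction.stabilizer G q := hm
        show (m : G) • q = q
        rw [← hn]
        exact zpow_mem this n⟩
    rw [e]
    conv_lhs => rw [← QuotientGroup.out_eq' q]
    rw [MulAction.Quotient.smul_mk, QuotientGroup.eq, smul_eq_mul]
    have e1 : (g * q.out)⁻¹ * q.out = (q.out⁻¹ * g * q.out)⁻¹ := by group
    rw [e1, inv_mem_iff]
    rfl
  obtain ⟨k, hk⟩ := IsPGroup.iff_card.1 P.isPGroup'
  have hroot : ∀ v : (P : Subgroup G), lam v ^ p ^ k = 1 := fun v => by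
    rw [hlam, ← Units.val_pow_eq_pow_val, ← map_pow, ← hk, pow_card_eq_one', map_one, Units.val_one]
  have hdvd := dvd_card_of_sum_root_eq_zero (ι := {q : Q // q ∈ MulAction.fixedPoints (Subgroup.zpowers g) Q})
    (p := p) (k := k) (fun q => lam ⟨_, (hfix q).1 q.2⟩) (fun q => hroot _) (by
      rw [← hQ, Finset.sum_congr rfl fun (q : {q : Q // q ∈ MulAction.fixedPoints (Subgroup.zpowers g) Q}) _ =>
          show lam ⟨_, (hfix q).1 q.2⟩ = F (q : Q).out by simp only [hF]; rw [dif_pos ((hfix q).1 q.2)],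
        ← Finset.sum_subtype (Finset.univ.filter
        fun q : Q => q ∈ MulAction.fixedPoints (Subgroup.zpowers g) Q) (fun q => by simp)
        (fun q => F q.out)]
      · refine Finset.sum_subset (Finset.filter_subset _ _) fun q _ hq => ?_
        simp only [hF]
        rw [dif_neg]
        simpa [hfix] using hq)
  have hmod := hpz.card_modEq_card_fixedPoints Q
  rw [Nat.card_eq_fintype_card (α := MulAction.fixedPoints _ _)] at hmod
  exact P.not_dvd_index ((Nat.ModEq.dvd_iff hmod dvd_rfl).2 (by convert hdvd))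

/-- The kernel of `χ` has a normal `p`-complement, normal in `G`, without non-trivial fixed
points of `g`. -/
theorem exists_complement (h : OneNonlinear χ g) {p : ℕ} [hp : Fact p.Prime]
    (hgp : ∃ k, g ^ p ^ k = 1) :
    ∃ K0 : Subgroup G, K0.Normal ∧ K0 ≤ ker χ ∧ (∀ x ∈ ker χ, ∃ k, x ^ p ^ k ∈ K0) ∧
      K0 ⊓ Subgroup.centralizer {g} = ⊥ := by
  obtain ⟨k, hk⟩ := hgp
  obtain ⟨P, hP⟩ := IsPGroup.exists_le_sylow (P := Subgroup.zpowers g)
    (fun ⟨x, hx⟩ => ⟨k, by
      obtain ⟨n, rfl⟩ := hx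
      apply Subtype.ext
      show (g ^ n) ^ p ^ k = 1
      rw [← zpow_natCast, zpow_comm, zpow_natCast, hk, one_zpow]⟩)
  have hgP : g ∈ P := hP (Subgroup.mem_zpowers g)
  haveI := P.isPGroup'.isNilpotent
  have hfr : commutator (P : Subgroup G) ≤ frattini (P : Subgroup G) :=
    Core.commutator_le_frattini
  obtain ⟨S, N, hN, hNc⟩ := Fusion.hasNormalPComplement_of_normal_inf_le_frattini P (ker χ)
    ((h.ker_inf_le P hgP).trans (Subgroup.map_mono hfr))
  have hcard : Nat.card N = (S : Subgroup (ker χ)).index := hNc.index_eq_card.symm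
  have hcop : (Nat.card N).Coprime p := hcard ▸ (hp.out.coprime_iff_not_dvd.2 S.not_dvd_index).symm
  obtain ⟨e, he⟩ := IsPGroup.iff_card.1 S.isPGroup'
  have hind : N.index = p ^ e := hNc.symm.index_eq_card.trans he
  have hchar : ∀ x : ker χ, x ∈ N ↔ (orderOf x).Coprime p := fun x =>
    ⟨fun hx => Nat.Coprime.coprime_dvd_left (Subgroup.orderOf_dvd_natCard N hx) hcop, fun hx => by
      rw [← QuotientGroup.eq_one_iff, ← orderOf_eq_one_iff]
      refine Nat.eq_one_of_dvd_coprimes (hx.pow_right e) (orderOf_map_dvd (QuotientGroup.mk' N) x) ?_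
      rw [← hind, Subgroup.index_eq_card]
      exact orderOf_dvd_natCard _⟩
  refine ⟨N.map (ker χ).subtype, ⟨?_⟩, Subgroup.map_subtype_le _, fun x hx => ?_, ?_⟩
  · rintro _ ⟨x, hx, rfl⟩ c
    refine ⟨⟨c * x * c⁻¹, (inferInstance : (ker χ).Normal).conj_mem _ x.2 c⟩, ?_, rfl⟩
    rw [SetLike.mem_coe, hchar, ← Subgroup.orderOf_coe, show ((⟨c * x * c⁻¹, _⟩ : ker χ) : G) =
      MulAut.conj c (x : G) from rfl, (MulAut.conj c).orderOf_eq,
      Subgroup.orderOf_coe]
    exact (hchar x).1 hx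
  · refine ⟨e, ⟨⟨x, hx⟩ ^ p ^ e, ?_, rfl⟩⟩
    rw [SetLike.mem_coe, ← hind]
    exact Subgroup.pow_index_mem N _
  · rw [eq_bot_iff]
    rintro _ ⟨⟨x, hx, rfl⟩, hxc⟩
    have hc : Commute (x : G) g := (Subgroup.mem_centralizer_singleton_iff.1 hxc)
    have hnK : (x : G) * g ∉ ker χ := fun hm => h.not_mem_ker (by
      simpa using mul_mem (inv_mem x.2) hm)
    obtain ⟨c, hcg⟩ := isConj_iff.1 (h.isConj_of_not_mem_ker
      (mul_mem (h.ker_le x.2) h.mem_commutator) hnK)
    have h1 : ((x : G) * g) ^ p ^ k = 1 := by rw [← hcg, conj_pow, hk, mul_one, mul_inv_cancel]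
    rw [hc.mul_pow, hk, mul_one] at h1
    refine Subgroup.mem_bot.2 (orderOf_eq_one_iff.1 ?_)
    refine Nat.eq_one_of_dvd_coprimes (((hchar x).1 hx).pow_right k) ?_ (orderOf_dvd_of_pow_eq_one h1)
    show orderOf (x : G) ∣ _
    rw [Subgroup.orderOf_coe]

end OneNonlinear

end Cfsg.Agent.Char
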