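import Mathlib
import Cfsg.Agent.Char.CyclicRational
import Cfsg.Agent.Char.SectionIntegral
import Cfsg.Agent.Blocks.Modular

/-!
# Characters modulo a maximal ideal over `p` separate the `p`-regular parts
-/

namespace Cfsg.Agent.Char

open scoped ComplexConjugate

universe u

variable {G : Type u} [Group G] [Finite G] {χ : G → ℂ} {p : ℕ} {M : Ideal Cfsg.AlgInt}

theorem char_pow_prime (h : IsCharacter G χ) (hp : p.Prime) (x : G) :
    ∃ z : ℂ, IsIntegral ℤ z ∧ χ x ^ p = χ (x ^ p) + p * z := by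
  obtain ⟨n, ρ, rfl⟩ := h
  obtain ⟨μ, b, hb, hμ, hχ⟩ := exists_eigenbasis ρ x
  have hi : ∀ i, IsIntegral ℤ (μ i) := fun i =>
    IsIntegral.of_pow (orderOf_pos x) (by rw [hμ i]; exact isIntegral_one)
  obtain ⟨z, hz, e⟩ := exists_sum_pow_prime hp Finset.univ μ fun i _ => hi i
  have hpow : ∀ i, ρ (x ^ p) (b i) = μ i ^ p • b i := by
    intro i
    rw [map_pow]
    suffices hall : ∀ j : ℕ, ((ρ x) ^ j) (b i) = μ i ^ j • b i from hall p
    intro j
    induction j with
    | zero => simp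
    | succ j ih => rw [pow_succ', Module.End.mul_apply, ih, map_smul, hb, smul_smul, pow_succ]
  refine ⟨z, hz, ?_⟩
  rw [show ρ.character (x ^ p) = ∑ i, μ i ^ p from trace_eq_sum_of_eigenbasis _ b _ hpow, hχ]
  exact e

theorem pow_prime_pow_sub_mem (hM : Cfsg.IsPModular p M) (h : IsCharacter G χ) (k : ℕ) (x : G) :
    (⟨χ x, IsChar.isIntegral h x⟩ : Cfsg.AlgInt) ^ (p ^ k) -
      ⟨χ (x ^ p ^ k), IsChar.isIntegral h _⟩ ∈ M := by
  let f : G → Cfsg.AlgInt := fun g => ⟨χ g, IsChar.isIntegral h g⟩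
  show f x ^ (p ^ k) - f (x ^ p ^ k) ∈ M
  rw [← Ideal.Quotient.eq, map_pow]
  have key : ∀ g, Ideal.Quotient.mk M (f g) ^ p = Ideal.Quotient.mk M (f (g ^ p)) := by
    intro g
    obtain ⟨z, hz, e⟩ := char_pow_prime h hM.1 g
    rw [← map_pow, Ideal.Quotient.eq]
    have e' : f g ^ p - f (g ^ p) = (p : Cfsg.AlgInt) * ⟨z, hz⟩ := Subtype.ext (by
      show χ g ^ p - χ (g ^ p) = ((p : Cfsg.AlgInt) : ℂ) * z
      rw [Blocks.coe_natCast, e]; ring)
    rw [e']
    exact M.mul_mem_right _ hM.2.2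
  induction k with
  | zero => simp
  | succ k ih => rw [pow_succ, pow_mul, ih, key, ← pow_mul]

/-- Characters do not separate an element from its `p`-regular part modulo `M`. -/
theorem sub_regularPart_mem (hM : Cfsg.IsPModular p M) (h : IsCharacter G χ) {a y : G}
    (hc : Commute a y) {k : ℕ} (ha : orderOf a = p ^ k) :
    Cfsg.MemLocalIdeal M (χ (a * y) - χ y) := by
  let f : G → Cfsg.AlgInt := fun g => ⟨χ g, IsChar.isIntegral h g⟩
  have h1 := pow_prime_pow_sub_mem hM h k (a * y)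
  have h2 := pow_prime_pow_sub_mem hM h k y
  have e : (a * y) ^ p ^ k = y ^ p ^ k := by
    rw [hc.mul_pow, ← ha, pow_orderOf_eq_one, one_mul]
  simp only [e] at h1
  have h3 : Ideal.Quotient.mk M (f (a * y)) ^ p ^ k = Ideal.Quotient.mk M (f y) ^ p ^ k := by
    rw [← map_pow, ← map_pow]
    exact ((Ideal.Quotient.eq).2 h1).trans ((Ideal.Quotient.eq).2 h2).symm
  have := hM.2.1
  let _ := Ideal.Quotient.field M
  have : CharP (Cfsg.AlgInt ⧸ M) p := by
    refine ⟨fun n => ?_⟩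
    rw [← map_natCast (Ideal.Quotient.mk M), Ideal.Quotient.eq_zero_iff_mem]
    exact Blocks.natCast_mem_iff hM n
  have : Fact p.Prime := ⟨hM.1⟩
  have h4 := iterateFrobenius_inj (Cfsg.AlgInt ⧸ M) p k
    (a₁ := Ideal.Quotient.mk M (f (a * y))) (a₂ := Ideal.Quotient.mk M (f y))
    (by simpa [iterateFrobenius_def] using h3)
  have h5 := (Blocks.memLocalIdeal_coe_iff hM _).2 (Ideal.Quotient.eq.1 h4)
  simpa [f] using h5

/-- Brauer: `p`-regular parts are conjugate when all characters agree modulo `M`. -/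
theorem isConj_of_cong (hM : Cfsg.IsPModular p M) {x y : G} (hx : ¬ p ∣ orderOf x)
    (hy : ¬ p ∣ orderOf y)
    (h : ∀ χ : IrrCharacter G, Cfsg.MemLocalIdeal M ((χ : G → ℂ) x - (χ : G → ℂ) y)) :
    IsConj x y := by
  classical
  have := Fintype.ofFinite G
  have hG0 : Nat.card G ≠ 0 := Nat.card_pos.ne'
  set e := (Nat.card G).factorization p
  have hmn : Nat.card G = p ^ e * (Nat.card G / p ^ e) := (Nat.ordProj_mul_ordCompl_eq_self _ _).symm
  have hcop : (p ^ e).Coprime (Nat.card G / p ^ e) :=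
    Nat.Coprime.pow_left _ (Nat.coprime_ordCompl hM.1 hG0)
  obtain ⟨a, b, hab, hb⟩ := exists_component (G := G) hmn.dvd hcop
  set n := Nat.card G / p ^ e
  let θ : G → ℂ := fun z => if IsConj (z ^ b) x then (n : ℂ) else 0
  have hcls : IsClassFunction G θ := fun z k => by
    have hc : IsConj (z ^ b) ((k * z * k⁻¹) ^ b) := isConj_iff.2 ⟨k, conj_pow.symm⟩
    by_cases hz : IsConj (z ^ b) x
    · simp only [θ, if_pos hz, if_pos (hc.symm.trans hz)]
    · simp only [θ, if_neg hz, if_neg fun h' => hz (hc.trans h')]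
  have hfix : ∀ z : G, ¬ p ∣ orderOf z → z ^ b = z := fun z hz => by
    have := hb 1 z (Commute.one_left z) (by simp)
      (Nat.Coprime.pow_right _ ((Nat.coprime_comm).1 ((hM.1.coprime_iff_not_dvd).2 hz)))
    rwa [one_mul] at this
  by_contra hne
  have hθx : θ x = n := if_pos (by rw [hfix x hx])
  have hθy : θ y = 0 := if_neg (by rw [hfix y hy]; exact fun h' => hne h'.symm)
  have hexp : θ x - θ y =
      ∑ χ : IrrCharacter G, classInner θ (χ : G → ℂ) * ((χ : G → ℂ) x - (χ : G → ℂ) y) := by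
    rw [congrFun (classFun_expansion hcls) x, congrFun (classFun_expansion hcls) y]
    simp only [Finset.sum_apply, Pi.smul_apply, smul_eq_mul, mul_sub, Finset.sum_sub_distrib]
  have hmem : Cfsg.MemLocalIdeal M (θ x - θ y) := hexp ▸ Blocks.memLocalIdeal_sum hM _ fun χ _ =>
    Blocks.memLocalIdeal_mul_left hM (Blocks.memLocalRing_of_isIntegral hM
      (isIntegral_section hmn hcop x hb (θ := θ) (fun z hz => if_pos hz) (fun z hz => if_neg hz)
        (IsIrr.isCharacter χ.2))) (h χ)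
  rw [hθx, hθy, sub_zero, Blocks.memLocalIdeal_natCast_iff hM] at hmem
  exact Nat.not_dvd_ordCompl hM.1 hG0 hmem

end Cfsg.Agent.Char
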