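import Cfsg.Agent.Char.SolvableDegree
import Cfsg.Agent.Core.PCore
import Cfsg.Agent.Core.FaithfulTI
import Cfsg.Agent.Layer.PConstraint
import Cfsg.Agent.CentLarge.Basic
import Mathlib

/-!
# Faithful characters of small degree of `p`-solvable groups
-/

set_option autoImplicit false

namespace Cfsg.Agent.Char

open scoped ComplexConjugate

universe u

variable {G : Type u} [Group G] [Finite G] {p : ℕ} [hp : Fact p.Prime]

/-- A `p`-solvable group with non-normal Sylow subgroup has a solvable subgroup with the same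
property. -/
theorem exists_solvable_not_normal (hsol : Cfsg.IsPSolvable p G) (P : Sylow p G)
    (hP : ¬ (P : Subgroup G).Normal) :
    ∃ T : Subgroup G, Group.IsSolvable T ∧ ∃ Q : Sylow p T, ¬ (Q : Subgroup T).Normal := by
  classical
  set N := Cfsg.pCore p G with hN
  have hNp : IsPGroup p N := Core.pCore_isPGroup
  let π := QuotientGroup.mk' N
  have hπ : Function.Surjective π := QuotientGroup.mk'_surjective N
  set Pb := P.mapSurjective hπ with hPb
  set R := Cfsg.pPrimeCore p (G ⧸ N) with hR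
  have hcent := Core.centralizer_pPrimeCore_le (Layer.isPSolvable_of_surjective hsol hπ)
    (Core.pCore_quotient_eq_bot (p := p) (G := G))
  have hRcop : (Nat.card R).Coprime p := Core.coprime_card_pPrimeCore
  have hPR : (Pb : Subgroup (G ⧸ N)) ⊓ R = ⊥ := Layer.inf_eq_bot_of_isPGroup Pb.isPGroup' hRcop
  have hPbne : (Pb : Subgroup (G ⧸ N)) ≠ ⊥ := fun h => hP (by
    have hle : (P : Subgroup G) ≤ N := fun x hx => by
      have h1 : π x ∈ (Pb : Subgroup (G ⧸ N)) := by
        rw [hPb, Sylow.coe_mapSurjective]; exact ⟨x, hx, rfl⟩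
      rw [h, Subgroup.mem_bot] at h1
      exact (QuotientGroup.eq_one_iff x).1 h1
    rw [← P.is_maximal' hNp hle]
    infer_instance)
  -- some invariant Sylow subgroup of `R` is not centralised
  obtain ⟨q, hq, Q, hQR, hQq, hQnorm, hQcent⟩ : ∃ q : ℕ, q.Prime ∧ ∃ Q : Subgroup (G ⧸ N),
      Q ≤ R ∧ IsPGroup q Q ∧ (Pb : Subgroup (G ⧸ N)) ≤ Subgroup.normalizer (Q : Set (G ⧸ N)) ∧
      ¬ (Pb : Subgroup (G ⧸ N)) ≤ Subgroup.centralizer (Q : Set (G ⧸ N)) := by
    by_contra! hall
    set C := Subgroup.centralizer ((Pb : Subgroup (G ⧸ N)) : Set (G ⧸ N)) ⊓ R with hC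
    have hCR : Nat.card R ∣ Nat.card C := by
      refine (Nat.dvd_iff_prime_pow_dvd_dvd _ _).2 fun q k hq hk => ?_
      have := Fact.mk hq
      obtain ⟨S⟩ : Nonempty (Sylow q R) := inferInstance
      set S' := (S : Subgroup R).map R.subtype with hS'
      have hRn : R.Normal := inferInstance
      have hfr := Sylow.normalizer_sup_eq_top S
      set M := Subgroup.normalizer (S' : Set (G ⧸ N)) with hM
      -- a Sylow `p`-subgroup normalises `S'`
      obtain ⟨U⟩ : Nonempty (Sylow p M) := inferInstance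
      have hMi : ¬ p ∣ M.index := fun hd => by
        have h1 : M.index ∣ Nat.card R := by
          have h2 := Core.card_sup_mul_card_inf M R
          rw [show M ⊔ R = ⊤ from hfr, Subgroup.card_top, ← M.card_mul_index, mul_assoc] at h2
          exact ⟨_, (Nat.eq_of_mul_eq_mul_left Nat.card_pos h2).symm⟩
        exact (hp.out.coprime_iff_not_dvd.1 hRcop.symm) (hd.trans h1)
      have hUi : ¬ p ∣ ((U : Subgroup M).map M.subtype).index := by
        rw [Subgroup.index_map_subtype]
        exact hp.out.not_dvd_mul U.not_dvd_index hMi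
      obtain ⟨c, hc⟩ := MulAction.exists_smul_eq (G ⧸ N)
        ((U.isPGroup'.map M.subtype).toSylow hUi) Pb
      set S'' := S'.map (MulAut.conj c).toMonoidHom with hS''
      have hle : S'' ≤ R := by
        rintro _ ⟨s, ⟨s', -, rfl⟩, rfl⟩
        exact hRn.conj_mem _ s'.2 c
      have hnorm : (Pb : Subgroup (G ⧸ N)) ≤ Subgroup.normalizer (S'' : Set (G ⧸ N)) := by
        rw [← hc, Sylow.coe_subgroup_smul, IsPGroup.toSylow_coe]
        refine le_trans ?_ (Subgroup.le_normalizer_map (MulAut.conj c).toMonoidHom)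
        rintro _ ⟨u, hu, rfl⟩
        obtain ⟨u', -, rfl⟩ := hu
        exact ⟨u', u'.2, rfl⟩
      have hcen := hall q hq S'' hle ((S.isPGroup'.map R.subtype).map _) hnorm
      have hSC : S'' ≤ C := le_inf (Subgroup.le_centralizer_iff.1 hcen) hle
      refine dvd_trans ?_ (Subgroup.card_dvd_of_le hSC)
      rw [hS'', Subgroup.card_map_of_injective (MulAut.conj c).injective, hS',
        Subgroup.card_map_of_injective R.subtype_injective, S.card_eq_multiplicity]
      exact pow_dvd_pow q ((hq.pow_dvd_iff_le_factorization Nat.card_pos.ne').1 hk)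
    have heq : C = R := Subgroup.eq_of_le_of_card_ge inf_le_right (Nat.le_of_dvd Nat.card_pos hCR)
    apply hPbne
    rw [← hPR, eq_comm, inf_eq_left]
    exact (Subgroup.le_centralizer_iff.1 (heq.ge.trans inf_le_left)).trans hcent
  have := Fact.mk hq
  set H := (Pb : Subgroup (G ⧸ N)) ⊔ Q with hH
  refine ⟨H.comap π, ?_, ?_⟩
  · have hsolH : Group.IsSolvable H := by
      obtain ⟨a, ha⟩ := Pb.isPGroup'.exists_card_eq
      obtain ⟨b, hb⟩ := hQq.exists_card_eq
      have hdis : (Pb : Subgroup (G ⧸ N)) ⊓ Q = ⊥ := le_bot_iff.1 ((inf_le_inf_left _ hQR).trans hPR.le)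
      refine isSolvable_of_card_eq p q hp.out hq _ H rfl ⟨a, b, ?_⟩
      rw [← ha, ← hb]
      have h := CentLarge.card_mul_card_inf Q (Pb : Subgroup (G ⧸ N))
      rw [← Subgroup.coe_mul_of_right_le_normalizer_left Q _ hQnorm, inf_comm, hdis,
        Subgroup.card_bot, mul_one, mul_comm (Nat.card Q)] at h
      rw [hH, sup_comm]
      exact h
    let π' : H.comap π →* H := (π.comp (H.comap π).subtype).codRestrict H fun x => x.2
    have hNsol : Group.IsSolvable N := by
      have := hNp.isNilpotent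
      infer_instance
    refine Group.isSolvable_of_ker_le_range (Subgroup.inclusion (fun x hx => by
      show π x ∈ H
      rw [show π x = 1 from (QuotientGroup.eq_one_iff x).2 hx]
      exact H.one_mem : N ≤ H.comap π)) π' fun x hx => ?_
    exact ⟨⟨x, (QuotientGroup.eq_one_iff (x : G)).1 (congrArg Subtype.val hx)⟩, rfl⟩
  · have hPT : (P : Subgroup G) ≤ H.comap π := fun x hx => Subgroup.mem_sup_left (by
      rw [hPb, Sylow.coe_mapSurjective]; exact ⟨x, hx, rfl⟩)
    refine ⟨P.subtype hPT, fun hn => hQcent fun u hu => Subgroup.mem_centralizer_iff.2 fun y hy => ?_⟩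
    obtain ⟨v, hv, rfl⟩ : ∃ v ∈ (P : Subgroup G), π v = u := by
      rw [hPb, Sylow.coe_mapSurjective] at hu; exact hu
    obtain ⟨z, rfl⟩ := hπ y
    have hz : z ∈ H.comap π := Subgroup.mem_sup_right hy
    have h1 : z * v * z⁻¹ ∈ (P : Subgroup G) :=
      hn.conj_mem ⟨v, hPT hv⟩ hv ⟨z, hz⟩
    have h2 : π z * π v * (π z)⁻¹ * (π v)⁻¹ ∈ (Pb : Subgroup (G ⧸ N)) ⊓ R := by
      refine ⟨?_, ?_⟩
      · rw [← map_mul, ← map_inv, ← map_inv, ← map_mul, ← map_mul, hPb, Sylow.coe_mapSurjective]
        exact ⟨_, (P : Subgroup G).mul_mem h1 ((P : Subgroup G).inv_mem hv), rfl⟩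
      · rw [mul_assoc, mul_assoc]
        exact R.mul_mem (hQR hy) (by
          simpa [mul_assoc] using (inferInstance : R.Normal).conj_mem _ (R.inv_mem (hQR hy)) (π v))
    rw [hPR, Subgroup.mem_bot, mul_inv_eq_one, mul_inv_eq_iff_eq_mul] at h2
    exact h2

/-- An irreducible restriction comes from an irreducible character. -/
theorem isIrr_of_res_irr_top [Fintype G] {χ : G → ℂ} (hχ : IsCharacter G χ) {T : Subgroup G}
    (h : IsIrrCharacter T (fun t : T => χ t)) : IsIrrCharacter G χ :=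
  (isIrrCharacter_comp_equiv (Subgroup.topEquiv (G := G))).1
    (isIrr_of_res_irr hχ le_top h)

/-- **Small faithful degree in a `p`-solvable group.** -/
theorem small_degree {χ : G → ℂ} (hχ : IsCharacter G χ) (hfaith : ∀ g : G, χ g = χ 1 → g = 1)
    {n : ℕ} (hn : χ 1 = n) (hsol : Cfsg.IsPSolvable p G) (hnp : n + 1 ≤ p) (P : Sylow p G)
    (hP : ¬ (P : Subgroup G).Normal) :
    n + 1 = p ∧ (∃ k : ℕ, n = 2 ^ k) ∧ IsIrrCharacter G χ := by
  classical
  have := Fintype.ofFinite G
  obtain ⟨T, hT, Q, hQ⟩ := exists_solvable_not_normal hsol P hP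
  have := Fintype.ofFinite T
  have hfT : ∀ t : T, χ t = χ ((1 : T) : G) → t = 1 := fun t h => Subtype.ext (hfaith _ h)
  have hχT := isCharacter_res T hχ
  -- a constituent whose quotient has a non-normal Sylow subgroup
  obtain ⟨θ, hθ, S, hS⟩ : ∃ θ : IrrCharacter T,
      classInner (fun t : T => χ t) (θ : T → ℂ) ≠ 0 ∧
      ∃ S : Sylow p (T ⧸ kerSubgroup (IsIrr.isCharacter θ.2)),
        ¬ (S : Subgroup (T ⧸ kerSubgroup (IsIrr.isCharacter θ.2))).Normal := by
    by_contra! hall
    obtain ⟨Q'⟩ : Nonempty (Sylow p (⊤ : Subgroup T)) := inferInstance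
    have := Fintype.ofFinite (⊤ : Subgroup T)
    have hn' := sylow_normal_of_constituents hχT hfT ⊤ (fun θ' hθ' R => ?_) Q'
    · refine hQ ?_
      have hmap : ((Q' : Subgroup (⊤ : Subgroup T)).map (⊤ : Subgroup T).subtype).Normal :=
        hn'.map _ fun x => ⟨⟨x, trivial⟩, rfl⟩
      have hi : ¬ p ∣ ((Q' : Subgroup (⊤ : Subgroup T)).map (⊤ : Subgroup T).subtype).index := by
        rw [Subgroup.index_map_subtype, Subgroup.index_top, mul_one]; exact Q'.not_dvd_index
      let _ : Unique (Sylow p T) := Sylow.unique_of_normal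
        ((Q'.isPGroup'.map _).toSylow hi) (by rw [IsPGroup.toSylow_coe]; exact hmap)
      rw [Subsingleton.elim Q ((Q'.isPGroup'.map _).toSylow hi), IsPGroup.toSylow_coe]
      exact hmap
    · let e : T ≃* (⊤ : Subgroup T) := Subgroup.topEquiv.symm
      set θ : IrrCharacter T := ⟨fun t => (θ' : (⊤ : Subgroup T) → ℂ) (e t),
        (isIrrCharacter_comp_equiv e).2 θ'.2⟩ with hθdef
      have hθ : classInner (fun t : T => χ t) (θ : T → ℂ) ≠ 0 := by
        intro h0
        apply hθ'
        simp only [classInner] at h0 ⊢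
        rw [← Equiv.sum_comp e.toEquiv, Nat.card_congr e.toEquiv.symm]
        exact h0
      have hnorm := hall θ hθ
      have hK : (kerSubgroup (IsIrr.isCharacter θ.2)).map (e : T →* (⊤ : Subgroup T)) =
          kerSubgroup (IsIrr.isCharacter θ'.2) := by
        ext x
        obtain ⟨t, rfl⟩ := e.surjective x
        rw [← MulEquiv.toMonoidHom_eq_coe, Subgroup.mem_map_equiv, MulEquiv.symm_apply_apply]
        show (θ' : (⊤ : Subgroup T) → ℂ) (e t) = (θ' : (⊤ : Subgroup T) → ℂ) (e 1) ↔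
          (θ' : (⊤ : Subgroup T) → ℂ) (e t) = (θ' : (⊤ : Subgroup T) → ℂ) 1
        rw [map_one]
      let E := QuotientGroup.congr _ _ e hK
      have h1 : ((R : Subgroup ((⊤ : Subgroup T) ⧸ kerSubgroup (IsIrr.isCharacter θ'.2))).map
          E.symm.toMonoidHom).Normal :=
        hnorm (R.mapSurjective (f := E.symm.toMonoidHom) E.symm.surjective)
      have h2 := h1.map E.toMonoidHom E.surjective
      rwa [Subgroup.map_map, show E.toMonoidHom.comp E.symm.toMonoidHom = MonoidHom.id _ from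
        MonoidHom.ext fun x => E.apply_symm_apply x, Subgroup.map_id] at h2
  set K := kerSubgroup (IsIrr.isCharacter θ.2) with hK
  obtain ⟨θ₀, hθ₀, he⟩ := IsIrr.exists_quotient K θ.2 fun x hx => hx
  have := Fintype.ofFinite (T ⧸ K)
  obtain ⟨q, hq, hqd, hqc⟩ := exists_primePow_dvd_degree _ (T ⧸ K) rfl inferInstance ⟨θ₀, hθ₀⟩
    (fun g hg => by
      obtain ⟨x, rfl⟩ := QuotientGroup.mk_surjective g
      replace hg : θ₀ (x : T ⧸ K) = θ₀ ((1 : T) : T ⧸ K) := hg
      rw [← he, ← he] at hg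
      exact (QuotientGroup.eq_one_iff x).2 hg) p S hS
  obtain ⟨d, hd0, hd⟩ := IsIrr.degree θ.2
  have hdeg : Cfsg.charDegree (θ₀ : T ⧸ K → ℂ) = d := by
    refine Blocks.charDegree_eq ?_
    rw [show θ₀ 1 = θ₀ ((1 : T) : T ⧸ K) from rfl, ← he, hd]
  change q ∣ Cfsg.charDegree θ₀ at hqd
  rw [hdeg] at hqd
  have hsub := IsChar.sub_constituent hχT θ.2 hθ
  obtain ⟨r, hr⟩ := IsChar.degree hsub
  have hrd : n = r + d := by
    rw [Pi.sub_apply] at hr
    rw [OneMemClass.coe_one, hn, hd, sub_eq_iff_eq_add] at hr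
    exact_mod_cast hr
  have hqle : q ≤ n := le_trans (Nat.le_of_dvd hd0 hqd) (by omega)
  have hq2 := hq.two_le
  have hq1 : ((q + 1 : ℕ) : ℤ) ≡ 0 [ZMOD p] := by
    rcases hqc with h | h | h
    · have := h.add_right 1
      push_cast
      simpa using this
    · exfalso
      have h' : q ≡ 0 [MOD p] := by exact_mod_cast Int.natCast_modEq_iff.1 (by exact_mod_cast h)
      have := Nat.le_of_dvd (by omega) (Nat.modEq_zero_iff_dvd.1 h')
      omega
    · exfalso
      have h' : q ≡ 1 [MOD p] := Int.natCast_modEq_iff.1 (by exact_mod_cast h)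
      rw [Nat.ModEq, Nat.mod_eq_of_lt (by omega), Nat.mod_eq_of_lt (by omega)] at h'
      omega
  have hqp : p ∣ q + 1 := Nat.modEq_zero_iff_dvd.1 (Int.natCast_modEq_iff.1 (by exact_mod_cast hq1))
  have hqp' := Nat.le_of_dvd (by omega) hqp
  have hqn : q = n := by omega
  have hr0 : r = 0 := by
    have := Nat.le_of_dvd hd0 hqd
    omega
  refine ⟨by omega, ?_, ?_⟩
  · obtain ⟨l, k, hl, hk0, hlk⟩ := hq
    rcases hp.out.eq_two_or_odd with h2 | h2
    · omega
    · have hlp : l.Prime := hl.nat_prime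
      rcases hlp.eq_two_or_odd' with h3 | h3
      · exact ⟨k, by rw [← hqn, ← hlk, h3]⟩
      · have : Odd q := hlk ▸ h3.pow
        obtain ⟨c, hc⟩ := this
        omega
  · refine isIrr_of_res_irr_top hχ (T := T) ?_
    have h0 := (IsChar.eq_zero_iff hsub).2 (by rw [hr, hr0, Nat.cast_zero])
    rw [sub_eq_zero] at h0
    exact h0 ▸ θ.2

end Cfsg.Agent.Char
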