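import Cfsg.Agent.Char.PrimeDegrees
import Cfsg.Agent.Char.Monomial
import Cfsg.Agent.ProjExt.Det
import Cfsg.Agent.ProjExt.Ratio
import Mathlib

/-!
# At most three degrees when all nonlinear degrees are primes
-/

set_option autoImplicit false

namespace Cfsg.Agent.Char

open scoped ComplexConjugate commutatorElement
open Module

universe u

variable {G : Type u} [Group G] [Fintype G]

omit [Fintype G] in
/-- A twist fixing an irreducible character has order dividing the degree. -/
theorem pow_degree_eq_one_of_twist [Finite G] {ψ : G → ℂ} (hψ : IsCharacter G ψ) {q : ℕ}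
    (hq : ψ 1 = q) (μ : G →* ℂˣ) (h : ∀ g, (μ g : ℂ) * ψ g = ψ g) (g : G) : μ g ^ q = 1 := by
  obtain ⟨n, ρ, rfl⟩ := hψ
  have hn : n = q := by rw [ρ.char_one, Module.finrank_fin_fun] at hq; exact_mod_cast hq
  subst hn
  let σ : Representation ℂ G (Fin n → ℂ) :=
    { toFun := fun g => (μ g : ℂ) • ρ g
      map_one' := by rw [map_one, Units.val_one, map_one, one_smul]
      map_mul' := fun a b => by
        rw [map_mul, Units.val_mul, map_mul, smul_mul_smul_comm] }
  have hc : σ.character = ρ.character := funext fun x => by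
    show LinearMap.trace ℂ _ ((μ x : ℂ) • ρ x) = _
    rw [map_smul, smul_eq_mul]
    exact h x
  have hdet := ProjExt.det_eq_of_character_eq σ ρ hc g
  replace hdet : LinearMap.det ((μ g : ℂ) • ρ g) = LinearMap.det (ρ g) := hdet
  rw [LinearMap.det_smul, Module.finrank_fin_fun] at hdet
  have hne : LinearMap.det (ρ g) ≠ 0 := by
    intro h0
    have h1 : LinearMap.det (ρ g) * LinearMap.det (ρ g⁻¹) = 1 := by
      rw [← map_mul, ← map_mul, mul_inv_cancel, map_one, map_one]
    rw [h0, zero_mul] at h1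
    exact zero_ne_one h1
  exact Units.ext (by rw [Units.val_pow_eq_pow_val, Units.val_one]; exact (mul_eq_right₀ hne).1 hdet)

theorem isIrr_twist {ψ : G → ℂ} (hψ : IsIrrCharacter G ψ) (μ : G →* ℂˣ) :
    IsIrrCharacter G (fun g => (μ g : ℂ) * ψ g) := by
  have hc : IsCharacter G (fun g => (μ g : ℂ) * ψ g) :=
    isCharacter_mul (isCharacter_hom μ) (IsIrr.isCharacter hψ)
  rw [isIrr_iff_norm_one hc, ← classInner_irr_self hψ]
  simp only [classInner]
  refine congrArg _ (Finset.sum_congr rfl fun x _ => ?_)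
  have hu : ‖(μ x : ℂ)‖ = 1 := by
    refine Complex.norm_eq_one_of_pow_eq_one (n := Nat.card G) ?_ Nat.card_pos.ne'
    rw [← Units.val_pow_eq_pow_val, ← map_pow, pow_card_eq_one', map_one, Units.val_one]
  rw [map_mul, mul_mul_mul_comm, Complex.mul_conj', hu]
  simp

omit [Fintype G] in
theorem normal_of_commutator_le' (T : Subgroup G) (h : commutator G ≤ T) : T.Normal :=
  ⟨fun x hx g => by
    have h1 : g * x * g⁻¹ * x⁻¹ ∈ T := by
      rw [← commutatorElement_def]
      exact h (Subgroup.commutator_mem_commutator trivial trivial)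
    have h2 := T.mul_mem h1 hx
    rwa [inv_mul_cancel_right] at h2⟩

/-- The conjugate of a linear character of a normal subgroup. -/
def conjHom {N : Subgroup G} [N.Normal] (g : G) (lam : N →* ℂˣ) : N →* ℂˣ :=
  lam.comp (MulAut.conjNormal g : N ≃* N).toMonoidHom

/-- A non-invariant linear character of a normal subgroup of prime index, when every non-trivial
normal subgroup contains the derived subgroup. -/
theorem exists_noninvariant_of_just_nonabelian (hna : ¬ ∀ a b : G, a * b = b * a)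
    (hsol : Group.IsSolvable G)
    (hJ : ∀ N : Subgroup G, N.Normal → N ≠ ⊥ → commutator G ≤ N)
    (hprime : ∀ χ : IrrCharacter G, Cfsg.charDegree (χ : G → ℂ) ≠ 1 →
      (Cfsg.charDegree (χ : G → ℂ)).Prime) :
    ∃ (N : Subgroup G) (_ : N.Normal) (lam : N →* ℂˣ) (g : G),
      N.index.Prime ∧ conjHom g lam ≠ lam := by
  classical
  obtain ⟨χ, hχ⟩ : ∃ χ : IrrCharacter G, (χ : G → ℂ) 1 ≠ 1 := by
    by_contra! hall; exact hna (forall_degree_one_iff.1 hall)
  set f := Cfsg.charDegree (χ : G → ℂ) with hf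
  have hf1 : f ≠ 1 := fun h => hχ (by rw [charDegree_spec' χ, ← hf, h, Nat.cast_one])
  have hfp := hprime χ hf1
  -- it suffices to find a normal monomial presentation
  suffices H : ∃ (N : Subgroup G) (_ : N.Normal) (lam : N →* ℂˣ),
      indFun N (fun n => (lam n : ℂ)) = (χ : G → ℂ) by
    obtain ⟨N, hN, lam, hind⟩ := H
    have := Fintype.ofFinite N
    have hidx : N.index = f := by
      have h := congrFun hind 1
      rw [indFun_apply_one, map_one, Units.val_one, mul_one, charDegree_spec' χ, Nat.cast_inj] at h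
      exact h
    by_contra! hno
    have hfix : ∀ g : G, conjFun g (fun n : N => (lam n : ℂ)) = fun n : N => (lam n : ℂ) := fun g => by
      have h := hno N hN lam g (hidx ▸ hfp)
      funext n
      rw [conjFun_apply]
      exact congrArg Units.val (DFunLike.congr_fun h n)
    have h1 := classInner_indFun_indFun (isIrrCharacter_hom lam) (isIrrCharacter_hom lam) (G := G)
    rw [hind, classInner_irr_self χ.2, Nat.card_congr (Equiv.subtypeUnivEquiv hfix),
      ← N.card_mul_index, Nat.cast_mul, inv_mul_cancel_left₀ card_ne_zero, hidx] at h1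
    exact hf1 (by exact_mod_cast h1.symm)
  have hfaith : ∀ g : G, (χ : G → ℂ) g = (χ : G → ℂ) 1 → g = 1 := by
    intro g hg
    by_contra hg1
    set K := kerSubgroup (IsIrr.isCharacter χ.2)
    have hle := hJ K inferInstance fun e => hg1 (Subgroup.mem_bot.1 (e ▸ (hg : g ∈ K)))
    obtain ⟨φ, hφ, he⟩ := IsIrr.exists_quotient K χ.2 fun x hx => hx
    apply hχ
    rw [he]
    refine IsIrr.degree_one_of_comm hφ fun a b => ?_
    obtain ⟨a, rfl⟩ := QuotientGroup.mk_surjective a
    obtain ⟨b, rfl⟩ := QuotientGroup.mk_surjective b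
    rw [← QuotientGroup.mk_mul, ← QuotientGroup.mk_mul, QuotientGroup.eq]
    have h : (a * b)⁻¹ * (b * a) = ⁅b⁻¹, a⁻¹⁆ := by rw [commutatorElement_def]; group
    rw [h]
    exact hle (Subgroup.commutator_mem_commutator trivial trivial)
  have hnt : Nontrivial G := by
    by_contra h
    rw [not_nontrivial_iff_subsingleton] at h
    exact hna fun a b => Subsingleton.elim _ _
  set M := commutator G with hM
  have := Fintype.ofFinite M
  have hMab : ∀ a b : M, a * b = b * a := by
    intro a b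
    have hlt : ⁅M, M⁆ < M := lt_of_le_of_ne (Subgroup.commutator_le_self M) fun e => by
      obtain ⟨n, hn⟩ := (Group.isSolvable_def G).1 hsol
      have : ∀ k, M ≤ derivedSeries G k := fun k => by
        induction k with
        | zero => exact le_top
        | succ k ih => rw [derivedSeries_succ, ← e]; exact Subgroup.commutator_mono ih ih
      have hb : M = ⊥ := le_bot_iff.1 (hn ▸ this n)
      exact hna fun a b => commutatorElement_eq_one_iff_mul_comm.1 (Subgroup.mem_bot.1
        (hb ▸ Subgroup.commutator_mem_commutator trivial trivial))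
    have hbot : ⁅M, M⁆ = ⊥ := by
      by_contra hne
      exact hlt.not_ge (hJ _ inferInstance hne)
    exact Subtype.ext (commutatorElement_eq_one_iff_mul_comm.1 (Subgroup.mem_bot.1
      (hbot ▸ Subgroup.commutator_mem_commutator a.2 b.2)))
  by_cases hcen : M ≤ Subgroup.center G
  · -- nilpotent
    have : Group.IsNilpotent G := by
      refine Subgroup.nilpotent_iff_lowerCentralSeries.2 ⟨2, le_bot_iff.1 ?_⟩
      rw [Subgroup.lowerCentralSeries_succ, Subgroup.lowerCentralSeries_one]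
      rw [Subgroup.commutator_le]
      intro a ha b _
      exact Subgroup.mem_bot.2 (commutatorElement_eq_one_iff_mul_comm.2
        (Subgroup.mem_center_iff.1 (hcen ha) b).symm)
    obtain ⟨H, lam, hlam⟩ := exists_monomial χ.2
    have hidx : H.index = f := by
      have h := congrFun hlam 1
      rw [indFun_apply_one, map_one, Units.val_one, mul_one, charDegree_spec' χ, Nat.cast_inj] at h
      exact h.symm
    have hnorm : H.Normal := by
      have hne : H ≠ ⊤ := fun h => hf1 (by rw [← hidx, h, Subgroup.index_top])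
      have hlt := Group.normalizerCondition_of_isNilpotent H (lt_top_iff_ne_top.2 hne)
      have htop : Subgroup.normalizer (H : Set G) = ⊤ := by
        rw [← Subgroup.index_eq_one]
        rcases hfp.eq_one_or_self_of_dvd _ (hidx ▸ Subgroup.index_dvd_of_le hlt.le) with h | h
        · exact h
        · exfalso
          refine hlt.not_ge (Subgroup.eq_of_le_of_card_ge hlt.le ?_).ge
          have h1 := Subgroup.card_mul_index (Subgroup.normalizer (H : Set G))
          rw [h, ← H.card_mul_index, hidx] at h1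
          exact (Nat.eq_of_mul_eq_mul_right hfp.pos h1).le
      exact Subgroup.normalizer_eq_top_iff.1 htop
    exact ⟨H, hnorm, lam, hlam.symm⟩
  obtain ⟨φ, hφ⟩ := exists_constituent_res (N := M) χ.2
  have hφ1 : (φ : M → ℂ) 1 = 1 := IsIrr.degree_one_of_comm φ.2 hMab
  obtain ⟨c, hc⟩ := classInner_isCharacter_eq_natCast
    (isCharacter_res M (IsIrr.isCharacter χ.2)) (IsIrr.isCharacter φ.2)
  have hdeg := degree_eq_of_clifford χ.2 φ.2 hφ
  rw [hc, hφ1, mul_one, charDegree_spec' χ, ← Nat.cast_mul, Nat.cast_inj, ← hf] at hdeg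
  set T := inertia (φ : M → ℂ) with hT
  have hMT : M ≤ T := le_inertia (isClassFunction_of_isIrr φ.2)
  have hTn : T.Normal := normal_of_commutator_le' T hMT
  have := Fintype.ofFinite T
  obtain ⟨ψ, hψ, hind, hres⟩ := clifford_correspondence χ.2 φ.2 hφ
  have hψ1 : ψ 1 = (c : ℂ) := by
    have h := congrFun hres 1
    rw [hc, Pi.smul_apply, smul_eq_mul, hφ1, mul_one] at h
    exact h
  rcases hfp.eq_one_or_self_of_dvd _ (Dvd.intro_left _ hdeg.symm) with h | h
  · -- invariant constituent: then `M` is central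
    exfalso
    apply hcen
    intro m hm
    refine Subgroup.mem_center_iff.2 fun g => ?_
    have hgm : g * m * g⁻¹ * m⁻¹ ∈ M := M.mul_mem
      ((inferInstance : M.Normal).conj_mem m hm g) (M.inv_mem hm)
    have hk : (χ : G → ℂ) (g * m * g⁻¹ * m⁻¹) = (χ : G → ℂ) 1 := by
      obtain ⟨μ, hμ⟩ := IsChar.exists_hom (IsIrr.isCharacter φ.2) hφ1
      have hg : conjFun g (φ : M → ℂ) = φ :=
        (Subgroup.index_eq_one.1 h ▸ Subgroup.mem_top g : g ∈ T)
      have h1 := congrFun (clifford χ.2 φ.2 hφ) ⟨_, hgm⟩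
      have h2 := congrFun (clifford χ.2 φ.2 hφ) 1
      refine h1.trans (Eq.trans ?_ h2.symm)
      simp only [Pi.smul_apply, Finset.sum_apply]
      refine congrArg _ (Finset.sum_congr rfl fun η hη => ?_)
      obtain ⟨x, rfl⟩ := mem_orbit.1 hη
      have hx : conjFun x (φ : M → ℂ) = φ :=
        (Subgroup.index_eq_one.1 h ▸ Subgroup.mem_top x : x ∈ T)
      rw [hx]
      have h3 := congrFun hg ⟨m, hm⟩
      rw [conjFun_apply, hμ] at h3
      rw [hμ]
      show (μ ⟨_, hgm⟩ : ℂ) = (μ 1 : ℂ)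
      rw [show (⟨_, hgm⟩ : M) = ⟨g * m * g⁻¹, (inferInstance : M.Normal).conj_mem m hm g⟩ * ⟨m, hm⟩⁻¹
        from rfl, map_mul, map_inv, show μ ⟨g * m * g⁻¹, _⟩ = μ ⟨m, hm⟩ from Units.ext h3,
        mul_inv_cancel, map_one]
    have h4 := hfaith _ hk
    rw [mul_inv_eq_one, mul_inv_eq_iff_eq_mul] at h4
    exact h4
  · have hc1 : c = 1 := by
      rw [h] at hdeg
      exact (Nat.mul_eq_right hfp.ne_zero).1 hdeg.symm
    obtain ⟨μ, hμ⟩ := IsChar.exists_hom (IsIrr.isCharacter hψ) (by rw [hψ1, hc1, Nat.cast_one])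
    exact ⟨T, hTn, μ, hμ ▸ hind⟩

/-- A non-invariant linear character has a non-invariant power of prime power order. -/
theorem exists_prime_part {N : Subgroup G} [N.Normal] {g : G} : ∀ (o : ℕ) (lam : N →* ℂˣ),
    0 < o → (∀ n, lam n ^ o = 1) → conjHom g lam ≠ lam →
    ∃ (r : ℕ) (a : ℕ) (μ : N →* ℂˣ), r.Prime ∧ (∀ n, μ n ^ r ^ a = 1) ∧ conjHom g μ ≠ μ := by
  intro o
  induction o using Nat.strong_induction_on with
  | _ o ih => ?_
  intro lam ho hpow hne
  by_contra hno
  push Not at hno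
  rcases eq_or_ne o 1 with rfl | ho1
  · refine hne (MonoidHom.ext fun n => ?_)
    show lam _ = lam n
    rw [← pow_one (lam _), ← pow_one (lam n), hpow, hpow]
  obtain ⟨r, hr, hrd⟩ := Nat.exists_prime_and_dvd ho1
  obtain ⟨a, m, hm, rfl⟩ := Nat.exists_eq_pow_mul_and_not_dvd ho.ne' r hr.ne_one
  have hm0 : 0 < m := Nat.pos_of_ne_zero fun h => by simp [h] at ho
  rcases Nat.eq_zero_or_pos a with rfl | ha
  · rw [pow_zero, one_mul] at hrd; exact hm hrd
  have h1 : conjHom g (lam ^ m) = lam ^ m :=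
    hno r a (lam ^ m) hr fun n => by
      show (lam n ^ m) ^ r ^ a = 1
      rw [← pow_mul, mul_comm m, hpow]
  have hlt : m < r ^ a * m := lt_mul_left hm0 (Nat.one_lt_pow ha.ne' hr.one_lt)
  have h2 : conjHom g (lam ^ r ^ a) = lam ^ r ^ a := by
    by_contra hne'
    obtain ⟨r', a', μ, hr', hμ, hμne⟩ := ih m hlt (lam ^ r ^ a) hm0 (fun n => by
        show (lam n ^ r ^ a) ^ m = 1
        rw [← pow_mul, hpow]) hne'
    exact hμne (hno r' a' μ hr' hμ)
  apply hne
  ext n
  have hcop : (r ^ a).Coprime m := (hr.coprime_iff_not_dvd.2 hm).pow_left a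
  obtain ⟨u, v, huv⟩ := Nat.isCoprime_iff_coprime.2 hcop
  have e1 : (conjHom g lam n) ^ m = (lam n) ^ m := DFunLike.congr_fun h1 n
  have e2 : (conjHom g lam n) ^ r ^ a = (lam n) ^ r ^ a := DFunLike.congr_fun h2 n
  have key : ∀ x : ℂˣ, x = ((x ^ r ^ a) ^ u) * ((x ^ m) ^ v) := fun x => by
    rw [← zpow_natCast x (r ^ a), ← zpow_natCast x m, ← zpow_mul, ← zpow_mul, ← zpow_add,
      mul_comm ((r ^ a : ℕ) : ℤ), mul_comm (m : ℤ), huv, zpow_one]
  rw [key (conjHom g lam n), key (lam n), e1, e2]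

/-- **At most three degrees.** -/
theorem card_charDegrees_le_three
    (hprime : ∀ χ : IrrCharacter G, Cfsg.charDegree (χ : G → ℂ) ≠ 1 →
      (Cfsg.charDegree (χ : G → ℂ)).Prime) :
    ∃ f r : ℕ, ∀ χ : IrrCharacter G, Cfsg.charDegree (χ : G → ℂ) ∈ ({1, f, r} : Finset ℕ) := by
  classical
  have hsol := isSolvable_of_prime_degrees _ G rfl hprime
  by_cases hab : ∀ a b : G, a * b = b * a
  · refine ⟨1, 1, fun χ => ?_⟩
    rw [Finset.mem_insert]
    left
    have h := IsIrr.degree_one_of_comm χ.2 hab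
    rw [charDegree_spec' χ, Nat.cast_eq_one] at h
    exact h
  -- a maximal normal subgroup with non-abelian quotient
  obtain ⟨K, hKmem, hKmax⟩ := Finset.exists_max_image
    (Finset.univ.filter fun K : Subgroup G => K.Normal ∧ ¬ commutator G ≤ K) (fun K => Nat.card K)
    ⟨⊥, Finset.mem_filter.2 ⟨Finset.mem_univ _, inferInstance, fun h => hab fun a b =>
      commutatorElement_eq_one_iff_mul_comm.1
        (Subgroup.mem_bot.1 (h (Subgroup.commutator_mem_commutator trivial trivial)))⟩⟩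
  obtain ⟨-, hKn, hKc⟩ := Finset.mem_filter.1 hKmem
  have := Fintype.ofFinite (G ⧸ K)
  have hmapc : (commutator G).map (QuotientGroup.mk' K) = commutator (G ⧸ K) := by
    rw [commutator_def, Subgroup.map_commutator, Subgroup.map_top_of_surjective _
      (QuotientGroup.mk'_surjective K), ← commutator_def]
  obtain ⟨N', hN', lam', g', hidx', hne'⟩ := exists_noninvariant_of_just_nonabelian (G := G ⧸ K)
    (fun h => hKc fun x hx => by
      have h1 : (QuotientGroup.mk' K) x ∈ commutator (G ⧸ K) := hmapc ▸ ⟨x, hx, rfl⟩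
      have h2 : commutator (G ⧸ K) = ⊥ := by
        rw [commutator_def, eq_bot_iff, Subgroup.commutator_le]
        exact fun a _ b _ => Subgroup.mem_bot.2 (commutatorElement_eq_one_iff_mul_comm.2 (h a b))
      rw [h2, Subgroup.mem_bot] at h1
      exact (QuotientGroup.eq_one_iff x).1 h1)
    inferInstance
    (fun N hN hne => by
      by_contra hle
      have hlt : K < N.comap (QuotientGroup.mk' K) := by
        refine lt_of_le_of_ne (fun x hx => ?_) fun e => hne ?_
        · show (x : G ⧸ K) ∈ N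
          rw [(QuotientGroup.eq_one_iff x).2 hx]
          exact N.one_mem
        · rw [← Subgroup.map_comap_eq_self_of_surjective (QuotientGroup.mk'_surjective K) N, ← e,
            QuotientGroup.map_mk'_self]
      have hle' := hKmax _ (Finset.mem_filter.2 ⟨Finset.mem_univ _, inferInstance, fun h => hle
        (hmapc ▸ Subgroup.map_le_iff_le_comap.2 h)⟩)
      exact hlt.ne (Subgroup.eq_of_le_of_card_ge hlt.le hle'))
    (fun χ hχ => hprime ⟨fun g => (χ : G ⧸ K → ℂ) g, isIrrCharacter_mk K χ.2⟩ hχ)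
  set N := N'.comap (QuotientGroup.mk' K) with hN
  have hidx : N.index = N'.index := Subgroup.index_comap_of_surjective _ (QuotientGroup.mk'_surjective K)
  have hNn : N.Normal := inferInstance
  set f := N.index with hf
  have hfp : f.Prime := hidx ▸ hidx'
  let lam : N →* ℂˣ := lam'.comp (((QuotientGroup.mk' K).comp N.subtype).codRestrict N' fun x => x.2)
  obtain ⟨g, hg⟩ := QuotientGroup.mk_surjective g'
  have hne : conjHom g lam ≠ lam := by
    intro h
    apply hne'
    ext n
    obtain ⟨x, hx⟩ := QuotientGroup.mk_surjective (n : G ⧸ K)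
    have hxN : x ∈ N := by show (x : G ⧸ K) ∈ N'; rw [hx]; exact n.2
    have h1 := DFunLike.congr_fun h ⟨x, hxN⟩
    refine congrArg Units.val (Eq.trans ?_ (h1.trans ?_))
    · refine congrArg lam' (Subtype.ext ?_)
      show g' * (n : G ⧸ K) * g'⁻¹ = (QuotientGroup.mk' K) (g * x * g⁻¹)
      rw [← hg, ← hx]
      rfl
    · exact congrArg lam' (Subtype.ext hx)
  have := Fintype.ofFinite N
  obtain ⟨r, a, μ, hr, hμ, hμne⟩ := exists_prime_part (g := g) (Nat.card N) lam Nat.card_pos
    (fun n => by rw [← map_pow, pow_card_eq_one', map_one]) hne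
  refine ⟨f, r, fun χ => ?_⟩
  set d := Cfsg.charDegree (χ : G → ℂ) with hd
  rcases eq_or_ne d 1 with h1 | h1
  · simp [h1]
  -- nonlinear invariant characters of `N` force the prime `r`
  have key : ∀ (χ' : IrrCharacter G) (ψ : IrrCharacter N),
      classInner (fun n : N => (χ' : G → ℂ) n) (ψ : N → ℂ) ≠ 0 →
      (ψ : N → ℂ) 1 ≠ 1 → inertia (ψ : N → ℂ) = ⊤ ∧
        Cfsg.charDegree (χ' : G → ℂ) = Cfsg.charDegree (ψ : N → ℂ) := by
    intro χ' ψ hψ hψ1
    obtain ⟨c, hc⟩ := classInner_isCharacter_eq_natCast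
      (isCharacter_res N (IsIrr.isCharacter χ'.2)) (IsIrr.isCharacter ψ.2)
    have hdeg := degree_eq_of_clifford χ'.2 ψ.2 hψ
    rw [hc, charDegree_spec' ψ, charDegree_spec' χ', ← Nat.cast_mul, ← Nat.cast_mul,
      Nat.cast_inj] at hdeg
    have hq : Cfsg.charDegree (ψ : N → ℂ) ≠ 1 := fun e => hψ1 (by
      rw [charDegree_spec' ψ, e, Nat.cast_one])
    have hne1 : Cfsg.charDegree (χ' : G → ℂ) ≠ 1 := fun e => hq (by
      rw [e] at hdeg; exact (mul_eq_one.1 hdeg.symm).2)
    have hp := hprime χ' hne1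
    have hqq := (hp.eq_one_or_self_of_dvd _ (Dvd.intro_left _ hdeg.symm)).resolve_left hq
    refine ⟨?_, hqq.symm⟩
    rw [hqq] at hdeg
    have h2 := (Nat.mul_eq_right hp.ne_zero).1 hdeg.symm
    exact Subgroup.index_eq_one.1 (mul_eq_one.1 h2).2
  obtain ⟨ψ, hψ⟩ := exists_constituent_res (N := N) χ.2
  by_cases hψ1 : (ψ : N → ℂ) 1 = 1
  · -- degree `f`
    obtain ⟨k, hk, hkd⟩ := ProjExt.exists_ratio_dvd_index χ.2 ψ.2 hψ
    rw [hψ1, mul_one, charDegree_spec' χ, Nat.cast_inj, ← hd] at hk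
    rcases hfp.eq_one_or_self_of_dvd k hkd with h | h
    · exact absurd (hk.trans h) h1
    · simp [hk, h]
  obtain ⟨htop, hdeq⟩ := key χ ψ hψ hψ1
  -- twist
  set ψ' : IrrCharacter N := ⟨_, isIrr_twist ψ.2 μ⟩ with hψ'
  have hψ'1 : (ψ' : N → ℂ) 1 ≠ 1 := by
    show (μ 1 : ℂ) * (ψ : N → ℂ) 1 ≠ 1
    rwa [map_one, Units.val_one, one_mul]
  obtain ⟨χ', hχ'⟩ := exists_over N ψ'
  obtain ⟨htop', -⟩ := key χ' ψ' hχ' hψ'1
  have hfixψ : conjFun g (ψ : N → ℂ) = ψ := (htop ▸ Subgroup.mem_top g : g ∈ inertia (ψ : N → ℂ))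
  have hfixψ' : conjFun g (ψ' : N → ℂ) = ψ' := (htop' ▸ Subgroup.mem_top g : g ∈ inertia (ψ' : N → ℂ))
  set ν : N →* ℂˣ := conjHom g μ * μ⁻¹ with hν
  have hνψ : ∀ n, (ν n : ℂ) * (ψ : N → ℂ) n = (ψ : N → ℂ) n := by
    intro n
    have e1 := congrFun hfixψ' n
    have e2 := congrFun hfixψ n
    rw [conjFun_apply] at e1 e2
    show ((conjHom g μ n * (μ n)⁻¹ : ℂˣ) : ℂ) * _ = _
    change (μ _ : ℂ) * (ψ : N → ℂ) _ = (μ n : ℂ) * (ψ : N → ℂ) n at e1
    rw [e2] at e1
    rw [Units.val_mul, mul_assoc, mul_left_comm, mul_comm ((μ n)⁻¹ : ℂˣ).val]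
    rw [show (conjHom g μ n : ℂ) = (μ ⟨g * n * g⁻¹, ‹N.Normal›.conj_mem n n.2 g⟩ : ℂ) from rfl]
    rw [e1, mul_comm, Units.inv_mul_cancel_left]
  by_contra hnot
  simp only [Finset.mem_insert, Finset.mem_singleton, not_or] at hnot
  apply hμne
  ext n
  have hq : ν n ^ d = 1 := pow_degree_eq_one_of_twist (IsIrr.isCharacter ψ.2)
    (by rw [charDegree_spec' ψ, ← hdeq]) ν hνψ n
  have hra : ν n ^ r ^ a = 1 := by
    show (conjHom g μ n * (μ n)⁻¹) ^ r ^ a = 1
    have e1 : ∀ x, μ x ^ r ^ a = 1 := hμ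
    rw [mul_pow, inv_pow, e1 n, show conjHom g μ n = μ _ from rfl, e1, inv_one, mul_one]
  have hcop : d.Coprime (r ^ a) :=
    ((Nat.coprime_primes (hprime χ h1) hr).2 hnot.2.2).pow_right a
  have hν1 := pow_gcd_eq_one.2 ⟨hq, hra⟩
  rw [hcop.gcd_eq_one, pow_one] at hν1
  exact congrArg Units.val (mul_inv_eq_one.1 hν1)

end Cfsg.Agent.Char
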