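import Cfsg.Agent.Char.Galois
import Cfsg.Agent.Char.Perm
import Cfsg.Agent.Char.ClassAlg
import Cfsg.Agent.Char.Integral
import Cfsg.Agent.Char.NormalAbelianSylow
import Mathlib

/-!
# Groups all of whose nonlinear irreducible characters have prime degree
-/

set_option autoImplicit false

namespace Cfsg.Agent.Char

open scoped ComplexConjugate
open Module

universe u

variable {S : Type u} [Group S] [Fintype S] [IsSimpleGroup S]

theorem norm_ne_degree (hna : ¬ ∀ a b : S, a * b = b * a) {χ : IrrCharacter S} {n : ℕ}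
    (hn : (χ : S → ℂ) 1 = n) (hn1 : n ≠ 1) {g : S} (hg : g ≠ 1) :
    ‖(χ : S → ℂ) g‖ ≠ (n : ℝ) := by
  obtain ⟨m, ρ, hρ, e⟩ := χ.2
  rw [← e] at hn ⊢
  intro hnorm
  have hm : finrank ℂ (Fin m → ℂ) = n := by rw [ρ.char_one] at hn; exact_mod_cast hn
  obtain ⟨N, hN, hmem⟩ := exists_normal_of_scalar ρ
  rcases hN.eq_bot_or_eq_top with hb | ht
  · exact hg (by simpa [hb] using (hmem g).2 ((norm_character_eq_iff ρ g).1 (by rw [hm]; exact hnorm)))
  obtain ⟨hn', hU⟩ := isIrreducible_iff.1 hρ
  obtain ⟨v, hv⟩ := exists_ne (0 : Fin m → ℂ)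
  rcases hU (ℂ ∙ v) (fun x w hw => by
      obtain ⟨ω, hω⟩ := (hmem x).1 (ht ▸ Subgroup.mem_top x)
      rw [hω]; exact Submodule.smul_mem _ ω hw) with h1 | h1
  · exact hv (Submodule.span_singleton_eq_bot.1 h1)
  · exact hn1 (by rw [← hm, ← finrank_top, ← h1, finrank_span_singleton hv])

/-- A character of prime degree vanishes on non-identity elements whose class size is prime to
the degree. -/
theorem eq_zero_of_class (hna : ¬ ∀ a b : S, a * b = b * a) {χ : IrrCharacter S} {p : ℕ}
    [hp : Fact p.Prime] (hn : (χ : S → ℂ) 1 = p) {g : S} (hg : g ≠ 1)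
    (hcl : ¬ p ∣ (Subgroup.centralizer ({g} : Set S)).index) : (χ : S → ℂ) g = 0 :=
  (IsIrr.zero_or_norm_eq χ.2 g hn (hp.out.coprime_iff_not_dvd.2 hcl)).resolve_right
    (norm_ne_degree hna hn hp.out.ne_one hg)

/-- A subgroup on whose non-identity elements a character of degree `n` vanishes has order
dividing `n`. -/
theorem card_dvd_of_vanish {χ : IrrCharacter S} {n : ℕ} (hn : (χ : S → ℂ) 1 = n) (H : Subgroup S)
    (h : ∀ a ∈ H, a ≠ 1 → (χ : S → ℂ) a = 0) : Nat.card H ∣ n := by
  classical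
  have := Fintype.ofFinite H
  obtain ⟨c, hc⟩ := classInner_isCharacter_eq_natCast
    (isCharacter_res H (IsIrr.isCharacter χ.2)) (isCharacter_one (G := H))
  refine ⟨c, ?_⟩
  simp only [classInner, map_one, mul_one] at hc
  rw [Finset.sum_eq_single (1 : H) (fun a _ ha => h a a.2 fun e => ha (Subtype.ext e))
    (fun h => absurd (Finset.mem_univ _) h), Subgroup.coe_one, hn] at hc
  field_simp at hc
  exact_mod_cast hc

theorem prime_degree_local (hna : ¬ ∀ a b : S, a * b = b * a) {χ : IrrCharacter S} {p : ℕ}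
    [hp : Fact p.Prime] (hn : (χ : S → ℂ) 1 = p) :
    ∃ x : S, orderOf x = p ∧ Subgroup.centralizer ({x} : Set S) = Subgroup.zpowers x ∧
      ¬ p ^ 2 ∣ Nat.card S ∧ (χ : S → ℂ) x = 0 := by
  classical
  obtain ⟨P⟩ : Nonempty (Sylow p S) := inferInstance
  have := Fintype.ofFinite (P : Subgroup S)
  have hpS : p ∣ Nat.card S := IsIrr.degree_dvd_card χ.2 hn
  have hPne : (P : Subgroup S) ≠ ⊥ := P.ne_bot_of_dvd_card hpS
  have hPn : Nontrivial (P : Subgroup S) := (Subgroup.nontrivial_iff_ne_bot _).2 hPne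
  have hcent : ∀ a : (P : Subgroup S), a ∈ Subgroup.center (P : Subgroup S) → a ≠ 1 →
      (χ : S → ℂ) a = 0 := by
    intro a ha ha1
    refine eq_zero_of_class hna hn (fun e => ha1 (Subtype.ext e)) fun hd => P.not_dvd_index ?_
    refine hd.trans (Subgroup.index_dvd_of_le fun u hu => Subgroup.mem_centralizer_singleton_iff.2 ?_)
    exact congrArg Subtype.val (Subgroup.mem_center_iff.1 ha ⟨u, hu⟩)
  -- the restriction is a sum of linear characters
  obtain ⟨m, hm, he, -⟩ := IsChar.exists_mult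
    (isCharacter_res (P : Subgroup S) (IsIrr.isCharacter χ.2))
  have hlin : ∀ ψ : IrrCharacter (P : Subgroup S), m ψ ≠ 0 → (ψ : ↥(P : Subgroup S) → ℂ) 1 = 1 := by
    intro ψ hψ
    obtain ⟨d, hd0, hd⟩ := IsIrr.degree ψ.2
    by_contra hd1
    obtain ⟨k, hk⟩ := P.isPGroup'.exists_card_eq
    obtain ⟨i, -, rfl⟩ := (Nat.dvd_prime_pow hp.out).1 (hk ▸ IsIrr.degree_dvd_card ψ.2 hd)
    have hi : i ≠ 0 := fun e => hd1 (by rw [hd, e, pow_zero, Nat.cast_one])
    choose deg hdeg0 hdeg using fun η : IrrCharacter (P : Subgroup S) => IsIrr.degree η.2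
    have h1 := congrFun he 1
    simp only [Finset.sum_apply, Pi.smul_apply, smul_eq_mul, Subgroup.coe_one, hn, hdeg] at h1
    have h2 : p = ∑ η, m η * deg η := by exact_mod_cast h1
    have hψd : deg ψ = p ^ i := by exact_mod_cast (hdeg ψ).symm.trans hd
    have hp1 : p ≤ p ^ i := Nat.le_self_pow hi p
    have hall : ∀ η, η ≠ ψ → m η = 0 := by
      intro η hη
      have h3 : m η * deg η + m ψ * deg ψ ≤ p := by
        calc _ = ∑ x ∈ {η, ψ}, m x * deg x := by rw [Finset.sum_pair hη]
          _ ≤ _ := (Finset.sum_le_sum_of_subset (Finset.subset_univ _)).trans h2.ge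
      by_contra h0
      have h4 : 0 < m η * deg η := Nat.mul_pos (Nat.pos_of_ne_zero h0) (hdeg0 η)
      have h5 : 1 * p ≤ m ψ * deg ψ := Nat.mul_le_mul (Nat.pos_of_ne_zero hψ) (hψd ▸ hp1)
      omega
    obtain ⟨⟨a, ha⟩, ha1⟩ := Subgroup.ne_bot_iff_exists_ne_one.1
      (Subgroup.nontrivial_iff_ne_bot _ |>.1 P.isPGroup'.center_nontrivial)
    have h6 := congrFun he a
    simp only [Finset.sum_apply, Pi.smul_apply, smul_eq_mul] at h6
    rw [Finset.sum_eq_single ψ (fun η _ hη => by rw [hall η hη, Nat.cast_zero, zero_mul]) (by simp),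
      hcent a ha fun e => ha1 (Subtype.ext e)] at h6
    have hψa : (ψ : ↥(P : Subgroup S) → ℂ) a = 0 := (mul_eq_zero.1 h6.symm).resolve_left (Nat.cast_ne_zero.2 hψ)
    have h7 := sum_conj_mul ψ.2 a a⁻¹
    simp only [hψa, zero_mul, mul_zero, zero_div] at h7
    rw [Finset.sum_congr rfl (g := fun _ => (ψ : ↥(P : Subgroup S) → ℂ) 1) fun k _ => ?_, Finset.sum_const,
      nsmul_eq_mul] at h7
    · exact mul_ne_zero (IsIrr.one_ne_zero ψ.2) (mul_ne_zero
        (Nat.cast_ne_zero.2 Finset.univ_nonempty.card_pos.ne') (IsIrr.one_ne_zero ψ.2)) h7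
    rw [Subgroup.mem_center_iff.1 ha k, mul_inv_cancel_right, mul_inv_cancel]
  have hab : ∀ a b : (P : Subgroup S), a * b = b * a := by
    intro a b
    by_contra hne
    have hc : a * b * a⁻¹ * b⁻¹ ≠ 1 := fun e => hne (mul_inv_eq_iff_eq_mul.1 (mul_inv_eq_one.1 e))
    have h1 : (χ : S → ℂ) ((a * b * a⁻¹ * b⁻¹ : (P : Subgroup S)) : S) = p := by
      rw [← hn, ← Subgroup.coe_one (H := (P : Subgroup S))]
      have e1 := congrFun he (a * b * a⁻¹ * b⁻¹)
      have e2 := congrFun he 1
      rw [e1, e2]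
      simp only [Finset.sum_apply, Pi.smul_apply, smul_eq_mul]
      refine Finset.sum_congr rfl fun ψ _ => ?_
      by_cases h0 : m ψ = 0
      · simp [h0]
      obtain ⟨f, hf⟩ := IsChar.exists_hom (IsIrr.isCharacter ψ.2) (hlin ψ h0)
      simp [hf, mul_comm]
    exact norm_ne_degree hna hn hp.out.ne_one (fun e => hc (Subtype.ext e))
      (by rw [h1, Complex.norm_natCast])
  have hPcard : Nat.card (P : Subgroup S) = p := by
    have h := card_dvd_of_vanish hn (P : Subgroup S) fun a ha ha1 =>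
      hcent ⟨a, ha⟩ (Subgroup.mem_center_iff.2 fun g => hab g _)
        fun e => ha1 (congrArg Subtype.val e)
    exact ((Nat.dvd_prime hp.out).1 h).resolve_left fun e => hPne (Subgroup.card_eq_one.1 e)
  obtain ⟨x, hx1⟩ := exists_ne (1 : (P : Subgroup S))
  have hox : orderOf (x : S) = p := by
    rw [Subgroup.orderOf_coe]
    have hd := orderOf_dvd_natCard x
    rw [hPcard] at hd
    exact ((Nat.dvd_prime hp.out).1 hd).resolve_left
      fun e => hx1 (orderOf_eq_one_iff.1 e)
  have hPz : Subgroup.zpowers (x : S) = P :=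
    Subgroup.eq_of_le_of_card_ge (Subgroup.zpowers_le.2 x.2) (by rw [Nat.card_zpowers, hox, hPcard])
  have hle : Subgroup.zpowers (x : S) ≤ Subgroup.centralizer ({(x : S)} : Set S) :=
    Subgroup.zpowers_le.2 (Subgroup.mem_centralizer_singleton_iff.2 rfl)
  refine ⟨x, hox, (Subgroup.eq_of_le_of_card_ge hle ?_).symm, ?_,
    hcent x (Subgroup.mem_center_iff.2 fun g => hab g x) hx1⟩
  · rw [Nat.card_zpowers, hox]
    refine Nat.le_of_dvd hp.out.pos (card_dvd_of_vanish hn _ fun a ha ha1 => ?_)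
    refine eq_zero_of_class hna hn ha1 fun hd => P.not_dvd_index ?_
    refine hd.trans (Subgroup.index_dvd_of_le (hPz ▸ Subgroup.zpowers_le.2 ?_))
    exact Subgroup.mem_centralizer_singleton_iff.2 (Subgroup.mem_centralizer_singleton_iff.1 ha).symm
  · intro h
    have h1 := hp.out.pow_dvd_iff_le_factorization Nat.card_pos.ne' |>.1 h
    have h2 : p ^ (Nat.card S).factorization p = p := P.card_eq_multiplicity.symm.trans hPcard
    have h3 := Nat.pow_right_injective hp.out.two_le (h2.trans (pow_one p).symm)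
    omega

/-- A non-abelian simple group has an irreducible character whose degree is neither `1` nor a
prime. -/
theorem exists_degree_not_prime (hna : ¬ ∀ a b : S, a * b = b * a)
    (h : ∀ χ : IrrCharacter S, Cfsg.charDegree (χ : S → ℂ) ≠ 1 →
      (Cfsg.charDegree (χ : S → ℂ)).Prime) : False := by
  classical
  obtain ⟨χ₁, hχ₁⟩ : ∃ χ : IrrCharacter S, Cfsg.charDegree (χ : S → ℂ) ≠ 1 := by
    by_contra! hall
    exact hna (forall_degree_one_iff.1 fun χ => by rw [charDegree_spec' χ, hall χ, Nat.cast_one])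
  obtain ⟨χ₀, -, hmax⟩ := Finset.exists_max_image Finset.univ
    (fun χ : IrrCharacter S => Cfsg.charDegree (χ : S → ℂ)) ⟨χ₁, Finset.mem_univ _⟩
  set p := Cfsg.charDegree (χ₀ : S → ℂ) with hp_def
  have hpp : p.Prime := by
    refine h χ₀ fun e => hχ₁ ?_
    have h1 := hmax χ₁ (Finset.mem_univ _)
    have h2 : Cfsg.charDegree (χ₁ : S → ℂ) ≠ 0 := fun e0 => IsIrr.one_ne_zero χ₁.2 (by
      rw [charDegree_spec' χ₁, e0, Nat.cast_zero])
    omega
  have hpf : Fact p.Prime := ⟨hpp⟩
  obtain ⟨x, hox, hcent, hp2, hzero⟩ := prime_degree_local hna (p := p) (charDegree_spec' χ₀)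
  have hx1 : x ≠ 1 := fun e => hpp.ne_one (by rw [← hox, e, orderOf_one])
  have hvanish : ∀ χ : IrrCharacter S, Cfsg.charDegree (χ : S → ℂ) = p → (χ : S → ℂ) x = 0 := by
    intro χ hχ
    refine eq_zero_of_class hna ((charDegree_spec' χ).trans (congrArg Nat.cast hχ)) hx1 fun hd => ?_
    apply hp2
    rw [← (Subgroup.centralizer ({x} : Set S)).card_mul_index, hcent, Nat.card_zpowers, hox, pow_two]
    exact Nat.mul_dvd_mul_left p (hcent ▸ hd)
  obtain ⟨r, hr⟩ := (hox ▸ orderOf_dvd_natCard x : p ∣ Nat.card S)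
  have hcop : p.Coprime r := hpp.coprime_iff_not_dvd.2 fun ⟨c, hc⟩ =>
    hp2 ⟨c, by rw [hr, hc]; ring⟩
  -- a generator of `(ℤ/p)ˣ`
  obtain ⟨gu, hgu⟩ := IsCyclic.exists_generator (α := (ZMod p)ˣ)
  obtain ⟨k, hk1, hk2⟩ := Nat.chineseRemainder hcop (gu : ZMod p).val 1
  have hkp : (k : ZMod p) = (gu : ZMod p) := by
    rw [(ZMod.natCast_eq_natCast_iff _ _ _).2 hk1, ZMod.natCast_zmod_val]
  have hkc : k.Coprime (Nat.card S) := by
    rw [hr]
    refine Nat.Coprime.mul_right ((hpp.coprime_iff_not_dvd.2 fun hd => ?_).symm) ?_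
    · rw [(ZMod.natCast_eq_zero_iff _ _).2 hd] at hkp
      exact gu.ne_zero hkp.symm
    · exact Nat.Coprime.symm (by
        rw [Nat.coprime_iff_gcd_eq_one, Nat.gcd_comm, hk2.gcd_eq, Nat.gcd_one_left])
  let σ : ℕ → IrrCharacter S → IrrCharacter S := fun j χ =>
    ⟨fun g => (χ : S → ℂ) (g ^ k ^ j), isIrr_comp_pow _ (hkc.pow_left j) χ.2⟩
  let τ : ℕ → ConjClasses S → ConjClasses S := fun j => Quotient.map (· ^ k ^ j)
    fun a b (hab : IsConj a b) => IsConj.pow _ hab
  have hperm : ∀ j, Nat.card {χ : IrrCharacter S // σ j χ = χ} =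
      Nat.card {C : ConjClasses S // τ j C = C} := fun j => brauer_permutation _ _ fun χ g g' e =>
    classFun_isConj (isClassFunction_of_isIrr χ.2) (ConjClasses.mk_eq_mk_iff_isConj.1 e)
  have hσ0 : ∀ χ, σ 0 χ = χ := fun χ => Subtype.ext (funext fun g => by simp [σ])
  have hσadd : ∀ i j χ, σ i (σ j χ) = σ (i + j) χ := fun i j χ => Subtype.ext (funext fun g => by
    show (χ : S → ℂ) ((g ^ k ^ i) ^ k ^ j) = (χ : S → ℂ) (g ^ k ^ (i + j))
    rw [← pow_mul, pow_add])
  have hσinj : ∀ i, Function.Injective (σ i) := fun i a b e => Subtype.ext (funext fun g => by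
    obtain ⟨g', rfl⟩ := (Nat.Coprime.pow_left_bijective (hkc.pow_left i).symm).2 g
    exact congrFun (congrArg Subtype.val e) g')
  -- powers of `x`
  have hxpow : ∀ g ∈ Subgroup.zpowers x, g ≠ 1 → ∃ j : ℕ, g = x ^ k ^ j := by
    intro g hg hg1
    obtain ⟨n, hn⟩ := (isOfFinOrder_of_finite x).mem_powers_iff_mem_zpowers.2 hg
    replace hn : x ^ n = g := hn
    have hn0 : (n : ZMod p) ≠ 0 := fun e => hg1 (by
      rw [← hn, ← orderOf_dvd_iff_pow_eq_one, hox]; exact (ZMod.natCast_eq_zero_iff _ _).1 e)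
    obtain ⟨j, hj⟩ := (isOfFinOrder_of_finite gu).mem_powers_iff_mem_zpowers.2 (hgu (Units.mk0 _ hn0))
    refine ⟨j, ?_⟩
    rw [← hn, pow_eq_pow_iff_modEq, hox, ← ZMod.natCast_eq_natCast_iff, Nat.cast_pow, hkp,
      ← Units.val_pow_eq_pow_val]
    exact (congrArg Units.val hj).symm
  have hclass : ∀ C : ConjClasses S, (∀ j, τ j C = C) ∨ ∃ j : ℕ, C = ConjClasses.mk (x ^ k ^ j) := by
    intro C
    obtain ⟨g, rfl⟩ := ConjClasses.mk_surjective C
    by_cases hd : p ∣ orderOf g
    · refine Or.inr ?_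
      obtain ⟨P⟩ : Nonempty (Sylow p S) := inferInstance
      set g' := g ^ (orderOf g / p) with hg'
      have hog : orderOf g' = p := orderOf_pow_orderOf_div (orderOf_pos g).ne' hd
      have hzp : ∀ y : S, orderOf y = p → ∃ Q : Sylow p S, (Q : Subgroup S) = Subgroup.zpowers y := by
        intro y hy
        have hc : Nat.card (Subgroup.zpowers y) = p ^ (Nat.card S).factorization p := by
          rw [Nat.card_zpowers, hy]
          have h1 := hpp.pow_dvd_iff_le_factorization (n := Nat.card S) Nat.card_pos.ne' (k := 2)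
          have h2 := (hpp.dvd_iff_one_le_factorization (n := Nat.card S) Nat.card_pos.ne').1 (hr ▸ dvd_mul_right p r)
          rw [show (Nat.card S).factorization p = 1 by
            by_contra hne; exact hp2 (h1.2 (by omega)), pow_one]
        exact ⟨Sylow.ofCard _ hc, rfl⟩
      obtain ⟨Q, hQ⟩ := hzp g' hog
      obtain ⟨R, hR⟩ := hzp x hox
      obtain ⟨c, hc⟩ := MulAction.exists_smul_eq S Q R
      have hy : c * g' * c⁻¹ ∈ Subgroup.zpowers x := by
        rw [← hR, ← hc, Sylow.coe_subgroup_smul, Subgroup.mem_pointwise_smul_iff_inv_smul_mem, hQ]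
        simp [MulAut.smul_def, mul_assoc]
      have hcomm : c * g * c⁻¹ ∈ Subgroup.centralizer ({x} : Set S) := by
        obtain ⟨n, hn⟩ := hxpow _ hy fun e => by
          rw [conj_eq_one_iff] at e; rw [e, orderOf_one] at hog; exact hpp.ne_one hog.symm
        have hz : x ∈ Subgroup.zpowers (c * g' * c⁻¹) := by
          have e : Subgroup.zpowers (c * g' * c⁻¹) = Subgroup.zpowers x :=
            Subgroup.eq_of_le_of_card_ge (Subgroup.zpowers_le.2 hy) (by
              rw [Nat.card_zpowers, Nat.card_zpowers, hox,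
                show orderOf (c * g' * c⁻¹) = orderOf g' from MulEquiv.orderOf_eq (MulAut.conj c) g',
                hog])
          rw [e]; exact Subgroup.mem_zpowers x
        obtain ⟨i, hi⟩ := Subgroup.mem_zpowers_iff.1 hz
        rw [Subgroup.mem_centralizer_singleton_iff, ← hi, hg', ← conj_pow]
        exact (((Commute.refl (c * g * c⁻¹)).pow_right _).zpow_right i).eq
      rw [hcent] at hcomm
      obtain ⟨j, hj⟩ := hxpow _ hcomm fun e => by
        rw [conj_eq_one_iff] at e; rw [e, orderOf_one] at hd; exact hpp.ne_one (Nat.dvd_one.1 hd)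
      exact ⟨j, ConjClasses.mk_eq_mk_iff_isConj.2 (isConj_iff.2 ⟨c, hj⟩)⟩
    · refine Or.inl fun j => congrArg ConjClasses.mk ?_
      show g ^ k ^ j = g
      have h1 : orderOf g ∣ r := (Nat.Coprime.dvd_mul_left ((hpp.coprime_iff_not_dvd.2 hd).symm)).1
        (hr ▸ orderOf_dvd_natCard g)
      conv_rhs => rw [← pow_one g]
      exact pow_eq_pow_iff_modEq.2 (by simpa using (hk2.of_dvd h1).pow j)
  -- the period
  have hex : ∃ j, 0 < j ∧ IsConj (x ^ k ^ j) x := by
    refine ⟨p - 1, Nat.sub_pos_of_lt hpp.one_lt, ?_⟩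
    rw [show x ^ k ^ (p - 1) = x from ?_]
    conv_rhs => rw [← pow_one x]
    rw [pow_eq_pow_iff_modEq, hox, ← ZMod.natCast_eq_natCast_iff, Nat.cast_pow, hkp, Nat.cast_one]
    exact ZMod.pow_card_sub_one_eq_one gu.ne_zero
  set s := Nat.find hex with hs
  obtain ⟨hs0, hsconj⟩ : 0 < s ∧ IsConj (x ^ k ^ s) x := Nat.find_spec hex
  have hper : ∀ j i : ℕ, IsConj (x ^ k ^ (s * j + i)) (x ^ k ^ i) := by
    intro j i
    induction j with
    | zero => rw [Nat.mul_zero, zero_add]
    | succ j ih =>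
      refine IsConj.trans ?_ ih
      have := IsConj.pow (k ^ (s * j + i)) hsconj
      rw [← pow_mul, ← pow_add] at this
      rwa [show s * (j + 1) + i = s + (s * j + i) by ring]
  have hfixC : ∀ j, 0 < j → j < s → ∀ C : ConjClasses S, τ j C = C → τ 1 C = C := by
    intro j hj0 hjs C hC
    rcases hclass C with h1 | ⟨i, rfl⟩
    · exact h1 1
    · exfalso
      refine Nat.find_min hex hjs ⟨hj0, ?_⟩
      have hC' : IsConj ((x ^ k ^ i) ^ k ^ j) (x ^ k ^ i) := ConjClasses.mk_eq_mk_iff_isConj.1 hC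
      -- undo the power `k ^ i`
      obtain ⟨l, hl⟩ : ∃ l : ℕ, (x ^ k ^ i) ^ l = x := by
        refine (isOfFinOrder_of_finite _).mem_powers_iff_mem_zpowers.2 ?_
        rw [Subgroup.eq_of_le_of_card_ge (Subgroup.zpowers_le.2
          (Subgroup.pow_mem _ (Subgroup.mem_zpowers x) (k ^ i))) (le_of_eq ?_)]
        · exact Subgroup.mem_zpowers x
        rw [Nat.card_zpowers, Nat.card_zpowers,
          (Nat.Coprime.orderOf_pow ((hkc.pow_left i).symm.coprime_dvd_left (orderOf_dvd_natCard x)))]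
      have := IsConj.pow l hC'
      rwa [← pow_mul, ← pow_mul, mul_comm (k ^ j) l, ← mul_assoc, pow_mul, pow_mul, hl] at this
  have hfixχ : ∀ j, 0 < j → j < s → ∀ χ, σ j χ = χ → σ 1 χ = χ := by
    intro j hj0 hjs χ hχ
    have hsub : (Finset.univ.filter fun χ => σ 1 χ = χ) ⊆ Finset.univ.filter fun χ => σ j χ = χ := by
      intro a ha
      rw [Finset.mem_filter] at ha ⊢
      refine ⟨ha.1, ?_⟩
      clear hj0 hjs hχ
      induction j with
      | zero => exact hσ0 a
      | succ j ih => rw [← hσadd, ha.2, ih]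
    have hle : Nat.card {C : ConjClasses S // τ j C = C} ≤ Nat.card {C : ConjClasses S // τ 1 C = C} :=
      Nat.card_le_card_of_injective (Subtype.map id (hfixC j hj0 hjs))
        (Subtype.map_injective _ Function.injective_id)
    rw [← hperm, ← hperm, Nat.card_eq_fintype_card, Nat.card_eq_fintype_card, Fintype.card_subtype,
      Fintype.card_subtype] at hle
    have heq := Finset.eq_of_subset_of_card_le hsub hle
    exact (Finset.mem_filter.1 (heq ▸ Finset.mem_filter.2 ⟨Finset.mem_univ _, hχ⟩ :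
      χ ∈ Finset.univ.filter fun χ => σ 1 χ = χ)).2
  set M : Finset (IrrCharacter S) := Finset.univ.filter fun χ => σ 1 χ ≠ χ with hM
  have hMcard : M.card ≤ s := by
    have := Fintype.ofFinite (ConjClasses S)
    have h1 := hperm 1
    simp only [Nat.card_eq_fintype_card, Fintype.card_subtype] at h1
    have h2 := Finset.card_filter_add_card_filter_not (s := Finset.univ) fun χ => σ 1 χ = χ
    have h3 := Finset.card_filter_add_card_filter_not (s := Finset.univ) fun C => τ 1 C = C
    have h4 : (Finset.univ.filter fun C => ¬ τ 1 C = C) ⊆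
        (Finset.range s).image fun i => ConjClasses.mk (x ^ k ^ i) := by
      intro C hC
      rcases hclass C with h5 | ⟨i, rfl⟩
      · exact absurd (h5 1) (Finset.mem_filter.1 hC).2
      · refine Finset.mem_image.2 ⟨i % s, Finset.mem_range.2 (Nat.mod_lt _ hs0), ?_⟩
        refine ConjClasses.mk_eq_mk_iff_isConj.2 ?_
        conv_rhs => rw [← Nat.div_add_mod i s]
        exact (hper _ _).symm
    have h5 := (Finset.card_le_card h4).trans Finset.card_image_le
    rw [Finset.card_range] at h5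
    have h6 : Fintype.card (IrrCharacter S) = Fintype.card (ConjClasses S) := by
      rw [← Nat.card_eq_fintype_card, ← Nat.card_eq_fintype_card, card_irrCharacter]
    rw [Finset.card_univ] at h2 h3
    show (Finset.univ.filter fun χ => ¬ σ 1 χ = χ).card ≤ s
    omega
  have hdeg : ∀ ψ ∈ M, ∀ ψ' ∈ M,
      Cfsg.charDegree (ψ : S → ℂ) = Cfsg.charDegree (ψ' : S → ℂ) := by
    intro ψ hψ ψ' hψ'
    have horb : ∀ i, σ i ψ ∈ M := fun i => Finset.mem_filter.2 ⟨Finset.mem_univ _, fun e => by
      rw [hσadd, add_comm, ← hσadd] at e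
      exact (Finset.mem_filter.1 hψ).2 (hσinj i e)⟩
    have hinj : Set.InjOn (fun i => σ i ψ) (Finset.range s : Finset ℕ) := by
      intro a ha b hb e
      rw [Finset.coe_range, Set.mem_Iio] at ha hb
      wlog hab : a ≤ b generalizing a b with H
      · exact (H hb ha e.symm (le_of_not_ge hab)).symm
      by_contra hne
      obtain ⟨d, rfl⟩ := Nat.exists_eq_add_of_le hab
      simp only [← hσadd] at e
      exact (Finset.mem_filter.1 hψ).2
        (hfixχ d (by omega) (by omega) ψ (hσinj a e).symm)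
    have himg : (Finset.range s).image (fun i => σ i ψ) = M :=
      Finset.eq_of_subset_of_card_le (Finset.image_subset_iff.2 fun i _ => horb i)
        (by rw [Finset.card_image_of_injOn hinj, Finset.card_range]; exact hMcard)
    obtain ⟨i, -, rfl⟩ := Finset.mem_image.1 (himg ▸ hψ')
    show _ = ⌊((ψ : S → ℂ) (1 ^ k ^ i)).re⌋₊
    rw [one_pow]
    rfl
  -- characters fixed by `σ` have degree `1` or `p`
  have hrat : ∀ ψ : IrrCharacter S, Cfsg.charDegree (ψ : S → ℂ) ≠ 1 →
      Cfsg.charDegree (ψ : S → ℂ) ≠ p → ψ ∈ M := by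
    intro ψ hψ1 hψp
    refine Finset.mem_filter.2 ⟨Finset.mem_univ _, fun hfix => ?_⟩
    set q := Cfsg.charDegree (ψ : S → ℂ) with hq
    have hqlt : q < p := lt_of_le_of_ne (hmax ψ (Finset.mem_univ _)) hψp
    have hqp : q.Prime := h ψ hψ1
    have hall : ∀ j, σ j ψ = ψ := fun j => by
      induction j with
      | zero => exact hσ0 ψ
      | succ j ih => rw [← hσadd, hfix, ih]
    set Z := Subgroup.zpowers x with hZ
    have := Fintype.ofFinite Z
    have hconst : ∀ z : Z, z ≠ 1 → (ψ : S → ℂ) z = (ψ : S → ℂ) x := by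
      intro z hz
      obtain ⟨j, hj⟩ := hxpow z z.2 fun e => hz (Subtype.ext e)
      rw [hj]
      exact congrFun (congrArg Subtype.val (hall j)) x
    obtain ⟨lam, hlam⟩ := exists_irr_ne_at_one (g := (⟨x, Subgroup.mem_zpowers x⟩ : Z))
      fun e => hx1 (congrArg Subtype.val e)
    have hl1 : (lam : Z → ℂ) 1 = 1 := IsIrr.degree_one_of_comm lam.2 fun a b => Subtype.ext (by
      obtain ⟨i, hi⟩ := Subgroup.mem_zpowers_iff.1 a.2
      obtain ⟨l, hl⟩ := Subgroup.mem_zpowers_iff.1 b.2
      show (a : S) * b = b * a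
      rw [← hi, ← hl]
      exact ((Commute.refl x).zpow_zpow i l).eq)
    obtain ⟨a0, ha0⟩ := classInner_isCharacter_eq_natCast
      (isCharacter_res Z (IsIrr.isCharacter ψ.2)) (isCharacter_one (G := Z))
    obtain ⟨a1, ha1⟩ := classInner_isCharacter_eq_natCast
      (isCharacter_res Z (IsIrr.isCharacter ψ.2)) (IsIrr.isCharacter lam.2)
    have hsum0 : ∑ z : Z, conj ((lam : Z → ℂ) z) = 0 := by
      have h0 := classInner_irr_ne isIrrCharacter_one lam.2 fun e => hlam (by rw [← e])
      simp only [classInner, one_mul] at h0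
      exact (mul_eq_zero.1 h0).resolve_left (inv_ne_zero card_ne_zero)
    have hcardZ : Nat.card Z = p := by rw [Nat.card_zpowers, hox]
    have hp0 : (p : ℂ) ≠ 0 := Nat.cast_ne_zero.2 hpp.ne_zero
    have hdecomp : ∀ f : Z → ℂ, ∑ z : Z, (ψ : S → ℂ) z * f z =
        (ψ : S → ℂ) x * (∑ z : Z, f z) + ((q : ℂ) - (ψ : S → ℂ) x) * f 1 := by
      intro f
      rw [← Finset.add_sum_erase _ _ (Finset.mem_univ (1 : Z)), Subgroup.coe_one, charDegree_spec' ψ,
        ← Finset.add_sum_erase (s := Finset.univ) f (Finset.mem_univ (1 : Z)),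
        Finset.sum_congr rfl fun z hz => by rw [hconst z (Finset.ne_of_mem_erase hz)],
        ← Finset.mul_sum]
      ring
    simp only [classInner, hcardZ] at ha0 ha1
    rw [hdecomp, hsum0, hl1, map_one] at ha1
    rw [hdecomp] at ha0
    simp only [map_one, Finset.sum_const, Finset.card_univ, ← Nat.card_eq_fintype_card, hcardZ,
      nsmul_eq_mul, mul_one] at ha0
    field_simp at ha0 ha1
    have hb : (ψ : S → ℂ) x = (q : ℂ) - p * a1 := by linear_combination -ha1
    have key : q = a0 + (p - 1) * a1 := by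
      have e : (q : ℂ) = a0 + ((p - 1 : ℕ) : ℂ) * a1 := by
        rw [Nat.cast_sub hpp.one_lt.le, Nat.cast_one]
        apply mul_left_cancel₀ hp0
        rw [hb] at ha0
        linear_combination ha0
      exact_mod_cast e
    rcases Nat.eq_zero_or_pos a1 with ha | ha
    · rw [ha, Nat.cast_zero, mul_zero, sub_zero] at hb
      exact norm_ne_degree hna (charDegree_spec' ψ) hψ1 hx1 (by rw [hb, Complex.norm_natCast])
    · have h1 : (p - 1) * 1 ≤ (p - 1) * a1 := Nat.mul_le_mul_left _ ha
      have h2 : q = p - 1 := by omega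
      rcases hpp.eq_two_or_odd with h3 | h3
      · have := hqp.two_le; omega
      rcases hqp.eq_two_or_odd with h4 | h4
      swap
      · omega
      -- no character of degree `2`
      obtain ⟨y, hy, -, -, hy0⟩ := @prime_degree_local S _ _ _ hna ψ 2 ⟨Nat.prime_two⟩
        (by rw [charDegree_spec' ψ, ← hq, h4])
      obtain ⟨n, ρ, hρ, e⟩ := ψ.2
      have hn2 : n = 2 := by
        have h5 := charDegree_spec' ψ
        rw [← e, ρ.char_one, Module.finrank_fin_fun, e, ← hq, h4, Nat.cast_inj] at h5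
        exact h5
      subst hn2
      have hdet : LinearMap.det (ρ y) = 1 := by
        let d : S →* ℂˣ := ((LinearMap.det).comp ρ).toHomUnits
        have hk : commutator S ≤ d.ker := Abelianization.commutator_subset_ker d
        rcases (inferInstance : (commutator S).Normal).eq_bot_or_eq_top with hb' | ht
        · exact absurd (fun a b => commutatorElement_eq_one_iff_mul_comm.1 (Subgroup.mem_bot.1
            (hb' ▸ Subgroup.commutator_mem_commutator (Subgroup.mem_top a) (Subgroup.mem_top b)))) hna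
        · exact congrArg Units.val (MonoidHom.mem_ker.1 (hk (ht ▸ Subgroup.mem_top y)))
      set A := LinearMap.toMatrix' (ρ y) with hA
      have htr : A 0 0 + A 1 1 = 0 := by
        rw [← hy0, ← e]
        show _ = LinearMap.trace ℂ _ (ρ y)
        rw [LinearMap.trace_eq_matrix_trace ℂ (Pi.basisFun ℂ (Fin 2)), LinearMap.toMatrix_eq_toMatrix',
          Matrix.trace_fin_two]
      have hdet' : A 0 0 * A 1 1 - A 0 1 * A 1 0 = 1 := by
        rw [← Matrix.det_fin_two, hA, LinearMap.det_toMatrix', hdet]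
      have hsq : A * A = 1 := by
        rw [hA, ← LinearMap.toMatrix'_mul, ← map_mul]
        rw [show y * y = 1 by rw [← pow_two, ← hy, pow_orderOf_eq_one], map_one, LinearMap.toMatrix'_one]
      have h00 := congrFun (congrFun hsq 0) 0
      simp only [Matrix.mul_apply, Fin.sum_univ_two, Matrix.one_apply_eq] at h00
      exact one_ne_zero (by linear_combination (-1/2 : ℂ) * h00 + (-1/2 : ℂ) * hdet' +
        (1/2 : ℂ) * (A 0 0) * htr : (1 : ℂ) = 0)
  -- the columns of `1` and `x`
  have hcol : ∑ χ : IrrCharacter S, (χ : S → ℂ) x * conj ((χ : S → ℂ) 1) = 0 := by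
    rw [second_orthogonality, if_neg fun e => hx1 (isConj_one_left.1 e)]
  set triv : IrrCharacter S := ⟨fun _ => 1, isIrrCharacter_one⟩ with htriv
  have hlin : ∀ χ : IrrCharacter S, Cfsg.charDegree (χ : S → ℂ) = 1 → χ = triv := by
    intro χ hχ
    obtain ⟨f, hf⟩ := IsChar.exists_hom (IsIrr.isCharacter χ.2)
      (by rw [charDegree_spec' χ, hχ, Nat.cast_one])
    have hk : commutator S ≤ f.ker := Abelianization.commutator_subset_ker f
    rcases (inferInstance : (commutator S).Normal).eq_bot_or_eq_top with hb' | ht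
    · exact absurd (fun a b => commutatorElement_eq_one_iff_mul_comm.1 (Subgroup.mem_bot.1
        (hb' ▸ Subgroup.commutator_mem_commutator (Subgroup.mem_top a) (Subgroup.mem_top b)))) hna
    · refine Subtype.ext (hf.trans (funext fun g => ?_))
      rw [MonoidHom.mem_ker.1 (hk (ht ▸ Subgroup.mem_top g)), Units.val_one]
  rw [← Finset.add_sum_erase _ _ (Finset.mem_univ triv), htriv] at hcol
  simp only [one_mul, map_one] at hcol
  rw [← htriv] at hcol
  by_cases hM0 : M = ∅
  · rw [Finset.sum_eq_zero fun χ hχ => ?_, add_zero] at hcol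
    · exact one_ne_zero hcol
    by_cases hp' : Cfsg.charDegree (χ : S → ℂ) = p
    · rw [hvanish χ hp', zero_mul]
    · exact absurd (hrat χ (fun e => Finset.ne_of_mem_erase hχ (hlin χ e)) hp') (by simp [hM0])
  obtain ⟨ψ₀, hψ₀⟩ := Finset.nonempty_iff_ne_empty.2 hM0
  set q := Cfsg.charDegree (ψ₀ : S → ℂ) with hq
  have hq2 : 2 ≤ q := by
    refine (h ψ₀ fun e => ?_).two_le
    refine (Finset.mem_filter.1 hψ₀).2 ?_
    rw [hlin ψ₀ e]
  have hint : IsIntegral ℤ ((1 : ℂ) / q) := by
    have e : (1 : ℂ) / q = -∑ χ ∈ Finset.univ.erase triv,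
        if Cfsg.charDegree (χ : S → ℂ) = p then 0 else (χ : S → ℂ) x := by
      have hq0 : (q : ℂ) ≠ 0 := Nat.cast_ne_zero.2 (by omega)
      rw [div_eq_iff hq0, neg_mul, Finset.sum_mul, eq_neg_iff_add_eq_zero]
      refine Eq.trans ?_ hcol
      congr 1
      refine Finset.sum_congr rfl fun χ hχ => ?_
      simp only [ite_mul, zero_mul]
      split_ifs with hp'
      · rw [hvanish χ hp', zero_mul]
      · rw [charDegree_spec' χ, map_natCast, hdeg χ (hrat χ
          (fun e => Finset.ne_of_mem_erase hχ (hlin χ e)) hp') ψ₀ hψ₀]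
    rw [e]
    refine (IsIntegral.sum _ fun χ _ => ?_).neg
    split_ifs
    · exact isIntegral_zero
    · exact IsChar.isIntegral (IsIrr.isCharacter χ.2) x
  have := Nat.dvd_one.1 (nat_dvd_of_isIntegral (m := 1) (n := q) (by omega) (by simpa using hint))
  omega

omit [Fintype S] [IsSimpleGroup S] in
/-- If all nonlinear irreducible degrees are primes, the group is solvable. -/
theorem isSolvable_of_prime_degrees : ∀ (n : ℕ) (G : Type u) [Group G] [Finite G], Nat.card G = n →
    (∀ χ : IrrCharacter G, Cfsg.charDegree (χ : G → ℂ) ≠ 1 →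
      (Cfsg.charDegree (χ : G → ℂ)).Prime) → Group.IsSolvable G := by
  intro n
  induction n using Nat.strong_induction_on with
  | _ n ih => ?_
  intro G _ _ hn h
  classical
  subst hn
  have := Fintype.ofFinite G
  by_cases hab : ∀ a b : G, a * b = b * a
  · exact Group.isSolvable_of_comm hab
  by_cases hN : ∃ N : Subgroup G, N.Normal ∧ N ≠ ⊥ ∧ N ≠ ⊤
  · obtain ⟨N, hNn, hN1, hN2⟩ := hN
    have := Fintype.ofFinite N
    have hsN : Group.IsSolvable N := by
      refine ih _ (lt_of_le_of_ne (Nat.le_of_dvd Nat.card_pos N.card_subgroup_dvd_card)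
        fun e => hN2 (Subgroup.eq_top_of_card_eq _ e)) N rfl fun θ hθ => ?_
      obtain ⟨χ, hχ⟩ : ∃ χ : IrrCharacter G, classInner (fun n : N => (χ : G → ℂ) n) (θ : N → ℂ) ≠ 0 :=
        exists_over N θ
      obtain ⟨c, hc⟩ := classInner_isCharacter_eq_natCast
        (isCharacter_res N (IsIrr.isCharacter χ.2)) (IsIrr.isCharacter θ.2)
      have h1 := degree_eq_of_clifford χ.2 θ.2 hχ
      rw [hc, charDegree_spec' θ, charDegree_spec' χ, ← Nat.cast_mul, ← Nat.cast_mul,
        Nat.cast_inj] at h1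
      have hne : Cfsg.charDegree (χ : G → ℂ) ≠ 1 := fun e => hθ (by
        rw [e] at h1; exact (mul_eq_one.1 h1.symm).2)
      rcases (h χ hne).eq_one_or_self_of_dvd _ (Dvd.intro_left _ h1.symm) with h2 | h2
      · exact absurd h2 hθ
      · rw [h2]; exact h χ hne
    have hsQ : Group.IsSolvable (G ⧸ N) := by
      refine ih _ ?_ (G ⧸ N) rfl fun ψ hψ => ?_
      · have h2 : 1 < Nat.card N := Subgroup.one_lt_card_iff_ne_bot _ |>.2 hN1
        rw [← N.card_mul_index, ← Subgroup.index_eq_card]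
        exact lt_mul_left (Nat.pos_of_ne_zero Subgroup.index_ne_zero_of_finite) h2
      exact h ⟨fun g => (ψ : G ⧸ N → ℂ) g,
        isIrrCharacter_comp (QuotientGroup.mk' N) (QuotientGroup.mk'_surjective N) ψ.2⟩ hψ
    exact Group.isSolvable_of_ker_le_range N.subtype (QuotientGroup.mk' N)
      (by rw [QuotientGroup.ker_mk', Subgroup.range_subtype])
  · push Not at hN
    have : Nontrivial G := by
      by_contra hnt
      rw [not_nontrivial_iff_subsingleton] at hnt
      exact hab fun a b => Subsingleton.elim _ _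
    have : IsSimpleGroup G := ⟨fun H hH => by
      by_cases h1 : H = ⊥
      · exact Or.inl h1
      · exact Or.inr (hN H hH h1)⟩
    exact (exists_degree_not_prime hab h).elim

end Cfsg.Agent.Char
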