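import Mathlib
import Cfsg.Agent.Char.Gallagher
import Cfsg.Agent.Char.Induced
import Cfsg.Agent.Char.Gen

/-!
# The degree congruence for fully ramified sections under a fixed-point-free cyclic action
-/

namespace Cfsg.Agent.Char

open scoped ComplexConjugate

/-- Integers that differ pairwise by at most one, with a prescribed sum of squares. -/
theorem dvd_sum_sub_one_or_add_one {ι : Type*} [Fintype ι] [Nonempty ι] (a : ι → ℤ)
    (h1 : ∀ i j, (a i - a j) ^ 2 ≤ 1)
    (h2 : (Fintype.card ι : ℤ) * ∑ i, a i ^ 2 = (∑ i, a i) ^ 2 - 1 + Fintype.card ι) :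
    (Fintype.card ι : ℤ) ∣ (∑ i, a i) - 1 ∨ (Fintype.card ι : ℤ) ∣ (∑ i, a i) + 1 := by
  obtain ⟨i₀, hmin⟩ := Finite.exists_min a
  have hb : ∀ i, (a i - a i₀) ^ 2 = a i - a i₀ := fun i => by
    have h0 : 0 ≤ a i - a i₀ := sub_nonneg.2 (hmin i)
    have h : a i - a i₀ = 0 ∨ a i - a i₀ = 1 := by
      have := h1 i i₀
      have h3 : a i - a i₀ ≤ 1 := by nlinarith
      omega
    rcases h with h | h <;> rw [h] <;> norm_num
  set v := ∑ i, (a i - a i₀) with hv
  have hsum : ∑ i, a i = (Fintype.card ι : ℤ) * a i₀ + v := by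
    rw [hv, Finset.sum_sub_distrib, Finset.sum_const, Finset.card_univ, nsmul_eq_mul]
    ring
  have hsq : ∑ i, a i ^ 2 = (Fintype.card ι : ℤ) * a i₀ ^ 2 + 2 * a i₀ * v + v := by
    have h : ∀ i, a i ^ 2 = a i₀ ^ 2 + 2 * a i₀ * (a i - a i₀) + (a i - a i₀) := fun i => by
      linear_combination hb i
    rw [Finset.sum_congr rfl fun i _ => h i, Finset.sum_add_distrib, Finset.sum_add_distrib,
      Finset.sum_const, Finset.card_univ, nsmul_eq_mul, ← Finset.mul_sum]
  rw [hsq, hsum] at h2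
  have h3 : (v - 1) * (v + 1 - (Fintype.card ι : ℤ)) = 0 := by linear_combination -h2
  rcases mul_eq_zero.1 h3 with h | h
  · exact Or.inl ⟨a i₀, by rw [hsum]; linarith⟩
  · exact Or.inr ⟨a i₀ + 1, by rw [hsum]; linarith⟩

universe u

variable {M : Type u} [Group M] [Fintype M] (N : Subgroup M) [N.Normal] [Fintype N]

/-- A left `N`-invariant weight may be averaged against the other factor. -/
theorem card_mul_sum_mul {F : M → ℂ} (H : M → ℂ) (hF : ∀ (n : N) y, F ((n : M) * y) = F y) :
    (Nat.card N : ℂ) * ∑ y, F y * H y = ∑ y, F y * ∑ n : N, H ((n : M) * y) := by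
  have h : ∀ n : N, ∑ y, F ((n : M) * y) * H ((n : M) * y) = ∑ y, F y * H y := fun n =>
    Fintype.sum_equiv (Equiv.mulLeft (n : M)) _ _ fun y => rfl
  calc (Nat.card N : ℂ) * ∑ y, F y * H y
      = ∑ _n : N, ∑ y, F y * H y := by
        rw [Finset.sum_const, Finset.card_univ, nsmul_eq_mul, Nat.card_eq_fintype_card]
    _ = ∑ n : N, ∑ y, F y * H ((n : M) * y) :=
        Finset.sum_congr rfl fun n _ => by rw [← h n]; simp only [hF]
    _ = ∑ y, F y * ∑ n : N, H ((n : M) * y) := by
        rw [Finset.sum_comm]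
        simp only [Finset.mul_sum]

/-- If a multiple `e • θ` of a character with irreducible extension is the restriction of `P`,
the quotient by `N` is abelian of order `m`, and `|P|²` averages to one on the outer cosets,
then `e ≡ ±1` modulo `m`. -/
theorem dvd_sub_one_or_add_one_of_avg {A : Type*} [CommGroup A] [Finite A] (π : M →* A)
    (hπ : Function.Surjective π) (hker : π.ker = N) {ξ P : M → ℂ} {e : ℕ}
    (hξ : IsIrrCharacter M ξ) (hξN : IsIrrCharacter N (fun n : N => ξ n))
    (hP : IsCharacter M P) (hPN : ∀ n : N, P n = (e : ℂ) * ξ n)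
    (havg : ∀ y ∉ N, ∑ n : N, P ((n : M) * y) * conj (P ((n : M) * y)) = (Nat.card N : ℂ)) :
    (Nat.card A : ℤ) ∣ (e : ℤ) - 1 ∨ (Nat.card A : ℤ) ∣ (e : ℤ) + 1 := by
  classical
  let := Fintype.ofFinite A
  obtain ⟨eqv⟩ := CommGroup.monoidHom_mulEquiv_of_hasEnoughRootsOfUnity A ℂ
  have : Finite (A →* ℂˣ) := Finite.of_equiv _ eqv.symm.toEquiv
  let := Fintype.ofFinite (A →* ℂˣ)
  have hcardL : Fintype.card (A →* ℂˣ) = Nat.card A := by
    rw [← Nat.card_eq_fintype_card]
    exact Nat.card_congr eqv.toEquiv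
  have hπN : ∀ y, π y = 1 ↔ y ∈ N := fun y => by rw [← hker]; rfl
  have hπl : ∀ (n : N) y, π ((n : M) * y) = π y := fun n y => by
    rw [map_mul, (hπN n).2 n.2, one_mul]
  have hMN : (Nat.card M : ℂ) = (Nat.card N : ℂ) * (Nat.card A : ℂ) := by
    have h1 : N.index = Nat.card A := by
      rw [← hker, Subgroup.index_ker, MonoidHom.range_eq_top.2 hπ, Subgroup.card_top]
    rw [← N.card_mul_index, h1, Nat.cast_mul]
  have hNne : (Nat.card N : ℂ) ≠ 0 := card_ne_zero
  have hAne : (Nat.card A : ℂ) ≠ 0 := card_ne_zero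
  have hMne : (Nat.card M : ℂ) ≠ 0 := card_ne_zero
  -- the twists of `ξ`
  set lx : (A →* ℂˣ) → M → ℂ := fun l y => (l (π y) : ℂ) * ξ y with hlx
  have hirr : ∀ l, IsIrrCharacter M (lx l) := fun l =>
    isIrr_mul_of_res_irr N hξ hξN (isIrrCharacter_hom (l.comp π))
      fun n hn => by simp [(hπN n).2 hn]
  have hξavg : ∀ y, ∑ n : N, ξ ((n : M) * y) * conj (ξ ((n : M) * y)) = (Nat.card N : ℂ) := by
    intro y
    have := avg_normSq_eq_one N hξ hξN y
    rwa [inv_mul_eq_one₀ hNne, eq_comm] at this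
  have hinj : Function.Injective lx := by
    intro l l' h
    refine MonoidHom.ext fun c => Units.ext ?_
    obtain ⟨y, rfl⟩ := hπ c
    apply mul_right_cancel₀ hNne
    rw [← hξavg y, Finset.mul_sum, Finset.mul_sum]
    refine Finset.sum_congr rfl fun n _ => ?_
    have h1 := congrFun h ((n : M) * y)
    simp only [hlx, hπl] at h1
    rw [← mul_assoc, ← mul_assoc, h1]
  -- multiplicities
  choose a ha using fun l => classInner_isCharacter_eq_natCast hP (IsIrr.isCharacter (hirr l))
  have hdual : ∀ y, ∑ l : A →* ℂˣ, conj (l (π y) : ℂ) = if y ∈ N then (Nat.card A : ℂ) else 0 := by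
    intro y
    have h : ∑ l : A →* ℂˣ, (l (π y) : ℂ) = if y ∈ N then (Nat.card A : ℂ) else 0 := by
      split_ifs with hy
      · rw [(hπN y).2 hy]
        simp [hcardL]
      · obtain ⟨l₀, hl₀⟩ := CommGroup.exists_apply_ne_one_of_hasEnoughRootsOfUnity A ℂ
          (fun h => hy ((hπN y).1 h))
        have h1 : (l₀ (π y) : ℂ) * ∑ l : A →* ℂˣ, (l (π y) : ℂ) =
            ∑ l : A →* ℂˣ, (l (π y) : ℂ) := by
          rw [Finset.mul_sum]
          exact Fintype.sum_equiv (Equiv.mulLeft l₀) _ _ fun l => by simp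
        exact (mul_left_eq_self₀.1 h1).resolve_left fun h2 => hl₀ (Units.ext h2)
    rw [← map_sum, h]
    split_ifs <;> simp
  have hsuma : ∑ l : A →* ℂˣ, (a l : ℂ) = (e : ℂ) := by
    have hP1 : ∑ n : N, P n * conj (ξ n) = (e : ℂ) * (Nat.card N : ℂ) := by
      have h1 := hξavg 1
      simp only [mul_one] at h1
      rw [← h1, Finset.mul_sum]
      exact Finset.sum_congr rfl fun n _ => by rw [hPN, mul_assoc]
    calc ∑ l : A →* ℂˣ, (a l : ℂ)
        = (Nat.card M : ℂ)⁻¹ * ∑ y, P y * conj (ξ y) * ∑ l : A →* ℂˣ, conj (l (π y) : ℂ) := by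
          simp only [← ha, classInner, ← Finset.mul_sum]
          rw [Finset.sum_comm]
          congr 1
          refine Finset.sum_congr rfl fun y _ => ?_
          rw [Finset.mul_sum]
          exact Finset.sum_congr rfl fun l _ => by rw [hlx]; simp only [map_mul]; ring
      _ = (Nat.card M : ℂ)⁻¹ * ((Nat.card A : ℂ) * ∑ n : N, P n * conj (ξ n)) := by
          congr 1
          rw [Finset.mul_sum, ← Finset.sum_subtype (Finset.univ.filter (· ∈ N)) (by simp)
            (fun y => (Nat.card A : ℂ) * (P y * conj (ξ y))), Finset.sum_filter]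
          refine Finset.sum_congr rfl fun y _ => ?_
          rw [hdual]
          split_ifs <;> ring
      _ = e := by
          rw [hP1, hMN]
          field_simp
  -- the expansion of `P`
  have hexp : P = ∑ l : A →* ℂˣ, (a l : ℂ) • lx l := by
    set R := P - ∑ l : A →* ℂˣ, (a l : ℂ) • lx l with hR
    have hsumchar : IsCharacter M (∑ l : A →* ℂˣ, (a l : ℂ) • lx l) :=
      isCharacter_sum _ _ fun l _ => isCharacter_natCast_smul _ (IsIrr.isCharacter (hirr l))
    have hRc : IsCharacter M R := by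
      refine isCharacter_iff.2 ⟨fun g k => ?_, fun η => ?_⟩
      · simp only [hR, Pi.sub_apply, isClassFunction_of_isCharacter hP g k,
          isClassFunction_of_isCharacter hsumchar g k]
      · rw [hR, classInner_sub_left, classInner_sum_left]
        simp only [classInner_smul_left]
        by_cases h : ∃ l, (η : M → ℂ) = lx l
        · obtain ⟨l, hl⟩ := h
          refine ⟨0, ?_⟩
          rw [hl, ha, Finset.sum_eq_single l]
          · simp [classInner_irr_self (hirr l)]
          · exact fun j _ hj => by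
              rw [classInner_irr_ne (hirr j) (hirr l) (hinj.ne hj), mul_zero]
          · simp
        · obtain ⟨k, hk⟩ := classInner_isCharacter_eq_natCast hP (IsIrr.isCharacter η.2)
          refine ⟨k, ?_⟩
          rw [hk, Finset.sum_eq_zero fun j _ => by
            rw [classInner_irr_ne (hirr j) η.2 fun hj => h ⟨j, hj.symm⟩, mul_zero], sub_zero]
    have hR0 : R = 0 := by
      refine (IsChar.eq_zero_iff hRc).2 ?_
      simp only [hR, Pi.sub_apply, Finset.sum_apply, Pi.smul_apply, smul_eq_mul, hlx, map_one,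
        Units.val_one, one_mul, ← Finset.sum_mul, hsuma]
      have h1 := hPN 1
      simp only [OneMemClass.coe_one] at h1
      rw [h1, sub_self]
    exact sub_eq_zero.1 hR0
  -- autocorrelations
  have hδ : ∀ μ : A →* ℂˣ, μ ≠ 1 → ∑ y, (μ (π y) : ℂ) = 0 := by
    intro μ hμ
    obtain ⟨c, hc⟩ := not_forall.1 fun h => hμ (MonoidHom.ext h)
    obtain ⟨y₀, rfl⟩ := hπ c
    have h1 : (μ (π y₀) : ℂ) * ∑ y, (μ (π y) : ℂ) = ∑ y, (μ (π y) : ℂ) := by
      rw [Finset.mul_sum]
      exact Fintype.sum_equiv (Equiv.mulLeft y₀) _ _ fun y => by simp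
    exact (mul_left_eq_self₀.1 h1).resolve_left fun h2 => hc (Units.ext h2)
  have hcorr : ∀ μ : A →* ℂˣ, (Nat.card A : ℂ) * ∑ l : A →* ℂˣ, (a l : ℂ) * (a (μ * l) : ℂ) =
      (if μ = 1 then (Nat.card A : ℂ) else 0) + ((e : ℂ) ^ 2 - 1) := by
    intro μ
    have h1 : ∑ l : A →* ℂˣ, (a l : ℂ) * (a (μ * l) : ℂ) =
        classInner (fun y => (μ (π y) : ℂ) * P y) P := by
      have hμP : (fun y => (μ (π y) : ℂ) * P y) = ∑ l : A →* ℂˣ, (a l : ℂ) • lx (μ * l) := by
        funext y
        simp only [congrFun hexp y, Finset.sum_apply, Pi.smul_apply, smul_eq_mul, hlx,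
          MonoidHom.mul_apply, Units.val_mul, Finset.mul_sum]
        exact Finset.sum_congr rfl fun l _ => by ring
      rw [hμP, classInner_sum_left]
      refine Finset.sum_congr rfl fun l _ => ?_
      rw [classInner_smul_left, ← classInner_conj_symm, ha]
      simp
    have h2 : ∑ y, (μ (π y) : ℂ) * (P y * conj (P y)) =
        (∑ y, (μ (π y) : ℂ)) + ((e : ℂ) ^ 2 - 1) * (Nat.card N : ℂ) := by
      apply mul_left_cancel₀ hNne
      rw [card_mul_sum_mul N (fun y => P y * conj (P y)) (fun n y => by rw [hπl])]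
      have h3 : ∀ y, ∑ n : N, P ((n : M) * y) * conj (P ((n : M) * y)) =
          (Nat.card N : ℂ) * (1 + if y ∈ N then (e : ℂ) ^ 2 - 1 else 0) := by
        intro y
        split_ifs with hy
        · have h4 := hξavg y
          rw [add_sub_cancel, ← h4, Finset.sum_mul]
          refine Finset.sum_congr rfl fun n _ => ?_
          have h5 : P ((n : M) * y) = (e : ℂ) * ξ ((n : M) * y) := hPN ⟨_, N.mul_mem n.2 hy⟩
          rw [h5, map_mul, map_natCast]
          ring
        · rw [havg y hy, add_zero, mul_one]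
      simp only [h3, mul_add, mul_one, Finset.sum_add_distrib]
      congr 1
      · rw [Finset.mul_sum]
        exact Finset.sum_congr rfl fun y _ => mul_comm _ _
      · simp only [mul_ite, mul_zero]
        rw [← Finset.sum_filter, Finset.sum_congr rfl fun y hy => by
          rw [(hπN y).2 (Finset.mem_filter.1 hy).2, map_one, Units.val_one, one_mul],
          Finset.sum_const, ← Fintype.card_subtype, nsmul_eq_mul, ← Nat.card_eq_fintype_card]
        ring
    rw [h1, classInner]
    simp only [mul_assoc]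
    rw [h2, hMN]
    split_ifs with hμ
    · subst hμ
      simp only [MonoidHom.one_apply, Units.val_one, Finset.sum_const, Finset.card_univ,
        nsmul_eq_mul, mul_one, ← Nat.card_eq_fintype_card]
      rw [hMN]
      field_simp
    · rw [hδ μ hμ]
      field_simp
      ring
  have hcorrZ : ∀ μ : A →* ℂˣ, (Nat.card A : ℤ) * ∑ l : A →* ℂˣ, (a l : ℤ) * (a (μ * l) : ℤ) =
      (if μ = 1 then (Nat.card A : ℤ) else 0) + ((e : ℤ) ^ 2 - 1) := fun μ => by
    apply Int.cast_injective (α := ℂ)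
    push_cast
    rw [hcorr μ]
    try split_ifs <;> simp
  have hsumZ : ∑ l : A →* ℂˣ, (a l : ℤ) = (e : ℤ) := by exact_mod_cast hsuma
  have hsq : (Nat.card A : ℤ) * ∑ l : A →* ℂˣ, (a l : ℤ) ^ 2 = Nat.card A + ((e : ℤ) ^ 2 - 1) := by
    have h := hcorrZ 1
    rw [if_pos rfl] at h
    have h1 : ∀ l : A →* ℂˣ, 1 * l = l := fun l => MonoidHom.ext fun x => by simp
    simp only [h1] at h
    simpa only [sq] using h
  have hdiff : ∀ l l' : A →* ℂˣ, ((a l : ℤ) - a l') ^ 2 ≤ 1 := by
    intro l l'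
    by_cases hll : l = l'
    · simp [hll]
    have hμ : l' * l⁻¹ ≠ 1 := fun h => hll (mul_inv_eq_one.1 h).symm
    have h := hcorrZ (l' * l⁻¹)
    rw [if_neg hμ, zero_add] at h
    have hshift : ∑ j : A →* ℂˣ, (a (l' * l⁻¹ * j) : ℤ) ^ 2 = ∑ j : A →* ℂˣ, (a j : ℤ) ^ 2 :=
      Fintype.sum_equiv (Equiv.mulLeft (l' * l⁻¹)) _ _ fun j => rfl
    have hexp2 : ∑ j : A →* ℂˣ, ((a j : ℤ) - a (l' * l⁻¹ * j)) ^ 2 =
        2 * ∑ j : A →* ℂˣ, (a j : ℤ) ^ 2 -
          2 * ∑ j : A →* ℂˣ, (a j : ℤ) * (a (l' * l⁻¹ * j) : ℤ) := by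
      simp only [sub_sq, mul_assoc, Finset.sum_add_distrib, Finset.sum_sub_distrib,
        ← Finset.mul_sum, hshift]
      ring
    have hApos : (0 : ℤ) < Nat.card A := by exact_mod_cast Nat.card_pos
    have h2 : ∑ j : A →* ℂˣ, ((a j : ℤ) - a (l' * l⁻¹ * j)) ^ 2 = 2 := by
      apply mul_left_cancel₀ hApos.ne'
      linear_combination (Nat.card A : ℤ) * hexp2 + 2 * hsq - 2 * h
    have h3 := Finset.single_le_sum (f := fun j => ((a j : ℤ) - a (l' * l⁻¹ * j)) ^ 2)
      (fun j _ => sq_nonneg _) (Finset.mem_univ l)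
    rw [h2] at h3
    have hl : l' * l⁻¹ * l = l' := MonoidHom.ext fun x => by simp
    simp only [hl] at h3
    have h4 : -1 ≤ (a l : ℤ) - a l' ∧ (a l : ℤ) - a l' ≤ 1 := by
      constructor <;> nlinarith
    nlinarith
  have := dvd_sum_sub_one_or_add_one (fun l => (a l : ℤ)) hdiff (by
    rw [hcardL, hsumZ, hsq]; ring)
  rwa [hcardL, hsumZ] at this

end Cfsg.Agent.Char
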