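import Mathlib
import Cfsg.Agent.Char.LargerDegree
import Cfsg.Agent.ProjExt.CliffordCorr
import Cfsg.Agent.S0886

/-!
# Cyclic Sylow quotients of groups fully ramified over a normal subgroup
-/

namespace Cfsg.Agent.Char

open scoped ComplexConjugate

universe u

variable {G : Type u} [Group G]

/-- `[A ⊔ B : A] = [B : A ⊓ B]` for normal `B`. -/
theorem relIndex_sup_eq_of_normal [Finite G] (A B : Subgroup G) [B.Normal] :
    A.relIndex (A ⊔ B) = A.relIndex B := by
  have h1 := Subgroup.relIndex_mul_relIndex (A ⊓ B) A (A ⊔ B) inf_le_left le_sup_left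
  have h2 := Subgroup.relIndex_mul_relIndex (A ⊓ B) B (A ⊔ B) inf_le_right le_sup_right
  rw [Subgroup.relIndex_sup_right, Subgroup.inf_relIndex_right] at h2
  rw [← h2, inf_comm, Subgroup.inf_relIndex_right, mul_comm (A.relIndex B)] at h1
  exact mul_left_cancel₀ Subgroup.index_ne_zero_of_finite h1

variable [Fintype G]

/-- Lying over is transitive. -/
theorem over_trans {L : Subgroup G} [Fintype L] {Z : Subgroup G} [Fintype Z] (hZL : Z ≤ L)
    {θ : Z → ℂ} (hθ : IsIrrCharacter Z θ) {lam : L → ℂ} (hlam : IsIrrCharacter L lam)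
    {ψ : G → ℂ} (hψ : IsCharacter G ψ) (h1 : classInner (fun x : L => ψ x) lam ≠ 0)
    (h2 : classInner (fun z : Z => lam ⟨z, hZL z.2⟩) θ ≠ 0) :
    classInner (fun z : Z => ψ z) θ ≠ 0 := by
  have hsub := IsChar.sub_constituent (isCharacter_res L hψ) hlam h1
  obtain ⟨r, hr⟩ := classInner_isCharacter_eq_natCast
    (isCharacter_comp (Subgroup.inclusion hZL) hsub) (IsIrr.isCharacter hθ)
  obtain ⟨s, hs⟩ := classInner_isCharacter_eq_natCast
    (isCharacter_comp (Subgroup.inclusion hZL) (IsIrr.isCharacter hlam)) (IsIrr.isCharacter hθ)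
  change classInner (fun z : Z => ψ z - lam ⟨z, hZL z.2⟩) θ = (r : ℂ) at hr
  change classInner (fun z : Z => lam ⟨z, hZL z.2⟩) θ = (s : ℂ) at hs
  have he : classInner (fun z : Z => ψ z) θ = ((r + s : ℕ) : ℂ) := by
    rw [Nat.cast_add, ← hr, ← hs, ← classInner_add_left]
    congr 1
    funext z
    simp
  rw [he]
  rw [hs] at h2
  exact Nat.cast_ne_zero.2 (by have := Nat.cast_ne_zero.1 h2; omega)

/-- If only one character lies over `lam` and the quotient is cyclic, then `lam` has inertia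
group `L`. -/
theorem inertia_eq_of_unique (L : Subgroup G) [hLn : L.Normal] [Fintype L]
    (hcyc : IsCyclic (G ⧸ L)) {lam : L → ℂ} (hlam : IsIrrCharacter L lam)
    (huniq : ∀ ξ ξ' : G → ℂ, IsIrrCharacter G ξ → IsIrrCharacter G ξ' →
      classInner (fun x : L => ξ x) lam ≠ 0 → classInner (fun x : L => ξ' x) lam ≠ 0 → ξ = ξ') :
    inertia lam = L := by
  classical
  set S := inertia lam with hS
  have hLS : L ≤ S := le_inertia (isClassFunction_of_isIrr hlam)
  let := Fintype.ofFinite S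
  let L' := L.subgroupOf S
  let := Fintype.ofFinite L'
  let eL : L' ≃* L := Subgroup.subgroupOfEquivOfLe hLS
  have hlam' : IsIrrCharacter L' (fun x => lam (eL x)) := (isIrrCharacter_comp_equiv eL).2 hlam
  have hcycS : IsCyclic (S ⧸ L') := by
    let g : S ⧸ L' →* G ⧸ L :=
      QuotientGroup.map L' L S.subtype fun x hx => Subgroup.mem_subgroupOf.1 hx
    refine isCyclic_of_injective g ((injective_iff_map_eq_one g).2 fun a => ?_)
    obtain ⟨a, rfl⟩ := QuotientGroup.mk_surjective a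
    intro ha
    rw [QuotientGroup.eq_one_iff]
    exact Subgroup.mem_subgroupOf.2 ((QuotientGroup.eq_one_iff (a : G)).1 ha)
  obtain ⟨ξ, hξ, hξL⟩ := S0886.result L' hcycS (fun x => lam (eL x)) hlam'
    (fun s x => congrFun (s.2 : conjFun (s : G) lam = lam) (eL x))
  have hξ2 : ∀ ξ' : S → ℂ, classInner (indFun L' fun x => lam (eL x)) ξ' ≠ 0 →
      IsIrrCharacter S ξ' → classInner (fun n : L => ξ' ⟨n, hLS n.2⟩) lam ≠ 0 := by
    intro ξ' h hirr e
    apply h
    rw [classInner_indFun_left L' _ (isClassFunction_of_isIrr hirr), ← classInner_conj_symm]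
    rw [show classInner (fun x : L' => ξ' x) (fun x => lam (eL x)) =
      classInner (fun n : L => ξ' ⟨n, hLS n.2⟩) lam from ?_, e, map_zero]
    simp only [classInner]
    rw [Nat.card_congr eL.toEquiv]
    congr 1
    exact Fintype.sum_equiv eL.toEquiv _ _ fun x => rfl
  have hres : ∀ ξ' : S → ℂ, IsIrrCharacter S ξ' →
      classInner (fun n : L => ξ' ⟨n, hLS n.2⟩) lam ≠ 0 →
      classInner (fun x : L => indFun S ξ' x) lam ≠ 0 := by
    intro ξ' hirr h
    have hi := ProjExt.exists_induced hlam rfl hLS hirr h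
    have h1 : classInner (fun t : S => indFun S ξ' t) ξ' ≠ 0 := by
      have := classInner_indFun_left S ξ' (isClassFunction_of_isIrr hi)
      rw [classInner_irr_self hi, ← classInner_conj_symm] at this
      intro e
      rw [e, map_zero] at this
      exact one_ne_zero this
    exact over_trans hLS hlam hirr (IsIrr.isCharacter hi) h1 h
  have hξc : classInner (indFun L' fun x => lam (eL x)) ξ = 1 := by
    rw [classInner_indFun_left L' _ (isClassFunction_of_isIrr hξ), funext hξL,
      classInner_irr_self hlam']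
  have hall : ∀ η : IrrCharacter S, (η : S → ℂ) ≠ ξ →
      classInner (indFun L' fun x => lam (eL x)) (η : S → ℂ) = 0 := by
    intro η hη
    by_contra h
    have h1 := hξ2 η h η.2
    have h2 := hξ2 ξ (by rw [hξc]; exact one_ne_zero) hξ
    exact hη (ProjExt.indFun_injective hlam rfl hLS η.2 hξ h1 h2
      (huniq _ _ (ProjExt.exists_induced hlam rfl hLS η.2 h1)
        (ProjExt.exists_induced hlam rfl hLS hξ h2) (hres _ η.2 h1) (hres _ hξ h2)))
  have heq : indFun L' (fun x => lam (eL x)) = ξ := by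
    rw [classFun_expansion (isClassFunction_indFun L' _),
      Finset.sum_eq_single (⟨ξ, hξ⟩ : IrrCharacter S)]
    · rw [hξc, one_smul]
    · intro η _ hη
      rw [hall η fun e => hη (Subtype.ext e), zero_smul]
    · simp
  have h1 := congrFun heq 1
  rw [indFun_apply_one, show ξ 1 = lam (eL 1) from hξL 1,
    mul_eq_right₀ (IsIrr.one_ne_zero hlam'), Nat.cast_eq_one] at h1
  exact le_antisymm (Subgroup.relIndex_eq_one.1 h1) hLS

/-- A fully ramified section has a complement to a Sylow quotient that is cyclic, or when the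
character is induced from the bottom of the quotient. -/
theorem exists_complement_of_ramified (Z : Subgroup G) [Z.Normal] [Fintype Z] {θ : Z → ℂ}
    (hθ : IsIrrCharacter Z θ) {χ : G → ℂ} (hχ : IsIrrCharacter G χ) {e : ℕ}
    (he : e ^ 2 = Z.index) (hres : ∀ z : Z, χ z = (e : ℂ) * θ z)
    (K : Subgroup G) [hKn : K.Normal] (hZK : Z ≤ K) (p : ℕ) [hp : Fact p.Prime] (Q : Sylow p G)
    (hcase : IsCyclic ↥((Q : Subgroup G).map (QuotientGroup.mk' K)) ∨
      ∃ φ : K → ℂ, IsIrrCharacter K φ ∧ indFun K φ = χ) :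
    ∃ M : Subgroup (G ⧸ K), M.IsComplement' ((Q : Subgroup G).map (QuotientGroup.mk' K)) := by
  classical
  have he0 : e ≠ 0 := fun h => Subgroup.index_ne_zero_of_finite (H := Z) (by rw [← he, h]; rfl)
  have hinv : ∀ (g : G) (z : Z),
      θ ⟨g * z * g⁻¹, (inferInstance : Z.Normal).conj_mem z z.2 g⟩ = θ z := fun g z => by
    apply mul_left_cancel₀ (Nat.cast_ne_zero.2 he0 : (e : ℂ) ≠ 0)
    rw [← hres, ← hres]
    exact isClassFunction_of_isIrr hχ (z : G) g
  have hθχ : classInner (fun z : Z => χ z) θ = (e : ℂ) := by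
    rw [show (fun z : Z => χ z) = (e : ℂ) • θ from funext hres, classInner_smul_left,
      classInner_irr_self hθ, mul_one]
  have honly : ∀ ξ : G → ℂ, IsIrrCharacter G ξ → classInner (fun z : Z => ξ z) θ ≠ 0 → ξ = χ := by
    intro ξ hξ hne
    by_contra hξχ
    have hI := isCharacter_indFun Z (IsIrr.isCharacter hθ)
    have hIχ : classInner (indFun Z θ) χ = (e : ℂ) := by
      rw [classInner_indFun_left Z θ (isClassFunction_of_isIrr hχ), ← classInner_conj_symm, hθχ,
        map_natCast]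
    have hR : IsCharacter G (indFun Z θ - (e : ℂ) • χ) := by
      refine isCharacter_iff.2 ⟨fun g k => ?_, fun η => ?_⟩
      · simp only [Pi.sub_apply, Pi.smul_apply, isClassFunction_indFun Z θ g k,
          isClassFunction_of_isIrr hχ g k]
      · rw [classInner_sub_left, classInner_smul_left, classInner_irr hχ η.2]
        split_ifs with hη
        · exact ⟨0, by rw [← hη, hIχ]; simp⟩
        · obtain ⟨k, hk⟩ := classInner_isCharacter_eq_natCast hI (IsIrr.isCharacter η.2)
          exact ⟨k, by rw [hk, mul_zero, sub_zero]⟩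
    have hR0 := (IsChar.eq_zero_iff hR).2 (by
      rw [Pi.sub_apply, Pi.smul_apply, indFun_apply_one, ← he,
        show χ 1 = (e : ℂ) * θ 1 from hres 1, smul_eq_mul]
      push_cast
      ring)
    apply hne
    rw [← classInner_conj_symm, ← classInner_indFun_left Z θ (isClassFunction_of_isIrr hξ),
      sub_eq_zero.1 hR0, classInner_smul_left, classInner_irr_ne hχ hξ (Ne.symm hξχ), mul_zero,
      map_zero]
  set Q₀ : Subgroup G := Z ⊔ Q with hQ₀
  let := Fintype.ofFinite Q₀
  have hZQ : Z ≤ Q₀ := le_sup_left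
  have hpQ₀ : ¬ p ∣ Q₀.index := fun h => Q.not_dvd_index (h.trans (Subgroup.index_dvd_of_le le_sup_right))
  obtain ⟨j, hj⟩ : ∃ j, Z.relIndex Q₀ = p ^ j := by
    obtain ⟨m, hm⟩ := Q.isPGroup'.exists_card_eq
    have h : Z.relIndex Q₀ ∣ p ^ m := by
      rw [hQ₀, Subgroup.relIndex_sup_left, ← hm]
      exact Subgroup.index_dvd_card _
    obtain ⟨j, -, hj⟩ := (Nat.dvd_prime_pow hp.out).1 h
    exact ⟨j, hj⟩
  -- the multiplicities are divisible by the `p`-part of `e`
  have hpk : ∀ k : ℕ, p ^ k ∣ e → ∀ ψ : Q₀ → ℂ, IsIrrCharacter Q₀ ψ →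
      ∀ u : ℕ, classInner (fun z : Z => ψ ⟨z, hZQ z.2⟩) θ = u → u ≠ 0 → p ^ k ∣ u := by
    intro k hk ψ hψ u hu hu0
    have hdeg := (ProjExt.degree_over_invariant hZQ hθ
      (fun t => funext fun z => by rw [conjFun_apply]; exact hinv (t : G) z) hψ
      (by rw [hu]; exact Nat.cast_ne_zero.2 hu0)).1
    rw [hu] at hdeg
    have hI := isCharacter_indFun Q₀ (IsIrr.isCharacter hψ)
    obtain ⟨r, hr⟩ := classInner_isCharacter_eq_natCast hI (IsIrr.isCharacter hχ)
    have hexp : indFun Q₀ ψ = (r : ℂ) • χ := by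
      rw [classFun_expansion (isClassFunction_indFun Q₀ ψ),
        Finset.sum_eq_single (⟨χ, hχ⟩ : IrrCharacter G) (fun η _ hη => ?_) (by simp), hr]
      by_cases h0 : classInner (indFun Q₀ ψ) (η : G → ℂ) = 0
      · rw [h0, zero_smul]
      refine absurd (Subtype.ext (honly η η.2 ?_)) hη
      rw [classInner_indFun_left Q₀ ψ (isClassFunction_of_isIrr η.2), ← classInner_conj_symm] at h0
      exact over_trans hZQ hθ hψ (IsIrr.isCharacter η.2) (fun e => h0 (by rw [e, map_zero]))
        (by rw [hu]; exact Nat.cast_ne_zero.2 hu0)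
    have h1 := congrFun hexp 1
    obtain ⟨d, hd0, hd⟩ := IsIrr.degree hθ
    rw [indFun_apply_one, hdeg, Pi.smul_apply, smul_eq_mul,
      show χ 1 = (e : ℂ) * θ 1 from hres 1, hd] at h1
    have h2 : Q₀.index * u = r * e := by
      have h1' : Q₀.index * (u * d) = r * (e * d) := by exact_mod_cast h1
      rw [← mul_assoc, ← mul_assoc] at h1'
      exact Nat.eq_of_mul_eq_mul_right hd0 h1'
    exact ((hp.out.coprime_iff_not_dvd.2 hpQ₀).pow_left k).dvd_of_dvd_mul_left
      (h2 ▸ hk.mul_left r)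
  let Z₀ := Z.subgroupOf Q₀
  let := Fintype.ofFinite Z₀
  let θ₀ : Z₀ → ℂ := fun z => θ ⟨(z : Q₀), z.2⟩
  have hθ₀ : IsIrrCharacter Z₀ θ₀ :=
    (isIrrCharacter_comp_equiv (Subgroup.subgroupOfEquivOfLe hZQ)).2 hθ
  have hI := isCharacter_indFun Z₀ (IsIrr.isCharacter hθ₀)
  choose m hm using fun η : IrrCharacter Q₀ =>
    classInner_isCharacter_eq_natCast hI (IsIrr.isCharacter η.2)
  have hnorm : ∑ η : IrrCharacter Q₀, m η * m η = p ^ j := by
    have h := classInner_eq_sum (f := indFun Z₀ θ₀) (f' := indFun Z₀ θ₀)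
      (isClassFunction_indFun Z₀ θ₀)
    rw [classInner_indFun_left Z₀ θ₀ (isClassFunction_indFun Z₀ θ₀)] at h
    have hres0 : (fun z : Z₀ => indFun Z₀ θ₀ z) = (Z₀.index : ℂ) • θ₀ := by
      funext n
      rw [indFun_apply_coe_of_normal, Pi.smul_apply, smul_eq_mul]
      have hc : ∀ (x : Q₀) (hx : x⁻¹ * n * x ∈ Z₀), θ₀ ⟨x⁻¹ * n * x, hx⟩ = θ₀ n :=
        fun x hx => by
          have h := hinv ((x : G)⁻¹) ⟨_, n.2⟩
          simpa [θ₀] using h
      rw [Finset.sum_congr rfl fun x _ => hc x _, Finset.sum_const, Finset.card_univ, nsmul_eq_mul,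
        ← Nat.card_eq_fintype_card, ← Z₀.card_mul_index, Nat.cast_mul]
      have : (Nat.card Z₀ : ℂ) ≠ 0 := card_ne_zero
      field_simp
    rw [hres0, classInner_smul_right, classInner_irr_self hθ₀, map_natCast, mul_one] at h
    rw [← hj]
    apply Nat.cast_injective (R := ℂ)
    push_cast
    rw [show (Z.relIndex Q₀ : ℂ) = (Z₀.index : ℂ) from rfl, h]
    refine Finset.sum_congr rfl fun η _ => ?_
    rw [← classInner_conj_symm (indFun Z₀ θ₀) (η : Q₀ → ℂ), hm, map_natCast]
  have hu : ∀ η : IrrCharacter Q₀,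
      classInner (fun z : Z => (η : Q₀ → ℂ) ⟨z, hZQ z.2⟩) θ = (m η : ℂ) := fun η => by
    have h := hm η
    rw [classInner_indFun_left Z₀ θ₀ (isClassFunction_of_isIrr η.2), ← classInner_conj_symm] at h
    have h' : classInner (fun z : Z₀ => (η : Q₀ → ℂ) z) θ₀ = (m η : ℂ) := by
      have := congrArg (starRingEnd ℂ) h
      simpa using this
    rw [← h']
    simp only [classInner]
    rw [Nat.card_congr (Subgroup.subgroupOfEquivOfLe hZQ).toEquiv]
    congr 1
    exact (Fintype.sum_equiv (Subgroup.subgroupOfEquivOfLe hZQ).toEquiv _ _ fun z => rfl).symm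
  have hjk : j = 2 * e.factorization p := by
    have h3 := congrArg (fun n => n.factorization p) he
    have h4 : Z.relIndex Q₀ * Q₀.index = Z.index := Subgroup.relIndex_mul_index hZQ
    simp only [← h4, hj, Nat.factorization_mul (pow_ne_zero _ hp.out.ne_zero)
      Subgroup.index_ne_zero_of_finite, Nat.factorization_pow, Finsupp.coe_smul,
      Pi.smul_apply, smul_eq_mul, Finsupp.coe_add, Pi.add_apply,
      Nat.Prime.factorization_self hp.out, Nat.factorization_eq_zero_of_not_dvd hpQ₀,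
      mul_one, add_zero] at h3
    omega
  have h2 : ∀ η : IrrCharacter Q₀, m η ≠ 0 → p ^ j ≤ m η * m η := by
    intro η hη
    set k := e.factorization p with hk
    have hdvd : p ^ k ∣ m η :=
      hpk k (Nat.ordProj_dvd e p) η η.2 (m η) (hu η) hη
    rw [hjk, two_mul, pow_add]
    have hle := Nat.le_of_dvd (Nat.pos_of_ne_zero hη) hdvd
    exact Nat.mul_le_mul hle hle
  have hval : ∀ ψ : Q₀ → ℂ, IsIrrCharacter Q₀ ψ → classInner (fun z : Z => ψ ⟨z, hZQ z.2⟩) θ ≠ 0 →
      classInner (fun z : Z => ψ ⟨z, hZQ z.2⟩) θ = ((p ^ e.factorization p : ℕ) : ℂ) := by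
    intro ψ hψ hn
    have hm1 : m ⟨ψ, hψ⟩ ≠ 0 := fun h => hn (by rw [hu ⟨ψ, hψ⟩, h, Nat.cast_zero])
    have hle : m ⟨ψ, hψ⟩ * m ⟨ψ, hψ⟩ ≤ p ^ j :=
      hnorm ▸ Finset.single_le_sum (f := fun η => m η * m η) (fun η _ => Nat.zero_le _)
        (Finset.mem_univ _)
    have hge := Nat.le_of_dvd (Nat.pos_of_ne_zero hm1)
      (hpk (e.factorization p) (Nat.ordProj_dvd e p) ψ hψ (m ⟨ψ, hψ⟩) (hu ⟨ψ, hψ⟩) hm1)
    rw [hu ⟨ψ, hψ⟩, Nat.cast_inj]
    rw [hjk, two_mul, pow_add] at hle
    exact le_antisymm (Nat.mul_self_le_mul_self_iff.1 hle) hge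
  -- uniqueness over `θ` in the Sylow preimage
  have huniq : ∀ ψ ψ' : Q₀ → ℂ, IsIrrCharacter Q₀ ψ → IsIrrCharacter Q₀ ψ' →
      classInner (fun z : Z => ψ ⟨z, hZQ z.2⟩) θ ≠ 0 →
      classInner (fun z : Z => ψ' ⟨z, hZQ z.2⟩) θ ≠ 0 → ψ = ψ' := by
    intro ψ ψ' hψ hψ' hn hn'
    by_contra hne
    have hm1 : m ⟨ψ, hψ⟩ ≠ 0 := fun h => hn (by rw [hu ⟨ψ, hψ⟩, h, Nat.cast_zero])
    have hm2 : m ⟨ψ', hψ'⟩ ≠ 0 := fun h => hn' (by rw [hu ⟨ψ', hψ'⟩, h, Nat.cast_zero])
    have hsum : m ⟨ψ, hψ⟩ * m ⟨ψ, hψ⟩ + m ⟨ψ', hψ'⟩ * m ⟨ψ', hψ'⟩ ≤ p ^ j := by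
      rw [← hnorm, ← Finset.sum_pair (a := (⟨ψ, hψ⟩ : IrrCharacter Q₀))
        (b := (⟨ψ', hψ'⟩ : IrrCharacter Q₀))
        (f := fun η => m η * m η) (fun e => hne (congrArg Subtype.val e :))]
      exact Finset.sum_le_univ_sum_of_nonneg fun η => Nat.zero_le _
    have := h2 _ hm1
    have := h2 _ hm2
    have := pow_pos hp.out.pos j
    omega
  -- the intersection with `K` and a character of it
  set L : Subgroup G := Q₀ ⊓ K with hL
  let := Fintype.ofFinite L
  have hLQ : L ≤ Q₀ := inf_le_left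
  have hZL : Z ≤ L := le_inf hZQ hZK
  let ZL := Z.subgroupOf L
  let := Fintype.ofFinite ZL
  let eZ : ZL ≃* Z := Subgroup.subgroupOfEquivOfLe hZL
  have hθL : IsIrrCharacter ZL (fun z => θ (eZ z)) := (isIrrCharacter_comp_equiv eZ).2 hθ
  obtain ⟨lam, hlam⟩ := IsChar.exists_constituent (isCharacter_indFun ZL (IsIrr.isCharacter hθL))
    fun h => IsIrr.one_ne_zero hθL <| by
      have h1 := congrFun h 1
      rw [indFun_apply_one, Pi.zero_apply, mul_eq_zero] at h1
      exact h1.resolve_left (Nat.cast_ne_zero.2 Subgroup.index_ne_zero_of_finite)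
  rw [classInner_indFun_left ZL _ (isClassFunction_of_isIrr lam.2)] at hlam
  have hlamθ : classInner (fun z : Z => (lam : L → ℂ) ⟨z, hZL z.2⟩) θ ≠ 0 := by
    intro h0
    apply hlam
    rw [← classInner_conj_symm]
    rw [show classInner (fun z : ZL => (lam : L → ℂ) z) (fun z => θ (eZ z)) =
      classInner (fun z : Z => (lam : L → ℂ) ⟨z, hZL z.2⟩) θ from ?_, h0, map_zero]
    simp only [classInner]
    rw [Nat.card_congr eZ.toEquiv]
    congr 1
    exact Fintype.sum_equiv eZ.toEquiv _ _ fun z => rfl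
  -- inside the Sylow preimage
  let L₀ := L.subgroupOf Q₀
  have hL₀n : L₀.Normal := by
    refine ⟨fun x hx g => Subgroup.mem_subgroupOf.2 ⟨(g * x * g⁻¹).2, ?_⟩⟩
    simpa using hKn.conj_mem _ (Subgroup.mem_subgroupOf.1 hx).2 (g : G)
  let := Fintype.ofFinite L₀
  let eL : L₀ ≃* L := Subgroup.subgroupOfEquivOfLe hLQ
  let lam₀ : L₀ → ℂ := fun x => (lam : L → ℂ) (eL x)
  have hlam₀ : IsIrrCharacter L₀ lam₀ := (isIrrCharacter_comp_equiv eL).2 lam.2
  have hover : ∀ (μ : L₀ → ℂ), IsIrrCharacter L₀ μ →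
      classInner (fun z : Z => μ (eL.symm ⟨z, hZL z.2⟩)) θ ≠ 0 →
      ∀ ψ : Q₀ → ℂ, IsIrrCharacter Q₀ ψ → classInner (fun x : L₀ => ψ x) μ ≠ 0 →
      classInner (fun z : Z => ψ ⟨z, hZQ z.2⟩) θ ≠ 0 := by
    intro μ hμ hμθ ψ hψ h
    let Z₀ := Z.subgroupOf Q₀
    let := Fintype.ofFinite Z₀
    let e₀ : Z₀ ≃* Z := Subgroup.subgroupOfEquivOfLe hZQ
    have hZ₀L : Z₀ ≤ L₀ := fun z hz => hZL hz
    have h1 := over_trans (G := Q₀) hZ₀L ((isIrrCharacter_comp_equiv e₀).2 hθ) hμ
      (IsIrr.isCharacter hψ) h (by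
        intro e
        apply hμθ
        rw [← e]
        simp only [classInner]
        rw [Nat.card_congr e₀.toEquiv]
        congr 1
        exact (Fintype.sum_equiv e₀.toEquiv _ _ fun z => rfl).symm)
    intro e
    apply h1
    rw [← e]
    simp only [classInner]
    rw [Nat.card_congr e₀.toEquiv]
    congr 1
    exact Fintype.sum_equiv e₀.toEquiv _ _ fun z => rfl
  set P := (Q : Subgroup G).map (QuotientGroup.mk' K) with hP
  have hQmap : Q₀.map (QuotientGroup.mk' K) = P := by
    rw [hQ₀, Subgroup.map_sup,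
      (Subgroup.map_eq_bot_iff Z).2 (by rw [QuotientGroup.ker_mk']; exact hZK), bot_sup_eq]
  have hLQcard : L.relIndex Q₀ = Nat.card P := by
    rw [hL, inf_comm, Subgroup.inf_relIndex_right]
    have h := Subgroup.relIndex_ker Q₀ (QuotientGroup.mk' K)
    rwa [QuotientGroup.ker_mk', hQmap] at h
  have hinertia : inertia lam₀ = L₀ := by
    rcases hcase with hcyc | ⟨φ, hφ, hφind⟩
    · have hcycQ : IsCyclic (Q₀ ⧸ L₀) := by
        let f : Q₀ →* G ⧸ K := (QuotientGroup.mk' K).comp Q₀.subtype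
        have hf : f.range = P := by
          rw [MonoidHom.range_comp, Subgroup.range_subtype, hQ₀, Subgroup.map_sup,
            (Subgroup.map_eq_bot_iff Z).2 (by rw [QuotientGroup.ker_mk']; exact hZK), bot_sup_eq]
        have hker : f.ker = L₀ := by
          ext x
          rw [MonoidHom.mem_ker, Subgroup.mem_subgroupOf]
          exact (QuotientGroup.eq_one_iff (x : G)).trans ⟨fun h => ⟨x.2, h⟩, fun h => h.2⟩
        have : IsCyclic f.range := hf ▸ hcyc
        have eqv := (QuotientGroup.quotientMulEquivOfEq hker.symm).trans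
          (QuotientGroup.quotientKerEquivRange f)
        exact isCyclic_of_surjective eqv.symm eqv.symm.surjective
      exact inertia_eq_of_unique L₀ hcycQ hlam₀
        fun ψ ψ' hψ hψ' h h' => huniq ψ ψ' hψ hψ'
          (hover lam₀ hlam₀ (by simpa [lam₀] using hlamθ) ψ hψ h)
          (hover lam₀ hlam₀ (by simpa [lam₀] using hlamθ) ψ' hψ' h')
    · let := Fintype.ofFinite K
      have hlam₀θ : classInner (fun z : Z => lam₀ (eL.symm ⟨z, hZL z.2⟩)) θ ≠ 0 := by
        simpa [lam₀] using hlamθ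
      -- the character of the Sylow preimage
      have hI₀ := isCharacter_indFun L₀ (IsIrr.isCharacter hlam₀)
      obtain ⟨ψ, hψ⟩ := IsChar.exists_constituent hI₀ fun h => IsIrr.one_ne_zero hlam₀ <| by
        have h1 := congrFun h 1
        rw [indFun_apply_one, Pi.zero_apply, mul_eq_zero] at h1
        exact h1.resolve_left (Nat.cast_ne_zero.2 Subgroup.index_ne_zero_of_finite)
      obtain ⟨c, hc⟩ := classInner_isCharacter_eq_natCast hI₀ (IsIrr.isCharacter ψ.2)
      rw [hc] at hψ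
      have hψlam : classInner (fun x : L₀ => (ψ : Q₀ → ℂ) x) lam₀ = (c : ℂ) := by
        have h := hc
        rw [classInner_indFun_left L₀ lam₀ (isClassFunction_of_isIrr ψ.2)] at h
        rw [← classInner_conj_symm, h, map_natCast]
      have hψθ := hover lam₀ hlam₀ hlam₀θ _ ψ.2 (by rw [hψlam]; exact hψ)
      have hind₀ : indFun L₀ lam₀ = (c : ℂ) • (ψ : Q₀ → ℂ) := by
        rw [classFun_expansion (isClassFunction_indFun L₀ lam₀),
          Finset.sum_eq_single ψ (fun η _ hη => ?_) (by simp), hc]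
        by_cases h0 : classInner (indFun L₀ lam₀) (η : Q₀ → ℂ) = 0
        · rw [h0, zero_smul]
        refine absurd (Subtype.ext (huniq _ _ η.2 ψ.2 (hover lam₀ hlam₀ hlam₀θ _ η.2 ?_) hψθ)) hη
        rw [classInner_indFun_left L₀ lam₀ (isClassFunction_of_isIrr η.2)] at h0
        intro e
        apply h0
        rw [← classInner_conj_symm, e, map_zero]
      have hclψ := clifford ψ.2 hlam₀ (by rw [hψlam]; exact hψ)
      obtain ⟨d, hd0, hd⟩ := IsIrr.degree hlam₀
      set r := (inertia lam₀).index with hr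
      have hψ1 : (ψ : Q₀ → ℂ) 1 = (c : ℂ) * r * d := by
        rw [degree_eq_of_clifford ψ.2 hlam₀ (by rw [hψlam]; exact hψ), hψlam, hd]
      have hL₀idx : L₀.index = Nat.card P := hLQcard
      have hcr : L₀.index = c * c * r := by
        have h1 := congrFun hind₀ 1
        rw [indFun_apply_one, Pi.smul_apply, smul_eq_mul, hψ1, hd] at h1
        have h2 : L₀.index * d = c * (c * r * d) := by exact_mod_cast h1
        apply Nat.eq_of_mul_eq_mul_right hd0
        rw [h2]
        ring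
      -- degrees over `θ`
      have hinvQ : ∀ t : Q₀, conjFun (t : G) θ = θ := fun t => funext fun z => by
        rw [conjFun_apply]; exact hinv (t : G) z
      have hdegψ := (ProjExt.degree_over_invariant hZQ hθ hinvQ ψ.2 hψθ).1
      rw [hval _ ψ.2 hψθ] at hdegψ
      have hlam1 : (lam : L → ℂ) 1 = (d : ℂ) := by
        rw [← hd]
        simp [lam₀]
      have hdegl := (ProjExt.degree_over_invariant hZL hθ (fun t => funext fun z => by
        rw [conjFun_apply]; exact hinv (t : G) z) lam.2 hlamθ).1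
      obtain ⟨u, hu'⟩ := classInner_isCharacter_eq_natCast
        (isCharacter_comp (Subgroup.inclusion hZL) (IsIrr.isCharacter lam.2)) (IsIrr.isCharacter hθ)
      change classInner (fun z : Z => (lam : L → ℂ) ⟨z, hZL z.2⟩) θ = (u : ℂ) at hu'
      rw [hu', hlam1] at hdegl
      obtain ⟨t, ht0, ht⟩ := IsIrr.degree hθ
      rw [ht] at hdegl hdegψ
      have hdu : d = u * t := by exact_mod_cast hdegl
      have hv : c * r * u = p ^ e.factorization p := by
        apply Nat.eq_of_mul_eq_mul_right ht0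
        rw [hψ1] at hdegψ
        have h2 : c * r * d = p ^ e.factorization p * t := by exact_mod_cast hdegψ
        rw [← h2, hdu]
        ring
      -- the restriction of `φ`
      have hχK : classInner (fun x : K => χ x) φ ≠ 0 := by
        have h := classInner_indFun_left K φ (isClassFunction_of_isIrr hχ)
        rw [hφind, classInner_irr_self hχ, ← classInner_conj_symm] at h
        intro e
        rw [e, map_zero] at h
        exact one_ne_zero h
      have hφZ : ∀ (η : IrrCharacter Z), (η : Z → ℂ) ≠ θ →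
          classInner (fun z : Z => φ ⟨z, hZK z.2⟩) (η : Z → ℂ) = 0 := by
        intro η hη
        by_contra h
        apply over_trans hZK η.2 hφ (IsIrr.isCharacter hχ) hχK h
        rw [show (fun z : Z => χ z) = (e : ℂ) • θ from funext hres, classInner_smul_left,
          classInner_irr_ne hθ η.2 (Ne.symm hη), mul_zero]
      let L₁ := L.subgroupOf K
      let := Fintype.ofFinite L₁
      let eL₁ : L₁ ≃* L := Subgroup.subgroupOfEquivOfLe inf_le_right
      obtain ⟨mu, hmu, hsum, -⟩ := IsChar.exists_mult (isCharacter_res L₁ (IsIrr.isCharacter hφ))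
      have hμdeg : ∀ μ : IrrCharacter L₁, mu μ ≠ 0 → (μ : L₁ → ℂ) 1 = (d : ℂ) := by
        intro μ hμ
        let μ₀ : L₀ → ℂ := fun x => (μ : L₁ → ℂ) (eL₁.symm (eL x))
        have hμ₀ : IsIrrCharacter L₀ μ₀ :=
          (isIrrCharacter_comp_equiv (eL.trans eL₁.symm)).2 μ.2
        have hμφ : classInner (fun x : L₁ => φ x) (μ : L₁ → ℂ) ≠ 0 := by
          rw [hmu]
          exact Nat.cast_ne_zero.2 hμ
        have hμθ : classInner (fun z : Z => μ₀ (eL.symm ⟨z, hZL z.2⟩)) θ ≠ 0 := by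
          have hμZ : IsCharacter Z (fun z : Z => μ₀ (eL.symm ⟨z, hZL z.2⟩)) :=
            isCharacter_comp (eL.symm.toMonoidHom.comp (Subgroup.inclusion hZL))
              (IsIrr.isCharacter hμ₀)
          obtain ⟨η, hη⟩ := IsChar.exists_constituent hμZ fun h0 => IsIrr.one_ne_zero hμ₀ <| by
            have h1 := congrFun h0 1
            simp only [Pi.zero_apply] at h1
            rw [← h1]
            exact congrArg μ₀ (map_one eL.symm).symm
          by_cases hηθ : (η : Z → ℂ) = θ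
          · exact hηθ ▸ hη
          exfalso
          let Z₁ := Z.subgroupOf K
          let := Fintype.ofFinite Z₁
          let e₁ : Z₁ ≃* Z := Subgroup.subgroupOfEquivOfLe hZK
          have hZ₁L : Z₁ ≤ L₁ := fun z hz => hZL hz
          have h := over_trans (G := K) hZ₁L ((isIrrCharacter_comp_equiv e₁).2 η.2) μ.2
            (IsIrr.isCharacter hφ) hμφ (by
              intro h0
              apply hη
              rw [← h0]
              simp only [classInner]
              rw [Nat.card_congr e₁.toEquiv]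
              congr 1
              refine (Fintype.sum_equiv e₁.toEquiv _ _ fun z => ?_).symm
              simp only [μ₀, MulEquiv.apply_symm_apply]
              rfl)
          apply h
          rw [← hφZ η hηθ]
          simp only [classInner]
          rw [Nat.card_congr e₁.toEquiv]
          congr 1
          exact Fintype.sum_equiv e₁.toEquiv _ _ fun z => rfl
        have hI := isCharacter_indFun L₀ (IsIrr.isCharacter hμ₀)
        obtain ⟨ψ', hψ'⟩ := IsChar.exists_constituent hI fun h => IsIrr.one_ne_zero hμ₀ <| by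
          have h1 := congrFun h 1
          rw [indFun_apply_one, Pi.zero_apply, mul_eq_zero] at h1
          exact h1.resolve_left (Nat.cast_ne_zero.2 Subgroup.index_ne_zero_of_finite)
        rw [classInner_indFun_left L₀ μ₀ (isClassFunction_of_isIrr ψ'.2)] at hψ'
        have hψ'μ : classInner (fun x : L₀ => (ψ' : Q₀ → ℂ) x) μ₀ ≠ 0 := fun e => hψ' (by
          rw [← classInner_conj_symm, e, map_zero])
        have heq := huniq _ _ ψ'.2 ψ.2 (hover μ₀ hμ₀ hμθ _ ψ'.2 hψ'μ) hψθ
        rw [heq] at hψ'μ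
        obtain ⟨q, hq⟩ := mem_orbit.1
          (constituent_mem_orbit ψ.2 hlam₀ hμ₀ (by rw [hψlam]; exact hψ) hψ'μ)
        have h1 : μ₀ 1 = lam₀ 1 := by rw [← hq, conjFun_apply_one]
        rw [← hd, ← h1]
        simp [μ₀]
      obtain ⟨s', hs'⟩ : ∃ s' : ℕ, φ 1 = ((s' * d : ℕ) : ℂ) := by
        refine ⟨∑ μ, mu μ, ?_⟩
        have h1 := congrFun hsum 1
        simp only [OneMemClass.coe_one, Finset.sum_apply, Pi.smul_apply, smul_eq_mul] at h1
        rw [h1, Nat.cast_mul, Nat.cast_sum, Finset.sum_mul]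
        refine Finset.sum_congr rfl fun μ _ => ?_
        by_cases h0 : mu μ = 0
        · simp [h0]
        · rw [hμdeg μ h0]
      have hKidx : K.index * s' * u = e := by
        have h1 := congrFun hφind 1
        rw [indFun_apply_one, hs', show χ 1 = (e : ℂ) * θ 1 from hres 1, ht, hdu] at h1
        apply Nat.eq_of_mul_eq_mul_right ht0
        have h2 : K.index * (s' * (u * t)) = e * t := by exact_mod_cast h1
        rw [← h2]
        ring
      have hPdvd : Nat.card P ∣ K.index := by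
        rw [Subgroup.index_eq_card]
        exact P.card_subgroup_dvd_card
      have hdvd : c * c * r * u ∣ e := by
        rw [← hKidx, ← hcr, hL₀idx]
        exact Nat.mul_dvd_mul_right (hPdvd.trans (Dvd.intro _ rfl)) u
      obtain ⟨i, hi⟩ : ∃ i, c * c * r * u = p ^ i := by
        obtain ⟨k₁, hk₁⟩ := (Q.isPGroup'.map (QuotientGroup.mk' K)).exists_card_eq
        obtain ⟨k₂, -, hk₂⟩ := (Nat.dvd_prime_pow hp.out).1
          (hv ▸ Dvd.intro_left _ rfl : u ∣ p ^ e.factorization p)
        exact ⟨k₁ + k₂, by rw [← hcr, hL₀idx, pow_add, ← hk₂]; exact congrArg (· * u) hk₁⟩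
      have hc1 : c = 1 := by
        have hle : i ≤ e.factorization p :=
          (Nat.Prime.pow_dvd_iff_le_factorization hp.out he0).1 (hi ▸ hdvd)
        have hle' : c * (c * r * u) ≤ 1 * (c * r * u) := by
          rw [one_mul, ← mul_assoc, ← mul_assoc, hi, hv]
          exact Nat.pow_le_pow_right hp.out.pos hle
        have hcne : c ≠ 0 := fun h0 => hψ (by rw [h0, Nat.cast_zero])
        have := Nat.le_of_mul_le_mul_right hle' (hv ▸ pow_pos hp.out.pos _)
        omega
      rw [hc1, one_mul, one_mul] at hcr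
      have hle : L₀ ≤ inertia lam₀ := le_inertia (isClassFunction_of_isIrr hlam₀)
      refine le_antisymm ?_ hle
      have h1 := Subgroup.relIndex_mul_index hle
      rw [← hr, hcr] at h1
      exact Subgroup.relIndex_eq_one.1
        ((mul_eq_right₀ Subgroup.index_ne_zero_of_finite).1 h1)
  -- the stabilizer in the normalizer
  set N := Subgroup.normalizer (L : Set G) with hN
  set Lam : G → ℂ := extendByZero L (lam : L → ℂ) with hLam
  have hconjL : ∀ n ∈ N, ∀ x, x ∈ L ↔ n * x * n⁻¹ ∈ L := fun n hn x =>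
    Subgroup.mem_normalizer_iff.1 hn x
  let T : Subgroup G :=
    { carrier := {h | h ∈ N ∧ ∀ x ∈ L, Lam (h * x * h⁻¹) = Lam x}
      one_mem' := ⟨N.one_mem, fun x _ => by simp⟩
      mul_mem' := fun {a b} ha hb => ⟨N.mul_mem ha.1 hb.1, fun x hx => by
        rw [← hb.2 x hx, ← ha.2 _ ((hconjL b hb.1 x).1 hx)]
        simp [mul_assoc]⟩
      inv_mem' := fun {a} ha => ⟨N.inv_mem ha.1, fun x hx => by
        rw [← ha.2 _ ((hconjL a⁻¹ (N.inv_mem ha.1) x).1 hx)]
        simp [mul_assoc]⟩ }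
  have hTN : T ≤ N := fun t ht => ht.1
  have hLN : L ≤ N := Subgroup.le_normalizer
  have hQN : Q₀ ≤ N := fun q hq => Subgroup.mem_normalizer_iff.2 fun x =>
    ⟨fun hx => ⟨Q₀.mul_mem (Q₀.mul_mem hq hx.1) (Q₀.inv_mem hq), hKn.conj_mem x hx.2 q⟩,
     fun hx => by
      have h1 := Q₀.mul_mem (Q₀.mul_mem (Q₀.inv_mem hq) hx.1) hq
      have h2 := hKn.conj_mem _ hx.2 q⁻¹
      refine ⟨?_, ?_⟩
      · simpa [mul_assoc] using h1
      · simpa [mul_assoc] using h2⟩
  have hLT : L ≤ T := fun y hy => ⟨hLN hy, fun x hx => by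
    rw [hLam, extendByZero_of_mem L _ hx, extendByZero_of_mem L _ (L.mul_mem (L.mul_mem hy hx) (L.inv_mem hy))]
    exact isClassFunction_of_isIrr lam.2 (⟨x, hx⟩ : L) ⟨y, hy⟩⟩
  have hTQ : T ⊓ Q₀ ≤ L := by
    rintro q ⟨hqT, hq⟩
    have hmem : (⟨q, hq⟩ : Q₀) ∈ inertia lam₀ := funext fun x => by
      show lam₀ ⟨⟨q, hq⟩ * x * ⟨q, hq⟩⁻¹, _⟩ = lam₀ x
      have hx : ((x : Q₀) : G) ∈ L := x.2
      have h := hqT.2 _ hx
      rw [hLam, extendByZero_of_mem L _ hx, extendByZero_of_mem L _ ((hconjL q hqT.1 _).1 hx)] at h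
      exact h
    rw [hinertia] at hmem
    exact hmem
  have htrans : ∀ n ∈ N, ∃ q ∈ Q₀, n * q⁻¹ ∈ T := by
    intro n hn
    let c : L₀ →* L₀ := MonoidHom.mk'
      (fun x => eL.symm ⟨n * ((eL x : L) : G) * n⁻¹, (hconjL n hn _).1 (eL x).2⟩)
      fun x y => by
        rw [← map_mul]
        congr 1
        exact Subtype.ext (by simp [mul_assoc])
    have hcsurj : Function.Surjective c := fun x =>
      ⟨eL.symm ⟨n⁻¹ * ((eL x : L) : G) * n, by
        simpa using (hconjL n⁻¹ (N.inv_mem hn) _).1 (eL x).2⟩, by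
        apply eL.injective
        exact Subtype.ext (by simp [c, mul_assoc])⟩
    set μ : L₀ → ℂ := fun x => lam₀ (c x) with hμ
    have hμi : IsIrrCharacter L₀ μ := isIrrCharacter_comp c hcsurj hlam₀
    have hμθ : classInner (fun z : Z => μ (eL.symm ⟨z, hZL z.2⟩)) θ ≠ 0 := by
      intro e
      apply hlamθ
      rw [← e]
      simp only [classInner]
      congr 1
      refine (Fintype.sum_equiv (MulAut.conjNormal n : Z ≃* Z).toEquiv _ _ fun z => ?_).symm
      have hθz : θ ((MulAut.conjNormal n : Z ≃* Z) z) = θ z := by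
        rw [← hinv n z]
        congr 1
      show μ _ * conj (θ z) = _ * conj (θ ((MulAut.conjNormal n : Z ≃* Z) z))
      rw [hθz]
      congr 1
    have hne : ∀ ν : L₀ → ℂ, IsIrrCharacter L₀ ν → indFun L₀ ν ≠ 0 := fun ν hν h => by
      have h1 := congrFun h 1
      rw [indFun_apply_one, Pi.zero_apply, mul_eq_zero] at h1
      exact h1.elim (Nat.cast_ne_zero.2 Subgroup.index_ne_zero_of_finite) (IsIrr.one_ne_zero hν)
    have hex : ∀ ν : L₀ → ℂ, IsIrrCharacter L₀ ν →
        ∃ ψ : IrrCharacter Q₀, classInner (fun x : L₀ => (ψ : Q₀ → ℂ) x) ν ≠ 0 := fun ν hν => by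
      obtain ⟨ψ, hψ⟩ := IsChar.exists_constituent (isCharacter_indFun L₀ (IsIrr.isCharacter hν))
        (hne ν hν)
      refine ⟨ψ, fun e => hψ ?_⟩
      rw [classInner_indFun_left L₀ ν (isClassFunction_of_isIrr ψ.2), ← classInner_conj_symm, e,
        map_zero]
    obtain ⟨ψ, hψ⟩ := hex μ hμi
    obtain ⟨ψ', hψ'⟩ := hex lam₀ hlam₀
    have heq := huniq _ _ ψ'.2 ψ.2 (hover lam₀ hlam₀ (by simpa [lam₀] using hlamθ) _ ψ'.2 hψ')
      (hover μ hμi hμθ _ ψ.2 hψ)
    rw [← heq] at hψ
    obtain ⟨q, hq⟩ := mem_orbit.1 (constituent_mem_orbit ψ'.2 hlam₀ hμi hψ' hψ)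
    refine ⟨q, q.2, N.mul_mem hn (N.inv_mem (hQN q.2)), fun y hy => ?_⟩
    have hy' : (q : G)⁻¹ * y * q ∈ L := by
      simpa using (hconjL _ (N.inv_mem (hQN q.2)) y).1 hy
    have h := congrFun hq (eL.symm ⟨_, hy'⟩)
    simp only [conjFun_apply, μ, lam₀, c, MonoidHom.mk'_apply, MulEquiv.apply_symm_apply] at h
    have hy2 : n * (q : G)⁻¹ * y * (n * (q : G)⁻¹)⁻¹ ∈ L :=
      (hconjL _ (N.mul_mem hn (N.inv_mem (hQN q.2))) y).1 hy
    rw [hLam, extendByZero_of_mem L _ hy, extendByZero_of_mem L _ hy2]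
    refine (congrArg _ (Subtype.ext ?_)).trans (h.symm.trans (congrArg _ (Subtype.ext ?_)))
    · simp [mul_assoc]
    · simp [eL, Subgroup.subgroupOfEquivOfLe, mul_assoc]
  have hidx : T.relIndex N = L.relIndex Q₀ := by
    symm
    refine Nat.card_congr (Equiv.ofBijective (Quotient.map' (Subgroup.inclusion hQN) ?_) ⟨?_, ?_⟩)
    · intro a b hab
      rw [QuotientGroup.leftRel_apply] at hab ⊢
      exact hLT hab
    · rintro ⟨a⟩ ⟨b⟩ hab
      refine QuotientGroup.eq.2 ?_
      have h : ((a : G)⁻¹ * b) ∈ T := Subgroup.mem_subgroupOf.1 (QuotientGroup.eq.1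
        (hab : (QuotientGroup.mk (Subgroup.inclusion hQN a) : N ⧸ T.subgroupOf N) =
          QuotientGroup.mk (Subgroup.inclusion hQN b)))
      exact hTQ ⟨h, Q₀.mul_mem (Q₀.inv_mem a.2) b.2⟩
    · rintro ⟨n⟩
      obtain ⟨q, hq, ht⟩ := htrans (n : G)⁻¹ (N.inv_mem n.2)
      refine ⟨QuotientGroup.mk (⟨q⁻¹, Q₀.inv_mem hq⟩ : Q₀), QuotientGroup.eq.2 ?_⟩
      show ((q⁻¹)⁻¹ * (n : G)) ∈ T
      simpa using T.inv_mem ht
  -- Frattini
  have hQK : ¬ p ∣ ((Q : Subgroup G) ⊓ K).relIndex K := by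
    rw [Subgroup.inf_relIndex_right, ← relIndex_sup_eq_of_normal]
    intro h
    exact Q.not_dvd_index (h.trans (Dvd.intro _
      (Subgroup.relIndex_mul_index (le_sup_left : (Q : Subgroup G) ≤ (Q : Subgroup G) ⊔ K))))
  have hLeq : L = Z ⊔ ((Q : Subgroup G) ⊓ K) := by
    refine le_antisymm (fun y hy => ?_) (sup_le hZL (inf_le_inf_right K le_sup_right))
    obtain ⟨z, hz, q, hq, rfl⟩ := Subgroup.mem_sup_of_normal_left.1 hy.1
    exact Subgroup.mul_mem_sup hz ⟨hq, (K.mul_mem_cancel_left (hZK hz)).1 hy.2⟩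
  have hNK : N ⊔ K = ⊤ := by
    refine top_le_iff.1 (le_trans (normalizer_sup_eq_top_of_le
      (P := (Q : Subgroup G) ⊓ K) (Q.isPGroup'.to_le inf_le_left) inf_le_right le_rfl hQK).ge
      (sup_le_sup_right (fun g hg => ?_) K))
    rw [hN, Subgroup.mem_normalizer_iff]
    intro x
    have hmap : L.map (MulAut.conj g).toMonoidHom = L := by
      rw [hLeq, Subgroup.map_sup]
      congr 1
      · ext y
        rw [Subgroup.mem_map]
        refine ⟨?_, fun hy => ⟨g⁻¹ * y * g, ?_, by simp [mul_assoc]⟩⟩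
        · rintro ⟨a, ha, rfl⟩
          simpa using (inferInstance : Z.Normal).conj_mem a ha g
        · simpa using (inferInstance : Z.Normal).conj_mem y hy g⁻¹
      · ext y
        rw [Subgroup.mem_map]
        refine ⟨?_, fun hy => ⟨g⁻¹ * y * g, ?_, by simp [mul_assoc]⟩⟩
        · rintro ⟨a, ha, rfl⟩
          simpa using (Subgroup.mem_normalizer_iff.1 hg a).1 ha
        · refine (Subgroup.mem_normalizer_iff.1 hg _).2 ?_
          simpa [mul_assoc] using hy
    constructor
    · intro hx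
      rw [← hmap]
      exact ⟨x, hx, by simp⟩
    · intro hx
      rw [← hmap] at hx
      obtain ⟨a, ha, hax⟩ := hx
      have : a = x := by simpa using hax
      exact this ▸ ha
  obtain ⟨a, ha⟩ : ∃ a, Nat.card P = p ^ a := (Q.isPGroup'.map _).exists_card_eq
  have hKNT : K ⊓ N ≤ T := by
    let T' := T.subgroupOf N
    let K' := K.subgroupOf N
    have h1 : T.relIndex (K ⊓ N) ∣ p ^ a := by
      rw [← ha, ← hLQcard, ← hidx]
      have h := relIndex_sup_eq_of_normal T' K'
      have h2 : T'.relIndex K' = T.relIndex (K ⊓ N) := by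
        rw [show K' = (K ⊓ N).subgroupOf N from (Subgroup.inf_subgroupOf_right K N).symm]
        exact Subgroup.relIndex_subgroupOf inf_le_right
      rw [← h2, ← h]
      exact Dvd.intro _ (Subgroup.relIndex_mul_index le_sup_left)
    have h2 : ¬ p ∣ T.relIndex (K ⊓ N) := fun h => hQK (by
      have hle : (Q : Subgroup G) ⊓ K ≤ T ⊓ (K ⊓ N) := fun y hy =>
        ⟨hLT (hLeq ▸ Subgroup.mem_sup_right hy), hy.2,
          hLN (hLeq ▸ Subgroup.mem_sup_right hy)⟩
      have h3 := Subgroup.relIndex_mul_relIndex ((Q : Subgroup G) ⊓ K) (T ⊓ (K ⊓ N)) (K ⊓ N) hle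
        inf_le_right
      rw [Subgroup.inf_relIndex_right T] at h3
      have h4 := Subgroup.relIndex_mul_relIndex ((Q : Subgroup G) ⊓ K) (K ⊓ N) K
        (hle.trans inf_le_right) inf_le_left
      exact (h.trans (Dvd.intro_left _ h3)).trans (Dvd.intro _ h4))
    rw [← Subgroup.relIndex_eq_one]
    exact Nat.eq_one_of_dvd_coprimes ((hp.out.coprime_iff_not_dvd.2 h2).pow_left a) h1 dvd_rfl
  let f : N →* G ⧸ K := (QuotientGroup.mk' K).comp N.subtype
  have hf : Function.Surjective f := by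
    intro c
    obtain ⟨g, rfl⟩ := QuotientGroup.mk_surjective c
    obtain ⟨n, hn, k, hk, rfl⟩ := Subgroup.mem_sup_of_normal_right.1 (hNK ▸ Subgroup.mem_top g)
    exact ⟨⟨n, hn⟩, by simp [f, (QuotientGroup.eq_one_iff k).2 hk]⟩
  refine ⟨(T.subgroupOf N).map f, ?_⟩
  have hker : f.ker ≤ T.subgroupOf N := fun x hx => Subgroup.mem_subgroupOf.2
    (hKNT ⟨(QuotientGroup.eq_one_iff (x : G)).1 hx, x.2⟩)
  have hMidx : ((T.subgroupOf N).map f).index = Nat.card P := by
    rw [Subgroup.index_map, sup_eq_left.2 hker, MonoidHom.range_eq_top.2 hf, Subgroup.index_top,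
      mul_one, ← hLQcard, ← hidx]
    rfl
  have hPidx : ¬ p ∣ P.index := fun h => by
    rw [hP, Subgroup.index_map, MonoidHom.range_eq_top.2 (QuotientGroup.mk'_surjective K),
      Subgroup.index_top, mul_one] at h
    exact Q.not_dvd_index (h.trans (Subgroup.index_dvd_of_le le_sup_left))
  have hMcard : Nat.card ↥((T.subgroupOf N).map f) * Nat.card P = Nat.card (G ⧸ K) := by
    rw [← hMidx]
    exact Subgroup.card_mul_index _
  refine Subgroup.isComplement'_of_coprime hMcard ?_
  have hM : Nat.card ↥((T.subgroupOf N).map f) = P.index := by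
    apply Nat.eq_of_mul_eq_mul_right (Nat.card_pos (α := P))
    rw [hMcard, mul_comm, Subgroup.card_mul_index]
  rw [hM, ha]
  exact ((hp.out.coprime_iff_not_dvd.2 hPidx).pow_left a).symm

end Cfsg.Agent.Char
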