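import Cfsg.Agent.Char.Iso
import Cfsg.Agent.Char.FS
import Cfsg.Agent.Char.ClassAlg
import Mathlib.LinearAlgebra.Matrix.ToLin

/-!
# Real irreducible characters of odd degree have indicator one
-/

namespace Cfsg.Agent.Char

open Matrix

universe u

variable {G : Type u} [Group G] [Fintype G]

theorem schur_matrix {n : ℕ} (ρ : Representation ℂ G (Fin n → ℂ)) (hρ : ρ.IsIrreducible)
    (i j k l : Fin n) :
    (n : ℂ) * ∑ g, LinearMap.toMatrix' (ρ g) i j * LinearMap.toMatrix' (ρ g⁻¹) k l =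
      if j = k ∧ i = l then (Nat.card G : ℂ) else 0 := by
  classical
  set X : Module.End ℂ (Fin n → ℂ) := Matrix.toLin' (Matrix.single j k (1 : ℂ)) with hX
  set T : Module.End ℂ (Fin n → ℂ) := ∑ g, ρ g * X * ρ g⁻¹ with hT
  obtain ⟨c, hc, hcd⟩ := commute_eq_scalar ρ hρ T fun h => by
    rw [hT, Finset.sum_mul, Finset.mul_sum]
    refine Fintype.sum_equiv (Equiv.mulLeft h⁻¹) _ _ fun g => ?_
    show ρ g * X * ρ g⁻¹ * ρ h = ρ h * (ρ (h⁻¹ * g) * X * ρ (h⁻¹ * g)⁻¹)
    rw [_root_.mul_inv_rev, inv_inv, map_mul ρ h⁻¹ g, map_mul ρ g⁻¹ h]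
    simp only [← mul_assoc]
    rw [← map_mul ρ h h⁻¹, mul_inv_cancel, map_one ρ, one_mul]
  have htr : LinearMap.trace ℂ (Fin n → ℂ) T = (Nat.card G : ℂ) * if j = k then 1 else 0 := by
    rw [hT, map_sum, Finset.sum_congr rfl fun g _ => by
      rw [LinearMap.trace_mul_cycle, ← map_mul, inv_mul_cancel, map_one, one_mul],
      Finset.sum_const, Finset.card_univ, ← Nat.card_eq_fintype_card, nsmul_eq_mul, hX,
      Matrix.trace_toLin'_eq]
    by_cases h : j = k
    · subst h; rw [Matrix.trace_single_eq_same, if_pos rfl]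
    · rw [Matrix.trace_single_eq_of_ne _ _ _ h, if_neg h]
  have hentry : ∑ g, LinearMap.toMatrix' (ρ g) i j * LinearMap.toMatrix' (ρ g⁻¹) k l =
      c * if i = l then 1 else 0 := by
    have h1 : LinearMap.toMatrix' T i l = c * if i = l then 1 else 0 := by
      rw [hc, map_smul, LinearMap.toMatrix'_id, Matrix.smul_apply, Matrix.one_apply, smul_eq_mul]
    rw [← h1, hT, map_sum, Matrix.sum_apply]
    refine Finset.sum_congr rfl fun g _ => ?_
    rw [LinearMap.toMatrix'_mul, LinearMap.toMatrix'_mul, hX, LinearMap.toMatrix'_toLin',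
      Matrix.mul_apply, Finset.sum_eq_single k]
    · rw [Matrix.mul_single_apply_same, mul_one]
    · intro b _ hb
      rw [Matrix.mul_single_apply_of_ne _ _ _ _ _ hb, zero_mul]
    · simp
  rw [Module.finrank_fin_fun, htr] at hcd
  rw [hentry, ← mul_assoc, mul_comm (n : ℂ) c, hcd]
  by_cases h1 : j = k <;> by_cases h2 : i = l <;> simp [h1, h2]

/-- A real irreducible character of odd degree has Frobenius–Schur indicator one. -/
theorem fsInd_real_odd {χ : G → ℂ} (hχ : IsIrrCharacter G χ) (hreal : ∀ g, (χ g).im = 0) {d : ℕ}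
    (hd : χ 1 = d) (hodd : Odd d) : fsInd χ = 1 := by
  classical
  obtain ⟨n, ρ, hρ, rfl⟩ := hχ
  have hdn : n = d := by
    rw [ρ.char_one, Module.finrank_fin_fun] at hd
    exact_mod_cast hd
  subst hdn
  set A : G → Matrix (Fin n) (Fin n) ℂ := fun g => LinearMap.toMatrix' (ρ g) with hA
  have hAmul : ∀ g h, A (g * h) = A g * A h := fun g h => by
    simp only [hA, map_mul, LinearMap.toMatrix'_mul]
  have hA1 : A 1 = 1 := by simp only [hA, map_one, Module.End.one_eq_id, LinearMap.toMatrix'_id]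
  -- the contragredient representation
  let σ : Representation ℂ G (Fin n → ℂ) :=
    { toFun := fun g => Matrix.toLin' (A g⁻¹)ᵀ
      map_one' := by rw [inv_one, hA1, Matrix.transpose_one, Matrix.toLin'_one]; rfl
      map_mul' := fun g h => by
        rw [_root_.mul_inv_rev, hAmul, Matrix.transpose_mul, Matrix.toLin'_mul]; rfl }
  have hchar : ρ.character = σ.character := by
    funext g
    show ρ.character g = LinearMap.trace ℂ _ (Matrix.toLin' (A g⁻¹)ᵀ)
    rw [Matrix.trace_toLin'_eq, Matrix.trace_transpose, ← Complex.conj_eq_iff_im.2 (hreal g),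
      ← IsChar.inv_eq_conj ⟨n, ρ, rfl⟩ g, Representation.character,
      LinearMap.trace_eq_matrix_trace ℂ (Pi.basisFun ℂ (Fin n)),
      LinearMap.toMatrix_eq_toMatrix']
  obtain ⟨e, he⟩ := nonempty_equiv_of_character_eq ρ σ hchar
  set M : Matrix (Fin n) (Fin n) ℂ := LinearMap.toMatrix' e.toLinearMap with hM
  set M' : Matrix (Fin n) (Fin n) ℂ := LinearMap.toMatrix' e.symm.toLinearMap with hM'
  have hMM' : M * M' = 1 := by
    rw [hM, hM', ← LinearMap.toMatrix'_comp, LinearEquiv.comp_symm, LinearMap.toMatrix'_id]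
  have hM'M : M' * M = 1 := by
    rw [hM, hM', ← LinearMap.toMatrix'_comp, LinearEquiv.symm_comp, LinearMap.toMatrix'_id]
  have hint : ∀ g, M * A g = (A g⁻¹)ᵀ * M := by
    intro g
    have h1 : e.toLinearMap ∘ₗ ρ g = Matrix.toLin' (A g⁻¹)ᵀ ∘ₗ e.toLinearMap :=
      LinearMap.ext (he g)
    have h2 := congrArg LinearMap.toMatrix' h1
    rwa [LinearMap.toMatrix'_comp, LinearMap.toMatrix'_comp, LinearMap.toMatrix'_toLin'] at h2
  -- the form is symmetric or alternating
  obtain ⟨c, hc, -⟩ := commute_eq_scalar ρ hρ (Matrix.toLin' (M' * Mᵀ)) fun g => by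
    apply LinearMap.toMatrix'.injective
    rw [LinearMap.toMatrix'_mul, LinearMap.toMatrix'_mul, LinearMap.toMatrix'_toLin']
    show M' * Mᵀ * A g = A g * (M' * Mᵀ)
    have h3 : Mᵀ * A g = (A g⁻¹)ᵀ * Mᵀ := by
      have h4 := congrArg Matrix.transpose (hint g⁻¹)
      rw [Matrix.transpose_mul, Matrix.transpose_mul, inv_inv, Matrix.transpose_transpose] at h4
      exact h4.symm
    have h5 : M' * (A g⁻¹)ᵀ = A g * M' := by
      calc M' * (A g⁻¹)ᵀ = M' * ((A g⁻¹)ᵀ * M) * M' := by
            rw [mul_assoc, mul_assoc, hMM', mul_one]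
        _ = M' * (M * A g) * M' := by rw [hint]
        _ = A g * M' := by rw [← mul_assoc M' M, hM'M, one_mul]
    rw [mul_assoc, h3, ← mul_assoc, h5, mul_assoc]
  have hMt : Mᵀ = c • M := by
    have h1 := congrArg LinearMap.toMatrix' hc
    rw [LinearMap.toMatrix'_toLin', map_smul, LinearMap.toMatrix'_id] at h1
    have h2 := congrArg (M * ·) h1
    simpa [← mul_assoc, hMM'] using h2
  have hdet : M.det ≠ 0 := fun h => by
    have := congrArg Matrix.det hMM'
    rw [Matrix.det_mul, h, zero_mul, Matrix.det_one] at this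
    exact zero_ne_one this
  have hcn : c ^ n = 1 := by
    have h1 := congrArg Matrix.det hMt
    rw [Matrix.det_transpose, Matrix.det_smul, Fintype.card_fin] at h1
    exact mul_right_cancel₀ hdet (by rw [← h1, one_mul])
  have hc2 : c * c = 1 := by
    have h1 := congrArg Matrix.transpose hMt
    rw [Matrix.transpose_transpose, Matrix.transpose_smul, hMt, smul_smul] at h1
    have h2 := congrArg Matrix.det h1
    by_contra hne
    obtain ⟨i, j, hij⟩ : ∃ i j, M i j ≠ 0 := by
      by_contra! h0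
      obtain ⟨m, rfl⟩ : ∃ m, n = m + 1 := ⟨n - 1, by have := hodd.pos; omega⟩
      exact hdet (Matrix.det_eq_zero_of_row_eq_zero 0 (h0 0))
    have h3 := congrFun (congrFun h1 i) j
    rw [Matrix.smul_apply, smul_eq_mul] at h3
    exact hne (mul_right_cancel₀ hij (by rw [← h3, one_mul]))
  have hc1 : c = 1 := by
    obtain ⟨m, hm⟩ := hodd
    rwa [hm, pow_succ, pow_mul, sq, hc2, one_pow, one_mul] at hcn
  rw [hc1, one_smul] at hMt
  have hM't : M'ᵀ = M' := by
    have h1 : M'ᵀ * M = 1 := by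
      calc M'ᵀ * M = M'ᵀ * Mᵀ := by rw [hMt]
        _ = (M * M')ᵀ := (Matrix.transpose_mul M M').symm
        _ = 1 := by rw [hMM', Matrix.transpose_one]
    calc M'ᵀ = M'ᵀ * (M * M') := by rw [hMM', mul_one]
      _ = M' := by rw [← mul_assoc, h1, one_mul]
  have hn0 : (n : ℂ) ≠ 0 := Nat.cast_ne_zero.2 hodd.pos.ne'
  have hsum : (∑ g, A g * M' * (A g⁻¹)ᵀ) = ((Nat.card G : ℂ) / n) • M' := by
    ext i l
    rw [Matrix.sum_apply, Matrix.smul_apply, smul_eq_mul, div_mul_eq_mul_div, eq_div_iff hn0]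
    conv_rhs => rw [← hM't, Matrix.transpose_apply]
    simp only [Matrix.mul_apply, Matrix.transpose_apply, Finset.sum_mul]
    rw [Finset.sum_comm, Finset.sum_congr rfl fun x _ => Finset.sum_comm]
    calc _ = ∑ k, ∑ j, M' j k * ((n : ℂ) * ∑ g, A g i j * A g⁻¹ l k) := by
          refine Finset.sum_congr rfl fun k _ => Finset.sum_congr rfl fun j _ => ?_
          rw [Finset.mul_sum, Finset.mul_sum]
          exact Finset.sum_congr rfl fun g _ => by ring
      _ = _ := by
          simp only [hA, schur_matrix ρ hρ, ite_and, mul_ite, mul_zero]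
          simp [mul_comm]
  have hval : ∀ g, ρ.character (g * g) = (A g * M' * (A g⁻¹)ᵀ * M).trace := by
    intro g
    rw [Representation.character, LinearMap.trace_eq_matrix_trace ℂ (Pi.basisFun ℂ (Fin n)),
      LinearMap.toMatrix_eq_toMatrix']
    show (A (g * g)).trace = _
    rw [hAmul, mul_assoc (A g * M'), ← hint, ← mul_assoc, mul_assoc (A g) M' M, hM'M, mul_one]
  rw [fsInd, Finset.sum_congr rfl fun g _ => hval g, ← Matrix.trace_sum, ← Finset.sum_mul, hsum,
    Matrix.smul_mul, hM'M, Matrix.trace_smul, Matrix.trace_one, Fintype.card_fin, smul_eq_mul,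
    div_mul_cancel₀ _ hn0, inv_mul_cancel₀ card_ne_zero]

end Cfsg.Agent.Char
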