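import Cfsg.Agent.Char.RealOddTools
import Cfsg.Agent.Core.MinimalNormal
import Cfsg.Agent.Fg24.NormalSylowCorr.Core
import Cfsg.Agent.Core.Frattini
import Cfsg.Agent.Fusion.Critical

/-!
# Real characters of odd degree of solvable groups and the normalizer of a Sylow 2-subgroup
-/

set_option autoImplicit false

open scoped Classical ComplexConjugate

namespace Cfsg.Agent.Char.RealOddSylow

open Cfsg.Agent Cfsg.Agent.Char

universe u

/-- Conjugation by `G` on the linear characters of the Sylow subgroup. -/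
def Conj {G P : Type u} [Group G] [Group P] (ι : P →* G) (ν₁ ν₂ : P →* ℂˣ) : Prop :=
  ∃ (g : G) (α : P ≃* P), (∀ x, ι (α x) = g * ι x * g⁻¹) ∧ ν₂ = ν₁.comp α.toMonoidHom

/-- The Sylow subgroup is self normalizing. -/
def SelfNormalizing {G P : Type u} [Group G] [Group P] (ι : P →* G) : Prop :=
  ∀ g : G, (∀ x, g * ι x * g⁻¹ ∈ ι.range) → g ∈ ι.range

/-- All linear characters of `P` are real. -/
def LinReal (P : Type u) [Group P] : Prop := ∀ f : P →* ℂˣ, ∀ x, f x ^ 2 = 1

/-- All irreducible characters of odd degree are real. -/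
def AllReal (G : Type u) [Group G] : Prop :=
  ∀ χ : G → ℂ, Cfsg.IsIrrCharacter G χ → Odd (Cfsg.charDegree χ) → ∀ g, (χ g).im = 0

variable {G P : Type u} [Group G] [Fintype G] [Group P] [Fintype P] {ι : P →* G}

omit [Fintype G] [Fintype P] in
theorem Conj.refl (ι : P →* G) (ν : P →* ℂˣ) : Conj ι ν ν :=
  ⟨1, MulEquiv.refl P, fun x => by simp, by ext; rfl⟩

omit [Fintype G] [Fintype P] in
theorem Conj.trans {ν₁ ν₂ ν₃ : P →* ℂˣ} (h₁ : Conj ι ν₁ ν₂) (h₂ : Conj ι ν₂ ν₃) :
    Conj ι ν₁ ν₃ := by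
  obtain ⟨g, α, hα, rfl⟩ := h₁
  obtain ⟨h, β, hβ, rfl⟩ := h₂
  refine ⟨g * h, β.trans α, fun x => ?_, by ext; rfl⟩
  show ι (α (β x)) = _
  rw [hα, hβ]
  group

omit [Fintype G] [Fintype P] in
theorem Conj.symm {ν₁ ν₂ : P →* ℂˣ} (h : Conj ι ν₁ ν₂) : Conj ι ν₂ ν₁ := by
  obtain ⟨g, α, hα, rfl⟩ := h
  refine ⟨g⁻¹, α.symm, fun x => ?_, MonoidHom.ext fun x => by simp⟩
  have := hα (α.symm x)
  rw [α.apply_symm_apply] at this
  rw [this]
  group

theorem InR.of_conj {χ : G → ℂ} (hχ : Cfsg.IsClassFunction G χ) {ν₁ ν₂ : P →* ℂˣ}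
    (h : Conj ι ν₁ ν₂) (h₁ : InR ι χ ν₁) : InR ι χ ν₂ := by
  obtain ⟨g, α, hα, rfl⟩ := h
  exact h₁.comp_aut hχ hα

omit [Fintype P] in
theorem odd_index_map (hodd : Odd ι.range.index) {H : Type u} [Group H] (π : G →* H)
    (hπ : Function.Surjective π) : Odd (ι.range.map π).index :=
  hodd.of_dvd_nat (ι.range.index_map_dvd hπ)

section OddMinimal

variable (M : Subgroup G) [M.Normal]

theorem inf_range_eq_bot (hP : IsPGroup 2 P) (hM : Odd (Nat.card M)) : ι.range ⊓ M = ⊥ := by
  have : Fact (Nat.Prime 2) := ⟨Nat.prime_two⟩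
  obtain ⟨k, hk⟩ := IsPGroup.iff_card.1 (isPGroup_range (ι := ι) hP)
  refine Subgroup.inf_eq_bot_of_coprime ?_
  rw [hk]
  exact (Nat.coprime_two_left.2 hM).pow_left k

theorem injective_mk_comp (hι : Function.Injective ι) (hP : IsPGroup 2 P)
    (hM : Odd (Nat.card M)) : Function.Injective ((QuotientGroup.mk' M).comp ι) := by
  refine (injective_iff_map_eq_one _).2 fun x hx => ?_
  have h1 : ι x ∈ ι.range ⊓ M := ⟨⟨x, rfl⟩, (QuotientGroup.eq_one_iff _).1 hx⟩
  rw [inf_range_eq_bot M hP hM, Subgroup.mem_bot] at h1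
  exact (injective_iff_map_eq_one ι).1 hι x h1

omit [Fintype P] in
theorem odd_index_mk_comp (hodd : Odd ι.range.index) :
    Odd ((QuotientGroup.mk' M).comp ι).range.index := by
  rw [MonoidHom.range_comp]
  exact odd_index_map hodd _ (QuotientGroup.mk'_surjective M)

end OddMinimal

section TwoMinimal

variable (M : Subgroup G) [M.Normal]

/-- The map induced on the quotients by a normal 2-subgroup. -/
def quotMap (ι : P →* G) : P ⧸ M.comap ι →* G ⧸ M :=
  QuotientGroup.map (M.comap ι) M ι le_rfl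

omit [Fintype G] [Fintype P] in
theorem quotMap_mk (x : P) : quotMap M ι (x : P ⧸ M.comap ι) = (ι x : G ⧸ M) := rfl

omit [Fintype G] [Fintype P] in
theorem injective_quotMap : Function.Injective (quotMap M ι) := by
  refine (injective_iff_map_eq_one _).2 fun q hq => ?_
  obtain ⟨x, rfl⟩ := QuotientGroup.mk_surjective q
  rw [quotMap_mk, QuotientGroup.eq_one_iff] at hq
  exact (QuotientGroup.eq_one_iff x).2 hq

omit [Fintype P] in
theorem odd_index_quotMap (hodd : Odd ι.range.index) : Odd (quotMap M ι).range.index := by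
  have : (quotMap M ι).range = ι.range.map (QuotientGroup.mk' M) := by
    ext q
    constructor
    · rintro ⟨r, rfl⟩
      obtain ⟨x, rfl⟩ := QuotientGroup.mk_surjective r
      exact ⟨ι x, ⟨x, rfl⟩, rfl⟩
    · rintro ⟨-, ⟨x, rfl⟩, rfl⟩
      exact ⟨(x : P ⧸ M.comap ι), rfl⟩
  rw [this]
  exact odd_index_map hodd _ (QuotientGroup.mk'_surjective M)

omit [Fintype G] [Fintype P] in
/-- An element normalizing the image normalizes the Sylow subgroup. -/
theorem conj_mem_range (hMR : M ≤ ι.range) {g : G}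
    (h : ∀ q, (g : G ⧸ M) * quotMap M ι q * (g : G ⧸ M)⁻¹ ∈ (quotMap M ι).range) (x : P) :
    g * ι x * g⁻¹ ∈ ι.range := by
  obtain ⟨q, hq⟩ := h (x : P ⧸ M.comap ι)
  obtain ⟨z, rfl⟩ := QuotientGroup.mk_surjective q
  rw [quotMap_mk, quotMap_mk, ← QuotientGroup.mk_mul, ← QuotientGroup.mk_inv,
    ← QuotientGroup.mk_mul, QuotientGroup.eq] at hq
  have := Subgroup.mul_mem _ (⟨z, rfl⟩ : ι z ∈ ι.range) (hMR hq)
  simpa [mul_assoc] using this

omit [Fintype G] in
/-- Twisting by a sign character and descending along the quotient. -/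
theorem InR.descend {χ : G → ℂ} {μ : G →* ℂˣ} (hμ : ∀ g, μ g ^ 2 = 1) {ν : P →* ℂˣ}
    {φ : G ⧸ M → ℂ} (hφ : ∀ g : G, χ g * (μ g : ℂ) = φ g) {ν' : P ⧸ M.comap ι →* ℂˣ}
    (hν' : ∀ x : P, ν' (x : P ⧸ M.comap ι) = ν x * μ (ι x)) (h : InR ι χ ν) :
    InR (quotMap M ι) φ ν' := by
  unfold InR at h ⊢
  intro h0
  apply h
  rw [← h0, ← Agent.Fg24.NormalSylowCorr.classInner_comp (QuotientGroup.mk' (M.comap ι))
    (QuotientGroup.mk'_surjective _)]
  simp only [Cfsg.classInner, lin, QuotientGroup.mk'_apply, quotMap_mk, ← hφ, hν',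
    Units.val_mul, map_mul]
  refine congrArg _ (Finset.sum_congr rfl fun x _ => ?_)
  rw [Complex.conj_eq_iff_im.2 (real_of_sq_eq_one hμ (ι x))]
  linear_combination (-(χ (ι x) * conj ((ν x : ℂˣ) : ℂ))) * mul_self_eq_one hμ (ι x)

end TwoMinimal

omit [Fintype G] [Fintype P] in
theorem exists_section (hι : Function.Injective ι) {M : Subgroup G} (hMR : M ≤ ι.range) :
    ∃ j : M →* P, ∀ m, ι (j m) = (m : G) := by
  choose f hf using fun m : M => MonoidHom.mem_range.1 (hMR m.2)
  exact ⟨MonoidHom.mk' f fun a b => hι (by rw [map_mul, hf, hf, hf]; rfl), hf⟩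

section Over

variable {M : Subgroup G} {j : M →* P}

/-- The restriction of a constituent on the Sylow subgroup is a constituent on `M`. -/
theorem over_of_InR (hj : ∀ m, ι (j m) = (m : G)) {χ : G → ℂ} (hχ : Cfsg.IsCharacter G χ)
    {ν : P →* ℂˣ} (h : InR ι χ ν) :
    Cfsg.classInner (fun m : M => χ m) (lin (ν.comp j)) ≠ 0 := by
  have h1 := through_ne_zero (isCharacter_comp ι hχ) j (isIrr_lin ν)
    (IsIrr.isCharacter (isIrr_lin (ν.comp j))) h (by
      rw [show (fun k => lin ν (j k)) = lin (ν.comp j) from rfl,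
        classInner_irr_self (isIrr_lin (ν.comp j))]
      exact one_ne_zero)
  simpa only [hj] using h1

omit [Fintype G] [Fintype P] in
theorem range_le_inertia [M.Normal] (hι : Function.Injective ι) (hj : ∀ m, ι (j m) = (m : G))
    (ν : P →* ℂˣ) : ι.range ≤ inertia (G := G) (lin (ν.comp j)) := by
  rintro - ⟨x, rfl⟩
  refine funext fun m => ?_
  show (ν (j _) : ℂ) = (ν (j m) : ℂ)
  have e : j ⟨ι x * m * (ι x)⁻¹, Subgroup.Normal.conj_mem ‹_› _ m.2 _⟩ = x * j m * x⁻¹ :=
    hι (by rw [hj, map_mul, map_mul, map_inv, hj])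
  rw [e]
  simp [mul_comm]

/-- The data of the Clifford correspondence below a constituent on the Sylow subgroup. -/
theorem exists_corr_InR [M.Normal] (hι : Function.Injective ι) (hj : ∀ m, ι (j m) = (m : G))
    {χ : G → ℂ} (hχ : Cfsg.IsIrrCharacter G χ) (hodd : Odd (Cfsg.charDegree χ))
    {ν : P →* ℂˣ} (h : InR ι χ ν) :
    ∃ ψ : inertia (G := G) (lin (ν.comp j)) → ℂ,
      Cfsg.IsIrrCharacter _ ψ ∧ Odd (Cfsg.charDegree ψ) ∧
      Cfsg.indFun (inertia (G := G) (lin (ν.comp j))) ψ = χ ∧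
      InR (ι.codRestrict _ fun x => range_le_inertia hι hj ν ⟨x, rfl⟩) ψ ν ∧
      (∃ c : ℂ, c ≠ 0 ∧ ∀ m : M,
        ψ ⟨m, le_inertia (isClassFunction_of_isIrr (isIrr_lin (ν.comp j))) m.2⟩ =
          c * lin (ν.comp j) m) ∧
      (∀ ψ' : inertia (G := G) (lin (ν.comp j)) → ℂ, Cfsg.IsIrrCharacter _ ψ' →
        Cfsg.classInner (fun t : inertia (G := G) (lin (ν.comp j)) => χ t) ψ' ≠ 0 →
        Cfsg.classInner (fun m : M =>
          ψ' ⟨m, le_inertia (isClassFunction_of_isIrr (isIrr_lin (ν.comp j))) m.2⟩)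
          (lin (ν.comp j)) ≠ 0 → ψ' = ψ) ∧
      ((∀ g, (χ g).im = 0) → (∀ m, ν (j m) ^ 2 = 1) → ∀ t, (ψ t).im = 0) := by
  have hlam := isIrr_lin (ν.comp j)
  obtain ⟨ψ, hψ, hind, hc, ⟨c, hc0, hres⟩, huniq⟩ :=
    exists_corr M hχ hlam (over_of_InR hj (IsIrr.isCharacter hχ) h)
  let T := inertia (G := G) (lin (ν.comp j))
  let ιT : P →* T := ι.codRestrict _ fun x => range_le_inertia hι hj ν ⟨x, rfl⟩
  have hdeg : Odd (Cfsg.charDegree ψ) := by
    have h1 := congrFun hind 1
    rw [indFun_apply_one, (deg_spec hχ).1, (deg_spec hψ).1, ← Nat.cast_mul, Nat.cast_inj] at h1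
    rw [← h1, Nat.odd_mul] at hodd
    exact hodd.2
  obtain ⟨ψ', hψ'c, hψ'i⟩ := exists_through (isCharacter_res T (IsIrr.isCharacter hχ)) ιT
    (θ := lin ν) h
  have hover : Cfsg.classInner (fun m : M =>
      (ψ' : T → ℂ) ⟨m, le_inertia (isClassFunction_of_isIrr hlam) m.2⟩) (lin (ν.comp j)) ≠ 0 := by
    have h1 := through_ne_zero (isCharacter_comp ιT (IsIrr.isCharacter ψ'.2)) j (isIrr_lin ν)
      (IsIrr.isCharacter hlam) hψ'i (by
        rw [show (fun k => lin ν (j k)) = lin (ν.comp j) from rfl, classInner_irr_self hlam]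
        exact one_ne_zero)
    have e : ∀ m : M, ιT (j m) = ⟨m, le_inertia (isClassFunction_of_isIrr hlam) m.2⟩ :=
      fun m => Subtype.ext (hj m)
    simpa only [e] using h1
  have hψ' : (ψ' : T → ℂ) = ψ := huniq _ ψ'.2 hψ'c hover
  refine ⟨ψ, hψ, hdeg, hind, hψ' ▸ hψ'i, ⟨c, hc0, hres⟩, huniq, fun hreal hsq t => ?_⟩
  have hstar : (conjIrr ⟨ψ, hψ⟩ : T → ℂ) = ψ := by
    refine huniq _ (conjIrr ⟨ψ, hψ⟩).2 (fun h0 => hc ?_) ?_
    · rw [← map_eq_zero (starRingEnd ℂ), ← h0]
      simp only [Cfsg.classInner, map_mul, map_inv₀, map_natCast, map_sum, conjIrr_apply,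
        Complex.conj_conj]
      congr 1
      exact Finset.sum_congr rfl fun t _ => by rw [Complex.conj_eq_iff_im.2 (hreal t)]
    · have e : (fun m : M => (conjIrr ⟨ψ, hψ⟩ : T → ℂ)
          ⟨m, le_inertia (isClassFunction_of_isIrr hlam) m.2⟩) = conj c • lin (ν.comp j) := by
        funext m
        rw [conjIrr_apply, Pi.smul_apply, smul_eq_mul]
        show conj (ψ _) = _
        rw [hres, map_mul]
        congr 1
        exact Complex.conj_eq_iff_im.2 (real_of_sq_eq_one (f := ν.comp j) hsq m)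
      rw [e, classInner_smul_left, classInner_irr_self hlam, mul_one]
      exact (map_ne_zero _).2 hc0
  rw [← Complex.conj_eq_iff_im]
  exact congrFun hstar t

omit [Fintype P] in
/-- A character over an invariant linear character is a multiple of it on `M`. -/
theorem res_of_inertia_eq_top [M.Normal] {χ : G → ℂ} (hχ : Cfsg.IsIrrCharacter G χ)
    {lam : M →* ℂˣ} (h : Cfsg.classInner (fun m : M => χ m) (lin lam) ≠ 0)
    (htop : inertia (G := G) (lin lam) = ⊤) (m : M) : χ m = χ 1 * (lam m : ℂ) := by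
  have hsing : orbit (G := G) (lin lam) = {lin lam} := by
    refine Finset.eq_singleton_iff_unique_mem.2 ⟨self_mem_orbit _, fun ψ hψ => ?_⟩
    obtain ⟨g, rfl⟩ := mem_orbit.1 hψ
    have : g ∈ inertia (G := G) (lin lam) := htop ▸ Subgroup.mem_top g
    exact this
  have e := congrFun (clifford hχ (isIrr_lin lam) h) m
  have e1 := congrFun (clifford hχ (isIrr_lin lam) h) 1
  simp only [hsing, Finset.sum_singleton, Pi.smul_apply, smul_eq_mul, lin, map_one,
    Units.val_one, mul_one, OneMemClass.coe_one] at e e1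
  rw [e, e1]

omit [Fintype P] in
/-- The sign character extending an invariant sign character. -/
theorem exists_extension [Finite P] [M.Normal] (hι : Function.Injective ι)
    (hodd : Odd ι.range.index) (hj : ∀ m, ι (j m) = (m : G)) {ν : P →* ℂˣ}
    (hsq : ∀ x, ν x ^ 2 = 1) (htop : inertia (G := G) (lin (ν.comp j)) = ⊤) :
    ∃ μ : G →* ℂˣ, (∀ g, μ g ^ 2 = 1) ∧ ∀ m : M, μ (m : G) = ν (j m) := by
  have hMR : M ≤ ι.range := fun m hm => ⟨j ⟨m, hm⟩, hj ⟨m, hm⟩⟩
  let e := MonoidHom.ofInjective hι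
  have he : ∀ m : M, e.symm ⟨(m : G), hMR m.2⟩ = j m := fun m => by
    rw [MulEquiv.symm_apply_eq]
    exact Subtype.ext (by rw [MonoidHom.ofInjective_apply, hj])
  obtain ⟨μ, hμ, hμM⟩ := exists_transfer ι.range (M := M) hodd hMR (ν.comp e.symm.toMonoidHom)
    (fun x => hsq _) (fun g m hm => by
      have hg : g ∈ inertia (G := G) (lin (ν.comp j)) := htop ▸ Subgroup.mem_top g
      have h1 := congrFun hg ⟨m, hm⟩
      refine Units.ext ?_
      show ((ν (e.symm ⟨_, _⟩) : ℂˣ) : ℂ) = ((ν (e.symm ⟨m, _⟩) : ℂˣ) : ℂ)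
      rw [he ⟨m, hm⟩, he ⟨g * m * g⁻¹, Subgroup.Normal.conj_mem ‹_› m hm g⟩]
      exact h1)
  exact ⟨μ, hμ, fun m => by rw [hμM m m.2]; show ν (e.symm _) = _; rw [he]⟩

end Over

omit [Fintype P] in
theorem kernel_of_trivial_constituent (M : Subgroup G) [M.Normal] {χ : G → ℂ}
    (hχ : Cfsg.IsIrrCharacter G χ) (h : Cfsg.classInner (fun m : M => χ m) (lin 1) ≠ 0) :
    ∀ m ∈ M, χ m = χ 1 := fun m hm => by
  have := res_of_inertia_eq_top hχ h (eq_top_iff.2 fun g _ => funext fun _ => rfl) ⟨m, hm⟩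
  simpa using this

omit [Fintype G] in
theorem charDegree_descend [Finite G] {M : Subgroup G} [M.Normal] {χ : G → ℂ} {φ : G ⧸ M → ℂ}
    (e : ∀ g : G, χ g = φ g) : Cfsg.charDegree φ = Cfsg.charDegree χ := by
  rw [Cfsg.charDegree, Cfsg.charDegree, e 1, QuotientGroup.mk_one]

omit [Fintype P] in
theorem card_quotient_lt {M : Subgroup G} [M.Normal] (hM : M ≠ ⊥) :
    Nat.card (G ⧸ M) < Nat.card G := by
  rw [← M.index_eq_card, ← M.card_mul_index]
  exact lt_mul_of_one_lt_left (Nat.pos_of_ne_zero Subgroup.index_ne_zero_of_finite)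
    (M.one_lt_card_iff_ne_bot.2 hM)

omit [Fintype P] in
theorem odd_index_codRestrict (hodd : Odd ι.range.index) (T : Subgroup G) (h : ∀ x, ι x ∈ T) :
    Odd (ι.codRestrict T h).range.index := by
  have : (ι.codRestrict T h).range = ι.range.subgroupOf T := by
    ext t
    rw [Subgroup.mem_subgroupOf, MonoidHom.mem_range, MonoidHom.mem_range]
    exact ⟨fun ⟨x, e⟩ => ⟨x, congrArg Subtype.val e⟩, fun ⟨x, e⟩ => ⟨x, Subtype.ext e⟩⟩
  rw [this]
  exact hodd.of_dvd_nat (Subgroup.relIndex_dvd_index_of_le fun _ ⟨x, e⟩ => e ▸ h x)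

omit [Fintype P] in
theorem card_lt_of_ne_top {T : Subgroup G} (h : T ≠ ⊤) : Nat.card T < Nat.card G :=
  lt_of_le_of_ne (Subgroup.card_le_card_group T) fun e => h (Subgroup.card_eq_iff_eq_top T |>.1 e)

/-- Real characters of odd degree sharing a real linear constituent on the Sylow subgroup agree,
and those constituents are conjugate. -/
theorem unique_aux : ∀ (n : ℕ) {G : Type u} [Group G] [Fintype G], Group.IsSolvable G →
    Nat.card G ≤ n → ∀ {P : Type u} [Group P] [Fintype P] (ι : P →* G), Function.Injective ι →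
    IsPGroup 2 P → Odd ι.range.index → ∀ χ₁ χ₂ : G → ℂ, Cfsg.IsIrrCharacter G χ₁ →
    Cfsg.IsIrrCharacter G χ₂ → RO χ₁ → RO χ₂ → ∀ ν₁ ν₂ : P →* ℂˣ, (∀ x, ν₁ x ^ 2 = 1) →
    (∀ x, ν₂ x ^ 2 = 1) → InR ι χ₁ ν₁ → InR ι χ₂ ν₂ → (χ₁ = χ₂ ∨ ν₁ = ν₂) →
    χ₁ = χ₂ ∧ Conj ι ν₁ ν₂ := by
  intro n
  induction n with
  | zero => intro G _ _ _ hn; exact absurd hn (not_le.2 Nat.card_pos)
  | succ n ih =>
    intro G _ _ hsol hn P _ _ ι hι hP hodd χ₁ χ₂ hχ₁ hχ₂ hr₁ hr₂ ν₁ ν₂ hs₁ hs₂ hi₁ hi₂ hor
    have := hsol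
    rcases subsingleton_or_nontrivial G with hG | hG
    · have hoddG : Odd (Nat.card G) := by rw [Nat.card_unique]; exact odd_one
      have hP1 : Subsingleton P := hι.subsingleton
      refine ⟨(real_irr_eq_one hoddG hχ₁ hr₁.1).trans (real_irr_eq_one hoddG hχ₂ hr₂.1).symm, ?_⟩
      rw [show ν₂ = ν₁ from MonoidHom.ext fun x => by rw [Subsingleton.elim x 1, map_one, map_one]]
      exact Conj.refl ι ν₁
    obtain ⟨M, hM⟩ := Core.exists_isMinNormal (G := G)
    have := hM.normal
    obtain ⟨r, hr, hMp, hMr⟩ := hM.exists_isPGroup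
    have hlt := card_quotient_lt hM.ne_bot
    rcases hr.eq_two_or_odd' with rfl | hrodd
    · -- `M` is a 2-group
      have hMR := le_range_of_isPGroup (ι := ι) hP hodd hMp
      obtain ⟨j, hj⟩ := exists_section hι hMR
      obtain ⟨ν, hνc, hνj, hν⟩ : ∃ ν : P →* ℂˣ, Conj ι ν₁ ν ∧ ν.comp j = ν₂.comp j ∧
          (ν₁ = ν₂ → ν = ν₂) := by
        by_cases he : ν₁ = ν₂
        · exact ⟨ν₁, Conj.refl ι ν₁, by rw [he], fun _ => he⟩
        have hχe : χ₁ = χ₂ := hor.resolve_right he
        have h1 := over_of_InR hj (IsIrr.isCharacter hχ₁) hi₁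
        have h2 := over_of_InR hj (IsIrr.isCharacter hχ₂) hi₂
        rw [← hχe] at h2
        obtain ⟨g, hg⟩ := mem_orbit.1
          (constituent_mem_orbit hχ₁ (isIrr_lin _) (isIrr_lin _) h1 h2)
        set T := inertia (G := G) (lin (ν₂.comp j)) with hT
        set Q := ι.range.map (MulAut.conj g⁻¹).toMonoidHom with hQ
        have hQT : Q ≤ T := by
          rintro - ⟨r, hr, rfl⟩
          have h3 : conjFun r (lin (ν₁.comp j)) = lin (ν₁.comp j) := range_le_inertia hι hj ν₁ hr
          show conjFun (g⁻¹ * r * (g⁻¹)⁻¹) (lin (ν₂.comp j)) = _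
          conv_lhs => rw [← hg, conjFun_conjFun]
          rw [show g * (g⁻¹ * r * (g⁻¹)⁻¹) = r * g by group, ← conjFun_conjFun, h3, hg]
        have hQidx : Q.index = ι.range.index :=
          Subgroup.index_map_of_bijective (MulAut.conj g⁻¹).bijective _
        obtain ⟨t, ht, htQ⟩ := exists_conj_le T (isPGroup_range (ι := ι) hP)
          (hodd.of_dvd_nat (Subgroup.relIndex_dvd_index_of_le (range_le_inertia hι hj ν₂)))
          (range_le_inertia hι hj ν₂) ((isPGroup_range (ι := ι) hP).map _)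
          ((hQidx.symm ▸ hodd).of_dvd_nat (Subgroup.relIndex_dvd_index_of_le hQT)) hQT
        obtain ⟨α, hα⟩ := exists_aut (ι := ι) hι (g := t * g⁻¹) fun x => by
          have := htQ _ ⟨ι x, ⟨x, rfl⟩, rfl⟩
          simpa [mul_assoc] using this
        refine ⟨ν₁.comp α.symm.toMonoidHom, ⟨g * t⁻¹, α.symm, fun x => ?_, rfl⟩, ?_,
          fun h => absurd h he⟩
        · have h5 := hα (α.symm x)
          rw [α.apply_symm_apply] at h5
          rw [h5]
          group
        · have h6 : conjFun (g * t⁻¹) (lin (ν₁.comp j)) = lin (ν₂.comp j) := by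
            rw [← conjFun_conjFun, hg]
            exact T.inv_mem ht
          refine MonoidHom.ext fun m => Units.ext ?_
          have h7 := congrFun h6 m
          rw [← show _ = ((ν₂.comp j) m : ℂ) from h7]
          show ((ν₁ (α.symm (j m)) : ℂˣ) : ℂ) = ((ν₁ (j _) : ℂˣ) : ℂ)
          congr 2
          refine hι ?_
          have h5 := hα (α.symm (j m))
          rw [α.apply_symm_apply, hj] at h5
          rw [hj]
          show ι (α.symm (j m)) = g * t⁻¹ * (m : G) * (g * t⁻¹)⁻¹
          rw [h5]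
          group
      suffices key : χ₁ = χ₂ ∧ Conj ι ν ν₂ from ⟨key.1, hνc.trans key.2⟩
      have hsν : ∀ x, ν x ^ 2 = 1 := fun x => by
        obtain ⟨g, α, -, rfl⟩ := hνc
        exact hs₁ _
      have hiν : InR ι χ₁ ν := hi₁.of_conj (isClassFunction_of_isIrr hχ₁) hνc
      have hor' : χ₁ = χ₂ ∨ ν = ν₂ := hor.imp_right hν
      clear hor hi₁ hs₁ hνc hν
      obtain ⟨ψ₁, hψ₁, hd₁, hind₁, hin₁, -, hu₁, hre₁⟩ := exists_corr_InR hι hj hχ₁ hr₁.2 hiν
      by_cases htop : inertia (G := G) (lin (ν.comp j)) = ⊤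
      · obtain ⟨μ, hμ, hμM⟩ := exists_extension hι hodd hj hsν htop
        have hP' : IsPGroup 2 (P ⧸ M.comap ι) := hP.to_quotient _
        have step : ∀ (χ : G → ℂ) (θ : P →* ℂˣ), Cfsg.IsIrrCharacter G χ → RO χ →
            (∀ x, θ x ^ 2 = 1) → InR ι χ θ → θ.comp j = ν.comp j →
            ∃ (φ : G ⧸ M → ℂ) (θ' : P ⧸ M.comap ι →* ℂˣ), Cfsg.IsIrrCharacter (G ⧸ M) φ ∧
              RO φ ∧ (∀ x, θ' x ^ 2 = 1) ∧ InR (quotMap M ι) φ θ' ∧
              (∀ g : G, χ g * (μ g : ℂ) = φ g) ∧ ∀ x : P, θ' x = θ x * μ (ι x) := by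
          intro χ θ hχ hro hsθ hiθ hθj
          have hover := over_of_InR hj (IsIrr.isCharacter hχ) hiθ
          rw [hθj] at hover
          have hker : ∀ m ∈ M, χ m * (μ m : ℂ) = χ 1 * (μ 1 : ℂ) := fun m hm => by
            rw [res_of_inertia_eq_top hχ hover htop ⟨m, hm⟩, hμM ⟨m, hm⟩, map_one,
              Units.val_one, mul_one, mul_assoc, MonoidHom.comp_apply, mul_self_eq_one hsν,
              mul_one]
          obtain ⟨φ, hφ, he⟩ := IsIrr.exists_quotient M (isIrr_mul_hom hχ μ) hker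
          have hle : M.comap ι ≤ (θ * μ.comp ι).ker := fun x hx => by
            rw [MonoidHom.mem_ker, MonoidHom.mul_apply, MonoidHom.comp_apply]
            have h1 : x = j ⟨ι x, hx⟩ := hι (hj ⟨ι x, hx⟩).symm
            have h2 := congrArg (fun f : M →* ℂˣ => f ⟨ι x, hx⟩) hθj
            simp only [MonoidHom.comp_apply, ← h1] at h2
            rw [h2, show μ (ι x) = ν (j ⟨ι x, hx⟩) from hμM ⟨ι x, hx⟩, ← h1, ← sq, hsν]
          refine ⟨φ, QuotientGroup.lift _ (θ * μ.comp ι) hle, hφ, ⟨fun q => ?_, ?_⟩, fun q => ?_,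
            hiθ.descend M hμ he (fun x => rfl), he, fun x => rfl⟩
          · obtain ⟨g, rfl⟩ := QuotientGroup.mk_surjective q
            rw [← he g, Complex.mul_im, hro.1, real_of_sq_eq_one hμ g]
            simp
          · rw [charDegree_descend he]
            simpa [Cfsg.charDegree] using hro.2
          · obtain ⟨x, rfl⟩ := QuotientGroup.mk_surjective q
            show (θ x * μ (ι x)) ^ 2 = 1
            rw [mul_pow, hsθ, hμ, one_mul]
        obtain ⟨φ₁, ν₁', hφ₁, hrφ₁, hs₁', hi₁', he₁, hν₁'⟩ := step χ₁ ν hχ₁ hr₁ hsν hiν rfl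
        obtain ⟨φ₂, ν₂', hφ₂, hrφ₂, hs₂', hi₂', he₂, hν₂'⟩ :=
          step χ₂ ν₂ hχ₂ hr₂ hs₂ hi₂ hνj.symm
        have hor'' : φ₁ = φ₂ ∨ ν₁' = ν₂' := by
          rcases hor' with e | e
          · refine Or.inl (funext fun q => ?_)
            obtain ⟨g, rfl⟩ := QuotientGroup.mk_surjective q
            rw [← he₁, ← he₂, e]
          · refine Or.inr (MonoidHom.ext fun q => ?_)
            obtain ⟨x, rfl⟩ := QuotientGroup.mk_surjective q
            rw [hν₁', hν₂', e]
        obtain ⟨hφe, q, α', hα', hν'⟩ := ih inferInstance (by omega) (quotMap M ι)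
          (injective_quotMap M) hP' (odd_index_quotMap M hodd) φ₁ φ₂ hφ₁ hφ₂ hrφ₁ hrφ₂ ν₁' ν₂'
          hs₁' hs₂' hi₁' hi₂' hor''
        refine ⟨funext fun g => ?_, ?_⟩
        · have h1 := he₁ g
          rw [hφe, ← he₂ g] at h1
          exact mul_right_cancel₀ (Units.ne_zero _) h1
        obtain ⟨g, rfl⟩ := QuotientGroup.mk_surjective q
        obtain ⟨α, hα⟩ := exists_aut (ι := ι) hι fun x =>
          conj_mem_range M hMR (fun r => ⟨α' r, hα' r⟩) x
        refine ⟨g, α, hα, MonoidHom.ext fun x => ?_⟩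
        have hαα' : α' (x : P ⧸ M.comap ι) = (α x : P ⧸ M.comap ι) := by
          apply injective_quotMap M (ι := ι)
          rw [hα', quotMap_mk, quotMap_mk, hα]
          rfl
        have h1 := DFunLike.congr_fun hν' (x : P ⧸ M.comap ι)
        rw [MonoidHom.comp_apply, MulEquiv.coe_toMonoidHom, hαα', hν₁', hν₂', hα] at h1
        simp only [map_mul, map_inv, mul_comm, mul_inv_cancel_left, inv_mul_cancel_left] at h1
        simpa [mul_comm] using h1
      · -- the inertia group is proper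
        have hT' := card_lt_of_ne_top htop
        have main : ∀ θ : P →* ℂˣ, (∀ x, θ x ^ 2 = 1) → InR ι χ₂ θ → θ.comp j = ν.comp j →
            ∃ ψ₂ : inertia (G := G) (lin (ν.comp j)) → ℂ, Cfsg.IsIrrCharacter _ ψ₂ ∧ RO ψ₂ ∧
              Cfsg.indFun (inertia (G := G) (lin (ν.comp j))) ψ₂ = χ₂ ∧
              InR (ι.codRestrict _ fun x => range_le_inertia hι hj ν ⟨x, rfl⟩) ψ₂ θ ∧
              (χ₁ = χ₂ → ψ₁ = ψ₂) := by
          intro θ hsθ hiθ hθj
          have key := exists_corr_InR hι hj hχ₂ hr₂.2 hiθ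
          revert key
          generalize_proofs a b c
          revert a b c
          rw [hθj]
          intro a b c ⟨ψ₂, hψ₂, hd₂, hind₂, hin₂, ⟨c₂, hc₂, hres₂⟩, hu₂, hre₂⟩
          refine ⟨ψ₂, hψ₂, ⟨hre₂ hr₂.1 fun m => hsθ (j m), hd₂⟩, hind₂, hin₂, fun e => ?_⟩
          subst e
          refine (hu₁ ψ₂ hψ₂ ?_ ?_).symm
          · have h1 : Cfsg.classInner (Cfsg.indFun (inertia (G := G) (lin (ν.comp j))) ψ₂) χ₁
                = 1 := by rw [hind₂, classInner_irr_self hχ₁]
            rw [classInner_indFun_left _ _ (isClassFunction_of_isIrr hχ₁), ← classInner_conj_symm,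
              map_eq_one_iff _ (RingHom.injective _)] at h1
            rw [h1]; exact one_ne_zero
          · rw [show (fun m : M => ψ₂ ⟨m, _⟩) = c₂ • lin (ν.comp j) from funext hres₂,
              classInner_smul_left, classInner_irr_self (isIrr_lin _), mul_one]
            exact hc₂
        obtain ⟨ψ₂, hψ₂, hrψ₂, hind₂, hin₂, hee⟩ := main ν₂ hs₂ hi₂ hνj.symm
        obtain ⟨hψe, q, α, hα, hν'⟩ := ih inferInstance (by omega)
          (ι.codRestrict _ fun x => range_le_inertia hι hj ν ⟨x, rfl⟩)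
          (fun a b e => hι (congrArg Subtype.val e)) hP
          (odd_index_codRestrict hodd _ _) ψ₁ ψ₂ hψ₁ hψ₂ ⟨hre₁ hr₁.1 fun m => hsν (j m), hd₁⟩ hrψ₂ ν ν₂
          hsν hs₂ hin₁ hin₂ (hor'.imp_left hee)
        exact ⟨by rw [← hind₁, ← hind₂, hψe], (q : G), α,
          fun x => congrArg Subtype.val (hα x), hν'⟩
    · -- `M` has odd order
      have hMo : Odd (Nat.card M) := by
        have := Fact.mk hr
        obtain ⟨k, hk⟩ := IsPGroup.iff_card.1 hMp
        rw [hk]; exact hrodd.pow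
      obtain ⟨φ₁, hφ₁, he₁⟩ := IsIrr.exists_quotient M hχ₁ (kernel_of_odd M hχ₁ hr₁ hMo)
      obtain ⟨φ₂, hφ₂, he₂⟩ := IsIrr.exists_quotient M hχ₂ (kernel_of_odd M hχ₂ hr₂ hMo)
      have hro : ∀ {χ : G → ℂ} {φ : G ⧸ M → ℂ}, (∀ g : G, χ g = φ g) → RO χ → RO φ := by
        intro χ φ e h
        refine ⟨fun q => ?_, by rw [charDegree_descend e]; exact h.2⟩
        obtain ⟨g, rfl⟩ := QuotientGroup.mk_surjective q
        rw [← e g]; exact h.1 g
      have hin : ∀ {χ : G → ℂ} {φ : G ⧸ M → ℂ} {θ : P →* ℂˣ}, (∀ g : G, χ g = φ g) →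
          InR ι χ θ → InR ((QuotientGroup.mk' M).comp ι) φ θ := by
        intro χ φ θ e h
        unfold InR at h ⊢
        simpa [← e] using h
      have hinj := injective_mk_comp M hι hP hMo
      obtain ⟨hφe, q, α, hα, hν'⟩ := ih inferInstance (by omega) _ hinj hP
        (odd_index_mk_comp M hodd) φ₁ φ₂ hφ₁ hφ₂ (hro he₁ hr₁) (hro he₂ hr₂) ν₁ ν₂ hs₁ hs₂
        (hin he₁ hi₁) (hin he₂ hi₂) (hor.imp_left fun e => funext fun r => by
          obtain ⟨g, rfl⟩ := QuotientGroup.mk_surjective r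
          rw [← he₁, ← he₂, e])
      refine ⟨funext fun g => by rw [he₁, he₂, hφe], ?_⟩
      obtain ⟨g, rfl⟩ := QuotientGroup.mk_surjective q
      have hg : ∀ x, ∃ m ∈ M, g * ι x * g⁻¹ = m * ι (α x) := fun x => by
        refine ⟨g * ι x * g⁻¹ * (ι (α x))⁻¹, ?_, by group⟩
        rw [← QuotientGroup.eq_one_iff, QuotientGroup.mk_mul, QuotientGroup.mk_inv,
          show ((ι (α x) : G) : G ⧸ M) = _ from hα x]
        simp
      set Q := ι.range.map (MulAut.conj g).toMonoidHom
      have hRH : ι.range ≤ M ⊔ ι.range := le_sup_right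
      have hQH : Q ≤ M ⊔ ι.range := by
        rintro - ⟨-, ⟨x, rfl⟩, rfl⟩
        obtain ⟨m, hm, e⟩ := hg x
        show g * ι x * g⁻¹ ∈ _
        rw [e]
        exact Subgroup.mul_mem _ (Subgroup.mem_sup_left hm) (Subgroup.mem_sup_right ⟨α x, rfl⟩)
      have hQidx : Q.index = ι.range.index :=
        Subgroup.index_map_of_bijective (MulAut.conj g).bijective _
      obtain ⟨t, ht, htQ⟩ := exists_conj_le (M ⊔ ι.range) (isPGroup_range (ι := ι) hP)
        (hodd.of_dvd_nat (Subgroup.relIndex_dvd_index_of_le hRH)) hRH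
        ((isPGroup_range (ι := ι) hP).map _)
        ((hQidx.symm ▸ hodd).of_dvd_nat (Subgroup.relIndex_dvd_index_of_le hQH)) hQH
      obtain ⟨m₀, hm₀, w, ⟨z, rfl⟩, htm⟩ := Subgroup.mem_sup_of_normal_left.1 ht
      have hzt : ∀ x, ∃ y, ι y = (ι z)⁻¹ * t * (g * ι x * g⁻¹) * t⁻¹ * ι z := fun x => by
        obtain ⟨y, hy⟩ := htQ _ ⟨ι x, ⟨x, rfl⟩, rfl⟩
        refine ⟨z⁻¹ * y * z, ?_⟩
        rw [map_mul, map_mul, map_inv, hy]
        simp [mul_assoc]
      obtain ⟨β, hβ⟩ := exists_aut (ι := ι) hι (g := (ι z)⁻¹ * t * g) fun x => by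
        obtain ⟨y, hy⟩ := hzt x
        exact ⟨y, by rw [hy]; group⟩
      refine ⟨(ι z)⁻¹ * t * g, β, hβ, ?_⟩
      have hαβ : β = α := MulEquiv.ext fun x => hinj (by
        show ((ι (β x) : G) : G ⧸ M) = (ι (α x) : G)
        rw [hβ, show ((ι (α x) : G) : G ⧸ M) = _ from hα x, ← htm]
        simp [(QuotientGroup.eq_one_iff m₀).2 hm₀, mul_assoc])
      rw [hαβ]
      exact hν'

/-- Odd degree characters are real when the Sylow subgroup is self normalizing and its linear
characters are real. -/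
theorem allReal_aux : ∀ (n : ℕ) {G : Type u} [Group G] [Fintype G], Group.IsSolvable G →
    Nat.card G ≤ n → ∀ {P : Type u} [Group P] [Fintype P] (ι : P →* G), Function.Injective ι →
    IsPGroup 2 P → Odd ι.range.index → SelfNormalizing ι → LinReal P → AllReal G := by
  intro n
  induction n with
  | zero => intro G _ _ _ hn; exact absurd hn (not_le.2 Nat.card_pos)
  | succ n ih =>
    intro G _ _ hsol hn P _ _ ι hι hP hodd hSN hE χ hχ hχodd
    have := hsol
    have : Fact (Nat.Prime 2) := ⟨Nat.prime_two⟩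
    rcases subsingleton_or_nontrivial G with hG | hG
    · intro g
      rw [Subsingleton.elim g 1, (deg_spec hχ).1]
      simp
    obtain ⟨M, hM⟩ := Core.exists_isMinNormal (G := G)
    have := hM.normal
    have := hM.isMulCommutative
    obtain ⟨r, hr, hMp, hMr⟩ := hM.exists_isPGroup
    have hlt := card_quotient_lt hM.ne_bot
    rcases hr.eq_two_or_odd' with rfl | hrodd
    · have hMR := le_range_of_isPGroup (ι := ι) hP hodd hMp
      obtain ⟨j, hj⟩ := exists_section hι hMR
      obtain ⟨ξ, hξ, hξodd⟩ := exists_odd_constituent (isCharacter_comp ι (IsIrr.isCharacter hχ))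
        (d := Cfsg.charDegree χ) (by simpa using (deg_spec hχ).1) hχodd
      obtain ⟨ν, hν⟩ := exists_hom_of_odd hP ξ.2 hξodd
      rw [hν] at hξ
      have hsν := hE ν
      obtain ⟨ψ, hψ, hd, hind, -, -, -, -⟩ := exists_corr_InR hι hj hχ hχodd hξ
      by_cases htop : inertia (G := G) (lin (ν.comp j)) = ⊤
      · obtain ⟨μ, hμ, hμM⟩ := exists_extension hι hodd hj hsν htop
        have hker : ∀ m ∈ M, χ m * (μ m : ℂ) = χ 1 * (μ 1 : ℂ) := fun m hm => by
          rw [res_of_inertia_eq_top hχ (over_of_InR hj (IsIrr.isCharacter hχ) hξ) htop ⟨m, hm⟩,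
            hμM ⟨m, hm⟩, map_one, Units.val_one, mul_one, mul_assoc, MonoidHom.comp_apply,
            mul_self_eq_one hsν, mul_one]
        obtain ⟨φ, hφ, he⟩ := IsIrr.exists_quotient M (isIrr_mul_hom hχ μ) hker
        have hSN' : SelfNormalizing (quotMap M ι) := fun q hq => by
          obtain ⟨g, rfl⟩ := QuotientGroup.mk_surjective q
          obtain ⟨x, hx⟩ := hSN g (conj_mem_range M hMR hq)
          exact ⟨(x : P ⧸ M.comap ι), by rw [quotMap_mk, hx]⟩
        have hE' : LinReal (P ⧸ M.comap ι) := fun f q => by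
          obtain ⟨x, rfl⟩ := QuotientGroup.mk_surjective q
          exact hE (f.comp (QuotientGroup.mk' _)) x
        have hre := ih inferInstance (by omega) (quotMap M ι) (injective_quotMap M)
          (hP.to_quotient _) (odd_index_quotMap M hodd) hSN' hE' φ hφ (by
            rw [charDegree_descend he]; simpa [Cfsg.charDegree] using hχodd)
        intro g
        have h1 := hre (g : G ⧸ M)
        rw [← he g, Complex.mul_im, real_of_sq_eq_one hμ g, mul_zero, zero_add] at h1
        refine (mul_eq_zero.1 h1).resolve_right fun h2 => Units.ne_zero (μ g) ?_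
        exact Complex.ext h2 (real_of_sq_eq_one hμ g)
      · have hT' := card_lt_of_ne_top htop
        have hre := ih inferInstance (by omega)
          (ι.codRestrict _ fun x => range_le_inertia hι hj ν ⟨x, rfl⟩)
          (fun a b e => hι (congrArg Subtype.val e)) hP
          (odd_index_codRestrict hodd _ _) (fun t ht => by
            obtain ⟨x, hx⟩ := hSN (t : G) fun x => by
              obtain ⟨y, hy⟩ := ht x
              exact ⟨y, congrArg Subtype.val hy⟩
            exact ⟨x, Subtype.ext hx⟩) hE ψ hψ hd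
        intro g
        rw [← hind, indFun_apply, ← Complex.conj_eq_iff_im]
        simp only [map_mul, map_inv₀, map_natCast, map_sum]
        refine congrArg _ (Finset.sum_congr rfl fun y _ => ?_)
        by_cases hy : y⁻¹ * g * y ∈ inertia (G := G) (lin (ν.comp j))
        · rw [extendByZero_of_mem _ _ hy]
          exact Complex.conj_eq_iff_im.2 (hre _)
        · rw [extendByZero_of_not_mem _ _ hy, map_zero]
    · -- `M` has odd order
      have hMo : Odd (Nat.card M) := by
        have := Fact.mk hr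
        obtain ⟨k, hk⟩ := IsPGroup.iff_card.1 hMp
        rw [hk]; exact hrodd.pow
      have hinj := injective_mk_comp M hι hP hMo
      obtain ⟨φ₀, h0⟩ := exists_constituent_res (N := M) hχ
      obtain ⟨hio, -⟩ := exists_odd_orbit M hχ hχodd φ₀.2 h0
      set T := inertia (G := G) (φ₀ : M → ℂ) with hT
      obtain ⟨S⟩ := (inferInstance : Nonempty (Sylow 2 T))
      set S' := (S : Subgroup T).map T.subtype
      have hS'odd : Odd S'.index := by
        have h1 := Subgroup.index_map_subtype (H := T) (S : Subgroup T)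
        rw [h1]
        exact (Nat.odd_iff.2 (Nat.two_dvd_ne_zero.1 S.not_dvd_index)).mul hio
      obtain ⟨t, -, htR⟩ := exists_conj_le ⊤ (S.isPGroup'.map T.subtype)
        (by rwa [Subgroup.relIndex_top_right]) le_top (isPGroup_range (ι := ι) hP)
        (by rwa [Subgroup.relIndex_top_right]) le_top
      set φ := conjFun t (φ₀ : M → ℂ) with hφdef
      have hφ : Cfsg.IsIrrCharacter M φ := isIrr_conjFun t φ₀.2
      have hφc : Cfsg.classInner (fun m : M => χ m) φ ≠ 0 := by
        rw [← conjFun_res t (isClassFunction_of_isIrr hχ), hφdef, classInner_conjFun]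
        exact h0
      have hfix : ∀ x, conjFun (ι x) φ = φ := fun x => by
        have h1 : t * ι x * t⁻¹ ∈ T := Subgroup.map_subtype_le _ (htR _ ⟨x, rfl⟩)
        rw [hφdef, conjFun_conjFun, show t * ι x = t * ι x * t⁻¹ * t by group, ← conjFun_conjFun,
          show conjFun (t * ι x * t⁻¹) (φ₀ : M → ℂ) = φ₀ from h1]
      obtain ⟨f, hf⟩ := IsChar.exists_hom (IsIrr.isCharacter hφ)
        (IsIrr.degree_one_of_isMulCommutative hφ)
      have hf1 : f = 1 := by
        refine MonoidHom.ext fun m => ?_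
        let E : P → MulAut M := fun x => MulAut.conjNormal (ι x)
        let : CommGroup M := { (inferInstance : Group M) with mul_comm := mul_comm' }
        set c : M := ∏ x : P, E x m with hc
        have hEc : ∀ y, E y c = c := fun y => by
          rw [hc, map_prod]
          refine Fintype.prod_equiv (Equiv.mulLeft y) _ _ fun x => ?_
          simp [E, MulAut.mul_apply]
        have hc1 : c = 1 := by
          have h1 : (c : G) ∈ ι.range ⊓ M := by
            refine ⟨hSN _ fun x => ⟨x, ?_⟩, c.2⟩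
            have h2 : ι x * (c : G) * (ι x)⁻¹ = c := congrArg Subtype.val (hEc x)
            calc ι x = ι x * (c : G) * (ι x)⁻¹ * ι x * (c : G)⁻¹ := by group
              _ = (c : G) * ι x * (c : G)⁻¹ := by rw [h2]
          rw [inf_range_eq_bot M hP hMo, Subgroup.mem_bot] at h1
          exact Subtype.ext h1
        have h2 : f m ^ Nat.card P = 1 := by
          have h3 : ∀ x, f (E x m) = f m := fun x => by
            refine Units.ext ?_
            have := congrFun (hfix x) m
            rw [hf] at this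
            exact this
          rw [Nat.card_eq_fintype_card, ← Finset.card_univ, ← Finset.prod_const,
            ← Finset.prod_congr rfl fun x _ => h3 x, ← map_prod, ← hc, hc1, map_one]
        obtain ⟨k, hk⟩ := IsPGroup.iff_card.1 hP
        rw [hk] at h2
        rw [MonoidHom.one_apply, ← orderOf_eq_one_iff]
        refine Nat.eq_one_of_dvd_coprimes ((Nat.coprime_two_left.2 hMo).pow_left k)
          (orderOf_dvd_of_pow_eq_one h2) ?_
        exact (orderOf_map_dvd f m).trans (orderOf_dvd_natCard m)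
      have hker := kernel_of_trivial_constituent M hχ (by
        rw [show lin (1 : M →* ℂˣ) = φ by rw [hf, hf1]; rfl]
        exact hφc)
      obtain ⟨ψ, hψ, he⟩ := IsIrr.exists_quotient M hχ hker
      have hSN' : SelfNormalizing ((QuotientGroup.mk' M).comp ι) := fun q hq => by
        obtain ⟨g, rfl⟩ := QuotientGroup.mk_surjective q
        set Q := ι.range.map (MulAut.conj g).toMonoidHom
        have hQH : Q ≤ M ⊔ ι.range := by
          rintro - ⟨-, ⟨x, rfl⟩, rfl⟩
          obtain ⟨y, hy⟩ := hq x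
          show g * ι x * g⁻¹ ∈ _
          have h1 : g * ι x * g⁻¹ * (ι y)⁻¹ ∈ M := by
            rw [← QuotientGroup.eq_one_iff]
            simp only [QuotientGroup.mk_mul, QuotientGroup.mk_inv]
            rw [show ((ι y : G) : G ⧸ M) = _ from hy]
            simp
          have h2 := Subgroup.mul_mem (M ⊔ ι.range) (Subgroup.mem_sup_left h1)
            (Subgroup.mem_sup_right (⟨y, rfl⟩ : ι y ∈ ι.range))
          simpa using h2
        have hQidx : Q.index = ι.range.index :=
          Subgroup.index_map_of_bijective (MulAut.conj g).bijective _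
        obtain ⟨t', ht', htQ⟩ := exists_conj_le (M ⊔ ι.range) (isPGroup_range (ι := ι) hP)
          (hodd.of_dvd_nat (Subgroup.relIndex_dvd_index_of_le le_sup_right)) le_sup_right
          ((isPGroup_range (ι := ι) hP).map _)
          ((hQidx.symm ▸ hodd).of_dvd_nat (Subgroup.relIndex_dvd_index_of_le hQH)) hQH
        obtain ⟨x₁, hx₁⟩ := hSN (t' * g) fun x => by
          have := htQ _ ⟨ι x, ⟨x, rfl⟩, rfl⟩
          simpa [mul_assoc] using this
        obtain ⟨m₀, hm₀, w, ⟨z, rfl⟩, htm⟩ := Subgroup.mem_sup_of_normal_left.1 ht'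
        refine ⟨z⁻¹ * x₁, ?_⟩
        rw [← htm] at hx₁
        show ((ι (z⁻¹ * x₁) : G) : G ⧸ M) = _
        rw [map_mul, hx₁, map_inv]
        simp [(QuotientGroup.eq_one_iff m₀).2 hm₀, mul_assoc]
      have hre := ih inferInstance (by omega) _ hinj hP (odd_index_mk_comp M hodd) hSN' hE ψ hψ
        (by rw [charDegree_descend he]; exact hχodd)
      intro g
      rw [he]
      exact hre _

/-- When all odd degree characters are real the Sylow subgroup is self normalizing and has only
real linear characters. -/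
theorem of_allReal_aux : ∀ (n : ℕ) {G : Type u} [Group G] [Fintype G], Group.IsSolvable G →
    Nat.card G ≤ n → ∀ {P : Type u} [Group P] [Fintype P] (ι : P →* G), Function.Injective ι →
    IsPGroup 2 P → Odd ι.range.index → AllReal G → SelfNormalizing ι ∧ LinReal P := by
  intro n
  induction n with
  | zero => intro G _ _ _ hn; exact absurd hn (not_le.2 Nat.card_pos)
  | succ n ih =>
    intro G _ _ hsol hn P _ _ ι hι hP hodd hall
    have := hsol
    have : Fact (Nat.Prime 2) := ⟨Nat.prime_two⟩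
    rcases subsingleton_or_nontrivial G with hG | hG
    · have : Subsingleton P := hι.subsingleton
      exact ⟨fun g _ => Subsingleton.elim (1 : G) g ▸ Subgroup.one_mem _,
        fun f x => by rw [Subsingleton.elim x 1, map_one, one_pow]⟩
    obtain ⟨M, hM⟩ := Core.exists_isMinNormal (G := G)
    have := hM.normal
    have := hM.isMulCommutative
    obtain ⟨r, hr, hMp, hMr⟩ := hM.exists_isPGroup
    have hlt := card_quotient_lt hM.ne_bot
    have hall' : AllReal (G ⧸ M) := fun φ hφ ho q => by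
      obtain ⟨g, rfl⟩ := QuotientGroup.mk_surjective q
      refine hall _ (isIrrCharacter_mk M hφ) ?_ g
      simpa [Cfsg.charDegree] using ho
    rcases hr.eq_two_or_odd' with rfl | hrodd
    · have hMR := le_range_of_isPGroup (ι := ι) hP hodd hMp
      obtain ⟨j, hj⟩ := exists_section hι hMR
      obtain ⟨hSN', hE'⟩ := ih inferInstance (by omega) (quotMap M ι) (injective_quotMap M)
        (hP.to_quotient _) (odd_index_quotMap M hodd) hall'
      refine ⟨fun g hg => ?_, fun f => ?_⟩
      · obtain ⟨q, hq⟩ := hSN' (g : G ⧸ M) fun r => by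
          obtain ⟨x, rfl⟩ := QuotientGroup.mk_surjective r
          obtain ⟨y, hy⟩ := hg x
          exact ⟨(y : P ⧸ M.comap ι), by rw [quotMap_mk, hy]; rfl⟩
        obtain ⟨x, rfl⟩ := QuotientGroup.mk_surjective q
        rw [quotMap_mk, QuotientGroup.eq] at hq
        have := Subgroup.mul_mem _ (⟨x, rfl⟩ : ι x ∈ ι.range) (hMR hq)
        simpa using this
      -- a constituent of the induced character of `f`
      set e := MonoidHom.ofInjective hι with he
      have hfc : Cfsg.IsCharacter ι.range (lin (f.comp e.symm.toMonoidHom)) :=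
        IsIrr.isCharacter (isIrr_lin _)
      obtain ⟨χ, hχc, hχodd⟩ := exists_odd_constituent (isCharacter_indFun ι.range hfc)
        (d := ι.range.index) (by rw [indFun_apply_one]; simp [lin]) hodd
      have hχr := hall _ χ.2 hχodd
      have hi : InR ι (χ : G → ℂ) f := by
        intro h0
        apply hχc
        rw [classInner_indFun_left _ _ (isClassFunction_of_isIrr χ.2), ← classInner_conj_symm,
          map_eq_zero, ← h0]
        simp only [Cfsg.classInner, lin]
        rw [Nat.card_congr e.toEquiv.symm]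
        refine congrArg _ (Fintype.sum_equiv e.symm.toEquiv _ _ fun y => ?_)
        show _ = (χ : G → ℂ) (ι (e.symm y)) * _
        rw [show ι (e.symm y) = (y : G) from congrArg Subtype.val (e.apply_symm_apply y)]
        rfl
      obtain ⟨ψ, hψ, hd, -, -, ⟨c, hc, hres⟩, -, hre⟩ := exists_corr_InR hι hj χ.2 hχodd hi
      have hflam : ∀ m : M, f (j m) ^ 2 = 1 := fun m => by
        rw [← map_pow, ← map_pow, show m ^ 2 = 1 from Subtype.ext (by simpa using hMr m m.2),
          map_one, map_one]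
      set T := inertia (G := G) (lin (f.comp j)) with hT
      set ιT : P →* T := ι.codRestrict _ fun x => range_le_inertia hι hj f ⟨x, rfl⟩ with hιT
      obtain ⟨ν, hsν, hiν⟩ := exists_InR (ι := ιT) hP hψ ⟨hre hχr hflam, hd⟩
      -- `ν` agrees with `f` on `M`
      have hνj : ν.comp j = f.comp j := by
        have h1 := through_ne_zero (isCharacter_comp ιT (IsIrr.isCharacter hψ)) j (isIrr_lin ν)
          (IsIrr.isCharacter (isIrr_lin (ν.comp j))) hiν (by
            rw [show (fun k => lin ν (j k)) = lin (ν.comp j) from rfl,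
              classInner_irr_self (isIrr_lin (ν.comp j))]
            exact one_ne_zero)
        have e1 : ∀ m : M, ιT (j m) =
            ⟨m, le_inertia (isClassFunction_of_isIrr (isIrr_lin (f.comp j))) m.2⟩ :=
          fun m => Subtype.ext (hj m)
        simp only [e1, hres] at h1
        by_contra hne
        refine h1 ?_
        rw [show (fun m : M => c * lin (f.comp j) m) = c • lin (f.comp j) from rfl,
          classInner_smul_left, classInner_irr_ne (isIrr_lin _) (isIrr_lin _)
            (fun e2 => hne (lin_injective e2).symm), mul_zero]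
      -- the extension of the restriction to `T`
      have hMT : M ≤ T := le_inertia (isClassFunction_of_isIrr (isIrr_lin (f.comp j)))
      have hTodd : Odd ιT.range.index := odd_index_codRestrict hodd _ _
      have hMR' : M.subgroupOf T ≤ ιT.range := fun m hm =>
        ⟨j ⟨(m : G), hm⟩, Subtype.ext (hj _)⟩
      let eT := MonoidHom.ofInjective (f := ιT) (fun a b e => hι (congrArg Subtype.val e))
      have heT : ∀ m : M.subgroupOf T, eT.symm ⟨(m : T), hMR' m.2⟩ = j ⟨((m : T) : G), m.2⟩ :=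
        fun m => by
          rw [MulEquiv.symm_apply_eq]
          exact Subtype.ext (Subtype.ext (hj ⟨((m : T) : G), m.2⟩).symm)
      obtain ⟨μ, hμ, hμM⟩ := exists_transfer ιT.range (M := M.subgroupOf T) hTodd hMR'
        (ν.comp eT.symm.toMonoidHom) (fun x => hsν _) (fun g m hm => by
          have h1 := congrFun (mem_inertia.1 g.2) ⟨((m : T) : G), hm⟩
          refine Units.ext ?_
          show ((ν (eT.symm ⟨_, _⟩) : ℂˣ) : ℂ) = ((ν (eT.symm ⟨m, _⟩) : ℂˣ) : ℂ)
          rw [heT ⟨m, hm⟩, heT ⟨g * m * g⁻¹, Subgroup.Normal.conj_mem inferInstance m hm g⟩]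
          simp only [← MonoidHom.comp_apply, hνj]
          exact h1)
      have hμj : ∀ m : M, μ (ιT (j m)) = f (j m) := fun m => by
        have h1 : ιT (j m) ∈ M.subgroupOf T := by
          show ι (j m) ∈ M
          rw [hj]; exact m.2
        rw [hμM _ h1]
        show ν (eT.symm _) = _
        rw [show eT.symm ⟨ιT (j m), _⟩ = j m from eT.symm_apply_apply (j m)]
        exact DFunLike.congr_fun hνj m
      have hle : M.comap ι ≤ (f * μ.comp ιT).ker := fun x hx => by
        rw [MonoidHom.mem_ker, MonoidHom.mul_apply, MonoidHom.comp_apply]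
        have h1 : x = j ⟨ι x, hx⟩ := hι (hj ⟨ι x, hx⟩).symm
        rw [h1, hμj, ← sq, hflam]
      intro x
      have h2 := hE' (QuotientGroup.lift _ (f * μ.comp ιT) hle) (x : P ⧸ M.comap ι)
      rw [QuotientGroup.lift_mk, MonoidHom.mul_apply, MonoidHom.comp_apply, mul_pow, hμ,
        mul_one] at h2
      exact h2
    · have hMo : Odd (Nat.card M) := by
        have := Fact.mk hr
        obtain ⟨k, hk⟩ := IsPGroup.iff_card.1 hMp
        rw [hk]; exact hrodd.pow
      have hinj := injective_mk_comp M hι hP hMo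
      obtain ⟨hSN', hE'⟩ := ih inferInstance (by omega) _ hinj hP (odd_index_mk_comp M hodd) hall'
      -- no element of `M` centralizes the Sylow subgroup
      have hC : ∀ c : M, (∀ x, ι x * (c : G) * (ι x)⁻¹ = c) → c = 1 := by
        intro c hc
        by_contra hne
        let : CommGroup M := { (inferInstance : Group M) with mul_comm := mul_comm' }
        obtain ⟨χ₀, hχ₀⟩ := exists_irr_ne_at_one (G := M) hne
        obtain ⟨f₀, hf₀⟩ := IsChar.exists_hom (IsIrr.isCharacter χ₀.2)
          (IsIrr.degree_one_of_isMulCommutative χ₀.2)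
        let E : P → MulAut M := fun x => MulAut.conjNormal (ι x)
        let f : M →* ℂˣ := MonoidHom.mk' (fun m => ∏ x : P, f₀ (E x m)) fun a b => by
          rw [← Finset.prod_mul_distrib]
          exact Finset.prod_congr rfl fun x _ => by rw [map_mul, map_mul]
        have hfinv : ∀ (y : P) (m : M), f (E y m) = f m := fun y m => by
          show ∏ x : P, f₀ (E x (E y m)) = ∏ x : P, f₀ (E x m)
          refine Fintype.prod_equiv (Equiv.mulRight y) _ _ fun x => ?_
          simp [E]
        have hfc : f c ≠ 1 := by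
          show (∏ x : P, f₀ (E x c)) ≠ 1
          rw [Finset.prod_congr rfl fun x _ => show f₀ (E x c) = f₀ c from
            congrArg f₀ (Subtype.ext (hc x)), Finset.prod_const, Finset.card_univ,
            ← Nat.card_eq_fintype_card]
          intro h1
          obtain ⟨k, hk⟩ := IsPGroup.iff_card.1 hP
          rw [hk] at h1
          refine hχ₀ ?_
          have h2 : f₀ c = 1 := orderOf_eq_one_iff.1 (Nat.eq_one_of_dvd_coprimes
            ((Nat.coprime_two_left.2 hMo).pow_left k) (orderOf_dvd_of_pow_eq_one h1)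
            ((orderOf_map_dvd f₀ c).trans (orderOf_dvd_natCard c)))
          rw [hf₀]
          simp [h2]
        set H := M ⊔ ι.range with hH
        have hdec : ∀ h : H, ∃ q : M × P, ((q.1 : G) * ι q.2) = (h : G) := fun h => by
          obtain ⟨a, ha, b, ⟨x, rfl⟩, e⟩ := Subgroup.mem_sup_of_normal_left.1 h.2
          exact ⟨(⟨a, ha⟩, x), e⟩
        choose d hd using hdec
        have huniq : ∀ (a b : M) (x y : P), (a : G) * ι x = b * ι y → a = b := fun a b x y e => by
          have h1 : ι (y * x⁻¹) = (b : G)⁻¹ * a := by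
            rw [map_mul, map_inv, show ι y = (b : G)⁻¹ * (a * ι x) by rw [e]; group]
            group
          have h2 : ι (y * x⁻¹) ∈ ι.range ⊓ M :=
            ⟨⟨_, rfl⟩, h1 ▸ M.mul_mem (M.inv_mem b.2) a.2⟩
          rw [inf_range_eq_bot M hP hMo, Subgroup.mem_bot, h1, inv_mul_eq_one] at h2
          exact Subtype.ext h2.symm
        let F : H →* ℂˣ := MonoidHom.mk' (fun h => f (d h).1) fun a b => by
          have e : (d (a * b)).1 = (d a).1 * E (d a).2 (d b).1 := by
            refine huniq _ _ (d (a * b)).2 ((d a).2 * (d b).2) ?_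
            rw [hd, Subgroup.coe_mul, ← hd a, ← hd b, map_mul, Subgroup.coe_mul]
            show _ = ((d a).1 : G) * (ι (d a).2 * (d b).1 * (ι (d a).2)⁻¹) * _
            group
          rw [e, map_mul, hfinv]
        have hHodd : Odd H.index := hodd.of_dvd_nat (Subgroup.index_dvd_of_le le_sup_right)
        obtain ⟨χ, hχc, hχodd⟩ := exists_odd_constituent
          (isCharacter_indFun H (IsIrr.isCharacter (isIrr_lin F)))
          (d := H.index) (by rw [indFun_apply_one]; simp [lin]) hHodd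
        rw [classInner_indFun_left _ _ (isClassFunction_of_isIrr χ.2), ← classInner_conj_symm,
          map_ne_zero] at hχc
        have hker := kernel_of_odd M χ.2 ⟨hall _ χ.2 hχodd, hχodd⟩ hMo
        have h1 := IsChar.constituent_kernel (isCharacter_res H (IsIrr.isCharacter χ.2))
          (isIrr_lin F) hχc (g := ⟨c, Subgroup.mem_sup_left c.2⟩)
          (by simpa using hker c c.2)
        apply hfc
        refine Units.ext ?_
        simp only [lin, map_one, Units.val_one] at h1
        rw [Units.val_one, ← h1]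
        have hcd : c = (d ⟨(c : G), Subgroup.mem_sup_left c.2⟩).1 :=
          huniq _ _ 1 (d ⟨(c : G), Subgroup.mem_sup_left c.2⟩).2 (by rw [hd, map_one, mul_one])
        show ((f c : ℂˣ) : ℂ) = ((f (d ⟨(c : G), Subgroup.mem_sup_left c.2⟩).1 : ℂˣ) : ℂ)
        exact congrArg (fun a => ((f a : ℂˣ) : ℂ)) hcd
      refine ⟨fun g hg => ?_, hE'⟩
      obtain ⟨x, hx⟩ := hSN' (g : G ⧸ M) fun y => by
        obtain ⟨z, hz⟩ := hg y
        exact ⟨z, by show ((ι z : G) : G ⧸ M) = _; rw [hz]; rfl⟩
      have hn : (ι x)⁻¹ * g ∈ M := QuotientGroup.eq.1 hx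
      have hc := hC ⟨_, hn⟩ fun y => by
        obtain ⟨z, hz⟩ := hg y
        have h1 : (ι x)⁻¹ * g * ι y * ((ι x)⁻¹ * g)⁻¹ = ι (x⁻¹ * z * x) := by
          rw [map_mul, map_mul, map_inv, hz]
          group
        have h2 : y = x⁻¹ * z * x := hinj (by
          show ((ι y : G) : G ⧸ M) = (ι (x⁻¹ * z * x) : G)
          rw [← h1, QuotientGroup.mk_mul, QuotientGroup.mk_mul, QuotientGroup.mk_inv,
            (QuotientGroup.eq_one_iff _).2 hn, one_mul, inv_one, mul_one])
        rw [← h2] at h1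
        show ι y * ((ι x)⁻¹ * g) * (ι y)⁻¹ = (ι x)⁻¹ * g
        calc ι y * ((ι x)⁻¹ * g) * (ι y)⁻¹
            = (ι x)⁻¹ * g * ι y * ((ι x)⁻¹ * g)⁻¹ * ((ι x)⁻¹ * g) * (ι y)⁻¹ := by rw [h1]
          _ = (ι x)⁻¹ * g := by group
      have h3 : (ι x)⁻¹ * g = 1 := congrArg Subtype.val hc
      exact ⟨x, inv_mul_eq_one.1 h3⟩

end Cfsg.Agent.Char.RealOddSylow

namespace Cfsg.Agent.Char.RealOddSylow

open Cfsg.Agent Cfsg.Agent.Char

universe v

variable {G P : Type v} [Group G] [Fintype G] [Group P] [Fintype P] {ι : P →* G}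

/-- The real linear characters of the Sylow subgroup, up to conjugation. -/
def conjSetoid (ι : P →* G) : Setoid {ν : P →* ℂˣ // ∀ x, ν x ^ 2 = 1} where
  r a b := Conj ι a.1 b.1
  iseqv := ⟨fun a => Conj.refl ι a.1, Conj.symm, Conj.trans⟩

/-- A real linear character of the Sylow subgroup is a constituent of some real character of odd
degree. -/
theorem exists_RO_over (hι : Function.Injective ι) (hodd : Odd ι.range.index) {f : P →* ℂˣ}
    (hsq : ∀ x, f x ^ 2 = 1) :
    ∃ χ : Cfsg.IrrCharacter G, RO (χ : G → ℂ) ∧ InR ι (χ : G → ℂ) f := by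
  set e := MonoidHom.ofInjective hι with he
  have hfc : Cfsg.IsCharacter ι.range (lin (f.comp e.symm.toMonoidHom)) :=
    IsIrr.isCharacter (isIrr_lin _)
  have hreal : ∀ g, (Cfsg.indFun ι.range (lin (f.comp e.symm.toMonoidHom)) g).im = 0 := by
    intro g
    rw [indFun_apply, ← Complex.conj_eq_iff_im]
    simp only [map_mul, map_inv₀, map_natCast, map_sum]
    refine congrArg _ (Finset.sum_congr rfl fun y _ => ?_)
    by_cases hy : y⁻¹ * g * y ∈ ι.range
    · rw [extendByZero_of_mem _ _ hy]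
      exact Complex.conj_eq_iff_im.2
        (real_of_sq_eq_one (f := f.comp e.symm.toMonoidHom) (fun x => hsq _) _)
    · rw [extendByZero_of_not_mem _ _ hy, map_zero]
  obtain ⟨χ, hχc, hχ⟩ := exists_RO_constituent (isCharacter_indFun ι.range hfc) hreal
    (d := ι.range.index) (by rw [indFun_apply_one]; simp [lin]) hodd
  refine ⟨χ, hχ, fun h0 => ?_⟩
  apply hχc
  rw [classInner_indFun_left _ _ (isClassFunction_of_isIrr χ.2), ← classInner_conj_symm,
    map_eq_zero, ← h0]
  simp only [Cfsg.classInner, lin]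
  rw [Nat.card_congr e.toEquiv.symm]
  refine congrArg _ (Fintype.sum_equiv e.symm.toEquiv _ _ fun y => ?_)
  show _ = (χ : G → ℂ) (ι (e.symm y)) * _
  rw [show ι (e.symm y) = (y : G) from congrArg Subtype.val (e.apply_symm_apply y)]
  rfl

/-- The real characters of odd degree of a solvable group are counted by the orbits of real linear
characters of a Sylow 2-subgroup. -/
theorem card_RO (hsol : Group.IsSolvable G) (hι : Function.Injective ι) (hP : IsPGroup 2 P)
    (hodd : Odd ι.range.index) :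
    Nat.card {χ : Cfsg.IrrCharacter G // RO (χ : G → ℂ)} = Nat.card (Quotient (conjSetoid ι)) := by
  choose ν hν hi using fun χ : {χ : Cfsg.IrrCharacter G // RO (χ : G → ℂ)} =>
    exists_InR (ι := ι) hP χ.1.2 χ.2
  refine Nat.card_congr (Equiv.ofBijective (fun χ => Quotient.mk (conjSetoid ι) ⟨ν χ, hν χ⟩)
    ⟨fun a b e => ?_, fun q => ?_⟩)
  · have hc : Conj ι (ν a) (ν b) := Quotient.exact e
    exact Subtype.ext (Subtype.ext (unique_aux _ hsol le_rfl ι hι hP hodd _ _ a.1.2 b.1.2 a.2 b.2
      (ν b) (ν b) (hν b) (hν b) ((hi a).of_conj (isClassFunction_of_isIrr a.1.2) hc) (hi b)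
      (Or.inr rfl)).1)
  · induction q using Quotient.ind with
    | _ f =>
      obtain ⟨χ, hχ, hin⟩ := exists_RO_over hι hodd f.2
      exact ⟨⟨χ, hχ⟩, Quotient.sound (s := conjSetoid ι)
        (unique_aux _ hsol le_rfl ι hι hP hodd _ _ χ.2 χ.2 hχ hχ _ _ (hν ⟨χ, hχ⟩) f.2
          (hi ⟨χ, hχ⟩) hin (Or.inl rfl)).2⟩

end Cfsg.Agent.Char.RealOddSylow

namespace Cfsg.Agent.Char.RealOddSylow

open Cfsg.Agent Cfsg.Agent.Char

universe w

/-- All linear characters of a 2-group are real iff the derived group is the Frattini subgroup. -/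
theorem linReal_iff {P : Type w} [Group P] [Finite P] (hP : IsPGroup 2 P) :
    LinReal P ↔ commutator P = frattini P := by
  have : Fact (Nat.Prime 2) := ⟨Nat.prime_two⟩
  have := hP.isNilpotent
  constructor
  · intro h
    refine le_antisymm Core.commutator_le_frattini
      (Agent.Fusion.frattini_le_of_elementary (p := 2) (commutator P) le_rfl fun x => ?_)
    rw [← QuotientGroup.eq_one_iff]
    refine eq_one_of_forall_irr fun χ => ?_
    have hc : ∀ a b : P ⧸ commutator P, a * b = b * a := fun a b => by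
      obtain ⟨a, rfl⟩ := QuotientGroup.mk_surjective a
      obtain ⟨b, rfl⟩ := QuotientGroup.mk_surjective b
      exact mul_comm (Abelianization.of a) (Abelianization.of b)
    obtain ⟨f, hf⟩ := IsChar.exists_hom (IsIrr.isCharacter χ.2) (IsIrr.degree_one_of_comm χ.2 hc)
    have h1 := h (f.comp (QuotientGroup.mk' (commutator P))) x
    rw [← map_pow, MonoidHom.comp_apply, QuotientGroup.mk'_apply] at h1
    rw [hf]
    show ((f ((x ^ 2 : P) : P ⧸ commutator P) : ℂˣ) : ℂ) = ((f 1 : ℂˣ) : ℂ)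
    rw [h1, map_one]
  · intro h f x
    rw [← map_pow]
    exact hom_commutator_eq_one f (h ▸ Core.pow_mem_frattini hP x)

end Cfsg.Agent.Char.RealOddSylow
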