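import Cfsg.Agent.Char.CliffordCorr
import Cfsg.Agent.Char.Perm
import Cfsg.Agent.Char.Linear
import Cfsg.Agent.Char.UniqueDivisible
import Cfsg.Agent.Char.Glauberman.Basic
import Cfsg.Agent.CharArith.Basic

/-!
# Tools for real irreducible characters of odd degree

A Sylow 2-subgroup is given by an injective homomorphism `ι : P →* G` from a 2-group whose range
has odd index.
-/

set_option autoImplicit false

open scoped Classical ComplexConjugate

namespace Cfsg.Agent.Char.RealOddSylow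

open Cfsg.Agent Cfsg.Agent.Char

universe u

variable {G : Type u} [Group G] [Fintype G]

/-- Real valued of odd degree. -/
def RO (χ : G → ℂ) : Prop := (∀ g, (χ g).im = 0) ∧ Odd (Cfsg.charDegree χ)

/-- A linear character as a function. -/
noncomputable def lin {P : Type u} [Group P] (ν : P →* ℂˣ) : P → ℂ := fun x => (ν x : ℂ)

/-- `ν` is a constituent of the pullback of `χ`. -/
def InR {P : Type u} [Group P] [Fintype P] (ι : P →* G) (χ : G → ℂ) (ν : P →* ℂˣ) : Prop :=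
  Cfsg.classInner (fun x => χ (ι x)) (lin ν) ≠ 0

omit [Fintype G] in
theorem isIrr_lin (f : G →* ℂˣ) : Cfsg.IsIrrCharacter G (lin f) := isIrrCharacter_hom f

omit [Fintype G] in
theorem deg_spec [Finite G] {χ : G → ℂ} (h : Cfsg.IsIrrCharacter G χ) :
    χ 1 = (Cfsg.charDegree χ : ℂ) ∧ 0 < Cfsg.charDegree χ :=
  CharArith.irr_degree_spec ⟨χ, h⟩

omit [Fintype G] in
theorem lin_injective {f f' : G →* ℂˣ} (h : lin f = lin f') : f = f' :=
  MonoidHom.ext fun g => Units.ext (congrFun h g)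

section Through

variable {K : Type u} [Group K] [Fintype K]

/-- A constituent of a pullback is a constituent of the pullback of a constituent. -/
theorem exists_through {Θ : G → ℂ} (hΘ : Cfsg.IsCharacter G Θ) (ι : K →* G) {θ : K → ℂ}
    (h : Cfsg.classInner (fun k => Θ (ι k)) θ ≠ 0) :
    ∃ ψ : Cfsg.IrrCharacter G, Cfsg.classInner Θ (ψ : G → ℂ) ≠ 0 ∧
      Cfsg.classInner (fun k => (ψ : G → ℂ) (ι k)) θ ≠ 0 := by
  by_contra! hall
  apply h
  obtain ⟨m, hm, he, -⟩ := IsChar.exists_mult hΘ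
  have e : (fun k => Θ (ι k)) =
      ∑ ψ : Cfsg.IrrCharacter G, (m ψ : ℂ) • fun k => (ψ : G → ℂ) (ι k) := by
    funext k
    have h1 := congrFun he (ι k)
    simp only [Finset.sum_apply, Pi.smul_apply] at h1 ⊢
    exact h1
  rw [e, classInner_sum_left]
  refine Finset.sum_eq_zero fun ψ _ => ?_
  rw [classInner_smul_left]
  by_cases h0 : m ψ = 0
  · simp [h0]
  · rw [hall ψ (by rw [hm]; exact_mod_cast h0), mul_zero]

/-- Constituents of pullbacks of constituents are constituents of the pullback. -/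
theorem through_ne_zero {Θ : G → ℂ} (hΘ : Cfsg.IsCharacter G Θ) (ι : K →* G) {ψ : G → ℂ}
    (hψ : Cfsg.IsIrrCharacter G ψ) {θ : K → ℂ} (hθ : Cfsg.IsCharacter K θ)
    (h1 : Cfsg.classInner Θ ψ ≠ 0) (h2 : Cfsg.classInner (fun k => ψ (ι k)) θ ≠ 0) :
    Cfsg.classInner (fun k => Θ (ι k)) θ ≠ 0 := by
  obtain ⟨a, ha⟩ := classInner_isCharacter_eq_natCast
    (isCharacter_comp ι (IsChar.sub_constituent hΘ hψ h1)) hθ
  obtain ⟨b, hb⟩ := classInner_isCharacter_eq_natCast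
    (isCharacter_comp ι (IsIrr.isCharacter hψ)) hθ
  have e : (fun k => Θ (ι k)) = (fun k => (Θ - ψ) (ι k)) + fun k => ψ (ι k) := by
    funext k; simp
  rw [e, classInner_add_left]
  intro h0
  have hb0 : b ≠ 0 := fun h => h2 (hb.trans (by rw [h, Nat.cast_zero]))
  have h3 : ((a + b : ℕ) : ℂ) = 0 := by
    rw [Nat.cast_add, ← ha, ← hb]; exact h0
  exact hb0 (by have := Nat.cast_eq_zero.1 h3; omega)

end Through

/-- A character of odd degree has an irreducible constituent of odd degree. -/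
theorem exists_odd_constituent {Θ : G → ℂ} (hΘ : Cfsg.IsCharacter G Θ) {d : ℕ}
    (hd : Θ 1 = (d : ℂ)) (hodd : Odd d) :
    ∃ ψ : Cfsg.IrrCharacter G, Cfsg.classInner Θ (ψ : G → ℂ) ≠ 0 ∧
      Odd (Cfsg.charDegree (ψ : G → ℂ)) := by
  obtain ⟨m, hm, he, -⟩ := IsChar.exists_mult hΘ
  have hsum : d = ∑ ψ : Cfsg.IrrCharacter G, m ψ * Cfsg.charDegree (ψ : G → ℂ) := by
    have h1 := congrFun he 1
    simp only [Finset.sum_apply, Pi.smul_apply, smul_eq_mul, hd, (deg_spec (Subtype.prop _)).1,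
      ← Nat.cast_mul, ← Nat.cast_sum] at h1
    exact_mod_cast h1
  by_contra! hall
  apply Nat.not_even_iff_odd.2 hodd
  rw [hsum, even_iff_two_dvd]
  refine Finset.dvd_sum fun ψ _ => ?_
  by_cases h0 : m ψ = 0
  · simp [h0]
  · exact Dvd.dvd.mul_left (even_iff_two_dvd.1 (Nat.not_odd_iff_even.1
      (hall ψ (by rw [hm]; exact_mod_cast h0)))) _

/-- A real character of odd degree has a real irreducible constituent of odd degree. -/
theorem exists_RO_constituent {Θ : G → ℂ} (hΘ : Cfsg.IsCharacter G Θ)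
    (hreal : ∀ g, (Θ g).im = 0) {d : ℕ} (hd : Θ 1 = (d : ℂ)) (hodd : Odd d) :
    ∃ ψ : Cfsg.IrrCharacter G, Cfsg.classInner Θ (ψ : G → ℂ) ≠ 0 ∧ RO (ψ : G → ℂ) := by
  obtain ⟨m, hm, he, -⟩ := IsChar.exists_mult hΘ
  have hsum : d = ∑ ψ : Cfsg.IrrCharacter G, m ψ * Cfsg.charDegree (ψ : G → ℂ) := by
    have h1 := congrFun he 1
    simp only [Finset.sum_apply, Pi.smul_apply, smul_eq_mul, hd, (deg_spec (Subtype.prop _)).1,
      ← Nat.cast_mul, ← Nat.cast_sum] at h1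
    exact_mod_cast h1
  set F : Cfsg.IrrCharacter G → ZMod 2 := fun ψ =>
    ((m ψ * Cfsg.charDegree (ψ : G → ℂ) : ℕ) : ZMod 2) with hF
  have hmc : ∀ ψ, m (conjIrr ψ) = m ψ := by
    intro ψ
    have h1 : Cfsg.classInner Θ (conjIrr ψ : G → ℂ) =
        conj (Cfsg.classInner Θ (ψ : G → ℂ)) := by
      simp only [Cfsg.classInner, map_mul, map_inv₀, map_natCast, map_sum, conjIrr_apply,
        Complex.conj_conj]
      congr 1
      exact Finset.sum_congr rfl fun g _ => by rw [Complex.conj_eq_iff_im.2 (hreal g)]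
    rw [hm, hm, map_natCast] at h1
    exact_mod_cast h1
  by_contra! hall
  have h0 : ∑ ψ : Cfsg.IrrCharacter G, F ψ = 0 := by
    refine Finset.sum_involution (fun ψ _ => conjIrr ψ) (fun ψ _ => ?_) (fun ψ _ hne => ?_)
      (fun _ _ => Finset.mem_univ _) (fun ψ _ => conjIrr_conjIrr ψ)
    · have hdeg : Cfsg.charDegree (conjIrr ψ : G → ℂ) = Cfsg.charDegree (ψ : G → ℂ) := by
        simp [Cfsg.charDegree]
      show F ψ + F (conjIrr ψ) = 0
      simp only [hF, hmc, hdeg]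
      exact CharTwo.add_self_eq_zero _
    · intro hfix
      have hr : ∀ g, ((ψ : G → ℂ) g).im = 0 := fun g => by
        rw [← Complex.conj_eq_iff_im, ← conjIrr_apply, hfix]
      refine hne ?_
      show ((m ψ * Cfsg.charDegree (ψ : G → ℂ) : ℕ) : ZMod 2) = 0
      rw [ZMod.natCast_eq_zero_iff_even, Nat.even_mul]
      by_cases hm0 : m ψ = 0
      · exact Or.inl (hm0 ▸ Even.zero)
      · exact Or.inr (Nat.not_odd_iff_even.1 fun ho =>
          hall ψ (by rw [hm]; exact_mod_cast hm0) ⟨hr, ho⟩)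
  simp only [hF, ← Nat.cast_sum, ← hsum, ZMod.natCast_eq_zero_iff_even] at h0
  exact Nat.not_even_iff_odd.2 hodd h0

/-- In a 2-group an irreducible character of odd degree is linear. -/
theorem exists_hom_of_odd {P : Type u} [Group P] [Fintype P] (hP : IsPGroup 2 P) {ψ : P → ℂ}
    (hψ : Cfsg.IsIrrCharacter P ψ) (hodd : Odd (Cfsg.charDegree ψ)) :
    ∃ f : P →* ℂˣ, ψ = lin f := by
  have : Fact (Nat.Prime 2) := ⟨Nat.prime_two⟩
  refine IsChar.exists_hom (IsIrr.isCharacter hψ) ?_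
  by_contra h1
  exact Nat.not_even_iff_odd.2 hodd (even_iff_two_dvd.2 (dvd_degree_of_pGroup hP hψ h1))

/-- A real linear character squares to one. -/
theorem sq_eq_one_of_real (f : G →* ℂˣ) (h : ∀ g, ((lin f) g).im = 0) (g : G) : f g ^ 2 = 1 := by
  refine Units.ext ?_
  have h1 : ‖((f g : ℂˣ) : ℂ)‖ = 1 := Complex.norm_eq_one_of_pow_eq_one
    (n := Nat.card G) (by rw [← Units.val_pow_eq_pow_val, ← map_pow, pow_card_eq_one', map_one,
      Units.val_one]) Nat.card_pos.ne'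
  have h2 : conj ((f g : ℂˣ) : ℂ) = ((f g : ℂˣ) : ℂ) := Complex.conj_eq_iff_im.2 (h g)
  rw [Units.val_pow_eq_pow_val, Units.val_one, sq]
  conv_lhs => arg 2; rw [← h2]
  rw [Complex.mul_conj, Complex.normSq_eq_norm_sq, h1]
  norm_num

omit [Fintype G] in
theorem real_of_sq_eq_one {f : G →* ℂˣ} (h : ∀ g, f g ^ 2 = 1) (g : G) : ((f g : ℂˣ) : ℂ).im = 0 := by
  have h1 : ((f g : ℂˣ) : ℂ) ^ 2 = 1 := by rw [← Units.val_pow_eq_pow_val, h g, Units.val_one]
  rcases sq_eq_one_iff.1 h1 with e | e <;> simp [e]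

omit [Fintype G] in
theorem mul_self_eq_one {f : G →* ℂˣ} (h : ∀ g, f g ^ 2 = 1) (g : G) :
    ((f g : ℂˣ) : ℂ) * (f g : ℂ) = 1 := by
  rw [← Units.val_mul, ← sq, h g, Units.val_one]

section Normal

variable (N : Subgroup G) [N.Normal] [Fintype N]

/-- Clifford's theorem in natural numbers. -/
theorem exists_odd_orbit {χ : G → ℂ} (hχ : Cfsg.IsIrrCharacter G χ)
    (hodd : Odd (Cfsg.charDegree χ)) {φ : N → ℂ} (hφ : Cfsg.IsIrrCharacter N φ)
    (h : Cfsg.classInner (fun n : N => χ n) φ ≠ 0) :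
    Odd (inertia (G := G) φ).index ∧ Odd (Cfsg.charDegree φ) := by
  obtain ⟨e, he⟩ := classInner_isCharacter_eq_natCast (isCharacter_res N (IsIrr.isCharacter hχ))
    (IsIrr.isCharacter hφ)
  have h1 := degree_eq_of_clifford hχ hφ h
  rw [he, (deg_spec hχ).1, (deg_spec hφ).1, ← Nat.cast_mul, ← Nat.cast_mul, Nat.cast_inj] at h1
  rw [h1, Nat.odd_mul, Nat.odd_mul] at hodd
  exact ⟨hodd.1.2, hodd.2⟩

/-- An odd order normal subgroup lies in the kernel of every real character of odd degree. -/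
theorem kernel_of_odd {χ : G → ℂ} (hχ : Cfsg.IsIrrCharacter G χ) (hro : RO χ)
    (hN : Odd (Nat.card N)) : ∀ n ∈ N, χ n = χ 1 := by
  obtain ⟨φ₀, h⟩ := exists_constituent_res (N := N) hχ
  obtain ⟨hodd, -⟩ := exists_odd_orbit N hχ hro.2 φ₀.2 h
  have hmem : ∀ ψ ∈ orbit (G := G) (φ₀ : N → ℂ), Cfsg.IsIrrCharacter N ψ ∧
      (fun n => conj (ψ n)) ∈ orbit (G := G) (φ₀ : N → ℂ) := by
    intro ψ hψ
    obtain ⟨g, rfl⟩ := mem_orbit.1 hψ
    have hirr := isIrr_conjFun g φ₀.2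
    refine ⟨hirr, constituent_mem_orbit hχ φ₀.2 (conjIrr ⟨_, hirr⟩).2 h ?_⟩
    have h1 : Cfsg.classInner (fun n : N => χ n) (conjFun g (φ₀ : N → ℂ)) ≠ 0 := by
      rw [← conjFun_res g (isClassFunction_of_isIrr hχ), classInner_conjFun]
      exact h
    intro h0
    apply h1
    rw [← map_eq_zero (starRingEnd ℂ), ← h0]
    simp only [Cfsg.classInner, map_mul, map_inv₀, map_natCast, map_sum, conjIrr_apply,
      Complex.conj_conj]
    congr 1
    exact Finset.sum_congr rfl fun n _ => by rw [Complex.conj_eq_iff_im.2 (hro.1 n)]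
  have hfix : ∃ ψ ∈ orbit (G := G) (φ₀ : N → ℂ), (fun n => conj (ψ n)) = ψ := by
    by_contra! hall
    have h0 : ∑ _ψ ∈ orbit (G := G) (φ₀ : N → ℂ), (1 : ZMod 2) = 0 :=
      Finset.sum_involution (fun ψ _ => fun n => conj (ψ n))
        (fun _ _ => CharTwo.add_self_eq_zero _) (fun ψ hψ _ => hall ψ hψ)
        (fun ψ hψ => (hmem ψ hψ).2) (fun ψ _ => funext fun n => Complex.conj_conj _)
    rw [Finset.sum_const, card_orbit, nsmul_one, ZMod.natCast_eq_zero_iff_even] at h0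
    exact Nat.not_even_iff_odd.2 hodd h0
  obtain ⟨ψ, hψ, hreal⟩ := hfix
  have hψ1 : ψ = fun _ => 1 := real_irr_eq_one hN (hmem ψ hψ).1 fun n =>
    Complex.conj_eq_iff_im.1 (congrFun hreal n)
  have hall : ∀ ξ ∈ orbit (G := G) (φ₀ : N → ℂ), ξ = fun _ => 1 := by
    obtain ⟨g, hg⟩ := mem_orbit.1 hψ
    have hφ1 : (φ₀ : N → ℂ) = fun _ => 1 := by
      rw [← conjFun_inv_cancel g (φ₀ : N → ℂ), hg, hψ1]
      rfl
    intro ξ hξ
    obtain ⟨g', rfl⟩ := mem_orbit.1 hξ
    rw [hφ1]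
    rfl
  intro n hn
  have e := congrFun (clifford hχ φ₀.2 h) ⟨n, hn⟩
  have e1 := congrFun (clifford hχ φ₀.2 h) 1
  simp only [Pi.smul_apply, Finset.sum_apply, OneMemClass.coe_one] at e e1
  rw [e, e1]
  congr 1
  exact Finset.sum_congr rfl fun ξ hξ => by rw [hall ξ hξ]

/-- The Clifford correspondent, with its uniqueness. -/
theorem exists_corr {χ : G → ℂ} (hχ : Cfsg.IsIrrCharacter G χ) {φ : N → ℂ}
    (hφ : Cfsg.IsIrrCharacter N φ) (h : Cfsg.classInner (fun n : N => χ n) φ ≠ 0) :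
    ∃ ψ : inertia (G := G) φ → ℂ, Cfsg.IsIrrCharacter (inertia (G := G) φ) ψ ∧
      Cfsg.indFun (inertia (G := G) φ) ψ = χ ∧
      Cfsg.classInner (fun t : inertia (G := G) φ => χ t) ψ ≠ 0 ∧
      (∃ c : ℂ, c ≠ 0 ∧ ∀ n : N, ψ ⟨n, le_inertia (isClassFunction_of_isIrr hφ) n.2⟩ = c * φ n) ∧
      ∀ ψ' : inertia (G := G) φ → ℂ, Cfsg.IsIrrCharacter (inertia (G := G) φ) ψ' →
        Cfsg.classInner (fun t : inertia (G := G) φ => χ t) ψ' ≠ 0 →
        Cfsg.classInner (fun n : N => ψ' ⟨n, le_inertia (isClassFunction_of_isIrr hφ) n.2⟩) φ ≠ 0 →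
          ψ' = ψ := by
  obtain ⟨ψ, hψ, hind, hres⟩ := clifford_correspondence hχ hφ h
  have hc : Cfsg.classInner (fun t : inertia (G := G) φ => χ t) ψ ≠ 0 := by
    have h1 : Cfsg.classInner (Cfsg.indFun (inertia (G := G) φ) ψ) χ = 1 := by
      rw [hind, classInner_irr_self hχ]
    rw [classInner_indFun_left _ _ (isClassFunction_of_isIrr hχ), ← classInner_conj_symm,
      map_eq_one_iff _ (RingHom.injective _)] at h1
    rw [h1]; exact one_ne_zero
  refine ⟨ψ, hψ, hind, hc, ⟨_, h, fun n => congrFun hres n⟩, fun ψ' hψ' h1 h2 => ?_⟩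
  by_contra hne
  have hT := isCharacter_res (inertia (G := G) φ) (IsIrr.isCharacter hχ)
  obtain ⟨m, hm, he, -⟩ := IsChar.exists_mult hT
  let inc : N →* inertia (G := G) φ :=
    Subgroup.inclusion (le_inertia (isClassFunction_of_isIrr hφ))
  have hnat : ∀ ξ : Cfsg.IrrCharacter (inertia (G := G) φ),
      ∃ a : ℕ, Cfsg.classInner (fun n : N => (ξ : inertia (G := G) φ → ℂ) (inc n)) φ = (a : ℂ) :=
    fun ξ => classInner_isCharacter_eq_natCast (isCharacter_comp inc (IsIrr.isCharacter ξ.2))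
      (IsIrr.isCharacter hφ)
  choose a ha using hnat
  obtain ⟨e, he'⟩ := classInner_isCharacter_eq_natCast (isCharacter_res N (IsIrr.isCharacter hχ))
    (IsIrr.isCharacter hφ)
  have hsum : e = ∑ ξ : Cfsg.IrrCharacter (inertia (G := G) φ), m ξ * a ξ := by
    have h3 : (fun n : N => χ n) = ∑ ξ : Cfsg.IrrCharacter (inertia (G := G) φ),
        (m ξ : ℂ) • fun n : N => (ξ : inertia (G := G) φ → ℂ) (inc n) := by
      funext n
      have h4 := congrFun he (inc n)
      simp only [Finset.sum_apply, Pi.smul_apply] at h4 ⊢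
      exact h4
    have h5 : (e : ℂ) = ((∑ ξ : Cfsg.IrrCharacter (inertia (G := G) φ), m ξ * a ξ : ℕ) : ℂ) := by
      rw [← he', h3, classInner_sum_left, Nat.cast_sum]
      exact Finset.sum_congr rfl fun ξ _ => by rw [classInner_smul_left, ha, Nat.cast_mul]
    exact_mod_cast h5
  have hae : a ⟨ψ, hψ⟩ = e := by
    have h3 : (a ⟨ψ, hψ⟩ : ℂ) = e := by
      rw [← ha]
      show Cfsg.classInner (fun n : N => ψ ⟨n, _⟩) φ = _
      rw [hres, classInner_smul_left, classInner_irr_self hφ, mul_one, he']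
    exact_mod_cast h3
  have hm1 : 1 ≤ m ⟨ψ, hψ⟩ := Nat.one_le_iff_ne_zero.2 fun h0 => hc (by
    rw [hm ⟨ψ, hψ⟩, h0, Nat.cast_zero])
  have hm2 : 1 ≤ m ⟨ψ', hψ'⟩ * a ⟨ψ', hψ'⟩ := Nat.one_le_iff_ne_zero.2 (mul_ne_zero
    (fun h0 => h1 (by rw [hm ⟨ψ', hψ'⟩, h0, Nat.cast_zero]))
    (fun h0 => h2 (by
      show Cfsg.classInner (fun n : N => ψ' (inc n)) φ = 0
      rw [ha ⟨ψ', hψ'⟩, h0, Nat.cast_zero])))
  have hle := Finset.sum_le_sum_of_subset (f := fun ξ => m ξ * a ξ)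
    (Finset.subset_univ ({⟨ψ, hψ⟩, ⟨ψ', hψ'⟩} : Finset (Cfsg.IrrCharacter (inertia (G := G) φ))))
  rw [Finset.sum_pair (fun e => hne (congrArg Subtype.val e).symm), ← hsum, hae] at hle
  have := Nat.mul_le_mul_right e hm1
  omega

end Normal

section Sylow

variable {P : Type u} [Group P] [Fintype P] {ι : P →* G}

omit [Fintype P] in
/-- Two Sylow 2-subgroups are conjugate. -/
theorem exists_conj_le (T : Subgroup G) {R Q : Subgroup G} (hR : IsPGroup 2 R)
    (hRo : Odd (R.relIndex T)) (hRT : R ≤ T) (hQ : IsPGroup 2 Q) (hQo : Odd (Q.relIndex T))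
    (hQT : Q ≤ T) : ∃ t ∈ T, ∀ x ∈ Q, t * x * t⁻¹ ∈ R := by
  have : Fact (Nat.Prime 2) := ⟨Nat.prime_two⟩
  let SR : Sylow 2 T := (hR.comap_subtype).toSylow (p := 2) (P := R.subgroupOf T)
    (Nat.two_dvd_ne_zero.2 (Nat.odd_iff.1 hRo))
  let SQ : Sylow 2 T := (hQ.comap_subtype).toSylow (p := 2) (P := Q.subgroupOf T)
    (Nat.two_dvd_ne_zero.2 (Nat.odd_iff.1 hQo))
  obtain ⟨t, ht⟩ := MulAction.exists_smul_eq T SQ SR
  refine ⟨t, t.2, fun x hx => ?_⟩
  have h1 : MulAut.conj t • (⟨x, hQT hx⟩ : T) ∈ ((t • SQ : Sylow 2 T) : Subgroup T) := by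
    rw [Sylow.coe_subgroup_smul]
    exact Subgroup.smul_mem_pointwise_smul _ _ _ hx
  rw [ht] at h1
  exact h1

omit [Fintype P] in
theorem isPGroup_range (hP : IsPGroup 2 P) : IsPGroup 2 ι.range :=
  hP.of_surjective ι.rangeRestrict ι.rangeRestrict_surjective

omit [Fintype P] in
/-- A normal 2-subgroup lies in every Sylow 2-subgroup. -/
theorem le_range_of_isPGroup (hP : IsPGroup 2 P) (hodd : Odd ι.range.index) {M : Subgroup G}
    [M.Normal] (hM : IsPGroup 2 M) : M ≤ ι.range := by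
  have : Fact (Nat.Prime 2) := ⟨Nat.prime_two⟩
  have h := (isPGroup_range (ι := ι) hP).to_sup_of_normal_right hM
  obtain ⟨k, hk⟩ := IsPGroup.iff_card.1 h
  have hle : ι.range ≤ ι.range ⊔ M := le_sup_left
  have h1 : ι.range.relIndex (ι.range ⊔ M) ∣ 2 ^ k := hk ▸ Subgroup.relIndex_dvd_card _ _
  have h2 : Odd (ι.range.relIndex (ι.range ⊔ M)) :=
    hodd.of_dvd_nat (Subgroup.relIndex_dvd_index_of_le hle)
  have h3 : ι.range.relIndex (ι.range ⊔ M) = 1 :=
    Nat.eq_one_of_dvd_coprimes ((Nat.coprime_two_left.2 h2).pow_left k) h1 dvd_rfl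
  exact le_sup_right.trans (Subgroup.relIndex_eq_one.1 h3)

omit [Fintype G] in
/-- An element normalizing the range induces an automorphism. -/
theorem exists_aut (hι : Function.Injective ι) {g : G}
    (h : ∀ x : P, g * ι x * g⁻¹ ∈ ι.range) :
    ∃ α : P ≃* P, ∀ x, ι (α x) = g * ι x * g⁻¹ := by
  choose f hf using fun x => MonoidHom.mem_range.1 (h x)
  let F : P →* P := MonoidHom.mk' f fun a b => hι (by
    rw [map_mul, hf, hf, hf, map_mul]
    group)
  have hinj : Function.Injective F := fun a b e => hι (by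
    have := congrArg ι e
    simp only [F, MonoidHom.mk'_apply, hf] at this
    simpa using this)
  exact ⟨MulEquiv.ofBijective F (Finite.injective_iff_bijective.1 hinj), hf⟩

theorem InR.comp_aut {χ : G → ℂ} (hχ : Cfsg.IsClassFunction G χ) {ν : P →* ℂˣ} {g : G}
    {α : P ≃* P} (hα : ∀ x, ι (α x) = g * ι x * g⁻¹) (h : InR ι χ ν) :
    InR ι χ (ν.comp α.toMonoidHom) := by
  unfold InR at h ⊢
  intro h0
  apply h
  rw [← h0]
  simp only [Cfsg.classInner, lin]
  refine congrArg (fun z : ℂ => (Nat.card P : ℂ)⁻¹ * z) ?_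
  refine (Fintype.sum_equiv α.toEquiv _ _ fun x => ?_).symm
  show χ (ι x) * conj ((ν (α x) : ℂˣ) : ℂ) = χ (ι (α x)) * conj ((ν (α x) : ℂˣ) : ℂ)
  rw [hα, hχ]

/-- Every real character of odd degree has a real linear constituent on the Sylow subgroup. -/
theorem exists_InR (hP : IsPGroup 2 P) {χ : G → ℂ} (hχ : Cfsg.IsIrrCharacter G χ) (hro : RO χ) :
    ∃ ν : P →* ℂˣ, (∀ x, ν x ^ 2 = 1) ∧ InR ι χ ν := by
  obtain ⟨ψ, hψ, hψro⟩ := exists_RO_constituent (isCharacter_comp ι (IsIrr.isCharacter hχ))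
    (fun x => hro.1 (ι x)) (d := Cfsg.charDegree χ) (by simpa using (deg_spec hχ).1) hro.2
  obtain ⟨f, hf⟩ := exists_hom_of_odd hP ψ.2 hψro.2
  refine ⟨f, sq_eq_one_of_real f (hf ▸ hψro.1), ?_⟩
  rw [InR, ← hf]
  exact hψ

end Sylow

section Transfer

variable (R : Subgroup G) {M : Subgroup G}

omit [Fintype G] in
/-- The transfer of a sign character fixed by `G` on a normal subgroup agrees with it there. -/
theorem exists_transfer [Finite G] [M.Normal] (hodd : Odd R.index) (hMR : M ≤ R) (f : R →* ℂˣ)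
    (hf : ∀ x, f x ^ 2 = 1)
    (hinv : ∀ (g : G) (m : G) (hm : m ∈ M),
      f ⟨g * m * g⁻¹, hMR (Subgroup.Normal.conj_mem ‹_› m hm g)⟩ = f ⟨m, hMR hm⟩) :
    ∃ μ : G →* ℂˣ, (∀ g, μ g ^ 2 = 1) ∧ ∀ (m : G) (hm : m ∈ M), μ m = f ⟨m, hMR hm⟩ := by
  let f' : R →* (powMonoidHom 2 : ℂˣ →* ℂˣ).ker := f.codRestrict _ fun x => hf x
  refine ⟨(powMonoidHom 2 : ℂˣ →* ℂˣ).ker.subtype.comp (MonoidHom.transfer f'),
    fun g => (MonoidHom.transfer f' g).2, fun m hm => ?_⟩
  let S : R.LeftTransversal := default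
  let := R.fintypeQuotientOfFiniteIndex
  have hterm : ∀ q : G ⧸ R, ((m • S).2.leftQuotientEquiv q : G) =
      m * (S.2.leftQuotientEquiv q : G) := by
    intro q
    rw [Subgroup.smul_apply_eq_smul_apply_inv_smul, smul_eq_mul]
    congr 2
    obtain ⟨x, rfl⟩ := QuotientGroup.mk_surjective q
    refine congrArg _ ((QuotientGroup.eq).2 ?_)
    have := Subgroup.Normal.conj_mem ‹M.Normal› m hm x⁻¹
    simpa [mul_assoc] using hMR this
  show ((MonoidHom.transfer f' m : _) : ℂˣ) = _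
  rw [MonoidHom.transfer_def f' S m, Subgroup.leftTransversals.diff]
  push_cast
  rw [Finset.prod_congr rfl fun q _ => show _ = f ⟨m, hMR hm⟩ from ?_, Finset.prod_const,
    Finset.card_univ, ← Nat.card_eq_fintype_card]
  · obtain ⟨k, hk⟩ := hodd
    rw [show Nat.card (G ⧸ R) = 2 * k + 1 from hk, pow_succ, pow_mul, hf, one_pow, one_mul]
  · show f _ = _
    rw [← hinv (S.2.leftQuotientEquiv q : G)⁻¹ m hm]
    exact congrArg f (Subtype.ext (by simp [hterm, mul_assoc]))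

end Transfer

end Cfsg.Agent.Char.RealOddSylow
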