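import Mathlib
import Cfsg.Agent.Char.RealForm

/-!
# Characters of real representations
-/

namespace Cfsg.Agent.Char

open Matrix
open scoped ComplexOrder ComplexConjugate

universe u

variable {G : Type u} [Group G] [Fintype G] {n : ℕ}

/-- A semilinear map squaring to a positive scalar has an invertible fixed matrix. -/
theorem exists_fixed_invertible (A : Matrix (Fin n) (Fin n) ℂ) (hA : A * A.map conj = 1) :
    ∃ P : Matrix (Fin n) (Fin n) ℂ, IsUnit P ∧ A * P.map conj = P := by
  classical
  set T : Set ℂ := spectrum ℂ A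
  have hT : T.Finite := Matrix.finite_spectrum A
  -- a scalar `z ≠ 0` with `-z / conj z` outside the spectrum
  have hf : Function.Injective fun t : ℕ => (-(⟨1, t⟩ : ℂ) / conj (⟨1, t⟩ : ℂ)) := by
    intro s t h
    have hs : conj (⟨1, s⟩ : ℂ) ≠ 0 := fun e => by simpa using congrArg Complex.re e
    have ht : conj (⟨1, t⟩ : ℂ) ≠ 0 := fun e => by simpa using congrArg Complex.re e
    simp only [div_eq_div_iff hs ht] at h
    have h1 := congrArg Complex.im h
    simp only [Complex.mul_im, Complex.neg_re, Complex.neg_im, Complex.conj_re, Complex.conj_im] at h1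
    have h2 : (s : ℝ) = t := by linarith
    exact_mod_cast h2
  obtain ⟨t, ht⟩ : ∃ t : ℕ, (-(⟨1, t⟩ : ℂ) / conj (⟨1, t⟩ : ℂ)) ∉ T := by
    by_contra! hall
    exact Set.infinite_univ (α := ℕ) (((hT.preimage hf.injOn)).subset fun t _ => hall t)
  set z : ℂ := ⟨1, t⟩
  have hz : conj z ≠ 0 := fun e => by simpa [z] using congrArg Complex.re e
  refine ⟨z • 1 + conj z • A, ?_, ?_⟩
  · rw [spectrum.notMem_iff] at ht
    have e : z • (1 : Matrix (Fin n) (Fin n) ℂ) + conj z • A =
        (-conj z) • (algebraMap ℂ _ (-z / conj z) - A) := by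
      rw [Algebra.algebraMap_eq_smul_one, smul_sub, smul_smul, neg_smul (conj z) A, sub_neg_eq_add]
      congr 2
      field_simp
    rw [e]
    exact (Units.mk0 (-conj z) (neg_ne_zero.2 hz)).isUnit.map (algebraMap ℂ _) |>.mul ht |> fun h => by
      rw [Algebra.smul_def]; exact h
  · have e : (z • (1 : Matrix (Fin n) (Fin n) ℂ) + conj z • A).map conj =
        conj z • 1 + z • A.map conj := by
      ext i j
      by_cases hij : i = j <;> simp [hij]
    rw [e, mul_add, Matrix.mul_smul, Matrix.mul_smul, mul_one, hA, add_comm]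

/-- The semilinear structure of an irreducible representation with symmetric invariant form. -/
theorem exists_real_structure (ρ : Representation ℂ G (Fin n → ℂ)) (hρ : ρ.IsIrreducible)
    (M M' : Matrix (Fin n) (Fin n) ℂ) (hMM' : M * M' = 1) (hM'M : M' * M = 1) (hsym : Mᵀ = M)
    (hM : ∀ g, (LinearMap.toMatrix' (ρ g))ᵀ * M * LinearMap.toMatrix' (ρ g) = M) :
    ∃ A : Matrix (Fin n) (Fin n) ℂ, A * A.map conj = 1 ∧
      ∀ g, A * (LinearMap.toMatrix' (ρ g)).map conj = LinearMap.toMatrix' (ρ g) * A := by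
  classical
  set R : G → Matrix (Fin n) (Fin n) ℂ := fun g => LinearMap.toMatrix' (ρ g) with hR
  have hmul : ∀ g h, R (g * h) = R g * R h := fun g h => by
    simp only [hR, map_mul, LinearMap.toMatrix'_mul]
  have hone : R 1 = 1 := by simp [hR, Module.End.one_eq_id]
  let H : Matrix (Fin n) (Fin n) ℂ := ∑ g, (R g)ᴴ * R g
  have hHpos : H.PosDef := by
    have h1 : H = (R 1)ᴴ * R 1 + ∑ g ∈ Finset.univ.erase 1, (R g)ᴴ * R g :=
      (Finset.add_sum_erase _ _ (Finset.mem_univ 1)).symm
    rw [h1, hone, conjTranspose_one, mul_one]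
    exact Matrix.PosDef.one.add_posSemidef
      (Matrix.posSemidef_sum _ fun g _ => Matrix.posSemidef_conjTranspose_mul_self (R g))
  have hHinv : ∀ k, (R k)ᴴ * H * R k = H := by
    intro k
    simp only [H, Finset.mul_sum, Finset.sum_mul]
    refine Fintype.sum_equiv (Equiv.mulRight k) _ _ fun g => ?_
    show (R k)ᴴ * ((R g)ᴴ * R g) * R k = (R (g * k))ᴴ * R (g * k)
    rw [hmul, conjTranspose_mul, mul_assoc, mul_assoc, mul_assoc]
  have hint : ∀ g, M * R g = (R g⁻¹)ᵀ * M := (form_iff ρ M).1 hM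
  have hRR : ∀ g, R g * R g⁻¹ = 1 := fun g => by rw [← hmul, mul_inv_cancel, hone]
  have hcm : ∀ X Y : Matrix (Fin n) (Fin n) ℂ, (X * Y).map conj = X.map conj * Y.map conj :=
    fun X Y => Matrix.map_mul
  have hcH : ∀ X : Matrix (Fin n) (Fin n) ℂ, Xᴴ.map conj = Xᵀ := fun X => by
    ext i j; simp
  have hM'R : ∀ g, R g * M' = M' * (R g⁻¹)ᵀ := fun g => by
    calc R g * M' = M' * (M * R g) * M' := by rw [← mul_assoc M', hM'M, one_mul]
      _ = M' * (R g⁻¹)ᵀ := by rw [hint, mul_assoc, mul_assoc, hMM', mul_one]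
  let A := M' * H.map conj
  have hA : ∀ g, A * (R g).map conj = R g * A := by
    intro g
    have h1 : (R g)ᵀ * H.map conj * (R g).map conj = H.map conj := by
      rw [← hcH, ← hcm, ← hcm, hHinv]
    have h2 : H.map conj * (R g).map conj = (R g⁻¹)ᵀ * H.map conj := by
      conv_rhs => rw [← h1]
      rw [← mul_assoc, ← mul_assoc, ← transpose_mul, hRR, transpose_one, one_mul]
    show M' * H.map conj * (R g).map conj = R g * (M' * H.map conj)
    rw [mul_assoc, h2, ← mul_assoc, ← hM'R, mul_assoc]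
  have hsq : ∀ g, A * A.map conj * R g = R g * (A * A.map conj) := by
    intro g
    have h1 := congrArg (fun X => X.map conj) (hA g)
    simp only [hcm] at h1
    rw [Matrix.map_map, show ((conj : ℂ → ℂ) ∘ conj) = id from funext Complex.conj_conj,
      Matrix.map_id] at h1
    rw [mul_assoc, h1, ← mul_assoc, hA g, mul_assoc]
  obtain ⟨c, hc, -⟩ := commute_eq_scalar ρ hρ (Matrix.toLin' (A * A.map conj)) fun g => by
    apply LinearMap.toMatrix'.injective
    rw [LinearMap.toMatrix'_mul, LinearMap.toMatrix'_mul, LinearMap.toMatrix'_toLin']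
    exact hsq g
  have hc' : A * A.map conj = c • 1 := by
    have h1 := congrArg LinearMap.toMatrix' hc
    rwa [LinearMap.toMatrix'_toLin', map_smul, LinearMap.toMatrix'_id] at h1
  -- `c` is positive
  have hn : 0 < n := by
    obtain ⟨hnt, -⟩ := isIrreducible_iff.1 hρ
    rcases Nat.eq_zero_or_pos n with rfl | h
    · exact absurd hnt (not_nontrivial_iff_subsingleton.2 inferInstance)
    · exact h
  have hM't : M'ᵀ = M' := by
    calc M'ᵀ = M'ᵀ * (M * M') := by rw [hMM', mul_one]
      _ = (M * M')ᵀ * M' := by rw [← mul_assoc, transpose_mul, hsym]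
      _ = M' := by rw [hMM', transpose_one, one_mul]
  have hM'c : M'.map conj = M'ᴴ := by
    conv_lhs => rw [← hM't]
    ext i j; simp
  have hHH : (H.map conj).map conj = H := by
    rw [Matrix.map_map, show ((conj : ℂ → ℂ) ∘ conj) = id from funext Complex.conj_conj,
      Matrix.map_id]
  have hprod : M' * H.map conj * M'ᴴ * H = c • 1 := by
    rw [← hc', ← hM'c]
    show _ = M' * H.map conj * (M' * H.map conj).map conj
    rw [hcm, hHH, ← mul_assoc]
  have hHconj : (H.map conj).PosDef := by
    have e : H.map conj = Hᵀ := by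
      conv_lhs => rw [← hHpos.isHermitian.eq]
      ext i j; simp
    rw [e]; exact hHpos.transpose
  have hB : (M' * H.map conj * M'ᴴ).PosDef :=
    hHconj.mul_mul_conjTranspose_same (Matrix.vecMul_injective_of_isUnit
      (IsUnit.of_mul_eq_one M hM'M))
  have hBH : M' * H.map conj * M'ᴴ = c • H⁻¹ := by
    have hu : IsUnit H.det := (Matrix.isUnit_iff_isUnit_det H).1 hHpos.isUnit
    calc M' * H.map conj * M'ᴴ = M' * H.map conj * M'ᴴ * H * H⁻¹ := by
          rw [mul_assoc _ H, Matrix.mul_nonsing_inv H hu, mul_one]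
      _ = c • H⁻¹ := by rw [hprod, Matrix.smul_mul, one_mul]
  have hd1 := hB.diag_pos (i := ⟨0, hn⟩)
  have hd2 := hHpos.inv.diag_pos (i := ⟨0, hn⟩)
  rw [hBH, Matrix.smul_apply, smul_eq_mul] at hd1
  obtain ⟨hre2, him2⟩ := Complex.pos_iff.1 hd2
  obtain ⟨hre1, him1⟩ := Complex.pos_iff.1 hd1
  rw [Complex.mul_re, ← him2, mul_zero, sub_zero] at hre1
  rw [Complex.mul_im, ← him2, mul_zero, zero_add] at him1
  have hcim : c.im = 0 := by
    rcases mul_eq_zero.1 him1.symm with h | h
    · exact h
    · linarith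
  have hcre : 0 < c.re := by
    by_contra hle
    push Not at hle
    nlinarith
  let s : ℝ := (Real.sqrt c.re)⁻¹
  refine ⟨(s : ℂ) • A, ?_, fun g => by rw [Matrix.smul_mul, hA, Matrix.mul_smul]⟩
  rw [Matrix.map_smul' conj (s : ℂ) A (map_mul _), Complex.conj_ofReal, Matrix.smul_mul,
    Matrix.mul_smul, smul_smul, hc', smul_smul]
  have : ((s : ℂ) * s * c) = 1 := by
    have e : c = (c.re : ℂ) := Complex.ext (by simp) (by simp [hcim])
    rw [e, ← Complex.ofReal_mul, ← Complex.ofReal_mul]
    norm_cast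
    show (Real.sqrt c.re)⁻¹ * (Real.sqrt c.re)⁻¹ * c.re = 1
    have h := Real.mul_self_sqrt hcre.le
    field_simp
    linarith [h]
  rw [this, one_smul]

/-- The indicator is one exactly for the characters of real representations. -/
theorem fsInd_eq_one_iff (χ : IrrCharacter G) :
    fsInd (χ : G → ℂ) = 1 ↔ ∃ (n : ℕ) (ρ : Representation ℝ G (Fin n → ℝ)), ∀ g : G,
      ((LinearMap.trace ℝ (Fin n → ℝ) (ρ g) : ℝ) : ℂ) = (χ : G → ℂ) g := by
  classical
  constructor
  · intro h1
    obtain ⟨n, ρ, hρ, hχ⟩ := χ.2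
    have hreal : ∀ g, (ρ.character g).im = 0 := by
      rw [hχ]
      intro g
      rcases fsInd_irr χ with ⟨h0, -⟩ | ⟨-, hc⟩
      · rw [h1] at h0; exact absurd h0 one_ne_zero
      · exact (conjIrr_eq_iff χ).1 hc g
    obtain ⟨M, M', hMM', hM'M, hM⟩ := exists_form ρ hreal
    have hsym : Mᵀ = M := by
      have := form_transpose ρ hρ hreal M hM
      rwa [hχ, h1, one_smul] at this
    obtain ⟨A, hA, hAR⟩ := exists_real_structure ρ hρ M M' hMM' hM'M hsym hM
    obtain ⟨P, ⟨P, rfl⟩, hAP⟩ := exists_fixed_invertible A hA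
    set B : G → Matrix (Fin n) (Fin n) ℂ := fun g =>
      ((P⁻¹ : (Matrix (Fin n) (Fin n) ℂ)ˣ) : Matrix (Fin n) (Fin n) ℂ) * LinearMap.toMatrix' (ρ g) *
        (P : Matrix (Fin n) (Fin n) ℂ) with hBdef
    have hBreal : ∀ g, (B g).map conj = B g := by
      intro g
      have h2 : (((P⁻¹ : (Matrix (Fin n) (Fin n) ℂ)ˣ) : Matrix (Fin n) (Fin n) ℂ)).map conj *
          (P : Matrix (Fin n) (Fin n) ℂ).map conj = 1 := by
        rw [← Matrix.map_mul, Units.inv_mul, Matrix.map_one _ (map_zero _) (map_one _)]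
      have h2' := mul_eq_one_comm.1 h2
      have h3 : (P : Matrix (Fin n) (Fin n) ℂ) * (B g).map conj =
          (P : Matrix (Fin n) (Fin n) ℂ) * B g := by
        conv_lhs => rw [← hAP]
        simp only [hBdef]
        rw [Matrix.map_mul, Matrix.map_mul, mul_assoc, ← mul_assoc ((P : Matrix (Fin n) (Fin n) ℂ).map conj),
          ← mul_assoc ((P : Matrix (Fin n) (Fin n) ℂ).map conj), h2', one_mul, ← mul_assoc, hAR,
          mul_assoc, hAP, ← mul_assoc, ← mul_assoc, Units.mul_inv, one_mul]
      exact P.isUnit.mul_left_cancel h3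
    let B' : G → Matrix (Fin n) (Fin n) ℝ := fun g => (B g).map Complex.re
    have hB' : ∀ g, (B' g).map ((↑) : ℝ → ℂ) = B g := fun g => by
      ext i j
      exact Complex.conj_eq_iff_re.1 (congrFun (congrFun (hBreal g) i) j)
    have hBmul : ∀ g h, B (g * h) = B g * B h := fun g h => by
      simp only [hBdef, map_mul, LinearMap.toMatrix'_mul]
      rw [mul_assoc _ (P : Matrix (Fin n) (Fin n) ℂ), ← mul_assoc (P : Matrix (Fin n) (Fin n) ℂ),
        ← mul_assoc (P : Matrix (Fin n) (Fin n) ℂ), Units.mul_inv, one_mul]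
      simp only [mul_assoc]
    have hinj : Function.Injective fun X : Matrix (Fin n) (Fin n) ℝ => X.map ((↑) : ℝ → ℂ) :=
      Matrix.map_injective Complex.ofReal_injective
    have hB1 : B' 1 = 1 := hinj (by
      show (B' 1).map _ = (1 : Matrix (Fin n) (Fin n) ℝ).map _
      rw [hB', Matrix.map_one _ Complex.ofReal_zero Complex.ofReal_one]
      simp [hBdef, Module.End.one_eq_id])
    have hBm : ∀ g h, B' (g * h) = B' g * B' h := fun g h => hinj (by
      show (B' (g * h)).map _ = (B' g * B' h).map _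
      rw [hB', hBmul, ← hB', ← hB']
      exact (Matrix.map_mul (f := Complex.ofRealHom)).symm)
    let σ : Representation ℝ G (Fin n → ℝ) :=
      { toFun := fun g => Matrix.toLin' (B' g)
        map_one' := by rw [hB1, Matrix.toLin'_one]; rfl
        map_mul' := fun g h => by rw [hBm, Matrix.toLin'_mul]; rfl }
    refine ⟨n, σ, fun g => ?_⟩
    show ((LinearMap.trace ℝ _ (Matrix.toLin' (B' g)) : ℝ) : ℂ) = _
    rw [Matrix.trace_toLin'_eq, ← hχ]
    have : (((B' g).trace : ℝ) : ℂ) = (B g).trace := by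
      rw [← hB']; simp [Matrix.trace]
    rw [this, Matrix.trace_units_conj', Representation.character,
      LinearMap.trace_eq_matrix_trace ℂ (Pi.basisFun ℂ (Fin n)), LinearMap.toMatrix_eq_toMatrix']
  · rintro ⟨n, σ, hσ⟩
    let R : G → Matrix (Fin n) (Fin n) ℝ := fun g => LinearMap.toMatrix' (σ g)
    have hR : ∀ g h, R (g * h) = R g * R h := fun g h => by
      simp only [R, map_mul, LinearMap.toMatrix'_mul]
    let ρ : Representation ℂ G (Fin n → ℂ) :=
      { toFun := fun g => Matrix.toLin' ((R g).map Complex.ofRealHom)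
        map_one' := by
          simp only [R, map_one, Module.End.one_eq_id, LinearMap.toMatrix'_id,
            Matrix.map_one _ (map_zero Complex.ofRealHom) (map_one _), Matrix.toLin'_one]
        map_mul' := fun g h => by
          rw [hR, Matrix.map_mul, Matrix.toLin'_mul]; rfl }
    have hχ : ρ.character = (χ : G → ℂ) := by
      funext g
      rw [← hσ g]
      show LinearMap.trace ℂ _ (Matrix.toLin' ((R g).map Complex.ofRealHom)) = _
      rw [Matrix.trace_toLin'_eq, LinearMap.trace_eq_matrix_trace ℝ (Pi.basisFun ℝ (Fin n)),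
        LinearMap.toMatrix_eq_toMatrix']
      simp [Matrix.trace, R]
    have hρ : ρ.IsIrreducible := by
      obtain ⟨m, τ, hτ, hτχ⟩ := χ.2
      obtain ⟨e, he⟩ := nonempty_equiv_of_character_eq ρ τ (hχ.trans hτχ.symm)
      rw [isIrreducible_iff] at hτ ⊢
      refine ⟨have := hτ.1; e.toEquiv.nontrivial, fun U hU => ?_⟩
      rcases hτ.2 (U.map e.toLinearMap) (by
        rintro g _ ⟨x, hx, rfl⟩
        exact ⟨ρ g x, hU g x hx, he g x⟩) with h | h
      · exact Or.inl (Submodule.map_injective_of_injective e.injective (h.trans (Submodule.map_bot _).symm))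
      · exact Or.inr (Submodule.map_injective_of_injective e.injective
          (h.trans ((Submodule.map_top _).trans (LinearMap.range_eq_top.2 e.surjective)).symm))
    have hreal : ∀ g, (ρ.character g).im = 0 := fun g => by rw [hχ, ← hσ g, Complex.ofReal_im]
    let N0 : Matrix (Fin n) (Fin n) ℝ := ∑ g, (R g)ᵀ * R g
    have hN : ∀ g, (LinearMap.toMatrix' (ρ g))ᵀ * N0.map Complex.ofRealHom * LinearMap.toMatrix' (ρ g) =
        N0.map Complex.ofRealHom := by
      intro k
      show (LinearMap.toMatrix' (Matrix.toLin' _))ᵀ * _ * LinearMap.toMatrix' (Matrix.toLin' _) = _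
      rw [LinearMap.toMatrix'_toLin', ← Matrix.transpose_map, ← Matrix.map_mul, ← Matrix.map_mul]
      congr 1
      simp only [N0, Finset.mul_sum, Finset.sum_mul]
      refine Fintype.sum_equiv (Equiv.mulRight k) _ _ fun g => ?_
      show (R k)ᵀ * ((R g)ᵀ * R g) * R k = (R (g * k))ᵀ * R (g * k)
      rw [hR, Matrix.transpose_mul, mul_assoc, mul_assoc, mul_assoc]
    have hn : 0 < n := by
      obtain ⟨hnt, -⟩ := isIrreducible_iff.1 hρ
      rcases Nat.eq_zero_or_pos n with rfl | h
      · exact absurd hnt (not_nontrivial_iff_subsingleton.2 inferInstance)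
      · exact h
    have hsym : (N0.map Complex.ofRealHom)ᵀ = N0.map Complex.ofRealHom := by
      rw [← Matrix.transpose_map]
      simp [N0, Matrix.transpose_sum, Matrix.transpose_mul]
    have h1 := form_transpose ρ hρ hreal _ hN
    rw [hsym, hχ] at h1
    have hne : N0 ⟨0, hn⟩ ⟨0, hn⟩ ≠ 0 := by
      simp only [N0, Matrix.sum_apply, Matrix.mul_apply, Matrix.transpose_apply]
      refine ne_of_gt (Finset.sum_pos' (fun g _ => Finset.sum_nonneg fun i _ => mul_self_nonneg _)
        ⟨1, Finset.mem_univ _, ?_⟩)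
      simp [R, Module.End.one_eq_id, Pi.single_apply]
    have h2 := congrFun (congrFun h1 ⟨0, hn⟩) ⟨0, hn⟩
    rw [Matrix.smul_apply, smul_eq_mul, Matrix.map_apply] at h2
    exact (mul_eq_right₀ (Complex.ofReal_ne_zero.2 hne)).1 h2.symm

end Cfsg.Agent.Char
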