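import Cfsg.Agent.Char.Clifford
import Cfsg.Agent.Char.UniqueDivisible
import Cfsg.Agent.ProjExt.Det
import Cfsg.Prelude.Def_DegreeGraph
import Mathlib.GroupTheory.FiniteAbelian.Duality
import Mathlib.GroupTheory.Perm.Cycle.Type
import Mathlib.Algebra.Group.Hom.Instances
import Mathlib.Analysis.Complex.Polynomial.Basic

/-!
# The common-divisor graph on the degrees relative to a normal subgroup of the commutator subgroup
-/

namespace Cfsg.Agent.RelDeg

open Cfsg.Agent.Char

noncomputable local instance (priority := 100000) linGroup {H : Type*} [Group H] {K : Subgroup H} :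
    CommGroup (K →* ℂˣ) := MonoidHom.instCommGroup

universe u

variable {G : Type u} [Group G]

/-- Eigenvalue comparison: determinants of characters related on all powers of one element. -/
theorem det_pow_eq {H : Type*} [Group H] [Finite H] {θ₁ θ₂ : H → ℂ}
    (h₁ : Cfsg.IsCharacter H θ₁) (h₂ : Cfsg.IsCharacter H θ₂) (e₁ e₂ d₁ : ℕ) (hd : θ₁ 1 = d₁)
    (c : ℂ) (x : H) (h : ∀ k : ℕ, (e₂ : ℂ) * θ₂ (x ^ k) = e₁ * θ₁ (x ^ k) * c ^ k) :
    Cfsg.detChar θ₂ x ^ e₂ = Cfsg.detChar θ₁ x ^ e₁ * c ^ (d₁ * e₁) := by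
  classical
  obtain ⟨n, ρ, rfl⟩ := h₁
  obtain ⟨m, σ, rfl⟩ := h₂
  have hfr : Module.finrank ℂ (Fin n → ℂ) = d₁ := by
    rw [ρ.char_one] at hd; exact_mod_cast hd
  obtain ⟨μ, b, hb, -, -⟩ := exists_eigenbasis ρ x
  obtain ⟨ν, b', hb', -, -⟩ := exists_eigenbasis σ x
  have hsum : ∀ k : ℕ, ρ.character (x ^ k) = ∑ i, μ i ^ k := fun k =>
    trace_eq_sum_of_eigenbasis _ b _ fun i => by
      induction k with
      | zero => simp
      | succ k ih => rw [pow_succ', map_mul, Module.End.mul_apply, ih, map_smul, hb, smul_smul,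
          pow_succ]
  have hsum' : ∀ k : ℕ, σ.character (x ^ k) = ∑ i, ν i ^ k := fun k =>
    trace_eq_sum_of_eigenbasis _ b' _ fun i => by
      induction k with
      | zero => simp
      | succ k ih => rw [pow_succ', map_mul, Module.End.mul_apply, ih, map_smul, hb', smul_smul,
          pow_succ]
  have key := ProjExt.prod_eq_of_sum_pow_eq (fun p : _ × Fin e₂ => ν p.1)
    (fun p : _ × Fin e₁ => μ p.1 * c) fun k => by
      simp only [Fintype.sum_prod_type, Finset.sum_const, Finset.card_univ, Fintype.card_fin,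
        nsmul_eq_mul, ← Finset.mul_sum, mul_pow, ← Finset.sum_mul]
      rw [← hsum, ← hsum', h k, mul_assoc]
  simp only [Fintype.prod_prod_type, Finset.prod_const, Finset.card_univ, Fintype.card_fin,
    Finset.prod_pow, Finset.prod_mul_distrib] at key
  rw [ProjExt.detChar_eq_det ρ rfl, ProjExt.detChar_eq_det σ rfl]
  show LinearMap.det (σ x) ^ e₂ = LinearMap.det (ρ x) ^ e₁ * c ^ (d₁ * e₁)
  rw [ProjExt.det_eq_prod_of_eigenbasis _ b μ hb, ProjExt.det_eq_prod_of_eigenbasis _ b' ν hb',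
    key, Fintype.card_prod, Fintype.card_fin, Fintype.card_fin]
  congr 3

variable (N : Subgroup G) [hN : N.Normal]

/-- A homomorphism as a complex valued function. -/
def lf (l : N →* ℂˣ) : N → ℂ := fun n => (l n : ℂ)

variable {N}

/-- The conjugate of a homomorphism. -/
def cj (g : G) (l : N →* ℂˣ) : N →* ℂˣ := l.comp (MulAut.conjNormal g : MulAut N).toMonoidHom

theorem conjFun_lf (g : G) (l : N →* ℂˣ) : conjFun g (lf N l) = lf N (cj g l) := rfl

theorem cj_pow (g : G) (l : N →* ℂˣ) (k : ℕ) : cj g (l ^ k) = cj g l ^ k := rfl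

omit hN in
theorem lf_inj {l l' : N →* ℂˣ} (h : lf N l = lf N l') : l = l' :=
  MonoidHom.ext fun n => Units.ext (congrFun h n)

omit hN in
theorem lf_mul (l l' : N →* ℂˣ) : lf N (l * l') = lf N l * lf N l' := by
  funext n; simp [lf]

omit hN in
theorem lf_one : lf N 1 = 1 := by funext n; simp [lf]

omit hN in
theorem mul_lf_cancel {φ ψ : N → ℂ} {l : N →* ℂˣ} (h : φ * lf N l = ψ * lf N l) : φ = ψ :=
  funext fun n => mul_right_cancel₀ (Units.ne_zero (l n)) (congrFun h n)

theorem conjFun_mul (g : G) (φ ψ : N → ℂ) : conjFun g (φ * ψ) = conjFun g φ * conjFun g ψ := rfl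

omit hN in
theorem isIrr_mul_lf [Finite G] {φ : N → ℂ} (h : Cfsg.IsIrrCharacter N φ) (l : N →* ℂˣ) :
    Cfsg.IsIrrCharacter N (φ * lf N l) := isIrr_mul_hom h l

omit hN in
theorem pow_eq_one_of_apply {l : N →* ℂˣ} {k : ℕ} (h : ∀ n, (l n : ℂ) ^ k = 1) : l ^ k = 1 :=
  MonoidHom.ext fun n => Units.ext (by simp [h n])

omit hN in
theorem dvd_of_pow_eq_one {l : N →* ℂˣ} {r k : ℕ} (hr : r.Prime) (hl : l ≠ 1) (hlr : l ^ r = 1)
    (h : l ^ k = 1) : r ∣ k := by
  haveI := Fact.mk hr
  have := orderOf_eq_prime (p := r) hlr hl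
  rw [← this]
  exact orderOf_dvd_of_pow_eq_one h

omit hN in
/-- Twisting which fixes an irreducible character has order dividing the degree. -/
theorem twist_fix [Finite G] {φ : N → ℂ} (hφ : Cfsg.IsIrrCharacter N φ) {a : ℕ} (ha : φ 1 = a)
    {m : N →* ℂˣ} (h : φ * lf N m = φ) : m ^ a = 1 := by
  refine pow_eq_one_of_apply fun n => ?_
  have key := det_pow_eq (IsIrr.isCharacter hφ) (IsIrr.isCharacter hφ) 1 1 a ha (m n : ℂ) n
    fun k => by
      conv_lhs => rw [← h]
      simp [lf, mul_comm, mul_left_comm]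
  obtain ⟨ν, hν⟩ := ProjExt.exists_detChar_hom (IsIrr.isCharacter hφ)
  simpa [hν] using key.symm

section Over

variable [Fintype G]

/-- A degree of a character of `G` lying over `φ`. -/
def OverDeg [Fintype N] (φ : N → ℂ) (d : ℕ) : Prop :=
  ∃ χ : G → ℂ, Cfsg.IsIrrCharacter G χ ∧ χ 1 = d ∧ Cfsg.classInner (fun n : N => χ n) φ ≠ 0

variable [Fintype N]

omit hN in
theorem overDeg_exists {φ : N → ℂ} (hφ : Cfsg.IsIrrCharacter N φ) : ∃ d, OverDeg φ d := by
  have hind := isCharacter_indFun N (IsIrr.isCharacter hφ)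
  obtain ⟨χ, hχ⟩ := IsChar.exists_constituent hind fun h => by
    have h1 := congrFun h 1
    rw [indFun_apply_one, Pi.zero_apply, mul_eq_zero] at h1
    rcases h1 with h1 | h1
    · exact Subgroup.index_ne_zero_of_finite (by exact_mod_cast h1)
    · exact IsIrr.one_ne_zero hφ h1
  obtain ⟨d, -, hd⟩ := IsIrr.degree χ.2
  refine ⟨d, χ, χ.2, hd, fun h0 => hχ ?_⟩
  rw [classInner_indFun_left N φ (isClassFunction_of_isIrr χ.2), ← classInner_conj_symm, h0,
    map_zero]

theorem overDeg_decomp {φ : N → ℂ} (hφ : Cfsg.IsIrrCharacter N φ) {a d : ℕ} (ha : φ 1 = a)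
    (h : OverDeg φ d) : ∃ (χ : G → ℂ) (e : ℕ), Cfsg.IsIrrCharacter G χ ∧ χ 1 = d ∧ 0 < e ∧
      d = e * (inertia φ).index * a ∧ ∀ n : N, χ n = e * ∑ ψ ∈ orbit φ, ψ n := by
  obtain ⟨χ, hχ, hd, h0⟩ := h
  obtain ⟨e, he⟩ := classInner_isCharacter_eq_natCast (isCharacter_res N (IsIrr.isCharacter hχ))
    (IsIrr.isCharacter hφ)
  have h1 := degree_eq_of_clifford hχ hφ h0
  have h2 := clifford hχ hφ h0
  rw [he] at h0 h1 h2
  rw [hd, ha] at h1
  refine ⟨χ, e, hχ, hd, Nat.pos_of_ne_zero fun h => h0 (by rw [h, Nat.cast_zero]),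
    by exact_mod_cast h1, fun n => ?_⟩
  have := congrFun h2 n
  simpa [Finset.sum_apply] using this

theorem overDeg_dvd {φ : N → ℂ} (hφ : Cfsg.IsIrrCharacter N φ) {a d : ℕ} (ha : φ 1 = a)
    (h : OverDeg φ d) : (inertia φ).index * a ∣ d := by
  obtain ⟨χ, e, -, -, -, he, -⟩ := overDeg_decomp hφ ha h
  exact ⟨e, by rw [he]; ring⟩

theorem overDeg_mem {φ : N → ℂ} (hφ : Cfsg.IsIrrCharacter N φ) (hne : φ ≠ 1) {d : ℕ}
    (h : OverDeg φ d) : d ∈ Cfsg.relCharDegrees N := by
  obtain ⟨χ, hχ, hd, h0⟩ := h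
  refine ⟨⟨χ, hχ⟩, ?_, by simp [Cfsg.charDegree, hd]⟩
  by_contra! hc
  refine h0 ?_
  have : (fun n : N => χ n) = (d : ℂ) • (fun _ : N => (1 : ℂ)) := funext fun n => by
    simpa [hd] using hc n n.2
  rw [this, classInner_smul_left, classInner_irr_ne isIrrCharacter_one hφ (Ne.symm hne), mul_zero]

omit [Fintype N] in
theorem orbit_one : orbit (1 : N → ℂ) = {1} := by
  ext ψ
  simp only [mem_orbit, Finset.mem_singleton]
  exact ⟨fun ⟨g, hg⟩ => hg ▸ rfl, fun h => ⟨1, by rw [conjFun_one, h]⟩⟩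

theorem mem_overDeg {d : ℕ} (h : d ∈ Cfsg.relCharDegrees N) :
    ∃ φ : N → ℂ, Cfsg.IsIrrCharacter N φ ∧ φ ≠ 1 ∧ OverDeg φ d := by
  obtain ⟨χ, ⟨x, hx, hne⟩, hd⟩ := h
  obtain ⟨φ, hφ⟩ := exists_constituent_res (N := N) χ.2
  obtain ⟨c, -, hc⟩ := IsIrr.degree χ.2
  have hcd : c = d := by rw [← hd]; simp [Cfsg.charDegree, hc]
  refine ⟨φ, φ.2, fun h1 => hne ?_, (χ : G → ℂ), χ.2, by rw [hc, hcd], hφ⟩
  have h2 := clifford χ.2 φ.2 hφ
  rw [h1] at h2
  have h3 := congrFun h2 ⟨x, hx⟩
  have h4 := congrFun h2 1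
  rw [orbit_one] at h3 h4
  simp only [Pi.smul_apply, Finset.sum_singleton, Pi.one_apply, OneMemClass.coe_one] at h3 h4
  rw [h3, h4]

theorem detChar_res_eq_one (hNG : N ≤ commutator G) {χ : G → ℂ} (hχ : Cfsg.IsCharacter G χ)
    (n : N) : Cfsg.detChar (fun m : N => χ m) n = 1 := by
  have h := congrFun (ProjExt.detChar_comp hχ N.subtype) n
  obtain ⟨ν, hν⟩ := ProjExt.exists_detChar_hom hχ
  refine h.trans ?_
  rw [hν]
  simp [hom_commutator_eq_one ν (hNG n.2)]

theorem orbit_mul_lf {φ : N → ℂ} {l : N →* ℂˣ} (hl : ∀ g : G, conjFun g (lf N l) = lf N l) :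
    ∀ n : N, ∑ ψ ∈ orbit (φ * lf N l), ψ n = (∑ ψ ∈ orbit φ, ψ n) * (l n : ℂ) := by
  classical
  have h : orbit (φ * lf N l) = (orbit φ).image (· * lf N l) := by
    ext ψ
    simp only [mem_orbit, Finset.mem_image]
    constructor
    · rintro ⟨g, rfl⟩; exact ⟨_, ⟨g, rfl⟩, by rw [conjFun_mul, hl]⟩
    · rintro ⟨_, ⟨g, rfl⟩, rfl⟩; exact ⟨g, by rw [conjFun_mul, hl]⟩
  intro n
  rw [h, Finset.sum_image (fun a _ b _ e => mul_lf_cancel e), Finset.sum_mul]
  rfl

/-- The determinant condition for a twist by an invariant linear character. -/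
theorem twist_over (hNG : N ≤ commutator G) {φ : N → ℂ} (hφ : Cfsg.IsIrrCharacter N φ)
    {a : ℕ} (ha : φ 1 = a) {l : N →* ℂˣ} (hl : ∀ g : G, conjFun g (lf N l) = lf N l) {d d' : ℕ}
    (h : OverDeg φ d) (h' : OverDeg (φ * lf N l) d') :
    ∃ e', d' = e' * (inertia (φ * lf N l)).index * a ∧ l ^ (d * e') = 1 := by
  have ha' : (φ * lf N l) 1 = a := by simp [lf, ha]
  obtain ⟨χ, e, hχ, hd, -, -, hres⟩ := overDeg_decomp hφ ha h
  obtain ⟨χ', e', hχ', -, -, he', hres'⟩ := overDeg_decomp (isIrr_mul_lf hφ l) ha' h'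
  refine ⟨e', he', pow_eq_one_of_apply fun n => ?_⟩
  have key := det_pow_eq (isCharacter_res N (IsIrr.isCharacter hχ))
    (isCharacter_res N (IsIrr.isCharacter hχ')) e' e d (by simpa using hd) (l n : ℂ) n fun k => by
      rw [hres', hres, orbit_mul_lf hl, map_pow, Units.val_pow_eq_pow_val]
      ring
  simpa [detChar_res_eq_one hNG (IsIrr.isCharacter hχ),
    detChar_res_eq_one hNG (IsIrr.isCharacter hχ')] using key.symm

omit [Fintype N] [Fintype G] in
theorem inertia_eq_top_of_inv {φ : N → ℂ} (h : ∀ g : G, conjFun g φ = φ) :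
    inertia (G := G) φ = ⊤ :=
  eq_top_iff.2 fun g _ => h g

/-- An invariant linear character has order dividing every degree over it. -/
theorem linear_over (hNG : N ≤ commutator G) {l : N →* ℂˣ}
    (hl : ∀ g : G, conjFun g (lf N l) = lf N l) {d : ℕ} (h : OverDeg (lf N l) d) : l ^ d = 1 := by
  have h1 : OverDeg (1 : N → ℂ) 1 := ⟨fun _ => 1, isIrrCharacter_one, by simp, by
    show Cfsg.classInner (fun _ : N => (1 : ℂ)) (fun _ : N => (1 : ℂ)) ≠ 0
    rw [classInner_irr_self isIrrCharacter_one]; exact one_ne_zero⟩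
  obtain ⟨e', he', hpow⟩ := twist_over hNG (φ := (1 : N → ℂ)) isIrrCharacter_one (a := 1)
    (by simp) hl h1 (by rwa [one_mul])
  rw [one_mul] at he' hpow
  rw [inertia_eq_top_of_inv hl, Subgroup.index_top, mul_one, mul_one] at he'
  rwa [he']

omit [Fintype N] in
/-- Orbits of functions with coprime inertia indices combine freely. -/
theorem exists_common_conj {a b : N → ℂ}
    (hco : (inertia (G := G) a).index.Coprime (inertia (G := G) b).index) (g h : G) :
    ∃ k : G, conjFun k a = conjFun g a ∧ conjFun k b = conjFun h b := by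
  classical
  set A := inertia (G := G) a
  set B := inertia (G := G) b
  have hind : (A ⊓ B).index = A.index * B.index :=
    Nat.le_antisymm Subgroup.index_inf_le (Nat.le_of_dvd
      (Nat.pos_of_ne_zero Subgroup.index_ne_zero_of_finite)
      (hco.mul_dvd_of_dvd_of_dvd (Subgroup.index_dvd_of_le inf_le_left)
        (Subgroup.index_dvd_of_le inf_le_right)))
  have hrel : B.relIndex A = B.index := by
    have h1 := Subgroup.relIndex_mul_index (inf_le_left : A ⊓ B ≤ A)
    rw [hind, Subgroup.inf_relIndex_left, mul_comm A.index] at h1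
    exact Nat.eq_of_mul_eq_mul_right (Nat.pos_of_ne_zero Subgroup.index_ne_zero_of_finite) h1
  -- the orbit of the trivial coset under `A` is everything
  let f : A ⧸ B.subgroupOf A → G ⧸ B := Quotient.lift (fun x : A => QuotientGroup.mk (x : G))
    fun x y hxy => by
      exact QuotientGroup.eq.2 (Subgroup.mem_subgroupOf.1 (QuotientGroup.leftRel_apply.1 hxy))
  have hf : Function.Bijective f := by
    refine (Nat.bijective_iff_injective_and_card f).2 ⟨fun x y hxy => ?_, ?_⟩
    · obtain ⟨x, rfl⟩ := QuotientGroup.mk_surjective x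
      obtain ⟨y, rfl⟩ := QuotientGroup.mk_surjective y
      exact QuotientGroup.eq.2 (Subgroup.mem_subgroupOf.2 (QuotientGroup.eq.1 (id hxy : (QuotientGroup.mk (x : G) : G ⧸ B) = QuotientGroup.mk (y : G))))
    · rw [← Subgroup.index_eq_card, ← Subgroup.index_eq_card]; exact hrel
  obtain ⟨x, hx⟩ := hf.2 (QuotientGroup.mk (g * h⁻¹))
  obtain ⟨x, rfl⟩ := QuotientGroup.mk_surjective x
  have hxB : (x : G)⁻¹ * (g * h⁻¹) ∈ B := QuotientGroup.eq.1 hx
  refine ⟨(x : G)⁻¹ * g, ?_, ?_⟩
  · rw [← conjFun_conjFun, mem_inertia.1 (A.inv_mem x.2)]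
  · rw [show (x : G)⁻¹ * g = (x : G)⁻¹ * (g * h⁻¹) * h by group, ← conjFun_conjFun,
      mem_inertia.1 hxB]

omit hN [Fintype G] [Fintype N] in
/-- A finite set closed under a fixed-point-free translation of prime order. -/
theorem dvd_card_of_translation {O : Finset (N → ℂ)} {m : N →* ℂˣ} {r : ℕ} (hr : r.Prime)
    (hm : m ^ r = 1) (hclosed : ∀ ψ ∈ O, ψ * lf N m ∈ O) (hfree : ∀ ψ ∈ O, ψ * lf N m ≠ ψ) :
    r ∣ O.card := by
  classical
  by_contra hnd
  haveI := Fact.mk hr
  let f : O → O := fun ψ => ⟨ψ.1 * lf N m, hclosed _ ψ.2⟩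
  have hinj : Function.Injective f := fun a b e => Subtype.ext (mul_lf_cancel (congrArg Subtype.val e))
  let σ : Equiv.Perm O := Equiv.ofBijective f (Finite.injective_iff_bijective.1 hinj)
  have hpow : ∀ (k : ℕ) (ψ : O), (((σ ^ k) ψ : O) : N → ℂ) = (ψ : N → ℂ) * lf N (m ^ k) := by
    intro k
    induction k with
    | zero => intro ψ; simp [lf_one]
    | succ k ih =>
      intro ψ
      rw [pow_succ', Equiv.Perm.mul_apply]
      show ((σ ^ k) ψ : N → ℂ) * lf N m = _
      rw [ih, pow_succ m k, lf_mul, mul_assoc]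
  obtain ⟨ψ, hψ⟩ := Equiv.Perm.exists_fixed_point_of_prime (n := 1)
    (by rwa [Fintype.card_coe]) (σ := σ) (by
      rw [pow_one]; ext1 ψ
      exact Subtype.ext (by simp [hpow, hm, lf_one]))
  exact hfree _ ψ.2 (congrArg Subtype.val hψ)

/-- Reachability between members of the relative degree set. -/
def Linked (N : Subgroup G) (a b : ℕ) : Prop :=
  ∃ (ha : a ∈ Cfsg.relCharDegrees N) (hb : b ∈ Cfsg.relCharDegrees N),
    (Cfsg.commonDivisorGraph.induce (Cfsg.relCharDegrees N)).Reachable ⟨a, ha⟩ ⟨b, hb⟩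

omit hN [Fintype G] [Fintype N] in
theorem Linked.trans' {a b c : ℕ} (h : Linked N a b) (h' : Linked N b c) : Linked N a c := by
  obtain ⟨ha, hb, h⟩ := h; obtain ⟨_, hc, h'⟩ := h'
  exact ⟨ha, hc, h.trans h'⟩

omit hN [Fintype G] [Fintype N] in
theorem Linked.symm' {a b : ℕ} (h : Linked N a b) : Linked N b a := by
  obtain ⟨ha, hb, h⟩ := h
  exact ⟨hb, ha, h.symm⟩

omit hN [Fintype N] in
theorem pos_of_mem {a : ℕ} (ha : a ∈ Cfsg.relCharDegrees N) : 0 < a := by
  obtain ⟨χ, -, hd⟩ := ha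
  obtain ⟨k, hk, hk1⟩ := IsIrr.degree χ.2
  simp [Cfsg.charDegree, hk1] at hd
  omega

omit hN [Fintype N] in
theorem linked_of_common {a b : ℕ} (ha : a ∈ Cfsg.relCharDegrees N)
    (hb : b ∈ Cfsg.relCharDegrees N) (h : ¬ a.Coprime b) : Linked N a b := by
  refine ⟨ha, hb, ?_⟩
  by_cases hab : a = b
  · subst hab; exact SimpleGraph.Reachable.refl _
  · refine SimpleGraph.Adj.reachable ?_
    rw [SimpleGraph.induce_adj]
    refine ⟨hab, ?_⟩
    rcases Nat.lt_or_ge 1 (a.gcd b) with h1 | h1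
    · exact h1
    · exact absurd (Nat.le_antisymm h1 (Nat.gcd_pos_of_pos_left _ (pos_of_mem ha))) h

omit hN [Fintype N] in
theorem linked_of_dvd {a b k : ℕ} (ha : a ∈ Cfsg.relCharDegrees N)
    (hb : b ∈ Cfsg.relCharDegrees N) (hk : k ≠ 1) (h1 : k ∣ a) (h2 : k ∣ b) : Linked N a b :=
  linked_of_common ha hb fun h => hk (Nat.eq_one_of_dvd_coprimes h h1 h2)

/-- A nontrivial linear character of prime order `r` fixed by a Sylow `r`-subgroup. -/
structure Good (r : ℕ) (l : N →* ℂˣ) : Prop where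
  prime : r.Prime
  ne : l ≠ 1
  pow : l ^ r = 1
  index : ¬ r ∣ (inertia (G := G) (lf N l)).index

theorem Good.ne_one_fun {r : ℕ} {l : N →* ℂˣ} (hg : Good (G := G) r l) : lf N l ≠ 1 :=
  fun h => hg.ne (lf_inj (h.trans lf_one.symm))

theorem Good.mem {r : ℕ} {l : N →* ℂˣ} (hg : Good (G := G) r l) {d : ℕ}
    (h : OverDeg (lf N l) d) : d ∈ Cfsg.relCharDegrees N :=
  overDeg_mem (isIrrCharacter_hom l) hg.ne_one_fun h

omit hN [Fintype G] [Fintype N] in
theorem not_coprime_of_pow {l : N →* ℂˣ} (hl : l ≠ 1) {a b : ℕ} (ha : l ^ a = 1) (hb : l ^ b = 1) :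
    ¬ a.Coprime b := fun h => hl (by simpa [h.gcd_eq_one] using pow_gcd_eq_one.2 ⟨ha, hb⟩)

theorem index_inf_of_coprime {A B : Subgroup G} (h : A.index.Coprime B.index) :
    (A ⊓ B).index = A.index * B.index :=
  Nat.le_antisymm Subgroup.index_inf_le (Nat.le_of_dvd
    (Nat.pos_of_ne_zero Subgroup.index_ne_zero_of_finite)
    (h.mul_dvd_of_dvd_of_dvd (Subgroup.index_dvd_of_le inf_le_left)
      (Subgroup.index_dvd_of_le inf_le_right)))

/-- A degree prime to `r` is linked to a degree over a good linear character of order `r`. -/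
theorem linked_good (hNG : N ≤ commutator G) {r : ℕ} {l : N →* ℂˣ} (hg : Good (G := G) r l)
    {d : ℕ} (hd : d ∈ Cfsg.relCharDegrees N) (hrd : ¬ r ∣ d) :
    ∃ d₀, OverDeg (lf N l) d₀ ∧ Linked N d d₀ := by
  classical
  obtain ⟨φ, hφ, hφ1, hover⟩ := mem_overDeg hd
  obtain ⟨a, ha0, ha⟩ := IsIrr.degree hφ
  set φ' := φ * lf N l with hφ'
  have hφ'i : Cfsg.IsIrrCharacter N φ' := isIrr_mul_lf hφ l
  have ha' : φ' 1 = a := by simp [hφ', lf, ha]
  set T := inertia (G := G) φ with hT
  set T' := inertia (G := G) φ' with hT'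
  set U := inertia (G := G) (lf N l) with hU
  obtain ⟨d₀, hd₀⟩ := overDeg_exists (isIrrCharacter_hom l : Cfsg.IsIrrCharacter N (lf N l))
  refine ⟨d₀, hd₀, ?_⟩
  have hd₀m := hg.mem hd₀
  have hdd := overDeg_dvd hφ ha hover
  have hra : ¬ r ∣ a := fun h => hrd (dvd_trans (h.trans (dvd_mul_left a T.index)) hdd)
  have hrT : ¬ r ∣ T.index := fun h => hrd (dvd_trans (h.trans (dvd_mul_right T.index a)) hdd)
  have hU0 : U.index ∣ d₀ := (dvd_mul_right _ 1).trans
    (overDeg_dvd (isIrrCharacter_hom l) (by simp [lf]) hd₀)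
  by_cases hφ'1 : φ' = 1
  · -- `φ` is the inverse of `l`
    have hφl : φ = lf N l⁻¹ := mul_lf_cancel (l := l) (by
      rw [← lf_mul, inv_mul_cancel, lf_one]; exact hφ'1)
    have hTU : T = U := by
      ext g
      rw [hT, hU, mem_inertia, mem_inertia, hφl, conjFun_lf, conjFun_lf]
      constructor
      · intro h; exact congrArg (lf N) (inv_injective (lf_inj h : (cj g l)⁻¹ = l⁻¹))
      · intro h; exact congrArg (lf N) (congrArg Inv.inv (lf_inj h) : (cj g l)⁻¹ = l⁻¹)
    by_cases hU1 : U.index = 1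
    · exfalso
      have hinv : ∀ g : G, conjFun g (lf N l⁻¹) = lf N l⁻¹ := fun g => by
        have : g ∈ T := by rw [Subgroup.index_eq_one.1 (hTU ▸ hU1 : T.index = 1)]; trivial
        rw [← hφl]; exact this
      have := linear_over hNG hinv (hφl ▸ hover)
      rw [inv_pow, inv_eq_one] at this
      exact hrd (dvd_of_pow_eq_one hg.prime hg.ne hg.pow this)
    · exact linked_of_dvd hd hd₀m hU1 (((hTU ▸ dvd_refl T.index : U.index ∣ T.index).trans
        (dvd_mul_right _ a)).trans hdd) hU0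
  obtain ⟨d', hd'⟩ := overDeg_exists hφ'i
  have hd'm := overDeg_mem hφ'i hφ'1 hd'
  have hdd' := overDeg_dvd hφ'i ha' hd'
  by_cases hU1 : U.index = 1
  · -- `l` is invariant
    have hinv : ∀ g : G, conjFun g (lf N l) = lf N l := fun g => by
      have : g ∈ U := by rw [Subgroup.index_eq_one.1 hU1]; trivial
      exact this
    obtain ⟨e', he', hpow⟩ := twist_over hNG hφ ha hinv hover hd'
    have hre : r ∣ d' := by
      have := dvd_of_pow_eq_one hg.prime hg.ne hg.pow hpow
      rcases hg.prime.dvd_mul.1 this with h | h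
      · exact absurd h hrd
      · rw [he', mul_assoc]; exact h.mul_right _
    have hr0 : r ∣ d₀ := dvd_of_pow_eq_one hg.prime hg.ne hg.pow (linear_over hNG hinv hd₀)
    refine Linked.trans' ?_ (linked_of_dvd hd'm hd₀m hg.prime.ne_one hre hr0)
    have hTT : T' = T := by
      ext g
      rw [hT, hT', mem_inertia, mem_inertia, hφ', conjFun_mul, hinv g]
      exact ⟨mul_lf_cancel, fun h => by rw [h]⟩
    by_cases ha1 : a = 1
    · by_cases hT1 : T.index = 1
      · -- `φ` is linear and invariant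
        obtain ⟨θ, hθ⟩ := IsChar.exists_hom (IsIrr.isCharacter hφ) (by rw [ha, ha1, Nat.cast_one])
        replace hθ : φ = lf N θ := hθ
        have hθ1 : θ ≠ 1 := fun h => hφ1 (by rw [hθ, h, lf_one])
        have hθinv : ∀ g : G, conjFun g (lf N θ) = lf N θ := fun g => by
          have : g ∈ T := by rw [Subgroup.index_eq_one.1 hT1]; trivial
          rw [← hθ]; exact this
        have h1 := linear_over hNG hθinv (hθ ▸ hover)
        have h2 : (θ * l) ^ d' = 1 := by
          refine linear_over hNG (fun g => ?_) (by rw [lf_mul, ← hθ]; exact hd')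
          rw [lf_mul, conjFun_mul, hθinv, hinv]
        have h3 : l ^ d' = 1 := by
          obtain ⟨c, rfl⟩ := hre; rw [pow_mul, hg.pow, one_pow]
        rw [mul_pow, h3, mul_one] at h2
        exact linked_of_common hd hd'm (not_coprime_of_pow hθ1 h1 h2)
      · exact linked_of_dvd hd hd'm hT1 ((dvd_mul_right _ a).trans hdd)
          (by rw [← hTT]; exact (dvd_mul_right T'.index a).trans hdd')
    · exact linked_of_dvd hd hd'm ha1 ((dvd_mul_left a _).trans hdd) ((dvd_mul_left a _).trans hdd')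
  · -- `l` is not invariant
    obtain ⟨h₁, hh₁⟩ : ∃ h₁ : G, h₁ ∉ U :=
      SetLike.exists_of_lt (lt_top_iff_ne_top.2 fun h => hU1 (Subgroup.index_eq_one.2 h)) |>.imp
        fun _ h => h.2
    by_cases c1 : T.index.Coprime U.index
    swap
    · exact linked_of_common hd hd₀m fun h =>
        c1 ((h.coprime_dvd_left ((dvd_mul_right _ a).trans hdd)).coprime_dvd_right hU0)
    have hle : T ⊓ U ≤ T' := fun g hg => by
      rw [hT', mem_inertia, hφ', conjFun_mul, mem_inertia.1 hg.1, mem_inertia.1 hg.2]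
    have hle' : T' ⊓ U ≤ T := fun g hg => by
      have h := mem_inertia.1 hg.1
      rw [hφ', conjFun_mul, mem_inertia.1 hg.2] at h
      exact mul_lf_cancel h
    by_cases c2 : T'.index.Coprime U.index
    · -- both coprime: impossible
      exfalso
      have h1 : T'.index ∣ T.index := c2.dvd_of_dvd_mul_right
        (index_inf_of_coprime c1 ▸ Subgroup.index_dvd_of_le hle)
      have h2 : T.index ∣ T'.index := c1.dvd_of_dvd_mul_right
        (index_inf_of_coprime c2 ▸ Subgroup.index_dvd_of_le hle')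
      have hO : (orbit φ).image (· * lf N l) = orbit φ' := by
        refine Finset.eq_of_subset_of_card_le (fun ψ hψ => ?_) ?_
        · obtain ⟨ψ₀, hψ₀, rfl⟩ := Finset.mem_image.1 hψ
          obtain ⟨g, rfl⟩ := mem_orbit.1 hψ₀
          obtain ⟨k, hk1, hk2⟩ := exists_common_conj (a := φ) (b := lf N l) c1 g 1
          exact mem_orbit.2 ⟨k, by rw [hφ', conjFun_mul, hk1, hk2, conjFun_one]⟩
        · rw [Finset.card_image_of_injective _ fun a b e => mul_lf_cancel e, card_orbit, card_orbit]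
          exact (Nat.dvd_antisymm h1 h2).le
      set m := cj h₁ l * l⁻¹ with hm
      have hmr : m ^ r = 1 := by rw [hm, mul_pow, inv_pow, hg.pow, ← cj_pow, hg.pow]; ext; simp [cj]
      have hm1 : m ≠ 1 := fun h => hh₁ (by
        rw [hU, mem_inertia, conjFun_lf, mul_inv_eq_one.1 h])
      refine hrT ?_
      rw [hT, ← card_orbit]
      refine dvd_card_of_translation hg.prime hmr (fun ψ hψ => ?_) fun ψ hψ hfix => ?_
      · obtain ⟨g, rfl⟩ := mem_orbit.1 hψ
        obtain ⟨k, hk1, hk2⟩ := exists_common_conj (a := φ) (b := lf N l) c1 g h₁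
        have hmem : conjFun g φ * lf N (cj h₁ l) ∈ orbit φ' :=
          mem_orbit.2 ⟨k, by rw [hφ', conjFun_mul, hk1, hk2, conjFun_lf]⟩
        rw [← hO] at hmem
        obtain ⟨ψ', hψ', he⟩ := Finset.mem_image.1 hmem
        have : ψ' = conjFun g φ * lf N m := mul_lf_cancel (l := l) (he.trans (by
          rw [mul_assoc, ← lf_mul, hm, inv_mul_cancel_right]))
        rwa [← this]
      · obtain ⟨g, rfl⟩ := mem_orbit.1 hψ
        have := twist_fix (isIrr_conjFun g hφ) (by rw [conjFun_apply_one, ha]) hfix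
        exact hra (dvd_of_pow_eq_one hg.prime hm1 hmr this)
    · refine Linked.trans' (b := d') ?_ (linked_of_common hd'm hd₀m fun h =>
        c2 ((h.coprime_dvd_left ((dvd_mul_right _ a).trans hdd')).coprime_dvd_right hU0))
      by_cases ha1 : a = 1
      swap
      · exact linked_of_dvd hd hd'm ha1 ((dvd_mul_left a _).trans hdd) ((dvd_mul_left a _).trans hdd')
      by_cases c3 : T.index.Coprime T'.index
      swap
      · exact linked_of_common hd hd'm fun h => c3
          ((h.coprime_dvd_left ((dvd_mul_right _ a).trans hdd)).coprime_dvd_right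
            ((dvd_mul_right _ a).trans hdd'))
      obtain ⟨θ, hθ⟩ := IsChar.exists_hom (IsIrr.isCharacter hφ) (by rw [ha, ha1, Nat.cast_one])
      replace hθ : φ = lf N θ := hθ
      have hle'' : T ⊓ T' ≤ U := fun g hg => by
        have h := mem_inertia.1 hg.2
        rw [hφ', conjFun_mul, mem_inertia.1 hg.1] at h
        rw [mul_comm φ, mul_comm φ, hθ] at h
        exact mul_lf_cancel h
      have h1 : T'.index ∣ U.index := Nat.Coprime.dvd_of_dvd_mul_left c3.symm
        (index_inf_of_coprime c1 ▸ Subgroup.index_dvd_of_le hle)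
      have h2 : U.index ∣ T'.index := Nat.Coprime.dvd_of_dvd_mul_left c1.symm
        (index_inf_of_coprime c3 ▸ Subgroup.index_dvd_of_le hle'')
      by_cases hT1 : T.index = 1
      · -- `φ` is linear and invariant
        have hθ1 : θ ≠ 1 := fun h => hφ1 (by rw [hθ, h, lf_one])
        have hθinv : ∀ g : G, conjFun g (lf N θ) = lf N θ := fun g => by
          have : g ∈ T := by rw [Subgroup.index_eq_one.1 hT1]; trivial
          rw [← hθ]; exact this
        have ha1' := linear_over hNG hθinv (hθ ▸ hover)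
        obtain ⟨e', he', hpow⟩ := twist_over hNG (φ := lf N l) (isIrrCharacter_hom l) (a := 1)
          (by simp [lf]) hθinv hd₀ (by rw [mul_comm, ← hθ]; exact hd')
        by_cases c4 : d.Coprime d₀
        · refine linked_of_common hd hd'm fun h => not_coprime_of_pow hθ1 ha1' hpow ?_
          exact c4.mul_right (h.coprime_dvd_right ⟨_, by rw [he', mul_assoc]⟩)
        · exact (linked_of_common hd hd₀m c4).trans'
            (linked_of_common hd'm hd₀m fun h =>
              c2 ((h.coprime_dvd_left ((dvd_mul_right _ a).trans hdd')).coprime_dvd_right hU0)).symm'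
      · -- impossible
        exfalso
        have hsub : ∀ g : G, (orbit (lf N l)).image (conjFun g φ * ·) = orbit φ' := by
          intro g
          refine Finset.eq_of_subset_of_card_le (fun ψ hψ => ?_) ?_
          · obtain ⟨ψ₀, hψ₀, rfl⟩ := Finset.mem_image.1 hψ
            obtain ⟨h, rfl⟩ := mem_orbit.1 hψ₀
            obtain ⟨k, hk1, hk2⟩ := exists_common_conj (a := φ) (b := lf N l) c1 g h
            exact mem_orbit.2 ⟨k, by rw [hφ', conjFun_mul, hk1, hk2]⟩
          · rw [Finset.card_image_of_injective _ fun x y e => ?_, card_orbit, card_orbit]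
            · exact (Nat.dvd_antisymm h1 h2).le
            · rw [hθ, conjFun_lf, mul_comm _ x, mul_comm _ y] at e
              exact mul_lf_cancel e
        obtain ⟨g₁, hg₁⟩ : ∃ g₁ : G, g₁ ∉ T :=
          SetLike.exists_of_lt (lt_top_iff_ne_top.2 fun h => hT1 (Subgroup.index_eq_one.2 h))
            |>.imp fun _ h => h.2
        have hmem : conjFun g₁ φ * lf N l ∈ (orbit (lf N l)).image (conjFun 1 φ * ·) := by
          rw [hsub 1, ← hsub g₁]; exact Finset.mem_image_of_mem _ (self_mem_orbit _)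
        obtain ⟨x, hx, hxe⟩ := Finset.mem_image.1 hmem
        obtain ⟨h, rfl⟩ := mem_orbit.1 hx
        rw [conjFun_one, conjFun_lf] at hxe
        set m := cj h l * l⁻¹ with hm
        have hg₁φ : conjFun g₁ φ = φ * lf N m := mul_lf_cancel (l := l) (hxe.symm.trans (by
          rw [mul_assoc, ← lf_mul, hm, inv_mul_cancel_right]))
        have hm1 : m ≠ 1 := fun h => hg₁ (by
          rw [hT, mem_inertia, hg₁φ, h, lf_one, mul_one])
        have hmr : m ^ r = 1 := by rw [hm, mul_pow, inv_pow, hg.pow, ← cj_pow, hg.pow]; ext; simp [cj]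
        refine hg.index ?_
        rw [← card_orbit]
        refine dvd_card_of_translation hg.prime hmr (fun ψ hψ => ?_) fun ψ hψ hfix => ?_
        · have hmem' : conjFun g₁ φ * ψ ∈ (orbit (lf N l)).image (conjFun 1 φ * ·) := by
            rw [hsub 1, ← hsub g₁]; exact Finset.mem_image_of_mem _ hψ
          obtain ⟨y, hy, hye⟩ := Finset.mem_image.1 hmem'
          rw [conjFun_one, hg₁φ, mul_assoc, mul_comm (lf N m)] at hye
          rw [hθ, mul_comm _ y, mul_comm _ (ψ * lf N m)] at hye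
          rwa [mul_lf_cancel hye] at hy
        · obtain ⟨k, rfl⟩ := mem_orbit.1 hψ
          rw [conjFun_lf, ← lf_mul] at hfix
          exact hm1 (mul_eq_left.1 (lf_inj hfix))

/-- Degrees over one good linear character form one linked set. -/
theorem linked_over_good (hNG : N ≤ commutator G) {r : ℕ} {l : N →* ℂˣ}
    (hg : Good (G := G) r l) {d d' : ℕ} (h : OverDeg (lf N l) d) (h' : OverDeg (lf N l) d') :
    Linked N d d' := by
  by_cases hU1 : (inertia (G := G) (lf N l)).index = 1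
  · have hinv : ∀ g : G, conjFun g (lf N l) = lf N l := fun g => by
      have : g ∈ inertia (G := G) (lf N l) := by rw [Subgroup.index_eq_one.1 hU1]; trivial
      exact this
    exact linked_of_dvd (hg.mem h) (hg.mem h') hg.prime.ne_one
      (dvd_of_pow_eq_one hg.prime hg.ne hg.pow (linear_over hNG hinv h))
      (dvd_of_pow_eq_one hg.prime hg.ne hg.pow (linear_over hNG hinv h'))
  · have hone : lf N l 1 = (1 : ℕ) := by simp [lf]
    exact linked_of_dvd (hg.mem h) (hg.mem h') hU1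
      ((dvd_mul_right _ 1).trans (overDeg_dvd (isIrrCharacter_hom l) hone h))
      ((dvd_mul_right _ 1).trans (overDeg_dvd (isIrrCharacter_hom l) hone h'))

/-- The sets over good characters for different primes are linked. -/
theorem linked_goods (hNG : N ≤ commutator G) {r s : ℕ} {l m : N →* ℂˣ}
    (hl : Good (G := G) r l) (hm : Good (G := G) s m) {d d' : ℕ} (h : OverDeg (lf N l) d)
    (h' : OverDeg (lf N m) d') : Linked N d d' := by
  by_cases h1 : s ∣ d
  swap
  · obtain ⟨d₀, hd₀, hL⟩ := linked_good hNG hm (hl.mem h) h1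
    exact hL.trans' (linked_over_good hNG hm hd₀ h')
  by_cases h2 : r ∣ d'
  swap
  · obtain ⟨d₀, hd₀, hL⟩ := linked_good hNG hl (hm.mem h') h2
    exact (hL.trans' (linked_over_good hNG hl hd₀ h)).symm'
  set U := inertia (G := G) (lf N l) with hU
  set V := inertia (G := G) (lf N m) with hV
  by_cases hU1 : U.index = 1
  · have hinv : ∀ g : G, conjFun g (lf N l) = lf N l := fun g => by
      have : g ∈ U := by rw [Subgroup.index_eq_one.1 hU1]; trivial
      exact this
    exact linked_of_dvd (hl.mem h) (hm.mem h') hl.prime.ne_one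
      (dvd_of_pow_eq_one hl.prime hl.ne hl.pow (linear_over hNG hinv h)) h2
  by_cases hV1 : V.index = 1
  · have hinv : ∀ g : G, conjFun g (lf N m) = lf N m := fun g => by
      have : g ∈ V := by rw [Subgroup.index_eq_one.1 hV1]; trivial
      exact this
    exact linked_of_dvd (hl.mem h) (hm.mem h') hm.prime.ne_one h1
      (dvd_of_pow_eq_one hm.prime hm.ne hm.pow (linear_over hNG hinv h'))
  by_cases hrs : r = s
  · exact linked_of_dvd (hl.mem h) (hm.mem h') hl.prime.ne_one (hrs ▸ h1) h2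
  have hco : r.Coprime s := (Nat.coprime_primes hl.prime hm.prime).2 hrs
  have key : ∀ g : G, g ∈ inertia (G := G) (lf N (l * m)) → g ∈ U ∧ g ∈ V := by
    intro g hg
    rw [mem_inertia, conjFun_lf] at hg
    have heq : cj g l * cj g m = l * m := lf_inj hg
    have hcr : cj g l ^ r = 1 := by rw [← cj_pow, hl.pow]; ext; simp [cj]
    have hcs : cj g m ^ s = 1 := by rw [← cj_pow, hm.pow]; ext; simp [cj]
    have hq : cj g l * l⁻¹ = m * (cj g m)⁻¹ := by
      rw [mul_inv_eq_iff_eq_mul, mul_right_comm, eq_mul_inv_iff_mul_eq, heq, mul_comm]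
    have hq1 : cj g l * l⁻¹ = 1 := by
      by_contra hne
      refine not_coprime_of_pow hne ?_ ?_ hco
      · rw [mul_pow, inv_pow, hcr, hl.pow, inv_one, one_mul]
      · rw [hq, mul_pow, inv_pow, hcs, hm.pow, inv_one, one_mul]
    rw [hq1] at hq
    constructor
    · rw [hU, mem_inertia, conjFun_lf, mul_inv_eq_one.1 hq1]
    · rw [hV, mem_inertia, conjFun_lf, ← mul_inv_eq_one.1 hq.symm]
  have hlm : l * m ≠ 1 := fun h0 => by
    refine not_coprime_of_pow hl.ne hl.pow ?_ hco
    rw [eq_inv_of_mul_eq_one_left h0, inv_pow, hm.pow, inv_one]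
  obtain ⟨d'', hd''⟩ := overDeg_exists
    (isIrrCharacter_hom (l * m) : Cfsg.IsIrrCharacter N (lf N (l * m)))
  have hd''m : d'' ∈ Cfsg.relCharDegrees N :=
    overDeg_mem (isIrrCharacter_hom _) (fun h0 => hlm (lf_inj (h0.trans lf_one.symm))) hd''
  have hW := (dvd_mul_right _ 1).trans
    (overDeg_dvd (isIrrCharacter_hom (l * m)) (a := 1) (by simp [lf]) hd'')
  have hone : ∀ k : N →* ℂˣ, lf N k 1 = (1 : ℕ) := fun k => by simp [lf]
  exact (linked_of_dvd (hl.mem h) hd''m hU1
      ((dvd_mul_right _ 1).trans (overDeg_dvd (isIrrCharacter_hom l) (hone l) h))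
      ((Subgroup.index_dvd_of_le fun g hg => (key g hg).1).trans hW)).trans'
    (linked_of_dvd hd''m (hm.mem h') hV1
      ((Subgroup.index_dvd_of_le fun g hg => (key g hg).2).trans hW)
      ((dvd_mul_right _ 1).trans (overDeg_dvd (isIrrCharacter_hom m) (hone m) h')))

omit [Fintype N] in
theorem exists_good {r : ℕ} (hr : r.Prime) (hdvd : r ∣ ⁅N, N⁆.relIndex N) :
    ∃ l : N →* ℂˣ, Good (G := G) r l := by
  classical
  haveI := Fact.mk hr
  have hidx : ⁅N, N⁆.relIndex N = Nat.card (Abelianization N) := by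
    rw [Subgroup.relIndex]
    show (⁅N, N⁆.subgroupOf N).index = Nat.card (N ⧸ commutator N)
    rw [← Subgroup.index_eq_card, ← Subgroup.map_subtype_commutator]
    congr 1
    exact Subgroup.comap_map_eq_self_of_injective N.subtype_injective _
  rw [hidx, ← CommGroup.card_monoidHom_of_hasEnoughRootsOfUnity (Abelianization N) ℂ,
    ← Nat.card_congr Abelianization.lift] at hdvd
  haveI : Finite (N →* ℂˣ) := Finite.of_equiv _ Abelianization.lift.symm
  obtain ⟨l₁, hl₁⟩ := exists_prime_orderOf_dvd_card' r hdvd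
  let X := {f : N → ℂ // ∃ l : N →* ℂˣ, l ^ r = 1 ∧ f = lf N l}
  letI : MulAction G X :=
    { smul := fun g f => ⟨conjFun g⁻¹ f.1, by
        obtain ⟨l, hl, he⟩ := f.2
        exact ⟨cj g⁻¹ l, by rw [← cj_pow, hl]; ext; simp [cj], by rw [he, conjFun_lf]⟩⟩
      one_smul := fun f => Subtype.ext (by
        show conjFun (1 : G)⁻¹ f.1 = f.1
        rw [inv_one, conjFun_one])
      mul_smul := fun g h f => Subtype.ext (by
        show conjFun (g * h)⁻¹ f.1 = conjFun g⁻¹ (conjFun h⁻¹ f.1)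
        rw [conjFun_conjFun, mul_inv_rev]) }
  let K := (powMonoidHom r : (N →* ℂˣ) →* (N →* ℂˣ)).ker
  let eX : K ≃ X := Equiv.ofBijective (fun k => ⟨lf N k.1, k.1, k.2, rfl⟩)
    ⟨fun a b e => Subtype.ext (lf_inj (congrArg Subtype.val e)),
     fun ⟨f, l, hl, he⟩ => ⟨⟨l, hl⟩, Subtype.ext he.symm⟩⟩
  haveI : Finite X := Finite.of_equiv _ eX
  have hK : r ∣ Nat.card X := by
    rw [← Nat.card_congr eX]
    have hmem : l₁ ∈ K := by
      show l₁ ^ r = 1
      rw [← hl₁]; exact pow_orderOf_eq_one l₁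
    rw [← hl₁, ← Subgroup.orderOf_mk l₁ hmem]
    exact orderOf_dvd_natCard _
  let P : Sylow r G := default
  let one' : X := ⟨lf N 1, 1, one_pow _, rfl⟩
  obtain ⟨b, hb, hne⟩ := P.2.exists_fixed_point_of_prime_dvd_card_of_fixed_point X hK
    (a := one') (fun g => Subtype.ext (by
      show conjFun (g : G)⁻¹ (lf N 1) = lf N 1
      rw [lf_one]; rfl))
  obtain ⟨l, hl, he⟩ := b.2
  refine ⟨l, hr, fun h => hne (Subtype.ext (by rw [he, h])), hl, fun hd => ?_⟩
  refine Sylow.not_dvd_index P (hd.trans (Subgroup.index_dvd_of_le fun g hg => ?_))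
  have h1 := congrArg Subtype.val (hb ⟨g⁻¹, inv_mem hg⟩)
  change conjFun ((g⁻¹ : G))⁻¹ b.1 = b.1 at h1
  rw [inv_inv, he] at h1
  exact h1

/-- **Main theorem**: any degree avoiding some prime divisor of `|N : N'|` lies in one component. -/
theorem component_theorem (hN' : ⁅N, N⁆ < N) (hNG : N ≤ commutator G) :
    ∃ d₀ ∈ Cfsg.relCharDegrees N, ∀ d ∈ Cfsg.relCharDegrees N,
      Linked N d d₀ ∨ ∀ r : ℕ, r.Prime → r ∣ ⁅N, N⁆.relIndex N → r ∣ d := by
  have hm : ⁅N, N⁆.relIndex N ≠ 1 := fun h => hN'.not_ge (Subgroup.relIndex_eq_one.1 h)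
  obtain ⟨r₀, hr₀, hr₀m⟩ := Nat.exists_prime_and_dvd hm
  obtain ⟨l₀, hl₀⟩ := exists_good hr₀ hr₀m
  obtain ⟨d₀, hd₀⟩ := overDeg_exists (isIrrCharacter_hom l₀ : Cfsg.IsIrrCharacter N (lf N l₀))
  refine ⟨d₀, hl₀.mem hd₀, fun d hd => ?_⟩
  by_contra! hc
  obtain ⟨hc1, r, hr, hrm, hrd⟩ := hc
  obtain ⟨l, hl⟩ := exists_good hr hrm
  obtain ⟨d₁, hd₁, hL⟩ := linked_good hNG hl hd hrd
  exact hc1 (hL.trans' (linked_goods hNG hl hl₀ hd₁ hd₀))

end Over

end Cfsg.Agent.RelDeg
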