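import Cfsg.Agent.Char.RelDegree
import Cfsg.Agent.Char.DerivedPrime
import Cfsg.Agent.Char.Gen
import Cfsg.Agent.ProjExt.Ratio

/-!
# The shape of a disconnected relative common-divisor graph
-/

namespace Cfsg.Agent.RelDeg

open Cfsg.Agent.Char

noncomputable local instance (priority := 100000) linGroup' {H : Type*} [Group H] {K : Subgroup H} :
    CommGroup (K →* ℂˣ) := MonoidHom.instCommGroup

universe u

variable {G : Type u} [Group G] {N : Subgroup G}

theorem mem_commutator_coe {n : N} (h : n ∈ commutator N) : (n : G) ∈ ⁅N, N⁆ := by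
  rw [← Subgroup.map_subtype_commutator]
  exact Subgroup.mem_map_of_mem _ h

theorem relIndex_commutator : ⁅N, N⁆.relIndex N = (commutator N).index := by
  rw [Subgroup.relIndex]
  congr 1
  rw [← Subgroup.map_subtype_commutator]
  exact Subgroup.comap_map_eq_self_of_injective N.subtype_injective _

theorem rel_mono {K : Subgroup G} (h : K ≤ N) :
    Cfsg.relCharDegrees K ⊆ Cfsg.relCharDegrees N := by
  rintro d ⟨χ, ⟨x, hx, hne⟩, hd⟩
  exact ⟨χ, ⟨x, h hx, hne⟩, hd⟩

theorem Linked.mono {K : Subgroup G} (h : K ≤ N) {a b : ℕ} (hl : Linked K a b) : Linked N a b := by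
  obtain ⟨ha, hb, hr⟩ := hl
  exact ⟨rel_mono h ha, rel_mono h hb,
    hr.map (Cfsg.commonDivisorGraph.induceHomOfLE (rel_mono h)).toHom⟩

theorem pow_relIndex (l : N →* ℂˣ) : l ^ ⁅N, N⁆.relIndex N = 1 := by
  ext n
  rw [MonoidHom.pow_apply, ← map_pow, relIndex_commutator,
    hom_commutator_eq_one l (Subgroup.pow_index_mem _ n)]
  simp

theorem closed_pow {O : Finset (N → ℂ)} {ν : N →* ℂˣ}
    (hclosed : ∀ ψ ∈ O, ψ * lf N ν ∈ O) (k : ℕ) : ∀ ψ ∈ O, ψ * lf N (ν ^ k) ∈ O := by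
  induction k with
  | zero => intro ψ hψ; simpa [lf_one] using hψ
  | succ k ih =>
    intro ψ hψ
    rw [pow_succ, lf_mul, ← mul_assoc]
    exact hclosed _ (ih ψ hψ)

/-- A closed set contains a translation of prime order. -/
theorem exists_prime_translation {O : Finset (N → ℂ)} {ν : N →* ℂˣ} {m : ℕ} (hm : m ≠ 0) (hν : ν ≠ 1)
    (hνm : ν ^ m = 1) (hclosed : ∀ ψ ∈ O, ψ * lf N ν ∈ O) :
    ∃ q : ℕ, q.Prime ∧ q ∣ m ∧ ∃ ν' : N →* ℂˣ, ν' ≠ 1 ∧ ν' ^ q = 1 ∧
      ∀ ψ ∈ O, ψ * lf N ν' ∈ O := by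
  obtain ⟨q, hq, hqd⟩ := Nat.exists_prime_and_dvd (mt orderOf_eq_one_iff.1 hν)
  refine ⟨q, hq, hqd.trans (orderOf_dvd_of_pow_eq_one hνm), ν ^ (orderOf ν / q), fun h => ?_, ?_,
    closed_pow hclosed _⟩
  · have hdvd := orderOf_dvd_of_pow_eq_one h
    by_cases h0 : orderOf ν = 0
    · exact hm (Nat.eq_zero_of_zero_dvd (h0 ▸ orderOf_dvd_of_pow_eq_one hνm))
    · have hlt := Nat.div_lt_self (Nat.pos_of_ne_zero h0) hq.one_lt
      have hle := Nat.le_of_dvd (Nat.div_pos (Nat.le_of_dvd (Nat.pos_of_ne_zero h0) hqd) hq.pos)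
        hdvd
      omega
  · rw [← pow_mul, Nat.div_mul_cancel hqd, pow_orderOf_eq_one]

variable [hN : N.Normal] [Fintype G] [Fintype N]

/-- A nonlinear constituent puts a degree in the set relative to the derived subgroup. -/
theorem mem_rel_commutator {φ : N → ℂ} (hφ : Cfsg.IsIrrCharacter N φ) (h1 : φ 1 ≠ 1) {d : ℕ}
    (h : OverDeg φ d) : d ∈ Cfsg.relCharDegrees ⁅N, N⁆ := by
  obtain ⟨χ, hχ, hd, h0⟩ := h
  refine ⟨⟨χ, hχ⟩, ?_, by simp [Cfsg.charDegree, hd]⟩
  by_contra! hc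
  exact h1 (degree_one_of_commutator_le_ker hφ fun n hn =>
    IsChar.constituent_kernel (isCharacter_res N (IsIrr.isCharacter hχ)) hφ h0
      (g := n) (by simpa using hc n (mem_commutator_coe hn)))

/-- A degree over a nontrivial linear character of `N'` shares a prime with `|N : N'|`. -/
theorem exists_prime_over {l : ↥⁅N, N⁆ →* ℂˣ} [Fintype ↥⁅N, N⁆] (hl : l ≠ 1) {d : ℕ}
    (h : OverDeg (lf ⁅N, N⁆ l) d) : ∃ r : ℕ, r.Prime ∧ r ∣ ⁅N, N⁆.relIndex N ∧ r ∣ d := by
  classical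
  obtain ⟨χ, hχ, hd, h0⟩ := h
  have hres := isCharacter_res ⁅N, N⁆ (IsIrr.isCharacter hχ)
  have hclK := clifford hχ (isIrrCharacter_hom l) h0
  have hKK : ∀ k : ↥⁅N, N⁆, k ∈ commutator ↥⁅N, N⁆ → χ k = χ 1 := by
    intro k hk
    have e1 := congrFun hclK k
    have e2 := congrFun hclK 1
    simp only [Pi.smul_apply, Finset.sum_apply, OneMemClass.coe_one] at e1 e2
    refine e1.trans (Eq.trans ?_ e2.symm)
    refine congrArg _ (Finset.sum_congr rfl fun ψ hψ => ?_)
    obtain ⟨g, rfl⟩ := mem_orbit.1 hψ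
    show conjFun g (lf ⁅N, N⁆ l) k = conjFun g (lf ⁅N, N⁆ l) 1
    rw [conjFun_lf]
    simp [lf, hom_commutator_eq_one _ hk]
  obtain ⟨φ, hφ⟩ := exists_constituent_res (N := N) hχ
  have hresN := isCharacter_res N (IsIrr.isCharacter hχ)
  obtain ⟨a, ha0, ha⟩ := IsIrr.degree φ.2
  have hclN := clifford hχ φ.2 hφ
  have ha1 : a ≠ 1 := by
    intro hh
    refine hl (lf_inj (l := l) (l' := 1) ?_)
    funext k
    rw [lf_one, Pi.one_apply]
    have hk : χ k = χ 1 := by
      have hkN : (k : G) ∈ N := Subgroup.commutator_le_self N k.2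
      have hkc : (⟨k, hkN⟩ : N) ∈ commutator N := by
        have hk' := k.2
        have this : (k : G) ∈ Subgroup.map N.subtype (commutator N) := by
          rw [Subgroup.map_subtype_commutator]; exact hk'
        obtain ⟨y, hy, hye⟩ := Subgroup.mem_map.1 this
        have hy' : y = ⟨k, hkN⟩ := Subtype.ext hye
        rwa [hy'] at hy
      have e1 := congrFun hclN ⟨k, hkN⟩
      have e2 := congrFun hclN 1
      simp only [Pi.smul_apply, Finset.sum_apply, OneMemClass.coe_one] at e1 e2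
      refine e1.trans (Eq.trans ?_ e2.symm)
      refine congrArg _ (Finset.sum_congr rfl fun ψ hψ => ?_)
      obtain ⟨g, rfl⟩ := mem_orbit.1 hψ
      have h1 : conjFun g (φ : N → ℂ) 1 = 1 := by rw [conjFun_apply_one, ha, hh, Nat.cast_one]
      rw [h1, apply_commutator_of_linear (IsIrr.isCharacter (isIrr_conjFun g φ.2)) h1 hkc]
    have := IsChar.constituent_kernel hres (isIrrCharacter_hom l) h0 (g := k) (by simpa using hk)
    simpa [lf] using this
  obtain ⟨θ, hθ⟩ := exists_constituent_res (N := commutator N) φ.2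
  have hφK : ∀ t : ↥(commutator N), t ∈ commutator ↥(commutator N) →
      (φ : N → ℂ) t = (φ : N → ℂ) 1 := by
    intro t ht
    refine IsChar.constituent_kernel hresN φ.2 hφ (g := (t : N)) ?_
    let f : ↥(commutator N) →* ↥⁅N, N⁆ :=
      ((N.subtype.comp (commutator N).subtype).codRestrict ⁅N, N⁆ fun x => mem_commutator_coe x.2)
    have hft : f t ∈ commutator ↥⁅N, N⁆ := by
      have h2 : commutator ↥(commutator N) ≤ (commutator ↥⁅N, N⁆).comap f := by
        rw [← Subgroup.map_le_iff_le_comap, map_commutator_eq]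
        exact Subgroup.commutator_mono le_top le_top
      exact h2 ht
    exact hKK (f t) hft
  have hθ1 : (θ : ↥(commutator N) → ℂ) 1 = 1 := degree_one_of_commutator_le_ker θ.2 fun t ht =>
    IsChar.constituent_kernel (isCharacter_res _ (IsIrr.isCharacter φ.2)) θ.2 hθ (g := t)
      (by simpa using hφK t ht)
  obtain ⟨k, hk, hki⟩ := ProjExt.exists_ratio_dvd_index φ.2 θ.2 hθ
  rw [hθ1, mul_one, ha, Nat.cast_inj] at hk
  subst hk
  obtain ⟨r, hr, hra⟩ := Nat.exists_prime_and_dvd ha1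
  refine ⟨r, hr, by rw [relIndex_commutator]; exact hra.trans hki, hra.trans ?_⟩
  exact (dvd_mul_left a _).trans
    (overDeg_dvd φ.2 ha ⟨χ, hχ, hd, hφ⟩)

omit hN [Fintype G] [Fintype N] in
theorem not_coprime_of_dvd' {a b k : ℕ} (hk : k ≠ 1) (h1 : k ∣ a) (h2 : k ∣ b) : ¬ a.Coprime b :=
  fun h => hk (Nat.eq_one_of_dvd_coprimes h h1 h2)

/-- A degree over a linear character is at distance at most two from degrees prime to `|N : N'|`. -/
theorem near_linear (hNG : N ≤ commutator G) {φ : N → ℂ} (hφ : Cfsg.IsIrrCharacter N φ)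
    (hφ1 : φ ≠ 1) {θ : N →* ℂˣ} (hθ : θ ≠ 1) {d d₀ : ℕ} (hover : OverDeg φ d)
    (hd₀ : OverDeg (lf N θ) d₀) (hcd : d.Coprime (⁅N, N⁆.relIndex N))
    (hcd₀ : d₀.Coprime (⁅N, N⁆.relIndex N)) :
    ¬ d.Coprime d₀ ∨ ∃ w ∈ Cfsg.relCharDegrees N, ¬ d.Coprime w ∧ ¬ w.Coprime d₀ := by
  classical
  set m := ⁅N, N⁆.relIndex N
  obtain ⟨a, ha0, ha⟩ := IsIrr.degree hφ
  set φ' := φ * lf N θ with hφ'
  have hφ'i : Cfsg.IsIrrCharacter N φ' := isIrr_mul_lf hφ θ
  have ha' : φ' 1 = a := by simp [hφ', lf, ha]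
  set T := inertia (G := G) φ with hT
  set T' := inertia (G := G) φ' with hT'
  set U := inertia (G := G) (lf N θ) with hU
  have hdd := overDeg_dvd hφ ha hover
  have hda : a ∣ d := (dvd_mul_left a _).trans hdd
  have hdT : T.index ∣ d := (dvd_mul_right _ a).trans hdd
  have hU0 : U.index ∣ d₀ :=
    (dvd_mul_right _ 1).trans (overDeg_dvd (isIrrCharacter_hom θ) (by simp [lf]) hd₀)
  have hU1 : U.index ≠ 1 := by
    intro h
    have hinv : ∀ g : G, conjFun g (lf N θ) = lf N θ := fun g => by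
      have : g ∈ U := by rw [Subgroup.index_eq_one.1 h]; trivial
      exact this
    exact not_coprime_of_pow hθ (linear_over hNG hinv hd₀) (pow_relIndex θ) hcd₀
  by_cases c1 : T.index.Coprime U.index
  swap
  · exact Or.inl fun h => c1 ((h.coprime_dvd_left hdT).coprime_dvd_right hU0)
  by_cases hφ'1 : φ' = 1
  · exfalso
    have hφl : φ = lf N θ⁻¹ := mul_lf_cancel (l := θ) (by
      rw [← lf_mul, inv_mul_cancel, lf_one]; exact hφ'1)
    have hTU : T = U := by
      ext g
      rw [hT, hU, mem_inertia, mem_inertia, hφl, conjFun_lf, conjFun_lf]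
      constructor
      · intro h; exact congrArg (lf N) (inv_injective (lf_inj h : (cj g θ)⁻¹ = θ⁻¹))
      · intro h; exact congrArg (lf N) (congrArg Inv.inv (lf_inj h) : (cj g θ)⁻¹ = θ⁻¹)
    rw [hTU, Nat.coprime_self] at c1
    exact hU1 c1
  have hle : T ⊓ U ≤ T' := fun g hg => by
    rw [hT', mem_inertia, hφ', conjFun_mul, mem_inertia.1 hg.1, mem_inertia.1 hg.2]
  have hle' : T' ⊓ U ≤ T := fun g hg => by
    have h := mem_inertia.1 hg.1
    rw [hφ', conjFun_mul, mem_inertia.1 hg.2] at h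
    exact mul_lf_cancel h
  by_cases c2 : T'.index.Coprime U.index
  · exfalso
    have h1 : T'.index ∣ T.index := c2.dvd_of_dvd_mul_right
      (index_inf_of_coprime c1 ▸ Subgroup.index_dvd_of_le hle)
    have h2 : T.index ∣ T'.index := c1.dvd_of_dvd_mul_right
      (index_inf_of_coprime c2 ▸ Subgroup.index_dvd_of_le hle')
    have hO : (orbit φ).image (· * lf N θ) = orbit φ' := by
      refine Finset.eq_of_subset_of_card_le (fun ψ hψ => ?_) ?_
      · obtain ⟨ψ₀, hψ₀, rfl⟩ := Finset.mem_image.1 hψ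
        obtain ⟨g, rfl⟩ := mem_orbit.1 hψ₀
        obtain ⟨k, hk1, hk2⟩ := exists_common_conj (a := φ) (b := lf N θ) c1 g 1
        exact mem_orbit.2 ⟨k, by rw [hφ', conjFun_mul, hk1, hk2, conjFun_one]⟩
      · rw [Finset.card_image_of_injective _ fun a b e => mul_lf_cancel e, card_orbit, card_orbit]
        exact (Nat.dvd_antisymm h1 h2).le
    obtain ⟨h₁, hh₁⟩ : ∃ h₁ : G, h₁ ∉ U :=
      SetLike.exists_of_lt (lt_top_iff_ne_top.2 fun h => hU1 (Subgroup.index_eq_one.2 h)) |>.imp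
        fun _ h => h.2
    set ν := cj h₁ θ * θ⁻¹ with hν
    have hν1 : ν ≠ 1 := fun h => hh₁ (by
      rw [hU, mem_inertia, conjFun_lf, mul_inv_eq_one.1 h])
    have hcl : ∀ ψ ∈ orbit φ, ψ * lf N ν ∈ orbit φ := by
      intro ψ hψ
      obtain ⟨g, rfl⟩ := mem_orbit.1 hψ
      obtain ⟨k, hk1, hk2⟩ := exists_common_conj (a := φ) (b := lf N θ) c1 g h₁
      have hmem : conjFun g φ * lf N (cj h₁ θ) ∈ orbit φ' :=
        mem_orbit.2 ⟨k, by rw [hφ', conjFun_mul, hk1, hk2, conjFun_lf]⟩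
      rw [← hO] at hmem
      obtain ⟨ψ', hψ', he⟩ := Finset.mem_image.1 hmem
      have : ψ' = conjFun g φ * lf N ν := mul_lf_cancel (l := θ) (he.trans (by
        rw [mul_assoc, ← lf_mul, hν, inv_mul_cancel_right]))
      rwa [← this]
    obtain ⟨q, hq, hqm, ν', hν', hνq, hcl'⟩ := exists_prime_translation
        (by rw [relIndex_commutator]; exact Subgroup.index_ne_zero_of_finite) hν1 (pow_relIndex ν) hcl
    have hqd : ¬ q ∣ d := fun h => not_coprime_of_dvd' hq.ne_one h hqm hcd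
    refine hqd ((?_ : q ∣ T.index).trans hdT)
    rw [hT, ← card_orbit]
    refine dvd_card_of_translation hq hνq hcl' fun ψ hψ hfix => ?_
    obtain ⟨g, rfl⟩ := mem_orbit.1 hψ
    have := twist_fix (isIrr_conjFun g hφ) (by rw [conjFun_apply_one, ha]) hfix
    exact hqd ((dvd_of_pow_eq_one hq hν' hνq this).trans hda)
  · obtain ⟨d', hd'⟩ := overDeg_exists hφ'i
    have hdd' := overDeg_dvd hφ'i ha' hd'
    have hd'T : T'.index ∣ d' := (dvd_mul_right _ a).trans hdd'
    refine Or.inr ⟨d', overDeg_mem hφ'i hφ'1 hd', ?_,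
      fun h => c2 ((h.coprime_dvd_left hd'T).coprime_dvd_right hU0)⟩
    by_cases ha1 : a = 1
    swap
    · exact not_coprime_of_dvd' ha1 hda ((dvd_mul_left a _).trans hdd')
    intro hco
    have c3 : T.index.Coprime T'.index := (hco.coprime_dvd_left hdT).coprime_dvd_right hd'T
    obtain ⟨η, hη⟩ := IsChar.exists_hom (IsIrr.isCharacter hφ) (by rw [ha, ha1, Nat.cast_one])
    replace hη : φ = lf N η := hη
    have hle'' : T ⊓ T' ≤ U := fun g hg => by
      have h := mem_inertia.1 hg.2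
      rw [hφ', conjFun_mul, mem_inertia.1 hg.1] at h
      rw [mul_comm φ, mul_comm φ, hη] at h
      exact mul_lf_cancel h
    have h1 : T'.index ∣ U.index := Nat.Coprime.dvd_of_dvd_mul_left c3.symm
      (index_inf_of_coprime c1 ▸ Subgroup.index_dvd_of_le hle)
    have h2 : U.index ∣ T'.index := Nat.Coprime.dvd_of_dvd_mul_left c1.symm
      (index_inf_of_coprime c3 ▸ Subgroup.index_dvd_of_le hle'')
    by_cases hT1 : T.index = 1
    · have hη1 : η ≠ 1 := fun h => hφ1 (by rw [hη, h, lf_one])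
      have hinv : ∀ g : G, conjFun g (lf N η) = lf N η := fun g => by
        have : g ∈ T := by rw [Subgroup.index_eq_one.1 hT1]; trivial
        rw [← hη]; exact this
      exact not_coprime_of_pow hη1 (linear_over hNG hinv (hη ▸ hover)) (pow_relIndex η) hcd
    · have hsub : ∀ g : G, (orbit (lf N θ)).image (conjFun g φ * ·) = orbit φ' := by
        intro g
        refine Finset.eq_of_subset_of_card_le (fun ψ hψ => ?_) ?_
        · obtain ⟨ψ₀, hψ₀, rfl⟩ := Finset.mem_image.1 hψ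
          obtain ⟨h, rfl⟩ := mem_orbit.1 hψ₀
          obtain ⟨k, hk1, hk2⟩ := exists_common_conj (a := φ) (b := lf N θ) c1 g h
          exact mem_orbit.2 ⟨k, by rw [hφ', conjFun_mul, hk1, hk2]⟩
        · rw [Finset.card_image_of_injective _ fun x y e => ?_, card_orbit, card_orbit]
          · exact (Nat.dvd_antisymm h1 h2).le
          · rw [hη, conjFun_lf, mul_comm _ x, mul_comm _ y] at e
            exact mul_lf_cancel e
      obtain ⟨g₁, hg₁⟩ : ∃ g₁ : G, g₁ ∉ T :=
        SetLike.exists_of_lt (lt_top_iff_ne_top.2 fun h => hT1 (Subgroup.index_eq_one.2 h))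
          |>.imp fun _ h => h.2
      have hmem : conjFun g₁ φ * lf N θ ∈ (orbit (lf N θ)).image (conjFun 1 φ * ·) := by
        rw [hsub 1, ← hsub g₁]; exact Finset.mem_image_of_mem _ (self_mem_orbit _)
      obtain ⟨x, hx, hxe⟩ := Finset.mem_image.1 hmem
      obtain ⟨h, rfl⟩ := mem_orbit.1 hx
      rw [conjFun_one, conjFun_lf] at hxe
      set ν := cj h θ * θ⁻¹ with hν
      have hg₁φ : conjFun g₁ φ = φ * lf N ν := mul_lf_cancel (l := θ) (hxe.symm.trans (by
        rw [mul_assoc, ← lf_mul, hν, inv_mul_cancel_right]))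
      have hν1 : ν ≠ 1 := fun h => hg₁ (by
        rw [hT, mem_inertia, hg₁φ, h, lf_one, mul_one])
      have hcl : ∀ ψ ∈ orbit (lf N θ), ψ * lf N ν ∈ orbit (lf N θ) := by
        intro ψ hψ
        have hmem' : conjFun g₁ φ * ψ ∈ (orbit (lf N θ)).image (conjFun 1 φ * ·) := by
          rw [hsub 1, ← hsub g₁]; exact Finset.mem_image_of_mem _ hψ
        obtain ⟨y, hy, hye⟩ := Finset.mem_image.1 hmem'
        rw [conjFun_one, hg₁φ, mul_assoc, mul_comm (lf N ν)] at hye
        rw [hη, mul_comm _ y, mul_comm _ (ψ * lf N ν)] at hye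
        rwa [mul_lf_cancel hye] at hy
      obtain ⟨q, hq, hqm, ν', hν', hνq, hcl'⟩ := exists_prime_translation
        (by rw [relIndex_commutator]; exact Subgroup.index_ne_zero_of_finite) hν1 (pow_relIndex ν) hcl
      refine not_coprime_of_dvd' hq.ne_one ((?_ : q ∣ U.index).trans hU0) hqm hcd₀
      rw [hU, ← card_orbit]
      refine dvd_card_of_translation hq hνq hcl' fun ψ hψ hfix => ?_
      obtain ⟨k, rfl⟩ := mem_orbit.1 hψ
      rw [conjFun_lf, ← lf_mul] at hfix
      exact hν' (mul_eq_left.1 (lf_inj hfix))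

end Cfsg.Agent.RelDeg
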