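import Mathlib
import Cfsg.Agent.Fusion.PGroup
import Cfsg.Agent.Core.PCore
import Cfsg.Agent.Core.FrobeniusGroup

/-!
# Groups with a self-centralizing element of prime order
-/

namespace Cfsg.Agent.Char.SelfCent

universe u

variable {G : Type u} [Group G] [Finite G] {p : ℕ} [hp : Fact p.Prime] {x : G}

/-- The hypothesis: an element of order `p` generating its centralizer. -/
structure Hyp (p : ℕ) (x : G) : Prop where
  ord : orderOf x = p
  cent : Subgroup.centralizer ({x} : Set G) = Subgroup.zpowers x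

omit [Finite G] in
theorem commutator_le_of_commute (S : Subgroup G) [S.Normal] (T : Subgroup G) (hT : T ⊔ S = ⊤)
    (h : ∀ a ∈ T, ∀ b ∈ T, a * b * a⁻¹ * b⁻¹ ∈ S) : commutator G ≤ S := by
  have hc : ∀ a b : G ⧸ S, a * b = b * a := by
    intro a b
    obtain ⟨a, rfl⟩ := QuotientGroup.mk_surjective a
    obtain ⟨b, rfl⟩ := QuotientGroup.mk_surjective b
    have hs : ∀ g : G, ∃ t ∈ T, (g : G ⧸ S) = (t : G ⧸ S) := by
      intro g
      obtain ⟨t, ht, s, hs, rfl⟩ :=
        Subgroup.mem_sup_of_normal_right.1 (hT ▸ Subgroup.mem_top g : g ∈ T ⊔ S)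
      exact ⟨t, ht, by rw [QuotientGroup.mk_mul, (QuotientGroup.eq_one_iff s).2 hs, mul_one]⟩
    obtain ⟨s, hs', e1⟩ := hs a
    obtain ⟨t, ht, e2⟩ := hs b
    rw [e1, e2, ← mul_inv_eq_one, mul_inv_rev, ← QuotientGroup.mk_inv, ← QuotientGroup.mk_inv,
      ← QuotientGroup.mk_mul, ← QuotientGroup.mk_mul, ← QuotientGroup.mk_mul, QuotientGroup.eq_one_iff]
    simpa [mul_assoc] using h s hs' t ht
  rw [commutator_def, Subgroup.commutator_le]
  intro a _ b _
  rw [← QuotientGroup.eq_one_iff, commutatorElement_def, QuotientGroup.mk_mul, QuotientGroup.mk_mul,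
    QuotientGroup.mk_mul, QuotientGroup.mk_inv, QuotientGroup.mk_inv, hc (a : G ⧸ S),
    mul_inv_cancel_right, mul_inv_cancel]

omit [Finite G] in
theorem orderOf_conj' (g y : G) : orderOf (g * y * g⁻¹) = orderOf y :=
  MulEquiv.orderOf_eq (MulAut.conj g) y

namespace Hyp

theorem card_zpowers (h : Hyp p x) : Nat.card (Subgroup.zpowers x) = p := by
  rw [Nat.card_zpowers, h.ord]

theorem ne_one (h : Hyp p x) : x ≠ 1 := fun e => by
  have := h.ord
  rw [e, orderOf_one] at this
  exact hp.out.ne_one this.symm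

theorem mem_of_commute (h : Hyp p x) {g : G} (hg : g * x = x * g) : g ∈ Subgroup.zpowers x :=
  h.cent ▸ Subgroup.mem_centralizer_singleton_iff.2 hg

/-- `⟨x⟩` is a Sylow subgroup. -/
theorem exists_sylow (h : Hyp p x) : ∃ P : Sylow p G, (P : Subgroup G) = Subgroup.zpowers x := by
  obtain ⟨Q, hQ⟩ := IsPGroup.exists_le_sylow
    (IsPGroup.of_card (p := p) (G := Subgroup.zpowers x) (n := 1) (by rw [h.card_zpowers, pow_one]))
  refine ⟨Q, le_antisymm ?_ hQ⟩
  have hxQ : x ∈ (Q : Subgroup G) := hQ (Subgroup.mem_zpowers x)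
  have hne : (⊤ : Subgroup (Q : Subgroup G)) ≠ ⊥ := fun e => h.ne_one (by
    have h' : (⟨x, hxQ⟩ : (Q : Subgroup G)) ∈ (⊤ : Subgroup (Q : Subgroup G)) := Subgroup.mem_top _
    rw [e, Subgroup.mem_bot] at h'
    exact congrArg Subtype.val h')
  have h0 := Fusion.pGroup_inf_center_ne_bot Q.2 _ hne
  rw [top_inf_eq] at h0
  obtain ⟨⟨z, hz⟩, hz1⟩ := Subgroup.ne_bot_iff_exists_ne_one.1 h0
  have hzmem : (z : G) ∈ Subgroup.zpowers x :=
    h.mem_of_commute (congrArg Subtype.val (Subgroup.mem_center_iff.1 hz ⟨x, hxQ⟩)).symm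
  have hgen : Subgroup.zpowers (z : G) = Subgroup.zpowers x := by
    refine Subgroup.eq_of_le_of_card_ge (Subgroup.zpowers_le.2 hzmem) ?_
    rw [h.card_zpowers, Nat.card_zpowers]
    have hd : orderOf (z : G) ∣ p := by
      have := Subgroup.orderOf_dvd_natCard (Subgroup.zpowers x) hzmem
      rwa [h.card_zpowers] at this
    rcases (Nat.dvd_prime hp.out).1 hd with h1 | h1
    · exact absurd (Subtype.ext (Subtype.ext (orderOf_eq_one_iff.1 h1))) hz1
    · exact h1.ge
  intro q hq
  refine h.mem_of_commute ?_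
  obtain ⟨i, hi⟩ := Subgroup.mem_zpowers_iff.1 (hgen.symm ▸ Subgroup.mem_zpowers x :
    x ∈ Subgroup.zpowers (z : G))
  have hqz : Commute q (z : G) := congrArg Subtype.val (Subgroup.mem_center_iff.1 hz ⟨q, hq⟩)
  rw [← hi]
  exact (hqz.zpow_right i).eq

theorem not_dvd_index (h : Hyp p x) : ¬ p ∣ (Subgroup.zpowers x).index := by
  obtain ⟨P, hP⟩ := h.exists_sylow
  exact hP ▸ P.not_dvd_index

/-- The order of the normalizer divided by `p`. -/
noncomputable def e (_h : Hyp p x) : ℕ :=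
  ((Subgroup.zpowers x).subgroupOf (Subgroup.normalizer (Subgroup.zpowers x : Set G))).index

theorem card_normalizer (h : Hyp p x) :
    Nat.card (Subgroup.normalizer (Subgroup.zpowers x : Set G)) = p * h.e := by
  rw [Hyp.e, ← Subgroup.card_mul_index
    ((Subgroup.zpowers x).subgroupOf (Subgroup.normalizer (Subgroup.zpowers x : Set G))),
    Nat.card_congr (Subgroup.subgroupOfEquivOfLe Subgroup.le_normalizer).toEquiv, h.card_zpowers]

theorem e_pos (h : Hyp p x) : 0 < h.e := Nat.pos_of_ne_zero Subgroup.index_ne_zero_of_finite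

theorem mem_zpowers_of_conj (h : Hyp p x) {y g : G} (hy : y ∈ Subgroup.zpowers x) (hy1 : y ≠ 1)
    (hg : g * y * g⁻¹ ∈ Subgroup.zpowers x) :
    g ∈ Subgroup.normalizer (Subgroup.zpowers x : Set G) := by
  have hgen : ∀ z ∈ Subgroup.zpowers x, z ≠ 1 → Subgroup.zpowers z = Subgroup.zpowers x := by
    intro z hz hz1
    refine Subgroup.eq_of_le_of_card_ge (Subgroup.zpowers_le.2 hz) ?_
    rw [h.card_zpowers, Nat.card_zpowers]
    have hd : orderOf z ∣ p := by
      rw [← h.card_zpowers]; exact Subgroup.orderOf_dvd_natCard _ hz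
    rcases (Nat.dvd_prime hp.out).1 hd with h1 | h1
    · exact absurd (orderOf_eq_one_iff.1 h1) hz1
    · exact h1.ge
  rw [Subgroup.mem_normalizer_iff_map_conj_eq, ← hgen y hy hy1, MonoidHom.map_zpowers,
    hgen y hy hy1]
  refine hgen _ ?_ ?_
  · simpa using hg
  · simpa using hy1

theorem count (h : Hyp p x) :
    Nat.card {C : ConjClasses G // ∃ g ∈ C.carrier, orderOf g = p} * h.e = p - 1 := by
  classical
  have := Fintype.ofFinite G
  have hfinC : Finite (ConjClasses G) := Quotient.finite _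
  have := Fintype.ofFinite (ConjClasses G)
  set N := Subgroup.normalizer (Subgroup.zpowers x : Set G) with hN
  set A := Finset.univ.filter (fun y : G => y ∈ Subgroup.zpowers x ∧ y ≠ 1) with hA
  have hord : ∀ y ∈ A, orderOf y = p := by
    intro y hy
    obtain ⟨hy1, hy2⟩ := (Finset.mem_filter.1 hy).2
    have hd : orderOf y ∣ p := by
      rw [← h.card_zpowers]; exact Subgroup.orderOf_dvd_natCard _ hy1
    exact ((Nat.dvd_prime hp.out).1 hd).resolve_left fun e => hy2 (orderOf_eq_one_iff.1 e)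
  have hAcard : A.card = p - 1 := by
    rw [show A = (Finset.univ.filter (· ∈ Subgroup.zpowers x)).erase 1 from by
        ext y; simp [hA, and_comm],
      Finset.card_erase_of_mem (by simp), ← Fintype.card_subtype, ← Nat.card_eq_fintype_card]
    rw [show Nat.card {y // y ∈ Subgroup.zpowers x} = p from h.card_zpowers]
  set T := Finset.univ.filter fun C : ConjClasses G => ∃ g ∈ C.carrier, orderOf g = p with hT
  have hmaps : ∀ y ∈ A, ConjClasses.mk y ∈ T := fun y hy =>
    Finset.mem_filter.2 ⟨Finset.mem_univ _, y, ConjClasses.mem_carrier_mk, hord y hy⟩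
  obtain ⟨P, hP⟩ := h.exists_sylow
  have hfib : ∀ C ∈ T, (A.filter fun y => ConjClasses.mk y = C).card = h.e := by
    intro C hC
    obtain ⟨g, hg, hgp⟩ := (Finset.mem_filter.1 hC).2
    rw [ConjClasses.mem_carrier_iff_mk_eq] at hg
    obtain ⟨Q, hQ⟩ := IsPGroup.exists_le_sylow
      (IsPGroup.of_card (p := p) (G := Subgroup.zpowers g) (n := 1)
        (by rw [Nat.card_zpowers, hgp, pow_one]))
    obtain ⟨c, hc⟩ := MulAction.exists_smul_eq G Q P
    have hy : c * g * c⁻¹ ∈ Subgroup.zpowers x := by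
      rw [← hP, ← hc]
      exact ⟨g, hQ (Subgroup.mem_zpowers g), rfl⟩
    set y := c * g * c⁻¹ with hydef
    have hyC : ConjClasses.mk y = C := by
      rw [← hg, ConjClasses.mk_eq_mk_iff_isConj]
      exact (isConj_iff.2 ⟨c, rfl⟩).symm
    have hy1 : y ≠ 1 := fun e => by
      rw [hydef, conj_eq_one_iff] at e
      rw [e, orderOf_one] at hgp
      exact hp.out.ne_one hgp.symm
    set NF := Finset.univ.filter (fun n : G => n ∈ N) with hNF
    have hmap2 : ∀ n ∈ NF, n * y * n⁻¹ ∈ A.filter fun z => ConjClasses.mk z = C := by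
      intro n hn
      have hnN : n ∈ N := (Finset.mem_filter.1 hn).2
      refine Finset.mem_filter.2 ⟨Finset.mem_filter.2 ⟨Finset.mem_univ _, ?_, by simpa using hy1⟩, ?_⟩
      · exact (Subgroup.mem_normalizer_iff.1 hnN y).1 hy
      · rw [← hyC, ConjClasses.mk_eq_mk_iff_isConj]
        exact (isConj_iff.2 ⟨n, rfl⟩).symm
    have hfib2 : ∀ z ∈ A.filter (fun z => ConjClasses.mk z = C),
        (NF.filter fun n => n * y * n⁻¹ = z).card = p := by
      intro z hz
      obtain ⟨hzA, hzC⟩ := Finset.mem_filter.1 hz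
      rw [← hyC, ConjClasses.mk_eq_mk_iff_isConj] at hzC
      obtain ⟨n₀, hn₀⟩ := isConj_iff.1 hzC.symm
      have hn₀N : n₀ ∈ N := h.mem_zpowers_of_conj hy hy1 (hn₀ ▸ (Finset.mem_filter.1 hzA).2.1)
      rw [hNF, Finset.filter_filter, ← Fintype.card_subtype, ← Nat.card_eq_fintype_card]
      refine Eq.trans (Nat.card_congr (Equiv.subtypeEquiv (Equiv.mulLeft n₀) fun b => ?_)).symm
        h.card_zpowers
      rw [Equiv.coe_mulLeft, N.mul_mem_cancel_left hn₀N]
      constructor
      · intro hb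
        refine ⟨Subgroup.le_normalizer hb, ?_⟩
        obtain ⟨i, hi⟩ := Subgroup.mem_zpowers_iff.1 hy
        obtain ⟨j, hj⟩ := Subgroup.mem_zpowers_iff.1 hb
        have hcomm : b * y = y * b := by rw [← hi, ← hj]; exact ((Commute.refl x).zpow_zpow j i).eq
        rw [← hn₀]
        calc n₀ * b * y * (n₀ * b)⁻¹ = n₀ * (b * y) * b⁻¹ * n₀⁻¹ := by group
          _ = n₀ * y * n₀⁻¹ := by rw [hcomm]; group
      · rintro ⟨-, hb⟩
        rw [← hn₀] at hb
        have hcomm : b * y = y * b := by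
          calc b * y = n₀⁻¹ * (n₀ * b * y * (n₀ * b)⁻¹) * (n₀ * b) := by group
            _ = y * b := by rw [hb]; group
        obtain ⟨i, hi⟩ : ∃ i : ℤ, y ^ i = x := Subgroup.mem_zpowers_iff.1 (by
          have e : Subgroup.zpowers y = Subgroup.zpowers x := by
            refine Subgroup.eq_of_le_of_card_ge (Subgroup.zpowers_le.2 hy) ?_
            rw [h.card_zpowers, Nat.card_zpowers, hydef, orderOf_conj', hgp]
          rw [e]; exact Subgroup.mem_zpowers x)
        refine h.mem_of_commute ?_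
        rw [← hi]
        exact ((show Commute b y from hcomm).zpow_right i).eq
    have h1 := Finset.card_eq_sum_card_fiberwise hmap2
    rw [Finset.sum_congr rfl hfib2, Finset.sum_const, smul_eq_mul, hNF, ← Fintype.card_subtype,
      ← Nat.card_eq_fintype_card] at h1
    have h2 : Nat.card {n // n ∈ N} = p * h.e := h.card_normalizer
    rw [h2, mul_comm] at h1
    exact (Nat.eq_of_mul_eq_mul_right hp.out.pos h1).symm
  have h3 := Finset.card_eq_sum_card_fiberwise hmaps
  rw [Finset.sum_congr rfl hfib, Finset.sum_const, smul_eq_mul, hAcard] at h3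
  rw [Nat.card_eq_fintype_card, Fintype.card_subtype]
  exact h3.symm

theorem card_subgroups (h : Hyp p x) :
    Nat.card {H : Subgroup G // Nat.card H = p} =
      (Subgroup.normalizer (Subgroup.zpowers x : Set G)).index := by
  obtain ⟨P, hP⟩ := h.exists_sylow
  rw [← hP, show (Subgroup.normalizer ((P : Subgroup G) : Set G)).index =
    Nat.card (Sylow p G) from (Sylow.card_eq_index_normalizer P).symm]
  have hcard : ∀ Q : Sylow p G, Nat.card (Q : Subgroup G) = p := fun Q => by
    rw [Q.card_eq_multiplicity, ← P.card_eq_multiplicity, hP, h.card_zpowers]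
  refine (Nat.card_eq_of_bijective
    (fun Q : Sylow p G => (⟨(Q : Subgroup G), hcard Q⟩ : {H : Subgroup G // Nat.card H = p}))
    ⟨fun a b e => Sylow.ext (congrArg Subtype.val e), fun H => ?_⟩).symm
  obtain ⟨Q, hQ⟩ := IsPGroup.exists_le_sylow
    (IsPGroup.of_card (p := p) (G := H.1) (n := 1) (by rw [H.2, pow_one]))
  exact ⟨Q, Subtype.ext (Subgroup.eq_of_le_of_card_ge hQ (by rw [hcard, H.2])).symm⟩

theorem card_eq (h : Hyp p x) :
    Nat.card G = p * h.e * Nat.card {H : Subgroup G // Nat.card H = p} := by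
  rw [h.card_subgroups, ← h.card_normalizer, Subgroup.card_mul_index]

theorem dvd_card_iff (h : Hyp p x) (S : Subgroup G) [S.Normal] :
    p ∣ Nat.card S ↔ x ∈ S := by
  refine ⟨fun hd => ?_, fun hx => h.ord ▸ Subgroup.orderOf_dvd_natCard _ hx⟩
  obtain ⟨⟨y, hyS⟩, hy⟩ := exists_prime_orderOf_dvd_card' (G := S) p hd
  rw [Subgroup.orderOf_mk] at hy
  obtain ⟨Q, hQ⟩ := IsPGroup.exists_le_sylow
    (IsPGroup.of_card (p := p) (G := Subgroup.zpowers y) (n := 1)
      (by rw [Nat.card_zpowers, hy, pow_one]))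
  obtain ⟨P, hP⟩ := h.exists_sylow
  obtain ⟨c, hc⟩ := MulAction.exists_smul_eq G Q P
  have hQy : (Q : Subgroup G) = Subgroup.zpowers y := by
    refine (Subgroup.eq_of_le_of_card_ge hQ ?_).symm
    rw [Q.card_eq_multiplicity, ← P.card_eq_multiplicity, hP, h.card_zpowers, Nat.card_zpowers, hy]
  have hmem : x ∈ (P : Subgroup G) := hP ▸ Subgroup.mem_zpowers x
  rw [← hc] at hmem
  obtain ⟨z, hz, hzx⟩ := hmem
  rw [hQy] at hz
  rw [← hzx]
  exact (inferInstance : S.Normal).conj_mem z ((Subgroup.zpowers_le.2 hyS) hz) c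

theorem commutator_mem (h : Hyp p x) {a b : G}
    (ha : a ∈ Subgroup.normalizer (Subgroup.zpowers x : Set G))
    (hb : b ∈ Subgroup.normalizer (Subgroup.zpowers x : Set G)) :
    a * b * a⁻¹ * b⁻¹ ∈ Subgroup.zpowers x := by
  obtain ⟨i, hi⟩ : ∃ i : ℤ, x ^ i = a * x * a⁻¹ := Subgroup.mem_zpowers_iff.1
    ((Subgroup.mem_normalizer_iff.1 ha x).1 (Subgroup.mem_zpowers x))
  obtain ⟨j, hj⟩ : ∃ j : ℤ, x ^ j = b * x * b⁻¹ := Subgroup.mem_zpowers_iff.1
    ((Subgroup.mem_normalizer_iff.1 hb x).1 (Subgroup.mem_zpowers x))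
  have hab : a * b * x * (a * b)⁻¹ = b * a * x * (b * a)⁻¹ := by
    rw [show a * b * x * (a * b)⁻¹ = a * (b * x * b⁻¹) * a⁻¹ by group, ← hj, ← conj_zpow, ← hi,
      show b * a * x * (b * a)⁻¹ = b * (a * x * a⁻¹) * b⁻¹ by group, ← hi, ← conj_zpow, ← hj,
      ← zpow_mul, ← zpow_mul, mul_comm]
  refine h.mem_of_commute ?_
  have hc : (b * a)⁻¹ * (a * b) * x = x * ((b * a)⁻¹ * (a * b)) := by
    calc (b * a)⁻¹ * (a * b) * x = (b * a)⁻¹ * (a * b * x * (a * b)⁻¹) * (a * b) := by group
      _ = x * ((b * a)⁻¹ * (a * b)) := by rw [hab]; group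
  have hd : ((b * a)⁻¹ * (a * b)) ∈ Subgroup.zpowers x := h.mem_of_commute hc
  have h2 := (Subgroup.mem_normalizer_iff.1 (mul_mem hb ha) _).1 hd
  obtain ⟨l, hl⟩ := Subgroup.mem_zpowers_iff.1 h2
  rw [show a * b * a⁻¹ * b⁻¹ = b * a * ((b * a)⁻¹ * (a * b)) * (b * a)⁻¹ by group, ← hl]
  exact ((Commute.refl x).zpow_left l).eq

theorem sup_normalizer (h : Hyp p x) (S : Subgroup G) [S.Normal] (hx : x ∈ S) :
    Subgroup.normalizer (Subgroup.zpowers x : Set G) ⊔ S = ⊤ := by
  obtain ⟨P, hP⟩ := h.exists_sylow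
  have := Sylow.normalizer_sup_eq_top' (N := S) P
    (by rw [hP]; exact Subgroup.zpowers_le.2 hx)
  rw [← hP]
  exact this

/-- A normal subgroup of order divisible by `p` contains the commutator subgroup. -/
theorem commutator_le (h : Hyp p x) (S : Subgroup G) [S.Normal] (hx : x ∈ S) :
    commutator G ≤ S :=
  commutator_le_of_commute S _ (h.sup_normalizer S hx) fun _ ha _ hb =>
    Subgroup.zpowers_le.2 hx (h.commutator_mem ha hb)

section PPrime

variable (S : Subgroup G) [S.Normal]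

theorem eq_one_of_mem_inf (h : Hyp p x) (hS : ¬ p ∣ Nat.card S) {s : G} (hs : s ∈ S)
    (hsx : s ∈ Subgroup.zpowers x) : s = 1 := by
  have h1 : orderOf s ∣ p := h.card_zpowers ▸ Subgroup.orderOf_dvd_natCard _ hsx
  rcases (Nat.dvd_prime hp.out).1 h1 with h2 | h2
  · exact orderOf_eq_one_iff.1 h2
  · exact absurd (h2 ▸ Subgroup.orderOf_dvd_natCard _ hs) hS

/-- The map `u ↦ u x u⁻¹ x⁻¹` is onto a normal `p'`-subgroup. -/
theorem exists_conj_eq (h : Hyp p x) (hS : ¬ p ∣ Nat.card S) {s : G} (hs : s ∈ S) :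
    ∃ u ∈ S, u * x * u⁻¹ * x⁻¹ = s := by
  let f : S → S := fun u => ⟨(u : G) * (x * (u : G)⁻¹ * x⁻¹),
    S.mul_mem u.2 ((inferInstance : S.Normal).conj_mem _ (S.inv_mem u.2) x)⟩
  have hf : Function.Injective f := by
    intro u v huv
    have e : (u : G) * (x * (u : G)⁻¹ * x⁻¹) = (v : G) * (x * (v : G)⁻¹ * x⁻¹) :=
      congrArg Subtype.val huv
    have e' : (u : G) * x * (u : G)⁻¹ = (v : G) * x * (v : G)⁻¹ := by
      have e2 := congrArg (· * x) e
      simpa [mul_assoc] using e2
    have hcm : ((v : G)⁻¹ * u) * x = x * ((v : G)⁻¹ * u) := by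
      calc ((v : G)⁻¹ * u) * x = (v : G)⁻¹ * ((u : G) * x * (u : G)⁻¹) * u := by group
        _ = x * ((v : G)⁻¹ * u) := by rw [e']; group
    exact Subtype.ext (inv_mul_eq_one.1
      (h.eq_one_of_mem_inf S hS (S.mul_mem (S.inv_mem v.2) u.2) (h.mem_of_commute hcm))).symm
  obtain ⟨u, hu⟩ := (Finite.injective_iff_surjective.1 hf) ⟨s, hs⟩
  exact ⟨u, u.2, by rw [← show (u : G) * (x * (u : G)⁻¹ * x⁻¹) = s from congrArg Subtype.val hu]; group⟩

theorem le_commutator (h : Hyp p x) (hS : ¬ p ∣ Nat.card S) : S ≤ commutator G := by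
  intro s hs
  obtain ⟨u, -, rfl⟩ := h.exists_conj_eq S hS hs
  exact Subgroup.commutator_mem_commutator (Subgroup.mem_top u) (Subgroup.mem_top x)

theorem inf_normalizer (h : Hyp p x) (hS : ¬ p ∣ Nat.card S) {s : G} (hs : s ∈ S)
    (hN : s ∈ Subgroup.normalizer (Subgroup.zpowers x : Set G)) : s = 1 := by
  have h1 : s * x * s⁻¹ * x⁻¹ ∈ Subgroup.zpowers x :=
    mul_mem ((Subgroup.mem_normalizer_iff.1 hN x).1 (Subgroup.mem_zpowers x))
      (inv_mem (Subgroup.mem_zpowers x))
  have h2 : s * x * s⁻¹ * x⁻¹ ∈ S := by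
    rw [mul_assoc, mul_assoc, ← mul_assoc x]
    exact S.mul_mem hs ((inferInstance : S.Normal).conj_mem _ (S.inv_mem hs) x)
  have h3 := h.eq_one_of_mem_inf S hS h2 h1
  exact h.eq_one_of_mem_inf S hS hs (h.mem_of_commute
    (mul_inv_eq_iff_eq_mul.1 (mul_inv_eq_one.1 h3)))

theorem card_dvd_card_subgroups (h : Hyp p x) (hS : ¬ p ∣ Nat.card S) :
    Nat.card S ∣ Nat.card {H : Subgroup G // Nat.card H = p} := by
  obtain ⟨P, hP⟩ := h.exists_sylow
  rw [h.card_subgroups, ← hP, show (Subgroup.normalizer ((P : Subgroup G) : Set G)).index =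
    Nat.card (Sylow p G) from (Sylow.card_eq_index_normalizer P).symm]
  refine Core.card_dvd_of_free fun Q => eq_bot_iff.2 fun s hs => ?_
  obtain ⟨g, rfl⟩ := MulAction.exists_smul_eq G P Q
  have hs' : (g⁻¹ * (s : G) * g) • P = P := by
    rw [MulAction.mem_stabilizer_iff] at hs
    change (s : G) • g • P = g • P at hs
    rw [mul_smul, mul_smul, hs, inv_smul_smul]
  rw [Sylow.smul_eq_iff_mem_normalizer] at hs'
  have hmem : g⁻¹ * (s : G) * g ∈ S := by
    simpa using (inferInstance : S.Normal).conj_mem _ s.2 g⁻¹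
  have h1 := h.inf_normalizer S hS hmem (hP ▸ hs')
  refine Subgroup.mem_bot.2 (Subtype.ext ?_)
  calc (s : G) = g * (g⁻¹ * (s : G) * g) * g⁻¹ := by group
    _ = ((1 : S) : G) := by rw [h1]; simp

theorem card_mod (h : Hyp p x) (hS : ¬ p ∣ Nat.card S) : Nat.card S % p = 1 := by
  let P₀ := Subgroup.zpowers x
  letI : MulAction P₀ S :=
    MulAction.compHom S ((MulAut.conjNormal : G →* MulAut S).comp P₀.subtype)
  have hPp : IsPGroup p P₀ := IsPGroup.of_card (n := 1) (by rw [h.card_zpowers, pow_one])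
  have key := hPp.card_modEq_card_fixedPoints S
  have hfix : ∀ s : S, s ∈ MulAction.fixedPoints P₀ S → s = 1 := by
    intro s hs
    have h1 : x * (s : G) * x⁻¹ = s := congrArg Subtype.val (hs ⟨x, Subgroup.mem_zpowers x⟩)
    exact Subtype.ext (h.eq_one_of_mem_inf S hS s.2
      (h.mem_of_commute (mul_inv_eq_iff_eq_mul.1 h1).symm))
  have hone : Nat.card (MulAction.fixedPoints P₀ S) = 1 := by
    rw [Nat.card_eq_one_iff_unique]
    refine ⟨⟨fun a b => Subtype.ext ((hfix a a.2).trans (hfix b b.2).symm)⟩, ⟨⟨1, fun g => ?_⟩⟩⟩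
    exact map_one (MulAut.conjNormal (g : G) : MulAut S)
  rw [hone] at key
  rw [key, Nat.one_mod_eq_one.2 hp.out.ne_one]

theorem orderOf_mk (h : Hyp p x) (hS : ¬ p ∣ Nat.card S) :
    orderOf (QuotientGroup.mk x : G ⧸ S) = p := by
  refine orderOf_eq_prime ?_ fun e => h.ne_one
    (h.eq_one_of_mem_inf S hS ((QuotientGroup.eq_one_iff x).1 e) (Subgroup.mem_zpowers x))
  rw [← QuotientGroup.mk_pow, ← h.ord, pow_orderOf_eq_one]
  rfl

theorem centralizer_mk (h : Hyp p x) (hS : ¬ p ∣ Nat.card S) :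
    Subgroup.centralizer ({(QuotientGroup.mk x : G ⧸ S)} : Set (G ⧸ S)) =
      Subgroup.zpowers (QuotientGroup.mk x : G ⧸ S) := by
  refine le_antisymm (fun q hq => ?_) (Subgroup.zpowers_le.2 (Subgroup.mem_centralizer_singleton_iff.2 rfl))
  obtain ⟨g, rfl⟩ := QuotientGroup.mk_surjective q
  have hq' := Subgroup.mem_centralizer_singleton_iff.1 hq
  have hs : g * x * g⁻¹ * x⁻¹ ∈ S := by
    rw [← QuotientGroup.eq_one_iff, QuotientGroup.mk_mul, QuotientGroup.mk_mul, QuotientGroup.mk_mul,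
      QuotientGroup.mk_inv, QuotientGroup.mk_inv, hq', mul_inv_cancel_right, mul_inv_cancel]
  obtain ⟨u, hu, he⟩ := h.exists_conj_eq S hS hs
  have hcm : (u⁻¹ * g) * x = x * (u⁻¹ * g) := by
    calc (u⁻¹ * g) * x = u⁻¹ * (g * x * g⁻¹) * g := by group
      _ = u⁻¹ * (u * x * u⁻¹) * g := by rw [mul_right_cancel he]
      _ = x * (u⁻¹ * g) := by group
  obtain ⟨i, hi⟩ := Subgroup.mem_zpowers_iff.1 (h.mem_of_commute hcm)
  refine Subgroup.mem_zpowers_iff.2 ⟨i, ?_⟩
  rw [← QuotientGroup.mk_zpow, hi, QuotientGroup.mk_mul, QuotientGroup.mk_inv,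
    (QuotientGroup.eq_one_iff u).2 hu, inv_one, one_mul]

end PPrime

/-- If the normalizer is the centralizer, the commutator subgroup is the normal `p`-complement. -/
theorem commutator_of_e_eq_one (h : Hyp p x) (he : h.e = 1) :
    Nat.card (commutator G) = Nat.card {H : Subgroup G // Nat.card H = p} ∧
      (commutator G).index = p ∧ ¬ p ∣ Nat.card (commutator G) := by
  obtain ⟨P, hP⟩ := h.exists_sylow
  have hN : Subgroup.normalizer (Subgroup.zpowers x : Set G) = Subgroup.zpowers x :=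
    (Subgroup.eq_of_le_of_card_ge Subgroup.le_normalizer
      (by rw [h.card_normalizer, he, mul_one, h.card_zpowers])).symm
  have hPC : Subgroup.normalizer ((P : Subgroup G) : Set G) ≤
      Subgroup.centralizer ((P : Subgroup G) : Set G) := by
    rw [hP, hN]
    intro g hg
    rw [Subgroup.mem_centralizer_iff]
    intro y hy
    obtain ⟨i, rfl⟩ := Subgroup.mem_zpowers_iff.1 hg
    obtain ⟨j, rfl⟩ := Subgroup.mem_zpowers_iff.1 hy
    exact ((Commute.refl x).zpow_zpow j i).eq
  set K := (MonoidHom.transferSylow P hPC).ker with hK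
  have hcomp := MonoidHom.ker_transferSylow_isComplement' P hPC
  have hcard : Nat.card K * p = Nat.card G := by
    rw [← h.card_zpowers, ← hP]
    exact hcomp.card_mul
  have hKn : Nat.card K = Nat.card {H : Subgroup G // Nat.card H = p} := by
    rw [h.card_eq, he, mul_one, mul_comm p] at hcard
    exact Nat.eq_of_mul_eq_mul_right hp.out.pos hcard
  have hKidx : K.index = p := by
    have h1 := K.card_mul_index
    rw [← hcard] at h1
    exact Nat.eq_of_mul_eq_mul_left Nat.card_pos h1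
  have hKp : ¬ p ∣ Nat.card K := MonoidHom.not_dvd_card_ker_transferSylow P hPC
  have heq : commutator G = K := by
    refine le_antisymm ?_ (h.le_commutator K hKp)
    refine commutator_le_of_commute K _ (sup_comm K (P : Subgroup G) ▸ hcomp.sup_eq_top) ?_
    intro a ha b hb
    rw [hP] at ha hb
    obtain ⟨i, rfl⟩ := Subgroup.mem_zpowers_iff.1 ha
    obtain ⟨j, rfl⟩ := Subgroup.mem_zpowers_iff.1 hb
    rw [show x ^ i * x ^ j = x ^ j * x ^ i from ((Commute.refl x).zpow_zpow i j).eq,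
      mul_inv_cancel_right, mul_inv_cancel]
    exact K.one_mem
  rw [heq]
  exact ⟨hKn, hKidx, hKp⟩

theorem mem_commutator_of_ne_one (h : Hyp p x) (he : h.e ≠ 1) : x ∈ commutator G := by
  obtain ⟨n, hn, hnx⟩ : ∃ n ∈ Subgroup.normalizer (Subgroup.zpowers x : Set G),
      n * x * n⁻¹ ≠ x := by
    by_contra! hc
    apply he
    have hle : Subgroup.normalizer (Subgroup.zpowers x : Set G) ≤ Subgroup.zpowers x := fun n hn =>
      h.mem_of_commute (mul_inv_eq_iff_eq_mul.1 (hc n hn))
    have h1 := h.card_normalizer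
    rw [← le_antisymm Subgroup.le_normalizer hle, h.card_zpowers] at h1
    exact (Nat.eq_of_mul_eq_mul_left hp.out.pos ((mul_one p).trans h1)).symm
  set z := n * x * n⁻¹ * x⁻¹ with hz
  have hzP : z ∈ Subgroup.zpowers x :=
    mul_mem ((Subgroup.mem_normalizer_iff.1 hn x).1 (Subgroup.mem_zpowers x))
      (inv_mem (Subgroup.mem_zpowers x))
  have hzG : z ∈ commutator G :=
    Subgroup.commutator_mem_commutator (Subgroup.mem_top n) (Subgroup.mem_top x)
  have hz1 : z ≠ 1 := fun e => hnx (mul_inv_eq_one.1 e)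
  have hgen : Subgroup.zpowers z = Subgroup.zpowers x := by
    refine Subgroup.eq_of_le_of_card_ge (Subgroup.zpowers_le.2 hzP) ?_
    rw [h.card_zpowers, Nat.card_zpowers]
    rcases (Nat.dvd_prime hp.out).1
      (h.card_zpowers ▸ Subgroup.orderOf_dvd_natCard _ hzP) with h1 | h1
    · exact absurd (orderOf_eq_one_iff.1 h1) hz1
    · exact h1.ge
  exact Subgroup.zpowers_le.2 hzG (hgen ▸ Subgroup.mem_zpowers x)

theorem index_commutator_le (h : Hyp p x) (he : h.e ≠ 1) : (commutator G).index ≤ h.e := by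
  set N := Subgroup.normalizer (Subgroup.zpowers x : Set G) with hN
  have hx := h.mem_commutator_of_ne_one he
  have hsup := h.sup_normalizer (commutator G) hx
  have h1 : (commutator G).index = (commutator G).relIndex N := by
    rw [← Subgroup.relIndex_sup_left (K := commutator G) (H := N), sup_comm, hsup,
      Subgroup.relIndex_top_right]
  rw [h1, Hyp.e, ← hN]
  refine Nat.le_of_dvd (Nat.pos_of_ne_zero Subgroup.index_ne_zero_of_finite) ?_
  exact Subgroup.index_dvd_of_le fun a ha =>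
    Subgroup.zpowers_le.2 hx (Subgroup.mem_subgroupOf.1 ha)

/-- A normal subgroup of `G'` of order divisible by `p` is everything. -/
theorem eq_commutator_of_normal (h : Hyp p x) {M : Subgroup G} (hM : M ≤ commutator G)
    (hn : ∀ g ∈ commutator G, ∀ m ∈ M, g * m * g⁻¹ ∈ M) (hx : x ∈ M) : M = commutator G := by
  refine le_antisymm hM ((h.commutator_le M.normalCore (fun g => ?_)).trans M.normalCore_le)
  -- every conjugate of `x` lies in `M`
  have hMn : (M.subgroupOf (commutator G)).Normal := ⟨fun a ha b => by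
    rw [Subgroup.mem_subgroupOf] at ha ⊢
    exact hn b b.2 a ha⟩
  obtain ⟨P, hP⟩ := h.exists_sylow
  have hle : (P : Subgroup G) ≤ commutator G := hP ▸ Subgroup.zpowers_le.2 (hM hx)
  have hgx : g * x * g⁻¹ ∈ commutator G :=
    (inferInstance : (commutator G).Normal).conj_mem _ (hM hx) g
  obtain ⟨Q, hQ⟩ := IsPGroup.exists_le_sylow
    (IsPGroup.of_card (p := p) (G := Subgroup.zpowers (⟨g * x * g⁻¹, hgx⟩ : commutator G)) (n := 1)
      (by rw [Nat.card_zpowers, Subgroup.orderOf_mk, orderOf_conj', h.ord, pow_one]))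
  obtain ⟨c, hc⟩ := MulAction.exists_smul_eq (commutator G) (P.subtype hle) Q
  have hmem := hQ (Subgroup.mem_zpowers _)
  rw [← hc] at hmem
  obtain ⟨a, ha, hae⟩ := hmem
  rw [Sylow.coe_subtype] at ha
  have haM : a ∈ M.subgroupOf (commutator G) := by
    rw [Subgroup.mem_subgroupOf]
    have : (a : G) ∈ (P : Subgroup G) := Subgroup.mem_subgroupOf.1 ha
    rw [hP] at this
    exact Subgroup.zpowers_le.2 hx this
  have h2 := hMn.conj_mem a haM c
  have h3 := congrArg Subtype.val hae
  rw [Subgroup.mem_subgroupOf] at h2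
  simp only [MulDistribMulAction.toMonoidEnd_apply, MulDistribMulAction.toMonoidHom_apply,
    MulAut.smul_def, MulAut.conj_apply] at h3
  rw [← h3]
  exact h2

/-- A subgroup normal in `G'` whose order is divisible by `p` contains `x`. -/
theorem mem_of_dvd_card (h : Hyp p x) (hxG : x ∈ commutator G) {M : Subgroup G}
    (hM : M ≤ commutator G) (hn : ∀ g ∈ commutator G, ∀ m ∈ M, g * m * g⁻¹ ∈ M)
    (hd : p ∣ Nat.card M) : x ∈ M := by
  obtain ⟨⟨y, hy⟩, hyo⟩ := exists_prime_orderOf_dvd_card' p hd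
  rw [Subgroup.orderOf_mk] at hyo
  obtain ⟨P, hP⟩ := h.exists_sylow
  have hle : (P : Subgroup G) ≤ commutator G := hP ▸ Subgroup.zpowers_le.2 hxG
  obtain ⟨Q, hQ⟩ := IsPGroup.exists_le_sylow
    (IsPGroup.of_card (p := p) (G := Subgroup.zpowers (⟨y, hM hy⟩ : commutator G)) (n := 1)
      (by rw [Nat.card_zpowers, Subgroup.orderOf_mk, hyo, pow_one]))
  obtain ⟨c, hc⟩ := MulAction.exists_smul_eq (commutator G) (P.subtype hle) Q
  have hmem := hQ (Subgroup.mem_zpowers _)
  rw [← hc] at hmem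
  obtain ⟨a, ha, hae⟩ := hmem
  rw [Sylow.coe_subtype] at ha
  have haP : (a : G) ∈ Subgroup.zpowers x := hP ▸ Subgroup.mem_subgroupOf.1 ha
  have h3 : (c : G) * a * (c : G)⁻¹ = y := congrArg Subtype.val hae
  have ha1 : (a : G) ≠ 1 := fun e => by
    rw [e, mul_one, mul_inv_cancel] at h3
    rw [← h3, orderOf_one] at hyo
    exact hp.out.ne_one hyo.symm
  have haM : (a : G) ∈ M := by
    have := hn _ (inv_mem c.2) y hy
    rwa [← h3, show (c : G)⁻¹ * ((c : G) * a * (c : G)⁻¹) * ((c : G)⁻¹)⁻¹ = a by group] at this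
  have hgen : Subgroup.zpowers (a : G) = Subgroup.zpowers x := by
    refine Subgroup.eq_of_le_of_card_ge (Subgroup.zpowers_le.2 haP) ?_
    rw [h.card_zpowers, Nat.card_zpowers]
    have hd := Subgroup.orderOf_dvd_natCard (Subgroup.zpowers x) haP
    rw [h.card_zpowers] at hd
    rcases (Nat.dvd_prime hp.out).1 hd with h1 | h1
    · exact absurd (orderOf_eq_one_iff.1 h1) ha1
    · exact h1.ge
  exact Subgroup.zpowers_le.2 haM (hgen ▸ Subgroup.mem_zpowers x)

end Hyp

omit [Finite G] in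
theorem card_sup_of_disjoint (K H : Subgroup G) [K.Normal] (h : K ⊓ H = ⊥) :
    Nat.card (H ⊔ K : Subgroup G) = Nat.card K * Nat.card H := by
  have h1 : K.relIndex H = Nat.card H := by
    rw [← Subgroup.inf_relIndex_right, h, Subgroup.relIndex_bot_left]
  have h2 := Subgroup.relIndex_mul_relIndex ⊥ K (H ⊔ K) bot_le le_sup_right
  rw [Subgroup.relIndex_bot_left, Subgroup.relIndex_bot_left, Subgroup.relIndex_sup_right, h1] at h2
  exact h2.symm

namespace Hyp

theorem sup_eq_top_of_card (h : Hyp p x) (S : Subgroup G) [S.Normal] (hS : ¬ p ∣ Nat.card S)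
    (hcard : Nat.card S = Nat.card {H : Subgroup G // Nat.card H = p}) :
    Subgroup.normalizer (Subgroup.zpowers x : Set G) ⊔ S = ⊤ := by
  refine Subgroup.eq_top_of_card_eq _ ?_
  rw [card_sup_of_disjoint S _
    (eq_bot_iff.2 fun s hs => Subgroup.mem_bot.2 (h.inf_normalizer S hS hs.1 hs.2)),
    hcard, h.card_normalizer, mul_comm, ← h.card_eq]

theorem derivedSeries_two_le (h : Hyp p x) (S : Subgroup G) [S.Normal]
    (htop : Subgroup.normalizer (Subgroup.zpowers x : Set G) ⊔ S = ⊤) :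
    derivedSeries G 2 ≤ S := by
  have h1 : derivedSeries (Subgroup.normalizer (Subgroup.zpowers x : Set G)) 2 = ⊥ := by
    rw [derivedSeries_succ, derivedSeries_one, Subgroup.commutator_eq_bot_iff_le_centralizer]
    have hle : commutator (Subgroup.normalizer (Subgroup.zpowers x : Set G)) ≤
        (Subgroup.zpowers x).subgroupOf _ := by
      rw [commutator_def, Subgroup.commutator_le]
      intro a _ b _
      rw [Subgroup.mem_subgroupOf, commutatorElement_def]
      exact h.commutator_mem a.2 b.2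
    intro a ha
    rw [Subgroup.mem_centralizer_iff]
    intro b hb
    obtain ⟨i, hi⟩ := Subgroup.mem_zpowers_iff.1 (Subgroup.mem_subgroupOf.1 (hle ha))
    obtain ⟨j, hj⟩ := Subgroup.mem_zpowers_iff.1 (Subgroup.mem_subgroupOf.1 (hle hb))
    apply Subtype.ext
    rw [Subgroup.coe_mul, Subgroup.coe_mul, ← hi, ← hj]
    exact ((Commute.refl x).zpow_zpow j i).eq
  let f := (QuotientGroup.mk' S).comp
    (Subgroup.normalizer (Subgroup.zpowers x : Set G)).subtype
  have hf : Function.Surjective f := by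
    intro a
    obtain ⟨a, rfl⟩ := QuotientGroup.mk_surjective a
    obtain ⟨t, ht, s, hs, rfl⟩ :=
      Subgroup.mem_sup_of_normal_right.1 (htop ▸ Subgroup.mem_top a :
        a ∈ Subgroup.normalizer (Subgroup.zpowers x : Set G) ⊔ S)
    refine ⟨⟨t, ht⟩, ?_⟩
    simp only [f, MonoidHom.comp_apply, Subgroup.coe_subtype, QuotientGroup.mk'_apply]
    rw [QuotientGroup.mk_mul, (QuotientGroup.eq_one_iff s).2 hs, mul_one]
  have h2 : derivedSeries (G ⧸ S) 2 = ⊥ := by
    rw [← map_derivedSeries_eq hf 2, h1, Subgroup.map_bot]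
  intro g hg
  have := map_derivedSeries_le_derivedSeries (QuotientGroup.mk' S) 2
    (Subgroup.mem_map_of_mem _ hg)
  rw [h2, Subgroup.mem_bot, QuotientGroup.mk'_apply, QuotientGroup.eq_one_iff] at this
  exact this

/-- If `G'' ≠ G'` and `e ≠ 1` then `|G''| = n_p` and `|G'| = p n_p`. -/
theorem card_derived (h : Hyp p x) (he : h.e ≠ 1)
    (hne : derivedSeries G 2 ≠ derivedSeries G 1) :
    Nat.card (derivedSeries G 2) = Nat.card {H : Subgroup G // Nat.card H = p} ∧
      Nat.card (commutator G) = p * Nat.card {H : Subgroup G // Nat.card H = p} := by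
  have hx := h.mem_commutator_of_ne_one he
  have h1 : derivedSeries G 1 = commutator G := derivedSeries_one G
  rw [h1] at hne
  have hle : derivedSeries G 2 ≤ commutator G := h1 ▸ derivedSeries_antitone G one_le_two
  have hnd : ¬ p ∣ Nat.card (derivedSeries G 2) := fun hd => hne (le_antisymm hle
    (h.commutator_le _ ((h.dvd_card_iff _).1 hd)))
  have hPle : Subgroup.zpowers x ≤ commutator G := Subgroup.zpowers_le.2 hx
  have hG : Subgroup.zpowers x ⊔ derivedSeries G 2 = commutator G := by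
    refine h.eq_commutator_of_normal (sup_le hPle hle) (fun g hg m hm => ?_)
      (Subgroup.mem_sup_left (Subgroup.mem_zpowers x))
    have hc : g * m * g⁻¹ * m⁻¹ ∈ derivedSeries G 2 := by
      rw [derivedSeries_succ, h1]
      exact Subgroup.commutator_mem_commutator hg (sup_le hPle hle hm)
    have := mul_mem (Subgroup.mem_sup_right (S := Subgroup.zpowers x) hc) hm
    rwa [inv_mul_cancel_right] at this
  have hcard1 : Nat.card (commutator G) = Nat.card (derivedSeries G 2) * p := by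
    rw [← hG, card_sup_of_disjoint _ _ (eq_bot_iff.2 fun s hs =>
      Subgroup.mem_bot.2 (h.eq_one_of_mem_inf _ hnd hs.1 hs.2)), h.card_zpowers]
  have htop : Subgroup.normalizer (Subgroup.zpowers x : Set G) ⊔ derivedSeries G 2 = ⊤ := by
    refine eq_top_iff.2 ((h.sup_normalizer (commutator G) hx).ge.trans ?_)
    rw [← hG]
    exact sup_le le_sup_left (sup_le (Subgroup.le_normalizer.trans le_sup_left) le_sup_right)
  have hcard2 : Nat.card (derivedSeries G 2) = Nat.card {H : Subgroup G // Nat.card H = p} := by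
    have := card_sup_of_disjoint (derivedSeries G 2)
      (Subgroup.normalizer (Subgroup.zpowers x : Set G)) (eq_bot_iff.2 fun s hs =>
      Subgroup.mem_bot.2 (h.inf_normalizer _ hnd hs.1 hs.2))
    rw [htop, Subgroup.card_top, h.card_normalizer, h.card_eq, mul_comm] at this
    exact (Nat.eq_of_mul_eq_mul_right (Nat.mul_pos hp.out.pos h.e_pos) this).symm
  exact ⟨hcard2, by rw [hcard1, hcard2, mul_comm]⟩

end Hyp

end Cfsg.Agent.Char.SelfCent
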