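import Cfsg.Agent.S0898
import Cfsg.Agent.Char.PSolvableDegree
import Mathlib

/-!
# Linear groups of degree small against a prime divisor
-/

set_option autoImplicit false

namespace Cfsg.Agent.Char

universe u

/-- A normal subgroup with normal Sylow subgroup and abelian quotient gives `p`-solvability. -/
theorem isPSolvable_of_abelian_quotient {p : ℕ} [hp : Fact p.Prime] {G : Type u} [Group G] [Finite G]
    (K : Subgroup G) [K.Normal] (hK : ∀ a b : G, a * b * a⁻¹ * b⁻¹ ∈ K)
    (Q : Sylow p K) [(Q : Subgroup K).Normal] : Cfsg.IsPSolvable p G := by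
  classical
  set Q' := (Q : Subgroup K).map K.subtype with hQ'
  have : Unique (Sylow p K) := Sylow.unique_of_normal Q ‹_›
  have hchar : (Q : Subgroup K).Characteristic := Q.characteristic_of_subsingleton
  have hQn : Q'.Normal := inferInstance
  obtain ⟨P⟩ : Nonempty (Sylow p G) := inferInstance
  set M := (P : Subgroup G) ⊔ K with hM
  have hMn : M.Normal := ⟨fun m hm g => by
    rw [show g * m * g⁻¹ = g * m * g⁻¹ * m⁻¹ * m by group]
    exact M.mul_mem (Subgroup.mem_sup_right (hK g m)) hm⟩
  obtain ⟨a, ha⟩ := Q.isPGroup'.exists_card_eq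
  obtain ⟨b, hb⟩ := P.isPGroup'.exists_card_eq
  refine ⟨4, ![⊥, Q', K, M, ⊤], rfl, rfl, ?_, ?_, ?_⟩
  · refine Fin.monotone_iff_le_succ.2 fun i => ?_
    fin_cases i
    · exact bot_le
    · exact Subgroup.map_subtype_le _
    · exact le_sup_right
    · exact le_top
  · intro i
    fin_cases i
    · exact (inferInstance : (⊥ : Subgroup G).Normal)
    · exact hQn
    · exact ‹K.Normal›
    · exact hMn
    · exact (inferInstance : (⊤ : Subgroup G).Normal)
  · intro i
    fin_cases i
    · left
      exact ⟨a, by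
        show (⊥ : Subgroup G).relIndex Q' = p ^ a
        rw [Subgroup.relIndex_bot_left, hQ', Subgroup.card_map_of_injective K.subtype_injective, ha]⟩
    · right
      show (Q'.relIndex K).Coprime p
      rw [Subgroup.relIndex, Subgroup.subgroupOf, hQ',
        Subgroup.comap_map_eq_self_of_injective K.subtype_injective]
      exact (hp.out.coprime_iff_not_dvd.2 Q.not_dvd_index).symm
    · left
      show ∃ m, K.relIndex M = p ^ m
      rw [hM, Subgroup.relIndex_sup_right]
      obtain ⟨m, -, hm⟩ := (Nat.dvd_prime_pow hp.out).1 (hb ▸ Subgroup.relIndex_dvd_card K (P : Subgroup G))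
      exact ⟨m, hm⟩
    · right
      show (M.relIndex ⊤).Coprime p
      rw [Subgroup.relIndex_top_right]
      exact (hp.out.coprime_iff_not_dvd.2 fun h => P.not_dvd_index
        (h.trans (Subgroup.index_dvd_of_le le_sup_left))).symm

/-- **Small degree relative to `p`.** -/
theorem sylow_normal_small_linear {p : ℕ} [hp : Fact p.Prime] : ∀ (N : ℕ) (G : Type u) [Group G]
    [Finite G], Nat.card G = N → ∀ {χ : G → ℂ}, IsCharacter G χ → (∀ g : G, χ g = χ 1 → g = 1) →
    ∀ {n : ℕ}, χ 1 = n → n + 1 < p →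
    ((n + 1) ^ 2 ≤ p ∨ ∀ K : Subgroup G, ¬ p ^ 2 ∣ Nat.card K → ∀ Q : Sylow p K,
      (Q : Subgroup K).Normal) →
    ∀ P : Sylow p G, (P : Subgroup G).Normal := by
  intro N
  induction N using Nat.strong_induction_on with
  | _ N ih =>
  intro G _ _ hN χ hχ hfaith n hn hnp hhyp P
  classical
  by_contra hP
  have := Fintype.ofFinite G
  -- proper subgroups have normal Sylow subgroups
  have hsubs : ∀ T : Subgroup G, T ≠ ⊤ → ∀ Q : Sylow p T, (Q : Subgroup T).Normal := by
    intro T hT
    refine ih (Nat.card T) (hN ▸ ?_) T rfl (isCharacter_res T hχ)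
      (fun g hg => Subtype.ext (hfaith g (by simpa using hg))) (by simpa using hn) hnp ?_
    · exact lt_of_le_of_ne (Subgroup.card_le_card_group _) fun e => hT (Subgroup.eq_top_of_card_eq _ e)
    · refine hhyp.imp_right fun h S hS Q => ?_
      let e := S.equivMapOfInjective T.subtype T.subtype_injective
      have hn' : ((Q : Subgroup S).map e.toMonoidHom).Normal := h (S.map T.subtype)
        (by rwa [Subgroup.card_map_of_injective T.subtype_injective])
        (Q.mapSurjective (f := e.toMonoidHom) e.surjective)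
      have h2 := hn'.map e.symm.toMonoidHom e.symm.surjective
      rwa [Subgroup.map_map, show e.symm.toMonoidHom.comp e.toMonoidHom = MonoidHom.id _ from
        MonoidHom.ext fun x => e.symm_apply_apply x, Subgroup.map_id] at h2
  -- so `G` is not `p`-solvable
  have hnps : ¬ Cfsg.IsPSolvable p G := fun hs => by
    have := (small_degree hχ hfaith hn hs (by omega) P hP).1
    omega
  have hhom : ∀ f : G →* ℂˣ, f = 1 := fun f => by
    by_contra hf
    have hne : f.ker ≠ ⊤ := fun e => hf (MonoidHom.ext fun x =>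
      MonoidHom.mem_ker.1 (e ▸ Subgroup.mem_top x : x ∈ f.ker))
    obtain ⟨Q⟩ : Nonempty (Sylow p f.ker) := inferInstance
    have := hsubs _ hne Q
    exact hnps (isPSolvable_of_abelian_quotient f.ker
      (fun a b => MonoidHom.mem_ker.2 (by simp [mul_comm])) Q)
  have hM : ∀ M : Subgroup G, M.Normal → (P : Subgroup G) ≤ M → M = ⊤ := by
    intro M hMn hPM
    by_contra hne
    have h1 := hsubs M hne (P.subtype hPM)
    have : Unique (Sylow p M) := Sylow.unique_of_normal (P.subtype hPM) h1
    have hchar : ((P.subtype hPM : Sylow p M) : Subgroup M).Characteristic :=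
      (P.subtype hPM).characteristic_of_subsingleton
    have h2 : (((P.subtype hPM : Sylow p M) : Subgroup M).map M.subtype).Normal := inferInstance
    rw [Sylow.coe_subtype, Subgroup.map_subgroupOf_eq_of_le hPM] at h2
    exact hP h2
  -- `P` is abelian
  have hab : ∀ a ∈ (P : Subgroup G), ∀ b ∈ (P : Subgroup G), a * b = b * a := by
    intro a ha b hb
    have hχP := isCharacter_res (P : Subgroup G) hχ
    have := Fintype.ofFinite (P : Subgroup G)
    have hexp := classFun_expansion (isClassFunction_of_isCharacter hχP)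
    choose m hm using fun θ : IrrCharacter (P : Subgroup G) =>
      classInner_isCharacter_eq_natCast hχP (IsIrr.isCharacter θ.2)
    choose e he0 he using fun θ : IrrCharacter (P : Subgroup G) => IsIrr.degree θ.2
    have hsum : n = ∑ θ, m θ * e θ := by
      have h := congrFun hexp 1
      simp only [Finset.sum_apply, Pi.smul_apply, smul_eq_mul, hm, he, OneMemClass.coe_one, hn] at h
      exact_mod_cast h
    set x : (P : Subgroup G) := ⟨a, ha⟩
    set y : (P : Subgroup G) := ⟨b, hb⟩
    have hc : χ ((x * y * x⁻¹ * y⁻¹ : (P : Subgroup G)) : G) = χ ((1 : (P : Subgroup G)) : G) := by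
      have h1 := congrFun hexp (x * y * x⁻¹ * y⁻¹)
      have h2 := congrFun hexp 1
      simp only [Finset.sum_apply, Pi.smul_apply, smul_eq_mul, hm] at h1 h2
      rw [h1, h2]
      refine Finset.sum_congr rfl fun θ _ => ?_
      rcases Nat.eq_zero_or_pos (m θ) with h0 | h0
      · rw [h0, Nat.cast_zero, zero_mul, zero_mul]
      have hle : e θ ≤ n := by
        rw [hsum]
        refine le_trans ?_ (Finset.single_le_sum (f := fun θ => m θ * e θ)
          (fun _ _ => Nat.zero_le _) (Finset.mem_univ θ))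
        exact Nat.le_mul_of_pos_left _ h0
      obtain ⟨j, hj⟩ := P.isPGroup'.exists_card_eq
      obtain ⟨i, -, hi⟩ := (Nat.dvd_prime_pow hp.out).1 (hj ▸ IsIrr.degree_dvd_card θ.2 (he θ))
      have h10 : e θ = 1 := by
        rcases i with - | i
        · simpa using hi
        · exfalso
          have hpe : p ≤ e θ := by
            rw [hi]
            exact Nat.le_self_pow (Nat.succ_ne_zero _) p
          omega
      obtain ⟨f, hf⟩ := IsChar.exists_hom (IsIrr.isCharacter θ.2) (by rw [he, h10, Nat.cast_one])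
      simp only [hf]
      congr 1
      simp [mul_comm]
    have h3 := hfaith _ (by simpa using hc)
    simp only [Subgroup.coe_mul, Subgroup.coe_inv, x, y] at h3
    rwa [mul_inv_eq_one, mul_inv_eq_iff_eq_mul] at h3
  -- `P` avoids the centre
  have hexp := classFun_expansion (isClassFunction_of_isCharacter hχ)
  have hconst : ∀ g : G, g ≠ 1 → ∃ ψ : IrrCharacter G,
      classInner χ (ψ : G → ℂ) ≠ 0 ∧ (ψ : G → ℂ) g ≠ (ψ : G → ℂ) 1 := by
    intro g hg
    by_contra! hall
    refine hg (hfaith g ?_)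
    have h1 := congrFun hexp g
    have h2 := congrFun hexp 1
    simp only [Finset.sum_apply, Pi.smul_apply, smul_eq_mul] at h1 h2
    rw [h1, h2]
    refine Finset.sum_congr rfl fun ψ _ => ?_
    by_cases h0 : classInner χ (ψ : G → ℂ) = 0
    · rw [h0, zero_mul, zero_mul]
    · rw [hall ψ h0]
  have hdeg : ∀ ψ : IrrCharacter G, classInner χ (ψ : G → ℂ) ≠ 0 →
      ∃ d : ℕ, 0 < d ∧ d ≤ n ∧ (ψ : G → ℂ) 1 = d := by
    intro ψ hψ
    obtain ⟨d, hd0, hd⟩ := IsIrr.degree ψ.2
    obtain ⟨r, hr⟩ := IsChar.degree (IsChar.sub_constituent hχ ψ.2 hψ)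
    rw [Pi.sub_apply, hn, hd, sub_eq_iff_eq_add] at hr
    have : n = r + d := by exact_mod_cast hr
    exact ⟨d, hd0, by omega, hd⟩
  have hPZ : (P : Subgroup G) ⊓ Subgroup.center G = ⊥ := by
    by_contra hne
    obtain ⟨z, hz, hzp⟩ : ∃ z ∈ (P : Subgroup G) ⊓ Subgroup.center G, orderOf z = p := by
      have h1 : p ∣ Nat.card ↥((P : Subgroup G) ⊓ Subgroup.center G) := by
        obtain ⟨k, hk⟩ := (P.isPGroup'.to_le
          (inf_le_left : (P : Subgroup G) ⊓ Subgroup.center G ≤ _)).exists_card_eq
        rcases k with - | k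
        · exact absurd (Subgroup.card_eq_one.1 (by rw [hk, pow_zero])) hne
        · exact hk ▸ dvd_pow_self p k.succ_ne_zero
      obtain ⟨⟨z, hz⟩, hzo⟩ := exists_prime_orderOf_dvd_card' p h1
      exact ⟨z, hz, by rwa [Subgroup.orderOf_mk] at hzo⟩
    obtain ⟨ψ, hψ, hψz⟩ := hconst z fun e => hp.out.ne_one (by rw [← hzp, e, orderOf_one])
    obtain ⟨d, hd0, hdn, hd⟩ := hdeg ψ hψ
    obtain ⟨m, ρ, hρ, he⟩ := ψ.2
    obtain ⟨w, hw, hw'⟩ := commute_eq_scalar ρ hρ (ρ z) fun g => by
      rw [← map_mul, ← map_mul, Subgroup.mem_center_iff.1 hz.2 g]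
    have hfr : Module.finrank ℂ (Fin m → ℂ) = d := by
      have : ((Module.finrank ℂ (Fin m → ℂ) : ℕ) : ℂ) = d := by rw [← ρ.char_one, he, hd]
      exact_mod_cast this
    have hdet : LinearMap.det (ρ z) = 1 := by
      have h := congrArg (fun f : G →* ℂˣ => ((f z : ℂˣ) : ℂ))
        (hhom ((LinearMap.det.comp ρ).toHomUnits))
      simpa using h
    rw [hw, LinearMap.det_smul, LinearMap.det_id, mul_one, hfr] at hdet
    have hwp : w ^ p = 1 := by
      have h1 : ρ (z ^ p) = w ^ p • (LinearMap.id : (Fin m → ℂ) →ₗ[ℂ] _) := by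
        rw [map_pow, hw, smul_pow]
        congr 1
        exact one_pow p
      rw [← hzp, pow_orderOf_eq_one, map_one, hzp] at h1
      have h2 := congrArg (LinearMap.trace ℂ (Fin m → ℂ)) h1
      rw [map_smul, LinearMap.trace_id, smul_eq_mul, LinearMap.trace_one, hfr] at h2
      exact (mul_left_eq_self₀.1 h2.symm).resolve_right (Nat.cast_ne_zero.2 hd0.ne')
    have hw1 : w = 1 := by
      have hc : d.Coprime p :=
        (hp.out.coprime_iff_not_dvd.2 fun h => by have := Nat.le_of_dvd hd0 h; omega).symm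
      have := pow_gcd_eq_one.2 ⟨hdet, hwp⟩
      rwa [hc.gcd_eq_one, pow_one] at this
    apply hψz
    rw [← he]
    simp only [Representation.character]
    rw [hw, hw1, one_smul, map_one]
    rfl
  -- trivial intersection
  have hone : ∀ g : G, g ∉ Subgroup.center G → ∀ a b : G,
      Subgroup.centralizer ({g} : Set G) ⊓ (P : Subgroup G).map (MulAut.conj a).toMonoidHom ≠ ⊥ →
      Subgroup.centralizer ({g} : Set G) ⊓ (P : Subgroup G).map (MulAut.conj b).toMonoidHom ≠ ⊥ →
      (P : Subgroup G).map (MulAut.conj a).toMonoidHom = (P : Subgroup G).map (MulAut.conj b).toMonoidHom := by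
    have hprop : ∀ x : G, x ∉ Subgroup.center G → Subgroup.centralizer ({x} : Set G) ≠ ⊤ :=
      fun x hx e => hx (Subgroup.mem_center_iff.2 fun y =>
        Subgroup.mem_centralizer_singleton_iff.1 (e ▸ Subgroup.mem_top y))
    -- two Sylow subgroups sharing a nontrivial element coincide
    have hTI : ∀ S T : Sylow p G, (∃ x, x ≠ 1 ∧ x ∈ (S : Subgroup G) ∧ x ∈ (T : Subgroup G)) →
        S = T := by
      rintro S T ⟨x, hx1, hxS, hxT⟩
      obtain ⟨a, rfl⟩ := MulAction.exists_smul_eq G P S
      obtain ⟨b, rfl⟩ := MulAction.exists_smul_eq G P T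
      have hxc : x ∉ Subgroup.center G := by
        intro hxZ
        rw [Sylow.coe_subgroup_smul] at hxS
        obtain ⟨u, hu, hux⟩ := hxS
        have hux' : a * u * a⁻¹ = x := hux
        have huc : u ∈ Subgroup.center G := by
          have := (inferInstance : (Subgroup.center G).Normal).conj_mem _ hxZ a⁻¹
          rwa [← hux', inv_inv, show a⁻¹ * (a * u * a⁻¹) * a = u by group] at this
        have h0 : u ∈ (P : Subgroup G) ⊓ Subgroup.center G := ⟨hu, huc⟩
        rw [hPZ, Subgroup.mem_bot] at h0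
        exact hx1 (by rw [← hux', h0, mul_one, mul_inv_cancel])
      set C := Subgroup.centralizer ({x} : Set G) with hC
      have hle : ∀ c : G, x ∈ ((c • P : Sylow p G) : Subgroup G) →
          ((c • P : Sylow p G) : Subgroup G) ≤ C := by
        intro c hxc y hy
        rw [Sylow.coe_subgroup_smul] at hxc hy
        obtain ⟨u, hu, rfl⟩ := hxc
        obtain ⟨v, hv, rfl⟩ := hy
        rw [hC, Subgroup.mem_centralizer_singleton_iff]
        simp only [MonoidHom.coe_coe, MulDistribMulAction.toMonoidEnd_apply,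
          MulDistribMulAction.toMonoidHom_apply, MulAut.smul_def]
        rw [← map_mul, ← map_mul, hab v hv u hu]
      have huC := hsubs C (hprop x hxc) ((a • P : Sylow p G).subtype (hle a hxS))
      have : Unique (Sylow p C) := Sylow.unique_of_normal _ huC
      have e := Subsingleton.elim ((a • P : Sylow p G).subtype (hle a hxS))
        ((b • P : Sylow p G).subtype (hle b hxT))
      exact Sylow.subtype_injective e
    intro g hg a b ha hb
    obtain ⟨⟨x, hxC, hxP⟩, hx1⟩ := Subgroup.ne_bot_iff_exists_ne_one.1 ha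
    obtain ⟨⟨y, hyC, hyP⟩, hy1⟩ := Subgroup.ne_bot_iff_exists_ne_one.1 hb
    obtain ⟨R⟩ : Nonempty (Sylow p (Subgroup.centralizer ({g} : Set G))) := inferInstance
    have hR := hsubs _ (hprop g hg) R
    have : Unique (Sylow p (Subgroup.centralizer ({g} : Set G))) := Sylow.unique_of_normal _ hR
    obtain ⟨E, hE⟩ := (R.isPGroup'.map (Subgroup.centralizer ({g} : Set G)).subtype).exists_le_sylow
    have hmem : ∀ (c z : G), z ∈ Subgroup.centralizer ({g} : Set G) →
        z ∈ (P : Subgroup G).map (MulAut.conj c).toMonoidHom → z ∈ (E : Subgroup G) := by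
      intro c z hzC hzP
      set X := Subgroup.centralizer ({g} : Set G) ⊓ (P : Subgroup G).map (MulAut.conj c).toMonoidHom
      have hXp : IsPGroup p (X.subgroupOf (Subgroup.centralizer ({g} : Set G))) :=
        ((P.isPGroup'.map (MulAut.conj c).toMonoidHom).to_le inf_le_right).of_equiv
          (Subgroup.subgroupOfEquivOfLe inf_le_left).symm
      obtain ⟨R', hR'⟩ := hXp.exists_le_sylow
      rw [Subsingleton.elim R' R] at hR'
      exact hE ⟨⟨z, hzC⟩, hR' (Subgroup.mem_subgroupOf.2 ⟨hzC, hzP⟩), rfl⟩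
    have ea := hTI (a • P) E ⟨x, fun e => hx1 (Subtype.ext e), hxP, hmem a x hxC hxP⟩
    have eb := hTI (b • P) E ⟨y, fun e => hy1 (Subtype.ext e), hyP, hmem b y hyC hyP⟩
    exact congrArg (fun S : Sylow p G => (S : Subgroup G)) (ea.trans eb.symm)
  -- a nontrivial constituent
  have hPne : (P : Subgroup G) ≠ ⊥ := fun h => hP (h ▸ inferInstance)
  obtain ⟨⟨x, hx⟩, hx1⟩ := Subgroup.ne_bot_iff_exists_ne_one.1 hPne
  obtain ⟨ψ, hψ, hψx⟩ := hconst x fun e => hx1 (Subtype.ext e)
  obtain ⟨d, hd0, hdn, hd⟩ := hdeg ψ hψ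
  have hψ1 : (ψ : G → ℂ) 1 ≠ 1 := by
    intro h1
    obtain ⟨f, hf⟩ := IsChar.exists_hom (IsIrr.isCharacter ψ.2) h1
    apply hψx
    simp [hf, hhom f]
  have := Fintype.ofFinite (P : Subgroup G)
  have hbound := (S0898.result (P : Subgroup G) hab hPZ hone (ψ : G → ℂ) ψ.2 ⟨x, hx, hψx⟩).2 hψ1 hM
  rw [hd, Complex.natCast_re] at hbound
  have hbound' : Nat.card (P : Subgroup G) < (1 + d) ^ 2 := by exact_mod_cast hbound
  have hle : (1 + d) ^ 2 ≤ (n + 1) ^ 2 := Nat.pow_le_pow_left (by omega) 2
  obtain ⟨k, hk⟩ := P.isPGroup'.exists_card_eq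
  have hk0 : k ≠ 0 := fun e => hPne (Subgroup.card_eq_one.1 (by rw [hk, e, pow_zero]))
  rcases hhyp with h | h
  · have := Nat.le_self_pow hk0 p
    omega
  · by_cases hk2 : 2 ≤ k
    · have h1 := Nat.pow_le_pow_right hp.out.pos hk2
      have h2 := Nat.pow_le_pow_left hnp.le 2
      omega
    · have hnd : ¬ p ^ 2 ∣ Nat.card (⊤ : Subgroup G) := by
        rw [Subgroup.card_top]
        intro hd
        have := (Nat.pow_dvd_pow_iff_le_right hp.out.one_lt).1 (hk ▸ P.pow_dvd_card_of_pow_dvd_card hd)
        omega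
      have h1 := h ⊤ hnd (P.subtype le_top)
      have h2 := h1.map (⊤ : Subgroup G).subtype fun x => ⟨⟨x, trivial⟩, rfl⟩
      rw [Sylow.coe_subtype, Subgroup.map_subgroupOf_eq_of_le le_top] at h2
      exact hP h2

end Cfsg.Agent.Char
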