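import Cfsg.Agent.Char.Brauer
import Cfsg.Agent.Char.Iso
import Mathlib

/-!
# Cyclotomic fields split finite groups
-/

set_option autoImplicit false

namespace Cfsg.Agent.Char

open scoped ComplexConjugate Matrix
open Module

universe u

variable {G : Type u} [Group G] [Fintype G] (K : IntermediateField ℚ ℂ)

/-- A function is realised over `K` when it is the trace of a representation over `K`. -/
def IsRat (χ : G → ℂ) : Prop :=
  ∃ (d : ℕ) (ρ : Representation K G (Fin d → K)), ∀ g, χ g = ((LinearMap.trace K _ (ρ g) : K) : ℂ)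

/-- Extension of scalars from `K` to `ℂ`. -/
noncomputable def extendRep {d : ℕ} (ρ : Representation K G (Fin d → K)) :
    Representation ℂ G (Fin d → ℂ) :=
  (Matrix.toLinAlgEquiv' (R := ℂ) (n := Fin d)).toRingEquiv.toRingHom.toMonoidHom.comp
    ((K.val.toRingHom.mapMatrix : Matrix (Fin d) (Fin d) K →+* _).toMonoidHom.comp
      ((LinearMap.toMatrixAlgEquiv' (R := K) (n := Fin d)).toRingEquiv.toRingHom.toMonoidHom.comp ρ))

theorem toMatrix_extendRep {d : ℕ} (ρ : Representation K G (Fin d → K)) (g : G) :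
    LinearMap.toMatrix' (extendRep K ρ g) =
      (LinearMap.toMatrix' (ρ g)).map fun a => (a : ℂ) := by
  simp [extendRep, Matrix.toLinAlgEquiv', LinearMap.toMatrixAlgEquiv']

theorem character_extendRep {d : ℕ} (ρ : Representation K G (Fin d → K)) (g : G) :
    (extendRep K ρ).character g = ((LinearMap.trace K _ (ρ g) : K) : ℂ) := by
  show LinearMap.trace ℂ _ (extendRep K ρ g) = _
  rw [LinearMap.trace_eq_matrix_trace ℂ (Pi.basisFun ℂ (Fin d)),
    LinearMap.trace_eq_matrix_trace K (Pi.basisFun K (Fin d)), LinearMap.toMatrix_eq_toMatrix',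
    LinearMap.toMatrix_eq_toMatrix', toMatrix_extendRep]
  exact (AddMonoidHom.map_trace K.val.toRingHom.toAddMonoidHom _).symm

variable {K}

theorem IsRat.isCharacter {χ : G → ℂ} (h : IsRat K χ) : IsCharacter G χ := by
  obtain ⟨d, ρ, h⟩ := h
  exact ⟨d, extendRep K ρ, funext fun g => (character_extendRep K ρ g).trans (h g).symm⟩

theorem exists_fin_model {V : Type*} [AddCommGroup V] [Module K V] [FiniteDimensional K V]
    (ρ : Representation K G V) : ∃ σ : Representation K G (Fin (finrank K V) → K),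
      ∀ g, LinearMap.trace K _ (σ g) = LinearMap.trace K V (ρ g) :=
  ⟨((Module.finBasis K V).equivFun.conjAlgEquiv K).toMonoidHom.comp ρ,
    fun g => LinearMap.trace_conj' (ρ g) _⟩

theorem isRat_of_rep {V : Type*} [AddCommGroup V] [Module K V] [FiniteDimensional K V]
    (ρ : Representation K G V) :
    IsRat K fun g => ((LinearMap.trace K V (ρ g) : K) : ℂ) := by
  obtain ⟨σ, hσ⟩ := exists_fin_model ρ
  exact ⟨_, σ, fun g => by simp only [hσ]⟩

theorem isRat_zero : IsRat K (0 : G → ℂ) := ⟨0, 1, fun g => by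
  have : (1 : Representation K G (Fin 0 → K)) g = 0 := Subsingleton.elim _ _
  rw [this, map_zero]; simp⟩

theorem isRat_add {χ η : G → ℂ} (hχ : IsRat K χ) (hη : IsRat K η) : IsRat K (χ + η) := by
  obtain ⟨a, ρ, hρ⟩ := hχ
  obtain ⟨b, σ, hσ⟩ := hη
  have h := isRat_of_rep (ρ.prod σ)
  have e : χ + η = fun g => ((LinearMap.trace K _ (ρ.prod σ g) : K) : ℂ) := funext fun g => by
    rw [Pi.add_apply, hρ, hσ]
    show _ = ((LinearMap.trace K _ (LinearMap.prodMap (ρ g) (σ g)) : K) : ℂ)
    rw [LinearMap.trace_prodMap']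
    simp
  exact e ▸ h

open scoped _root_.Classical in
/-- Characters induced from linear characters with values in `K` are realised over `K`. -/
theorem isRat_monomial (H : Subgroup G) (lam : H →* ℂˣ) (hK : ∀ h, (lam h : ℂ) ∈ K) :
    IsRat K (indFun H fun h => (lam h : ℂ)) := by
  have := Fintype.ofFinite H
  let t : G ⧸ H → G := Quotient.out
  have ht : ∀ a, (t a : G ⧸ H) = a := QuotientGroup.out_eq'
  let lamK : H → K := fun h => ⟨lam h, hK h⟩
  have hlamK : ∀ a b, lamK (a * b) = lamK a * lamK b := fun a b =>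
    Subtype.ext (by simp [lamK])
  have hmem : ∀ (g : G) (a b : G ⧸ H), g • b = a → (t a)⁻¹ * g * t b ∈ H := fun g a b h => by
    rw [mul_assoc, ← QuotientGroup.eq]
    show (t a : G ⧸ H) = ((g • t b : G) : G ⧸ H)
    rw [ht, MulAction.Quotient.coe_smul_out]
    exact h.symm
  let M : G → Matrix (G ⧸ H) (G ⧸ H) K := fun g a b =>
    if h : g • b = a then lamK ⟨_, hmem g a b h⟩ else 0
  have hM : ∀ g g', M (g * g') = M g * M g' := by
    intro g g'
    ext a b : 2
    rw [Matrix.mul_apply, Finset.sum_eq_single (g' • b)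
      (fun c _ hc => by simp [M, dif_neg (Ne.symm hc)]) (by simp)]
    by_cases h : g • (g' • b) = a
    · simp only [M, dif_pos h, mul_smul, dif_pos]
      rw [← hlamK]
      refine congrArg (fun x : H => ((lamK x : K) : ℂ)) (Subtype.ext ?_)
      show (t a)⁻¹ * (g * g') * t b = (t a)⁻¹ * g * t (g' • b) * ((t (g' • b))⁻¹ * g' * t b)
      group
    · simp [M, dif_neg h, mul_smul]
  have hM1 : M 1 = 1 := by
    ext a b : 2
    by_cases h : b = a
    · subst h
      simp only [M, one_smul, dif_pos, Matrix.one_apply_eq]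
      show (lam _ : ℂ) = 1
      rw [show (⟨(t b)⁻¹ * 1 * t b, hmem 1 b b (one_smul G b)⟩ : H) = 1 from Subtype.ext (by simp),
        map_one, Units.val_one]
    · simp [M, one_smul, dif_neg h, Matrix.one_apply_ne (Ne.symm h)]
  let ρ : Representation K G ((G ⧸ H) → K) :=
    (Matrix.toLinAlgEquiv' (R := K) (n := G ⧸ H)).toRingEquiv.toRingHom.toMonoidHom.comp
      { toFun := M, map_one' := hM1, map_mul' := hM }
  have h := isRat_of_rep ρ
  suffices e : (indFun H fun h => (lam h : ℂ)) = fun g => ((LinearMap.trace K _ (ρ g) : K) : ℂ) from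
    e ▸ h
  funext g
  have htr : LinearMap.trace K _ (ρ g) = ∑ a, M g a a := by
    rw [LinearMap.trace_eq_matrix_trace K (Pi.basisFun K (G ⧸ H)), LinearMap.toMatrix_eq_toMatrix']
    show Matrix.trace (LinearMap.toMatrix' (Matrix.toLin' (M g))) = _
    rw [LinearMap.toMatrix'_toLin']
    rfl
  rw [htr, AddSubmonoidClass.coe_finset_sum, indFun_apply]
  let dec : G ≃ (G ⧸ H) × H :=
    { toFun := fun x => ((x : G ⧸ H), ⟨(t (x : G ⧸ H))⁻¹ * x, QuotientGroup.eq.1 (ht _)⟩)
      invFun := fun p => t p.1 * p.2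
      left_inv := fun x => by simp
      right_inv := fun p => by
        have h1 : ((t p.1 * p.2 : G) : G ⧸ H) = p.1 := by
          rw [QuotientGroup.mk_mul_of_mem _ p.2.2, ht]
        refine Prod.ext h1 (Subtype.ext ?_)
        show (t ((t p.1 * p.2 : G) : G ⧸ H))⁻¹ * (t p.1 * p.2) = p.2
        rw [h1, inv_mul_cancel_left] }
  have hterm : ∀ (a : G ⧸ H) (h : H),
      extendByZero H (fun h => (lam h : ℂ)) ((t a * h)⁻¹ * g * (t a * h)) = ((M g a a : K) : ℂ) := by
    intro a h
    have e1 : (t a * h)⁻¹ * g * (t a * h) = (h : G)⁻¹ * ((t a)⁻¹ * g * t a) * h := by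
      simp [mul_assoc]
    by_cases hg : g • a = a
    · have hy := hmem g a a hg
      rw [e1, show (h : G)⁻¹ * ((t a)⁻¹ * g * t a) * h =
        ((h⁻¹ * ⟨_, hy⟩ * h : H) : G) from rfl, extendByZero_coe]
      simp only [M, dif_pos hg, lamK]
      simp [mul_comm, mul_assoc]
    · rw [extendByZero_of_not_mem H _ fun hy => hg ?_]
      · simp [M, dif_neg hg]
      have h2 : (t a)⁻¹ * g * t a ∈ H := by
        have := H.mul_mem (H.mul_mem h.2 (e1 ▸ hy)) (H.inv_mem h.2)
        simpa [mul_assoc] using this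
      rw [mul_assoc, ← QuotientGroup.eq] at h2
      conv_lhs => rw [← ht a]
      show ((g * t a : G) : G ⧸ H) = a
      rw [← h2, ht]
  rw [← Equiv.sum_comp dec.symm, Fintype.sum_prod_type]
  simp only [dec, Equiv.coe_fn_symm_mk, hterm, Finset.sum_const, Finset.card_univ, nsmul_eq_mul,
    ← Finset.mul_sum, ← Nat.card_eq_fintype_card]
  rw [inv_mul_cancel_left₀ card_ne_zero]

/-- Every character is a difference of two realised ones, when `K` has the roots of unity. -/
theorem exists_rat_diff {χ : G → ℂ} (hχ : IsCharacter G χ)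
    (hK : ∀ z : ℂ, z ^ Monoid.exponent G = 1 → z ∈ K) :
    ∃ a b : G → ℂ, IsRat K a ∧ IsRat K b ∧ χ = a - b := by
  have h := brauer_induction hχ
  clear hχ
  induction h using AddSubgroup.closure_induction with
  | mem f hf =>
    obtain ⟨E, lam, -, rfl⟩ := hf
    refine ⟨_, 0, isRat_monomial E lam (fun e => hK _ ?_), isRat_zero, (sub_zero _).symm⟩
    rw [← Units.val_pow_eq_pow_val, ← map_pow]
    rw [show e ^ Monoid.exponent G = 1 from Subtype.ext (Monoid.pow_exponent_eq_one (e : G)), map_one,
      Units.val_one]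
  | zero => exact ⟨0, 0, isRat_zero, isRat_zero, (sub_zero _).symm⟩
  | add f f' _ _ h1 h2 =>
    obtain ⟨a, b, ha, hb, rfl⟩ := h1
    obtain ⟨a', b', ha', hb', rfl⟩ := h2
    exact ⟨a + a', b + b', isRat_add ha ha', isRat_add hb hb', by abel⟩
  | neg f _ h1 =>
    obtain ⟨a, b, ha, hb, rfl⟩ := h1
    exact ⟨b, a, hb, ha, neg_sub a b⟩

theorem isRat_nsmul {χ : G → ℂ} (h : IsRat K χ) (n : ℕ) : IsRat K (n • χ) := by
  induction n with
  | zero => rw [zero_smul]; exact isRat_zero
  | succ n ih => rw [succ_nsmul]; exact isRat_add ih h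

/-- A complement of an invariant subspace splits the trace. -/
theorem trace_add_of_isCompl {V : Type*} [AddCommGroup V] [Module K V] [FiniteDimensional K V]
    (ρ : Representation K G V) (S T : Subrepresentation ρ)
    (h : IsCompl S.toSubmodule T.toSubmodule) (g : G) :
    LinearMap.trace K V (ρ g) = LinearMap.trace K _ (S.toRepresentation g) +
      LinearMap.trace K _ (T.toRepresentation g) := by
  let e := Submodule.prodEquivOfIsCompl _ _ h
  have h1 : ρ g = e.conj (LinearMap.prodMap (S.toRepresentation g) (T.toRepresentation g)) := by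
    ext v
    obtain ⟨⟨x, y⟩, rfl⟩ := e.surjective v
    simp only [LinearEquiv.conj_apply_apply, LinearEquiv.symm_apply_apply, LinearMap.prodMap_apply]
    simp [e, Subrepresentation.toRepresentation]
  rw [h1, LinearMap.trace_conj', LinearMap.trace_prodMap']

theorem exists_compl {V : Type*} [AddCommGroup V] [Module K V] [FiniteDimensional K V]
    (ρ : Representation K G V) (S : Subrepresentation ρ) :
    ∃ T : Subrepresentation ρ, IsCompl S.toSubmodule T.toSubmodule := by
  have : NeZero (Nat.card G : K) := ⟨Nat.cast_ne_zero.2 Nat.card_pos.ne'⟩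
  obtain ⟨T, hT⟩ := exists_isCompl S
  refine ⟨T, ?_, ?_⟩
  · rw [disjoint_iff]; exact congrArg Subrepresentation.toSubmodule (disjoint_iff.1 hT.1)
  · rw [codisjoint_iff]; exact congrArg Subrepresentation.toSubmodule (codisjoint_iff.1 hT.2)

/-- Multiplicity of an irreducible character as a natural number. -/
theorem exists_mult_eq {η : G → ℂ} (hη : IsRat K η) (χ : IrrCharacter G) :
    ∃ n : ℕ, classInner η (χ : G → ℂ) = n :=
  classInner_isCharacter_eq_natCast hη.isCharacter (IsIrr.isCharacter χ.2)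

/-- Non-orthogonal characters of representations over `K` give a nonzero intertwiner. -/
theorem exists_intertwiner {a b : ℕ} (ρ : Representation K G (Fin a → K))
    (σ : Representation K G (Fin b → K))
    (h : classInner (extendRep K σ).character (extendRep K ρ).character ≠ 0) :
    ∃ f : (Fin a → K) →ₗ[K] (Fin b → K), f ≠ 0 ∧ ∀ g v, f (ρ g v) = σ g (f v) := by
  classical
  by_contra! hall
  apply h
  have hzero : ∀ f : (Fin a → K) →ₗ[K] (Fin b → K), ∑ g, σ g ∘ₗ f ∘ₗ ρ g⁻¹ = 0 := by
    intro f
    by_contra hne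
    obtain ⟨g, v, hgv⟩ := hall _ hne
    apply hgv
    simp only [LinearMap.sum_apply, LinearMap.comp_apply, map_sum]
    rw [← Equiv.sum_comp (Equiv.mulLeft g)]
    refine Finset.sum_congr rfl fun x _ => ?_
    rw [Equiv.coe_mulLeft, mul_inv_rev, map_mul σ, Module.End.mul_apply, map_mul ρ,
      Module.End.mul_apply, Representation.inv_self_apply]
  have hmat : ∀ (i : Fin b) (j : Fin a), ∑ g, LinearMap.toMatrix' (σ g) i i *
      LinearMap.toMatrix' (ρ g⁻¹) j j = (0 : K) := by
    intro i j
    have h1 := congrArg LinearMap.toMatrix'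
      (hzero (Matrix.toLin' (Matrix.single i j (1 : K))))
    rw [map_sum, map_zero] at h1
    have h2 := congrFun (congrFun h1 i) j
    simp only [Matrix.sum_apply, Matrix.zero_apply, LinearMap.toMatrix'_comp,
      LinearMap.toMatrix'_toLin'] at h2
    rw [← h2]
    refine Finset.sum_congr rfl fun g _ => ?_
    rw [Matrix.mul_apply, Finset.sum_eq_single i (fun k _ hk => by
      rw [Matrix.single_mul_apply_of_ne _ _ _ _ _ hk, mul_zero]) (by simp),
      Matrix.single_mul_apply_same, one_mul]
  have htrace : ∀ g, LinearMap.trace K _ (σ g) * LinearMap.trace K _ (ρ g⁻¹) =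
      ∑ i, ∑ j, LinearMap.toMatrix' (σ g) i i * LinearMap.toMatrix' (ρ g⁻¹) j j := by
    intro g
    rw [LinearMap.trace_eq_matrix_trace K (Pi.basisFun K (Fin a)),
      LinearMap.trace_eq_matrix_trace K (Pi.basisFun K (Fin b)), LinearMap.toMatrix_eq_toMatrix',
      LinearMap.toMatrix_eq_toMatrix', Matrix.trace, Matrix.trace, Finset.sum_mul_sum]
    rfl
  have hsum : ∑ g, LinearMap.trace K _ (σ g) * LinearMap.trace K _ (ρ g⁻¹) = 0 := by
    simp only [htrace]
    rw [Finset.sum_comm]
    refine Finset.sum_eq_zero fun i _ => ?_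
    rw [Finset.sum_comm]
    exact Finset.sum_eq_zero fun j _ => hmat i j
  simp only [classInner]
  rw [Finset.sum_congr rfl (g := fun g =>
    ((LinearMap.trace K _ (σ g) * LinearMap.trace K _ (ρ g⁻¹) : K) : ℂ)) fun g _ => ?_,
    ← AddSubmonoidClass.coe_finset_sum, hsum, ZeroMemClass.coe_zero, mul_zero]
  rw [IntermediateField.coe_mul, ← character_extendRep, ← character_extendRep, character_inv]

/-- A decomposition gives realisations of both parts. -/
theorem exists_parts {e : ℕ} (ρ : Representation K G (Fin e → K)) (S T : Subrepresentation ρ)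
    (hc : IsCompl S.toSubmodule T.toSubmodule) :
    ∃ (ρS : Representation K G (Fin (finrank K S.toSubmodule) → K))
      (ρT : Representation K G (Fin (finrank K T.toSubmodule) → K)),
      (∀ g, LinearMap.trace K _ (ρS g) = LinearMap.trace K _ (S.toRepresentation g)) ∧
      (extendRep K ρ).character = (extendRep K ρS).character + (extendRep K ρT).character := by
  obtain ⟨ρS, hS⟩ := exists_fin_model S.toRepresentation
  obtain ⟨ρT, hT⟩ := exists_fin_model T.toRepresentation
  refine ⟨ρS, ρT, hS, funext fun g => ?_⟩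
  rw [Pi.add_apply, character_extendRep, character_extendRep, character_extendRep,
    trace_add_of_isCompl ρ S T hc, hS, hT, IntermediateField.coe_add]

/-- An irreducible representation over `K` containing `χ` once has character `χ`. -/
theorem character_eq_of_mult_one {d : ℕ} (U : Representation K G (Fin d → K))
    (hirr : ∀ S : Subrepresentation U, S.toSubmodule = ⊥ ∨ S.toSubmodule = ⊤)
    (χ : IrrCharacter G) (hχK : ∀ g, (χ : G → ℂ) g ∈ K)
    (hU : classInner (extendRep K U).character (χ : G → ℂ) = 1) :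
    (extendRep K U).character = (χ : G → ℂ) := by
  classical
  obtain ⟨m, hm, he, -⟩ := IsChar.exists_mult (isCharacter_of_rep (extendRep K U))
  have hmχ : m χ = 1 := by exact_mod_cast (hm χ).symm.trans hU
  rw [he, Finset.sum_eq_single χ (fun η _ hη => ?_) (by simp), hmχ, Nat.cast_one, one_smul]
  by_contra hne
  have hmη : m η ≠ 0 := fun e => hne (by rw [e, Nat.cast_zero, zero_smul])
  -- the isotypic projection is zero on some vector, but is not zero
  set c : G → K := fun g => ⟨(χ : G → ℂ) g⁻¹, hχK g⁻¹⟩ with hc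
  set P : (Fin d → K) →ₗ[K] (Fin d → K) := ∑ g, c g • U g with hP
  have hPtr : ((LinearMap.trace K _ P : K) : ℂ) = Nat.card G := by
    rw [hP, map_sum, AddSubmonoidClass.coe_finset_sum]
    have h1 := hU
    rw [classInner, inv_mul_eq_one₀ card_ne_zero] at h1
    rw [h1]
    refine Finset.sum_congr rfl fun g _ => ?_
    rw [map_smul, smul_eq_mul, IntermediateField.coe_mul, ← character_extendRep, mul_comm,
      ← IsChar.inv_eq_conj (IsIrr.isCharacter χ.2)]
  clear_value P c
  have hcomm : ∀ k v, P (U k v) = U k (P v) := by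
    intro k v
    simp only [hP, LinearMap.sum_apply, LinearMap.smul_apply, map_sum, map_smul]
    refine Fintype.sum_equiv (MulAut.conj k⁻¹).toEquiv _ _ fun g => ?_
    show c g • U g (U k v) = c (MulAut.conj k⁻¹ g) • U k (U (MulAut.conj k⁻¹ g) v)
    rw [show c (MulAut.conj k⁻¹ g) = c g from Subtype.ext (by
        rw [hc]
        show (χ : G → ℂ) (MulAut.conj k⁻¹ g)⁻¹ = (χ : G → ℂ) g⁻¹
        rw [← map_inv]
        exact classFun_isConj (isClassFunction_of_isIrr χ.2) (isConj_iff.2 ⟨k, by simp [mul_assoc]⟩)),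
      ← Module.End.mul_apply, ← map_mul, ← Module.End.mul_apply, ← map_mul]
    simp [mul_assoc]
  let kerP : Subrepresentation U := ⟨LinearMap.ker P, fun g v hv => by
    rw [LinearMap.mem_ker] at hv ⊢
    rw [hcomm, hv, map_zero]⟩
  have hPinj : LinearMap.ker P = ⊥ := (hirr kerP).resolve_right fun h1 => by
    have h0 : P = 0 := LinearMap.ker_eq_top.1 h1
    refine card_ne_zero (G := G) (hPtr.symm.trans ?_)
    rw [h0, map_zero, ZeroMemClass.coe_zero]
  -- extended to `ℂ` it kills the `η`-part
  set A : Matrix (Fin d) (Fin d) K := LinearMap.toMatrix' P with hA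
  have hdet : A.det ≠ 0 := by
    rw [hA, LinearMap.det_toMatrix']
    exact fun h0 => (LinearMap.det_eq_zero_iff_ker_ne_bot.1 h0) hPinj
  have hPC : Matrix.toLin' (A.map fun a => (a : ℂ)) =
      ∑ g, (χ : G → ℂ) g⁻¹ • extendRep K U g := by
    refine LinearMap.toMatrix'.injective ?_
    rw [LinearMap.toMatrix'_toLin', map_sum]
    simp only [map_smul, toMatrix_extendRep, hA, hP, map_sum]
    ext i j
    simp only [Matrix.map_apply, Matrix.sum_apply, Matrix.smul_apply, smul_eq_mul,
      AddSubmonoidClass.coe_finset_sum, IntermediateField.coe_mul, hc]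
  obtain ⟨n, ψ, hψ, hψe⟩ := η.2
  have hψne : classInner (extendRep K U).character ψ.character ≠ 0 := by
    rw [hψe, hm, Nat.cast_ne_zero]
    exact hmη
  rw [classInner_character_eq_finrank, Nat.cast_ne_zero] at hψne
  obtain ⟨F, hF⟩ := Module.finrank_pos_iff_exists_ne_zero.1 (Nat.pos_of_ne_zero hψne)
  obtain ⟨c', hc', hc''⟩ := sum_smul_rep_eq_scalar ψ hψ (f := fun g => (χ : G → ℂ) g⁻¹)
    fun x y => by
      show (χ : G → ℂ) (y * x * y⁻¹)⁻¹ = (χ : G → ℂ) x⁻¹
      rw [show (y * x * y⁻¹)⁻¹ = y * x⁻¹ * y⁻¹ by group]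
      exact isClassFunction_of_isIrr χ.2 _ _
  have hc0 : c' = 0 := by
    have h1 := classInner_irr_ne η.2 χ.2 fun e => hη (Subtype.ext e)
    rw [classInner] at h1
    have h2 := (mul_eq_zero.1 h1).resolve_left (inv_ne_zero card_ne_zero)
    rw [hψe, Finset.sum_congr rfl (g := fun g => (η : G → ℂ) g * conj ((χ : G → ℂ) g))
      fun g _ => by rw [IsChar.inv_eq_conj (IsIrr.isCharacter χ.2), mul_comm], h2] at hc''
    refine (mul_eq_zero.1 hc'').resolve_right (Nat.cast_ne_zero.2 ?_)
    obtain ⟨hnt, -⟩ := isIrreducible_iff.1 hψ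
    exact (Module.finrank_pos (R := ℂ) (M := Fin n → ℂ)).ne'
  apply hF
  refine Representation.IntertwiningMap.ext (LinearMap.ext fun v => ?_)
  have h1 : Matrix.toLin' (A.map fun a => (a : ℂ)) (F.toLinearMap v) = 0 := by
    rw [hPC, LinearMap.sum_apply]
    have h2 := LinearMap.congr_fun hc' v
    simp only [LinearMap.sum_apply, LinearMap.smul_apply, hc0, zero_smul] at h2
    refine Eq.trans ?_ ((congrArg F.toLinearMap h2).trans (map_zero _))
    rw [map_sum]
    refine Finset.sum_congr rfl fun g _ => ?_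
    rw [map_smul, LinearMap.smul_apply]
    exact congrArg _ (F.isIntertwining ψ (extendRep K U) g v).symm
  have hdetC : (A.map fun a => (a : ℂ)).det ≠ 0 := by
    have h2 := (K.val.toRingHom.map_det A).symm
    intro h0
    exact hdet (Subtype.ext ((h2.symm.trans h0).trans (ZeroMemClass.coe_zero K).symm))
  by_contra hv
  exact hdetC (Matrix.exists_mulVec_eq_zero_iff.1 ⟨_, hv, by rwa [Matrix.toLin'_apply] at h1⟩)


/-- **An irreducible character is realised over a field containing the roots of unity.** -/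
theorem isRat_irr (hK : ∀ z : ℂ, z ^ Monoid.exponent G = 1 → z ∈ K) (χ : IrrCharacter G) :
    IsRat K (χ : G → ℂ) := by
  classical
  obtain ⟨a, b, ha, hb, hab⟩ := exists_rat_diff (IsIrr.isCharacter χ.2) hK
  obtain ⟨na, hna⟩ := exists_mult_eq ha χ
  obtain ⟨nb, hnb⟩ := exists_mult_eq hb χ
  have hab1 : na = nb + 1 := by
    have h := classInner_irr_self χ.2
    conv_lhs at h => arg 1; rw [hab]
    rw [classInner_sub_left, hna, hnb, sub_eq_iff_eq_add'] at h
    exact_mod_cast h
  have hchar : ∀ {η : G → ℂ}, IsRat K η → ∃ (e : ℕ) (ρ : Representation K G (Fin e → K)),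
      (extendRep K ρ).character = η := fun {η} h => by
    obtain ⟨e, ρ, hρ⟩ := h
    exact ⟨e, ρ, funext fun g => (character_extendRep K ρ g).trans (hρ g).symm⟩
  have hex : ∃ s : ℕ, 0 < s ∧ ∃ d, ∃ ρ : Representation K G (Fin d → K),
      classInner (extendRep K ρ).character (χ : G → ℂ) = s := by
    obtain ⟨e, ρ, hρ⟩ := hchar ha
    exact ⟨na, by omega, e, ρ, by rw [hρ, hna]⟩
  set s := Nat.find hex with hs
  obtain ⟨hs0, hexd⟩ : 0 < s ∧ ∃ d, ∃ ρ : Representation K G (Fin d → K),
      classInner (extendRep K ρ).character (χ : G → ℂ) = s := Nat.find_spec hex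
  set d := Nat.find hexd with hd
  obtain ⟨U, hU⟩ : ∃ ρ : Representation K G (Fin d → K),
      classInner (extendRep K ρ).character (χ : G → ℂ) = s := Nat.find_spec hexd
  have hirr : ∀ S : Subrepresentation U, S.toSubmodule = ⊥ ∨ S.toSubmodule = ⊤ := by
    intro S
    by_contra! hne
    obtain ⟨T, hc⟩ := exists_compl U S
    have hT0 : T.toSubmodule ≠ ⊥ := fun e => hne.2 (by
      have := hc.sup_eq_top; rwa [e, sup_bot_eq] at this)
    have hdim := Submodule.finrank_add_eq_of_isCompl hc
    rw [Module.finrank_fin_fun] at hdim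
    have h1 : 0 < finrank K S.toSubmodule :=
      Nat.pos_of_ne_zero fun e => hne.1 (Submodule.finrank_eq_zero.1 e)
    have h2 : 0 < finrank K T.toSubmodule :=
      Nat.pos_of_ne_zero fun e => hT0 (Submodule.finrank_eq_zero.1 e)
    obtain ⟨ρS, ρT, -, hadd⟩ := exists_parts U S T hc
    obtain ⟨i, hi⟩ := classInner_isCharacter_eq_natCast (isCharacter_of_rep (extendRep K ρS))
      (IsIrr.isCharacter χ.2)
    obtain ⟨j, hj⟩ := classInner_isCharacter_eq_natCast (isCharacter_of_rep (extendRep K ρT))
      (IsIrr.isCharacter χ.2)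
    rw [hadd, classInner_add_left, hi, hj] at hU
    have hij : i + j = s := by exact_mod_cast hU
    rcases Nat.eq_zero_or_pos i with hi0 | hi0
    · exact Nat.find_min hexd (m := finrank K T.toSubmodule) (by omega)
        ⟨ρT, by rw [hj, show j = s by omega]⟩
    · rcases Nat.lt_or_ge i s with hlt | hge
      · exact Nat.find_min hex hlt ⟨hi0, _, ρS, hi⟩
      · exact Nat.find_min hexd (m := finrank K S.toSubmodule) (by omega)
          ⟨ρS, by rw [hi, show i = s by omega]⟩
  have hdvd : ∀ (t : ℕ) {e : ℕ} (ρ : Representation K G (Fin e → K)),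
      classInner (extendRep K ρ).character (χ : G → ℂ) = t → s ∣ t := by
    intro t
    induction t using Nat.strong_induction_on with
    | _ t ih => ?_
    intro e ρ hρ
    rcases Nat.eq_zero_or_pos t with rfl | ht
    · exact dvd_zero s
    have hinner : classInner (extendRep K ρ).character (extendRep K U).character ≠ 0 := by
      obtain ⟨m1, hm1, -, -⟩ := IsChar.exists_mult (isCharacter_of_rep (extendRep K ρ))
      obtain ⟨m2, hm2, he2, -⟩ := IsChar.exists_mult (isCharacter_of_rep (extendRep K U))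
      have h1 : classInner (extendRep K ρ).character (extendRep K U).character =
          ((∑ η : IrrCharacter G, m1 η * m2 η : ℕ) : ℂ) := by
        conv_lhs => arg 2; rw [he2]
        rw [classInner_sum_right, Nat.cast_sum]
        refine Finset.sum_congr rfl fun η _ => ?_
        rw [classInner_smul_right, hm1, map_natCast, Nat.cast_mul, mul_comm]
      rw [h1, Nat.cast_ne_zero]
      have e1 : m1 χ = t := by exact_mod_cast (hm1 χ).symm.trans hρ
      have e2 : m2 χ = s := by exact_mod_cast (hm2 χ).symm.trans hU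
      refine fun h0 => Nat.mul_ne_zero ht.ne' hs0.ne' ?_
      rw [← e1, ← e2]
      exact Finset.sum_eq_zero_iff.1 h0 χ (Finset.mem_univ _)
    obtain ⟨f, hf0, hf⟩ := exists_intertwiner U ρ hinner
    let kerS : Subrepresentation U := ⟨LinearMap.ker f, fun g v hv => by
      rw [LinearMap.mem_ker] at hv ⊢
      rw [hf, hv, map_zero]⟩
    have hinj : LinearMap.ker f = ⊥ := (hirr kerS).resolve_right fun h1 =>
      hf0 (LinearMap.ker_eq_top.1 h1)
    let S : Subrepresentation ρ := ⟨LinearMap.range f, fun g w hw => by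
      obtain ⟨v, rfl⟩ := hw
      exact ⟨U g v, hf g v⟩⟩
    obtain ⟨T, hc⟩ := exists_compl ρ S
    obtain ⟨ρS, ρT, hS, hadd⟩ := exists_parts ρ S T hc
    let eqv := LinearEquiv.ofInjective f (LinearMap.ker_eq_bot.1 hinj)
    have hSU : (extendRep K ρS).character = (extendRep K U).character := by
      funext g
      rw [character_extendRep, character_extendRep, hS,
        show S.toRepresentation g = eqv.conj (U g) from ?_, LinearMap.trace_conj']
      refine LinearMap.ext fun w => Subtype.ext ?_
      obtain ⟨v, rfl⟩ := eqv.surjective w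
      rw [LinearEquiv.conj_apply_apply, LinearEquiv.symm_apply_apply]
      exact (hf g v).symm
    obtain ⟨j, hj⟩ := classInner_isCharacter_eq_natCast (isCharacter_of_rep (extendRep K ρT))
      (IsIrr.isCharacter χ.2)
    rw [hadd, hSU, classInner_add_left, hU, hj] at hρ
    have htj : s + j = t := by exact_mod_cast hρ
    rw [← htj]
    exact dvd_add dvd_rfl (ih j (by omega) ρT hj)
  have hs1 : s = 1 := by
    obtain ⟨e, ρ, hρ⟩ := hchar ha
    obtain ⟨e', ρ', hρ'⟩ := hchar hb
    have h1 := hdvd na ρ (by rw [hρ, hna])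
    have h2 := hdvd nb ρ' (by rw [hρ', hnb])
    rw [hab1] at h1
    exact Nat.dvd_one.1 ((Nat.dvd_add_right h2).1 h1)
  have hχK : ∀ g, (χ : G → ℂ) g ∈ K := fun g => by
    rw [hab, Pi.sub_apply]
    obtain ⟨e, ρ, hρ⟩ := ha
    obtain ⟨e', ρ', hρ'⟩ := hb
    rw [hρ, hρ']
    exact sub_mem (SetLike.coe_mem _) (SetLike.coe_mem _)
  refine ⟨d, U, fun g => ?_⟩
  rw [← character_extendRep, character_eq_of_mult_one U hirr χ hχK (by rw [hU, hs1, Nat.cast_one])]

/-- **Brauer's splitting field theorem**. -/
theorem exists_cyclotomic_rep {n : ℕ} (ρ : Representation ℂ G (Fin n → ℂ))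
    (hK : ∀ z : ℂ, z ^ Monoid.exponent G = 1 → z ∈ K) :
    ∃ σ : Representation ℂ G (Fin n → ℂ), Nonempty (ρ.Equiv σ) ∧
      ∀ g : G, ∀ i j : Fin n, LinearMap.toMatrix' (σ g) i j ∈ K := by
  classical
  obtain ⟨m, -, he, -⟩ := IsChar.exists_mult (isCharacter_of_rep ρ)
  have hrat : IsRat K ρ.character := by
    rw [he]
    refine Finset.sum_induction _ (IsRat K) (fun _ _ => isRat_add) isRat_zero fun η _ => ?_
    rw [Nat.cast_smul_eq_nsmul]
    exact isRat_nsmul (isRat_irr hK η) _
  obtain ⟨d, ρK, hρK⟩ := hrat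
  have hdn : d = n := by
    have h1 := hρK 1
    rw [ρ.char_one, map_one, LinearMap.trace_one, Module.finrank_fin_fun, Module.finrank_fin_fun] at h1
    exact_mod_cast h1.symm
  subst hdn
  refine ⟨extendRep K ρK, ?_, fun g i j => ?_⟩
  · obtain ⟨e, he'⟩ := nonempty_equiv_of_character_eq ρ (extendRep K ρK)
      (funext fun g => (hρK g).trans (character_extendRep K ρK g).symm)
    exact ⟨.mk e fun g => LinearMap.ext fun v => he' g v⟩
  · rw [toMatrix_extendRep]
    exact SetLike.coe_mem _

end Cfsg.Agent.Char
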