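import Mathlib
import Cfsg.Prelude.Def_OddOrderLocal
import Cfsg.Agent.Char.Glauberman.Correspondence
import Cfsg.Agent.Char.Zero

/-!
# A congruence for characters constant on a central part of a TI Sylow subgroup
-/

namespace Cfsg.Agent.Char

open scoped ComplexConjugate

universe u v

/-- An invariant sum over a set with free action is divisible by the group order. -/
theorem exists_eq_card_mul_of_free {P : Type u} [Group P] [Fintype P] {X : Type v}
    [MulAction P X] [DecidableEq X] (F : X → ℂ) (hF : ∀ (g : P) x, F (g • x) = F x)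
    (hint : ∀ x, IsIntegral ℤ (F x)) : ∀ (s : Finset X), (∀ (g : P), ∀ x ∈ s, g • x ∈ s) →
    (∀ x ∈ s, ∀ g : P, g • x = x → g = 1) →
    ∃ α : ℂ, IsIntegral ℤ α ∧ ∑ x ∈ s, F x = (Nat.card P : ℂ) * α := by
  intro s
  induction s using Finset.strongInduction with
  | _ s ih =>
    intro hcl hfree
    rcases s.eq_empty_or_nonempty with rfl | ⟨x, hx⟩
    · exact ⟨0, isIntegral_zero, by simp⟩
    set O := Finset.univ.image fun g : P => g • x with hO
    have hOs : O ⊆ s := fun y hy => by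
      obtain ⟨g, -, rfl⟩ := Finset.mem_image.1 hy
      exact hcl g x hx
    have hlt : s \ O ⊂ s := Finset.sdiff_ssubset hOs ⟨_, Finset.mem_image_of_mem _ (Finset.mem_univ 1)⟩
    obtain ⟨α, hα, hsum⟩ := ih _ hlt (fun g y hy => by
        rw [Finset.mem_sdiff] at hy ⊢
        refine ⟨hcl g y hy.1, fun hgy => hy.2 ?_⟩
        obtain ⟨k, -, hk⟩ := Finset.mem_image.1 hgy
        exact Finset.mem_image.2 ⟨g⁻¹ * k, Finset.mem_univ _, by rw [mul_smul, hk, inv_smul_smul]⟩)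
      fun y hy => hfree y (Finset.mem_sdiff.1 hy).1
    refine ⟨α + F x, hα.add (hint x), ?_⟩
    rw [← Finset.sum_sdiff hOs, hsum, hO, Finset.sum_image, Finset.sum_congr rfl fun g _ => hF g x,
      Finset.sum_const, Finset.card_univ, nsmul_eq_mul, ← Nat.card_eq_fintype_card, mul_add]
    intro g _ k _ h
    have := hfree x hx (k⁻¹ * g) (by rw [mul_smul, show g • x = k • x from h, inv_smul_smul])
    exact (inv_mul_eq_one.1 this).symm

variable {G : Type u} [Group G] [Fintype G] {p : ℕ}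

/-- The congruence. -/
theorem ti_sylow_cong [Fact p.Prime] (P : Sylow p G)
    (hTI : IsTISubset ((P : Subgroup G) : Set G))
    (hodd : Odd (Nat.card (Subgroup.normalizer ((P : Subgroup G) : Set G))))
    (Z : Subgroup G) (hZP : Z ≤ P)
    (hZn : ∀ x ∈ Subgroup.normalizer ((P : Subgroup G) : Set G), ∀ z ∈ Z, x * z * x⁻¹ ∈ Z)
    (hZc : ∀ z ∈ Z, ∀ y ∈ (P : Subgroup G), z * y = y * z)
    (ψ : IrrCharacter G)
    (hconst : ∀ z ∈ Z, ∀ z' ∈ Z, z ≠ 1 → z' ≠ 1 → (ψ : G → ℂ) z = (ψ : G → ℂ) z')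
    (z : G) (hz : z ∈ Z) (hz1 : z ≠ 1) :
    ∃ n d : ℤ, (ψ : G → ℂ) z = n ∧ (ψ : G → ℂ) 1 = d ∧
      (Nat.card (P : Subgroup G) : ℤ) ∣ d - n := by
  classical
  set L := Subgroup.normalizer ((P : Subgroup G) : Set G) with hL
  have hψc := IsIrr.isCharacter ψ.2
  have hPL : (P : Subgroup G) ≤ L := Subgroup.le_normalizer
  have hcoprime : ∀ k : ℕ, k.Coprime (Nat.card G) → (ψ : G → ℂ) (z ^ k) = (ψ : G → ℂ) z := by
    intro k hk
    refine hconst _ (Z.pow_mem hz k) z hz (fun h => hz1 ?_) hz1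
    exact hk.symm.pow_left_bijective.injective (show z ^ k = (1 : G) ^ k by rw [h, one_pow])
  obtain ⟨q, hq⟩ := IsChar.exists_rat hψc z hcoprime
  obtain ⟨n, hn⟩ := exists_int_of_isIntegral_rat (hq ▸ IsChar.isIntegral hψc z)
  have hzn : (ψ : G → ℂ) z = (n : ℂ) := by rw [hq, ← hn, Rat.cast_intCast]
  obtain ⟨d, hd0, hd⟩ := IsIrr.degree ψ.2
  refine ⟨n, d, hzn, by rw [hd, Int.cast_natCast], ?_⟩
  -- conjugacy classes
  let K : G → Finset G := fun w => Finset.univ.image fun a : G => a * w * a⁻¹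
  have hKmem : ∀ w x, x ∈ K w ↔ ∃ a, a * w * a⁻¹ = x := fun w x => by simp [K]
  have hfib : ∀ w (F : G → ℂ), ∑ a : G, F (a * w * a⁻¹) =
      (Nat.card (Subgroup.centralizer ({w} : Set G)) : ℂ) * ∑ x ∈ K w, F x := by
    intro w F
    rw [← Finset.sum_fiberwise_of_maps_to (t := K w) (g := fun a => a * w * a⁻¹)
      (fun a _ => (hKmem w _).2 ⟨a, rfl⟩), Finset.mul_sum]
    refine Finset.sum_congr rfl fun x hx => ?_
    obtain ⟨a₀, rfl⟩ := (hKmem w x).1 hx
    rw [Finset.sum_congr rfl fun a ha => by rw [(Finset.mem_filter.1 ha).2], Finset.sum_const,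
      nsmul_eq_mul]
    congr 2
    rw [← Fintype.card_subtype, ← Nat.card_eq_fintype_card]
    refine Nat.card_congr
      { toFun := fun a => ⟨a₀⁻¹ * (a : G), Subgroup.mem_centralizer_singleton_iff.2 ?_⟩
        invFun := fun c => ⟨a₀ * (c : G), ?_⟩
        left_inv := fun a => Subtype.ext (by simp)
        right_inv := fun c => Subtype.ext (by simp) }
    · have h : (a : G) * w * (a : G)⁻¹ = a₀ * w * a₀⁻¹ := a.2
      calc a₀⁻¹ * (a : G) * w = a₀⁻¹ * ((a : G) * w * (a : G)⁻¹) * a := by group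
        _ = a₀⁻¹ * (a₀ * w * a₀⁻¹) * a := by rw [h]
        _ = _ := by group
    · have h : (c : G) * w = w * c := Subgroup.mem_centralizer_singleton_iff.1 c.2
      show a₀ * (c : G) * w * (a₀ * (c : G))⁻¹ = a₀ * w * a₀⁻¹
      rw [mul_assoc a₀, h]
      group
  let S : Finset G → ℂ := fun K' => ∑ x ∈ K z, ∑ y ∈ K', (ψ : G → ℂ) (x * y)
  have hzi : z⁻¹ ∈ Z := Z.inv_mem hz
  have hzi1 : z⁻¹ ≠ 1 := inv_ne_one.2 hz1
  have hcent : Nat.card (Subgroup.centralizer ({z⁻¹} : Set G)) =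
      Nat.card (Subgroup.centralizer ({z} : Set G)) := by
    congr 2
    ext c
    simp only [Subgroup.mem_centralizer_singleton_iff]
    exact ⟨fun h => (Commute.inv_right h : Commute c z⁻¹⁻¹) |> fun h' => by simpa using h'.eq,
      fun h => (Commute.inv_right h : Commute c z⁻¹).eq⟩
  have hS : ∀ w ∈ Z, w ≠ 1 → (Nat.card (Subgroup.centralizer ({z} : Set G)) : ℂ) *
      (Nat.card (Subgroup.centralizer ({w} : Set G)) : ℂ) * S (K w) =
      (Nat.card G : ℂ) * (Glauberman.codeg ψ : ℂ) * ((ψ : G → ℂ) z) ^ 2 := by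
    intro w hw hw1
    have h1 : ∑ b : G, ∑ a : G, (ψ : G → ℂ) (a * z * a⁻¹ * (b * w * b⁻¹)) =
        (Nat.card G : ℂ) * (Glauberman.codeg ψ : ℂ) * ((ψ : G → ℂ) z) ^ 2 := by
      simp only [Glauberman.sum_conj_pair, isClassFunction_of_isCharacter hψc w,
        ← hconst z hz w hw hz1 hw1, Finset.sum_const, Finset.card_univ, nsmul_eq_mul,
        ← Nat.card_eq_fintype_card]
      ring
    rw [← h1, Finset.sum_comm, hfib z (fun x => ∑ b, (ψ : G → ℂ) (x * (b * w * b⁻¹))),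
      Finset.sum_congr rfl fun x _ => hfib w (fun y => (ψ : G → ℂ) (x * y)), ← Finset.mul_sum,
      mul_assoc]
  have hSeq : S (K z) = S (K z⁻¹) := by
    have h1 := hS z hz hz1
    rw [← hS z⁻¹ hzi hzi1, hcent] at h1
    exact mul_left_cancel₀ (mul_ne_zero card_ne_zero card_ne_zero) h1
  -- fixed pairs
  have hCL : ∀ w ∈ Z, w ≠ 1 → ∀ c, c * w = w * c → c ∈ L := by
    intro w hw hw1 c hc
    by_contra hcL
    exact hw1 (hTI c hcL w (hZP hw) (by
      show c * w * c⁻¹ ∈ (P : Subgroup G)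
      rw [hc, mul_inv_cancel_right]; exact hZP hw))
  have hfix : ∀ w ∈ Z, w ≠ 1 → ∀ u ∈ (P : Subgroup G), u ≠ 1 → ∀ x ∈ K w,
      u * x * u⁻¹ = x → x ∈ Z ∧ ∃ g ∈ L, g * w * g⁻¹ = x := by
    intro w hw hw1 u hu hu1 x hx hux
    obtain ⟨g, rfl⟩ := (hKmem w x).1 hx
    have hu' : (g⁻¹ * u * g) * w = w * (g⁻¹ * u * g) := by
      calc (g⁻¹ * u * g) * w = g⁻¹ * (u * (g * w * g⁻¹) * u⁻¹) * u * g := by group
        _ = g⁻¹ * (g * w * g⁻¹) * u * g := by rw [hux]
        _ = _ := by group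
    have hu'L := hCL w hw hw1 _ hu'
    have hu'P : g⁻¹ * u * g ∈ (P : Subgroup G) := by
      obtain ⟨k, hk⟩ := P.isPGroup' ⟨u, hu⟩
      have hk' : u ^ p ^ k = 1 := congrArg Subtype.val hk
      have hQ : IsPGroup p (Subgroup.zpowers (g⁻¹ * u * g)) := by
        refine IsPGroup.of_card (n := (orderOf (g⁻¹ * u * g)).factorization p) ?_
        rw [Nat.card_zpowers]
        obtain ⟨i, -, hi⟩ := (Nat.dvd_prime_pow (Fact.out : p.Prime)).1
          (orderOf_dvd_of_pow_eq_one (by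
            rw [show g⁻¹ * u * g = g⁻¹ * u * g⁻¹⁻¹ by rw [inv_inv], conj_pow, hk']; simp) :
            orderOf (g⁻¹ * u * g) ∣ p ^ k)
        rw [hi, (Fact.out : p.Prime).factorization_pow, Finsupp.single_eq_same]
      exact ((IsPGroup.inf_normalizer_sylow hQ P).le
        ⟨Subgroup.mem_zpowers _, hu'L⟩).2
    have hgL : g ∈ L := by
      by_contra hgL
      apply hu1
      have h := hTI g hgL _ hu'P (by
        show g * (g⁻¹ * u * g) * g⁻¹ ∈ (P : Subgroup G)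
        simpa [mul_assoc] using hu)
      simpa [mul_assoc] using congrArg (fun y => g * y * g⁻¹) h
    exact ⟨hZn g hgL w hw, g, hgL, rfl⟩
  let act : MulAction (P : Subgroup G) (G × G) :=
    { smul := fun u xy => ((u : G) * xy.1 * (u : G)⁻¹, (u : G) * xy.2 * (u : G)⁻¹)
      one_smul := fun xy => by
        show (((1 : (P : Subgroup G)) : G) * xy.1 * ((1 : (P : Subgroup G)) : G)⁻¹,
          ((1 : (P : Subgroup G)) : G) * xy.2 * ((1 : (P : Subgroup G)) : G)⁻¹) = xy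
        simp
      mul_smul := fun u v xy => by
        show (((u * v : (P : Subgroup G)) : G) * xy.1 * ((u * v : (P : Subgroup G)) : G)⁻¹,
          ((u * v : (P : Subgroup G)) : G) * xy.2 * ((u * v : (P : Subgroup G)) : G)⁻¹) =
          ((u : G) * ((v : G) * xy.1 * (v : G)⁻¹) * (u : G)⁻¹,
            (u : G) * ((v : G) * xy.2 * (v : G)⁻¹) * (u : G)⁻¹)
        simp [mul_assoc] }
  let R : G → Finset G := fun w => (K w).filter (· ∈ Z)
  have hsplit : ∀ w ∈ Z, w ≠ 1 → ∃ α : ℂ, IsIntegral ℤ α ∧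
      S (K w) = (Nat.card (P : Subgroup G) : ℂ) * α +
        ∑ x ∈ R z, ∑ y ∈ R w, (ψ : G → ℂ) (x * y) := by
    intro w hw hw1
    let s := (K z ×ˢ K w).filter fun xy : G × G => ¬ (xy.1 ∈ Z ∧ xy.2 ∈ Z)
    have hKconj : ∀ v x a, x ∈ K v → a * x * a⁻¹ ∈ K v := fun v x a hx => by
      obtain ⟨b, rfl⟩ := (hKmem v x).1 hx
      exact (hKmem v _).2 ⟨a * b, by group⟩
    obtain ⟨α, hα, hsum⟩ := exists_eq_card_mul_of_free (P := (P : Subgroup G))
      (fun xy : G × G => (ψ : G → ℂ) (xy.1 * xy.2))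
      (fun u xy => by
        show (ψ : G → ℂ) ((u : G) * xy.1 * (u : G)⁻¹ * ((u : G) * xy.2 * (u : G)⁻¹)) = _
        rw [show (u : G) * xy.1 * (u : G)⁻¹ * ((u : G) * xy.2 * (u : G)⁻¹) =
          (u : G) * (xy.1 * xy.2) * (u : G)⁻¹ by group]
        exact isClassFunction_of_isCharacter hψc _ _)
      (fun xy => IsChar.isIntegral hψc _) s
      (fun u xy hxy => by
        simp only [s, Finset.mem_filter, Finset.mem_product] at hxy ⊢
        refine ⟨⟨hKconj z _ _ hxy.1.1, hKconj w _ _ hxy.1.2⟩, fun hmem => hxy.2 ?_⟩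
        have key : ∀ x, (u : G) * x * (u : G)⁻¹ ∈ Z → x ∈ Z := fun x hx => by
          have h := hZn (u : G)⁻¹ (L.inv_mem (hPL u.2)) _ hx
          simpa [mul_assoc] using h
        exact ⟨key _ hmem.1, key _ hmem.2⟩)
      (fun xy hxy u hu => by
        simp only [s, Finset.mem_filter, Finset.mem_product] at hxy
        by_contra hu1
        have hu1' : (u : G) ≠ 1 := fun h => hu1 (Subtype.ext h)
        exact hxy.2 ⟨(hfix z hz hz1 u u.2 hu1' _ hxy.1.1 (congrArg Prod.fst hu)).1,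
          (hfix w hw hw1 u u.2 hu1' _ hxy.1.2 (congrArg Prod.snd hu)).1⟩)
    refine ⟨α, hα, ?_⟩
    rw [← hsum]
    show ∑ x ∈ K z, ∑ y ∈ K w, (ψ : G → ℂ) (x * y) = _
    rw [← Finset.sum_product' (f := fun x y => (ψ : G → ℂ) (x * y)),
      ← Finset.sum_product' (f := fun x y => (ψ : G → ℂ) (x * y)),
      ← Finset.sum_filter_add_sum_filter_not (K z ×ˢ K w)
        (fun xy : G × G => ¬ (xy.1 ∈ Z ∧ xy.2 ∈ Z))]
    congr 1
    refine Finset.sum_congr ?_ fun _ _ => rfl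
    ext xy
    simp [R, and_assoc, and_left_comm]
  -- conjugation inside `L`
  have hRz : ∀ x ∈ R z, ∃ g ∈ L, g * z * g⁻¹ = x := by
    intro x hx
    simp only [R, Finset.mem_filter] at hx
    obtain ⟨u, hu, hu1⟩ := Subgroup.ne_bot_iff_exists_ne_one.1 (fun h : (P : Subgroup G) = ⊥ =>
      hz1 (Subgroup.mem_bot.1 (h ▸ hZP hz)))
      |> fun ⟨u, hu⟩ => (⟨(u : G), u.2, fun h => hu (Subtype.ext h)⟩ : ∃ u, u ∈ (P : Subgroup G) ∧ u ≠ 1)
    exact (hfix z hz hz1 u hu hu1 x hx.1 (by rw [← hZc x hx.2 u hu, mul_inv_cancel_right])).2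
  have hRne : ∀ x ∈ R z, x ≠ 1 := fun x hx h => by
    obtain ⟨g, -, rfl⟩ := hRz x hx
    exact hz1 (by simpa using h)
  have hinvR : ∀ x, x ∈ R z⁻¹ ↔ x⁻¹ ∈ R z := fun x => by
    simp only [R, Finset.mem_filter, hKmem]
    constructor
    · rintro ⟨⟨a, rfl⟩, h⟩
      exact ⟨⟨a, by group⟩, Z.inv_mem h⟩
    · rintro ⟨⟨a, ha⟩, h⟩
      exact ⟨⟨a, by rw [← inv_inv x, ← ha]; group⟩, by simpa using Z.inv_mem h⟩
  have hnoinv : ∀ x ∈ R z, x⁻¹ ∉ R z := by
    intro x hx hx'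
    obtain ⟨g, hg, rfl⟩ := hRz x hx
    obtain ⟨k, hk, hk'⟩ := hRz _ hx'
    have hc : (g⁻¹ * k) * z * (g⁻¹ * k)⁻¹ = z⁻¹ := by
      calc (g⁻¹ * k) * z * (g⁻¹ * k)⁻¹ = g⁻¹ * (k * z * k⁻¹) * g := by group
        _ = g⁻¹ * (g * z * g⁻¹)⁻¹ * g := by rw [hk']
        _ = _ := by group
    set c : L := ⟨g⁻¹ * k, L.mul_mem (L.inv_mem hg) hk⟩
    set zL : L := ⟨z, hPL (hZP hz)⟩
    have hc' : c * zL * c⁻¹ = zL⁻¹ := Subtype.ext hc
    have h2 : Commute (c ^ 2) zL := by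
      have h : c ^ 2 * zL * (c ^ 2)⁻¹ = zL := by
        calc c ^ 2 * zL * (c ^ 2)⁻¹ = c * (c * zL * c⁻¹) * c⁻¹ := by rw [pow_two]; group
          _ = c * zL⁻¹ * c⁻¹ := by rw [hc']
          _ = (c * zL * c⁻¹)⁻¹ := by group
          _ = zL := by rw [hc', inv_inv]
      exact mul_inv_eq_iff_eq_mul.1 h
    obtain ⟨m, hm⟩ := hodd
    have hcm : c = (c ^ 2) ^ (m + 1) := by
      have h := pow_card_eq_one' (x := c)
      rw [← pow_mul, show 2 * (m + 1) = (2 * m + 1) + 1 by ring, pow_succ, ← hm, h, one_mul]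
    have hcomm : Commute c zL := hcm ▸ h2.pow_left (m + 1)
    have hsq : zL = zL⁻¹ := by rw [← hc', hcomm.eq, mul_inv_cancel_right]
    have hz2 : zL ^ 2 = 1 := by rw [pow_two]; exact eq_inv_iff_mul_eq_one.1 hsq
    apply hz1
    have h := pow_card_eq_one' (x := zL)
    rw [hm, pow_succ, pow_mul, hz2, one_pow, one_mul] at h
    exact congrArg Subtype.val h
  have hval : ∀ x ∈ Z, x ≠ 1 → (ψ : G → ℂ) x = (n : ℂ) := fun x hx hx1 => by
    rw [hconst x hx z hz hx1 hz1, hzn]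
  set r := (R z).card
  have hcardinv : (R z⁻¹).card = r :=
    Finset.card_nbij' (fun x => x⁻¹) (fun x => x⁻¹) (fun x hx => (hinvR x).1 hx)
      (fun x hx => (hinvR _).2 (by simpa using hx)) (fun x _ => inv_inv x) (fun x _ => inv_inv x)
  have hzz : ∑ x ∈ R z, ∑ y ∈ R z, (ψ : G → ℂ) (x * y) = (r : ℂ) * r * n := by
    have h1 : ∀ x ∈ R z, ∀ y ∈ R z, (ψ : G → ℂ) (x * y) = (n : ℂ) := fun x hx y hy => hval _
      (Z.mul_mem (Finset.mem_filter.1 hx).2 (Finset.mem_filter.1 hy).2)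
      (fun h => hnoinv x hx (by rw [← eq_inv_of_mul_eq_one_right h]; exact hy))
    rw [Finset.sum_congr rfl fun x hx => Finset.sum_congr rfl (h1 x hx)]
    simp only [Finset.sum_const, nsmul_eq_mul]
    ring
  have hzi' : ∑ x ∈ R z, ∑ y ∈ R z⁻¹, (ψ : G → ℂ) (x * y) =
      (r : ℂ) * r * n + (r : ℂ) * ((d : ℂ) - n) := by
    have hin : ∀ x ∈ R z, ∑ y ∈ R z⁻¹, (ψ : G → ℂ) (x * y) = (r : ℂ) * n + ((d : ℂ) - n) := by
      intro x hx
      have hmem : x⁻¹ ∈ R z⁻¹ := (hinvR _).2 (by simpa using hx)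
      have h1 : ∀ y ∈ (R z⁻¹).erase x⁻¹, (ψ : G → ℂ) (x * y) = (n : ℂ) := fun y hy => hval _
        (Z.mul_mem (Finset.mem_filter.1 hx).2 (Finset.mem_filter.1 (Finset.mem_of_mem_erase hy)).2)
        (fun h => Finset.ne_of_mem_erase hy (eq_inv_of_mul_eq_one_right h))
      rw [← Finset.add_sum_erase _ _ hmem, mul_inv_cancel, hd, Finset.sum_congr rfl h1,
        Finset.sum_const, nsmul_eq_mul, Finset.card_erase_of_mem hmem, hcardinv,
        Nat.cast_sub (hcardinv ▸ Finset.card_pos.2 ⟨_, hmem⟩)]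
      push_cast
      ring
    rw [Finset.sum_congr rfl hin, Finset.sum_const, nsmul_eq_mul]
    ring
  obtain ⟨α, hα, ha⟩ := hsplit z hz hz1
  obtain ⟨β, hβ, hb⟩ := hsplit z⁻¹ hzi hzi1
  have hdiff : (((r : ℤ) * ((d : ℤ) - n) : ℤ) : ℂ) =
      (Nat.card (P : Subgroup G) : ℂ) * (α - β) := by
    rw [hzz] at ha
    rw [hzi'] at hb
    rw [ha, hb] at hSeq
    push_cast
    linear_combination -hSeq
  have hPne : (Nat.card (P : Subgroup G) : ℂ) ≠ 0 := card_ne_zero
  obtain ⟨t, ht⟩ : (Nat.card (P : Subgroup G) : ℤ) ∣ (r : ℤ) * ((d : ℤ) - n) := by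
    set A : ℤ := (r : ℤ) * ((d : ℤ) - n)
    obtain ⟨t, ht⟩ := exists_int_of_isIntegral_rat
      (q := (A : ℚ) / (Nat.card (P : Subgroup G) : ℚ)) (by
        have h : α - β = ((((A : ℚ) / (Nat.card (P : Subgroup G) : ℚ)) : ℚ) : ℂ) := by
          push_cast
          rw [eq_div_iff hPne, hdiff]
          ring
        exact h ▸ hα.sub hβ)
    refine ⟨t, ?_⟩
    have hPq : (Nat.card (P : Subgroup G) : ℚ) ≠ 0 := Nat.cast_ne_zero.2 Nat.card_pos.ne'
    rw [eq_comm, div_eq_iff hPq, mul_comm] at ht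
    exact_mod_cast ht
  -- `r` is prime to `p`
  have hrp : ¬ p ∣ r := by
    set C : Subgroup G := L ⊓ Subgroup.centralizer ({z} : Set G) with hC
    have hr : r = C.relIndex L := by
      rw [Subgroup.relIndex, Subgroup.index_eq_card, show r = Nat.card (R z) from (Nat.card_eq_finsetCard _).symm]
      let f : (L ⧸ C.subgroupOf L) → R z := Quotient.lift
        (fun g : L => (⟨(g : G) * z * (g : G)⁻¹, Finset.mem_filter.2
          ⟨(hKmem z _).2 ⟨_, rfl⟩, hZn _ g.2 z hz⟩⟩ : R z))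
        (fun a b hab => by
          rw [← Quotient.eq_iff_equiv] at hab
          have h := Subgroup.mem_subgroupOf.1 (QuotientGroup.eq.1 hab)
          have hc : ((a : G)⁻¹ * b) * z = z * ((a : G)⁻¹ * b) :=
            Subgroup.mem_centralizer_singleton_iff.1 h.2
          refine Subtype.ext ?_
          calc (a : G) * z * (a : G)⁻¹ = (a : G) * (z * ((a : G)⁻¹ * b)) * (b : G)⁻¹ := by group
            _ = (a : G) * (((a : G)⁻¹ * b) * z) * (b : G)⁻¹ := by rw [hc]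
            _ = _ := by group)
      refine (Nat.card_congr (Equiv.ofBijective f ⟨?_, ?_⟩)).symm
      · rintro ⟨a⟩ ⟨b⟩ hab
        have h : (a : G) * z * (a : G)⁻¹ = (b : G) * z * (b : G)⁻¹ := congrArg Subtype.val hab
        refine QuotientGroup.eq.2 (Subgroup.mem_subgroupOf.2
          ⟨L.mul_mem (L.inv_mem a.2) b.2, Subgroup.mem_centralizer_singleton_iff.2 ?_⟩)
        show ((a : G)⁻¹ * b) * z = z * ((a : G)⁻¹ * b)
        calc ((a : G)⁻¹ * b) * z = (a : G)⁻¹ * ((b : G) * z * (b : G)⁻¹) * b := by group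
          _ = (a : G)⁻¹ * ((a : G) * z * (a : G)⁻¹) * b := by rw [h]
          _ = _ := by group
      · rintro ⟨x, hx⟩
        obtain ⟨g, hg, rfl⟩ := hRz x hx
        exact ⟨QuotientGroup.mk (⟨g, hg⟩ : L), rfl⟩
    have hPC : (P : Subgroup G) ≤ C := fun y hy =>
      ⟨hPL hy, Subgroup.mem_centralizer_singleton_iff.2 (hZc z hz y hy).symm⟩
    intro h
    rw [hr] at h
    have h1 := Subgroup.relIndex_mul_relIndex (P : Subgroup G) C L hPC inf_le_left
    exact P.not_dvd_index ((h.trans (Dvd.intro_left _ h1)).trans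
      (Dvd.intro _ (Subgroup.relIndex_mul_index hPL)))
  have hcop : IsCoprime (Nat.card (P : Subgroup G) : ℤ) (r : ℤ) := by
    rw [Int.isCoprime_iff_nat_coprime, Int.natAbs_natCast, Int.natAbs_natCast]
    obtain ⟨k, hk⟩ := P.isPGroup'.exists_card_eq
    rw [hk]
    exact ((Fact.out : p.Prime).coprime_iff_not_dvd.2 hrp).pow_left k
  exact hcop.dvd_of_dvd_mul_left ⟨t, ht⟩

end Cfsg.Agent.Char
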