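import Mathlib
import Cfsg.Agent.Char.TwoDegreesAbelian
import Cfsg.Agent.Char.NormalAbelianSylow
import Cfsg.Agent.Char.PResidualCount
import Cfsg.Agent.CharArith.Central
import Cfsg.Agent.CharArith.PrimeCodegree
import Cfsg.Agent.Char.UniqueDivisible
import Cfsg.Agent.Core.Frattini
import Cfsg.Agent.S0855

/-!
# Groups whose character degrees are `1` and a prime
-/

namespace Cfsg.Agent.Char

open scoped ComplexConjugate commutatorElement

universe u

variable {G : Type u} [Group G] [Finite G] {p : ℕ}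

/-- The kernel of an irreducible character restricted to a normal subgroup. -/
theorem res_eq_of_degree_eq [Fintype G] (H : Subgroup G) [Fintype H] {χ : G → ℂ}
    (hχ : IsCharacter G χ) {θ : H → ℂ} (hθ : IsIrrCharacter H θ)
    (hc : classInner (fun h : H => χ h) θ ≠ 0) (hd : χ 1 = θ 1) : (fun h : H => χ h) = θ := by
  have h := IsChar.sub_constituent (isCharacter_res H hχ) hθ hc
  have h0 := (IsChar.eq_zero_iff h).2 (by simp [hd])
  exact sub_eq_zero.1 h0

theorem exists_abelian_index_prime (hp : p.Prime) {Z : Subgroup G}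
    (hZ : Z ≤ Subgroup.center G) (hi : Z.index = p ^ 2) :
    ∃ B : Subgroup G, B.Normal ∧ (∀ a ∈ B, ∀ b ∈ B, a * b = b * a) ∧ B.index ∣ p := by
  have := Fact.mk hp
  have hZn : Z.Normal := Subgroup.Normal.mk fun n hn g => by
    rw [Subgroup.mem_center_iff.1 (hZ hn) g, mul_inv_cancel_right]; exact hn
  obtain ⟨a, -, ha⟩ := SetLike.exists_of_lt (lt_top_iff_ne_top.2 fun h : Z = ⊤ => by
    rw [h, Subgroup.index_top] at hi
    have := Nat.one_lt_pow two_ne_zero hp.one_lt; omega)
  have hcm : ∀ x y : G ⧸ Z, x * y = y * x :=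
    (IsPGroup.isMulCommutative_of_card_eq_prime_sq (p := p) (G := G ⧸ Z)
      (by rw [← Subgroup.index_eq_card, hi])).is_comm.comm
  have hcom : ∀ g h : G, g * h * g⁻¹ * h⁻¹ ∈ Z := fun g h => by
    rw [← QuotientGroup.eq_one_iff, QuotientGroup.mk_mul, QuotientGroup.mk_mul, QuotientGroup.mk_mul,
      QuotientGroup.mk_inv, QuotientGroup.mk_inv, hcm (g : G ⧸ Z) h, mul_inv_cancel_right, mul_inv_cancel]
  set B := Z ⊔ Subgroup.zpowers a
  refine ⟨B, Subgroup.Normal.mk fun n hn g => ?_, fun x hx y hy => ?_, ?_⟩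
  · simpa using B.mul_mem (Subgroup.mem_sup_left (hcom g n) : g * n * g⁻¹ * n⁻¹ ∈ B) hn
  · have h1 : B ≤ Subgroup.centralizer ({a} : Set G) :=
      sup_le (fun z hz => Subgroup.mem_centralizer_singleton_iff.2
        (Subgroup.mem_center_iff.1 (hZ hz) a).symm)
        (Subgroup.zpowers_le.2 (Subgroup.mem_centralizer_singleton_iff.2 rfl))
    have h2 : B ≤ Subgroup.centralizer (B : Set G) :=
      sup_le (fun z hz => Subgroup.mem_centralizer_iff.2 fun w _ => Subgroup.mem_center_iff.1 (hZ hz) w)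
        (Subgroup.zpowers_le.2 (Subgroup.mem_centralizer_iff.2 fun w hw =>
          Subgroup.mem_centralizer_singleton_iff.1 (h1 hw)))
    exact Subgroup.mem_centralizer_iff.1 (h2 hy) x hx
  · by_cases ht : B = ⊤
    · rw [ht, Subgroup.index_top]; exact one_dvd _
    · rw [sup_zpowers_index hp hi ha ht]

/-- If `G` is nonabelian with abelian normal `p`-complement then some normal subgroup of index `p`
is abelian or has smaller commutator subgroup. -/
theorem exists_index_prime [Fintype G] (hp : p.Prime) (hna : ¬ ∀ a b : G, a * b = b * a)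
    (hcd : ∀ χ : G → ℂ, IsIrrCharacter G χ → χ 1 = 1 ∨ χ 1 = p) :
    ∃ H : Subgroup G, H.Normal ∧ H.index = p ∧
      ((∀ a ∈ H, ∀ b ∈ H, a * b = b * a) ∨ ¬ commutator G ≤ ⁅H, H⁆) := by
  classical
  have := Fact.mk hp
  by_contra! hno
  obtain ⟨K, hKn, hKab, -, k, hk⟩ := (S0855.result (G := G) p hp).1 (fun χ => by
    rcases hcd χ χ.2 with h | h
    · exact ⟨0, by rw [h, pow_zero]⟩
    · exact ⟨1, by rw [h, pow_one]⟩)
  have hQ : IsPGroup p (G ⧸ K) := IsPGroup.of_card (by rw [← Subgroup.index_eq_card, hk])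
  -- invariance of the irreducible characters of the subgroups of index `p`
  have hinv : ∀ H : Subgroup G, H.Normal → H.index = p → ∀ (g : G), g ∈ H →
      ∀ x : G, ∃ h ∈ H, h * g * h⁻¹ = x * g * x⁻¹ := by
    intro H hH hHi g hg x
    have := Fintype.ofFinite H
    have hfixed : ∀ θ : IrrCharacter H, conjFun x (θ : H → ℂ) = (θ : H → ℂ) := by
      intro θ
      obtain ⟨χ, hχ⟩ := exists_over H θ
      by_cases h1 : (θ : H → ℂ) 1 = 1
      · obtain ⟨f, hf⟩ := IsChar.exists_hom (IsIrr.isCharacter θ.2) h1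
        funext n
        have hm : x * n * x⁻¹ * (n : G)⁻¹ ∈ ⁅H, H⁆ := by
          refine (hno H hH hHi).2 ?_
          rw [commutator_def]
          exact Subgroup.commutator_mem_commutator (Subgroup.mem_top x) (Subgroup.mem_top (n : G))
        have hker : ⁅H, H⁆ ≤ f.ker.map H.subtype := by
          rw [Subgroup.commutator_le]
          intro a ha b hb
          exact ⟨⁅(⟨a, ha⟩ : H), ⟨b, hb⟩⁆, (by
            rw [SetLike.mem_coe, MonoidHom.mem_ker, map_commutatorElement]
            exact commutatorElement_eq_one_iff_mul_comm.2 (mul_comm _ _)), rfl⟩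
        obtain ⟨c, hc, hce⟩ := hker hm
        rw [conjFun_apply, hf]
        have e : (MulAut.conjNormal x n : H) = c * n := Subtype.ext (by
          show x * n * x⁻¹ = (c : G) * n
          rw [show (c : G) = x * n * x⁻¹ * (n : G)⁻¹ from hce, inv_mul_cancel_right])
        show ((f _ : ℂˣ) : ℂ) = f n
        congr 1
        refine Eq.trans ?_ (show f (c * n) = f n by
          rw [map_mul, MonoidHom.mem_ker.1 hc, one_mul])
        rw [← e]; rfl
      · obtain ⟨k, hk, -⟩ := ProjExt.exists_ratio_dvd_index χ.2 θ.2 hχ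
        obtain ⟨d, hd0, hd⟩ := IsIrr.degree θ.2
        have hd1 : d ≠ 1 := fun h => h1 (by rw [hd, h, Nat.cast_one])
        have hχd : (χ : G → ℂ) 1 = (θ : H → ℂ) 1 := by
          rcases hcd χ χ.2 with h | h <;> rw [h, hd] at hk
          · have h2 : 1 = k * d := by exact_mod_cast hk
            exact absurd (Nat.eq_one_of_mul_eq_one_left h2.symm) hd1
          · have h2 : p = k * d := by exact_mod_cast hk
            rcases (Nat.dvd_prime hp).1 (Dvd.intro_left k h2.symm) with h3 | h3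
            · exact absurd h3 hd1
            · rw [h, hd, h3]
        rw [← res_eq_of_degree_eq H (IsIrr.isCharacter χ.2) θ.2 hχ hχd]
        exact conjFun_res x (isClassFunction_of_isIrr χ.2)
    have hconj : IsConj (⟨g, hg⟩ : H) (MulAut.conjNormal x ⟨g, hg⟩) := by
      refine (isConj_iff_forall_irr _ _).2 fun θ => ?_
      exact (congrFun (hfixed θ) ⟨g, hg⟩).symm
    obtain ⟨c, hc⟩ := isConj_iff.1 hconj
    exact ⟨c, c.2, congrArg Subtype.val hc⟩
  have hcover : ∀ g : G, Subgroup.centralizer ({g} : Set G) ⊔ K = ⊤ := by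
    intro g
    by_contra hne
    have hne' : (Subgroup.centralizer ({g} : Set G) ⊔ K).map (QuotientGroup.mk' K) ≠ ⊤ := by
      intro h
      refine hne ?_
      have h2 := congrArg (Subgroup.comap (QuotientGroup.mk' K)) h
      rwa [Subgroup.comap_map_eq, QuotientGroup.ker_mk', Subgroup.comap_top, sup_assoc, sup_idem] at h2
    obtain ⟨M, hM, hMle⟩ := (IsCoatomic.eq_top_or_exists_le_coatom _).resolve_left hne'
    obtain ⟨hMn, hMi⟩ := show M.Normal ∧ M.index = p from by
      have := hQ.isNilpotent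
      have hn : M.Normal :=
        Subgroup.NormalizerCondition.normal_of_coatom M Group.normalizerCondition_of_isNilpotent hM
      refine ⟨hn, ?_⟩
      obtain ⟨j, hj⟩ := hQ.index M
      have hpr := Core.prime_index_of_isCoatom_normal hM
      rw [hj] at hpr ⊢
      rw [(Nat.Prime.pow_eq_iff hpr).1 rfl |>.2, pow_one]
    set H := M.comap (QuotientGroup.mk' K)
    have hHi : H.index = p := by
      rw [Subgroup.index_comap_of_surjective _ (QuotientGroup.mk'_surjective K), hMi]
    have hgC : g ∈ Subgroup.centralizer ({g} : Set G) := Subgroup.mem_centralizer_singleton_iff.2 rfl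
    have hCH : Subgroup.centralizer ({g} : Set G) ≤ H := fun c hc =>
      hMle (Subgroup.mem_map_of_mem _ (Subgroup.mem_sup_left hc))
    obtain ⟨x, -, hx⟩ := SetLike.exists_of_lt (lt_top_iff_ne_top.2 fun h : H = ⊤ => by
      rw [h, Subgroup.index_top] at hHi; exact hp.ne_one hHi.symm)
    obtain ⟨h, hhH, hh⟩ := hinv H inferInstance hHi g (hCH hgC) x
    refine hx ?_
    have hm : h⁻¹ * x ∈ H := hCH (Subgroup.mem_centralizer_singleton_iff.2 (by
      rw [show h⁻¹ * x * g = h⁻¹ * (x * g * x⁻¹) * x by group, ← hh]; group))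
    simpa using H.mul_mem hhH hm
  refine hna fun a b => ?_
  have hKc : ∀ k ∈ K, Subgroup.centralizer ({k} : Set G) = ⊤ := fun k hk => by
    have h := hcover k
    rwa [sup_eq_left.2 (fun c hc => Subgroup.mem_centralizer_singleton_iff.2 (hKab c hc k hk))] at h
  have hb : Subgroup.centralizer ({b} : Set G) = ⊤ := by
    have h := hcover b
    rwa [sup_eq_left.2 (fun k hk => Subgroup.mem_centralizer_singleton_iff.2
      (Subgroup.mem_centralizer_singleton_iff.1 (hKc k hk ▸ Subgroup.mem_top b)).symm)] at h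
  exact Subgroup.mem_centralizer_singleton_iff.1 (hb ▸ Subgroup.mem_top a)

/-- Groups with character degrees `1` and `p`. -/
theorem two_degrees [Fintype G] (hp : p.Prime) (hna : ¬ ∀ a b : G, a * b = b * a)
    (hcd : ∀ χ : G → ℂ, IsIrrCharacter G χ → χ 1 = 1 ∨ χ 1 = p) :
    (∃ A : Subgroup G, A.Normal ∧ (∀ a ∈ A, ∀ b ∈ A, a * b = b * a) ∧ A.index = p) ∨
      (Subgroup.center G).index = p ^ 3 := by
  classical
  have := Fact.mk hp
  suffices h : (∃ B : Subgroup G, B.Normal ∧ (∀ a ∈ B, ∀ b ∈ B, a * b = b * a) ∧ B.index ∣ p) ∨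
      (Subgroup.center G).index ∣ p ^ 3 by
    have hfin : ∀ B : Subgroup G, B.Normal → (∀ a ∈ B, ∀ b ∈ B, a * b = b * a) → B.index ∣ p →
        B.index = p := by
      intro B _ hBab hBi
      refine ((Nat.dvd_prime hp).1 hBi).resolve_left fun h => hna fun a b => ?_
      rw [Subgroup.index_eq_one] at h
      exact hBab a (h ▸ Subgroup.mem_top a) b (h ▸ Subgroup.mem_top b)
    rcases h with ⟨B, hB, hBab, hBi⟩ | h
    · exact Or.inl ⟨B, hB, hBab, hfin B hB hBab hBi⟩
    obtain ⟨j, hj, hj'⟩ := (Nat.dvd_prime_pow hp).1 h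
    rcases j with _ | _ | _ | j
    · refine absurd (fun a b => ?_) hna
      rw [pow_zero, Subgroup.index_eq_one] at hj'
      exact Subgroup.mem_center_iff.1 (hj' ▸ Subgroup.mem_top b) a
    · refine absurd (fun a b => ?_) hna
      have hcyc : IsCyclic (G ⧸ Subgroup.center G) :=
        isCyclic_of_prime_card (p := p) (by rw [← Subgroup.index_eq_card, hj', zero_add, pow_one])
      exact commutative_of_cyclic_center_quotient (QuotientGroup.mk' (Subgroup.center G)) (by simp) a b
    · obtain ⟨B, hB, hBab, hBi⟩ := exists_abelian_index_prime hp le_rfl hj'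
      exact Or.inl ⟨B, hB, hBab, hfin B hB hBab hBi⟩
    · exact Or.inr (by rw [hj', show j + 1 + 1 + 1 = 3 by omega])
  obtain ⟨H, hHn, hHi, hH⟩ := exists_index_prime hp hna hcd
  by_cases hHab : ∀ a ∈ H, ∀ b ∈ H, a * b = b * a
  · exact Or.inl ⟨H, hHn, hHab, hHi.dvd⟩
  have hH' := hH.resolve_left hHab
  have := Fintype.ofFinite H
  have hDn : (⁅H, H⁆).Normal := Subgroup.commutator_normal H H
  set f := QuotientGroup.mk' ⁅H, H⁆
  set S : Subgroup G := H ⊓ (Subgroup.center (G ⧸ ⁅H, H⁆)).comap f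
  have hSn : S.Normal := inferInstance
  have hSH : S ≤ H := inf_le_left
  have hHf : ∀ a ∈ H, ∀ b ∈ H, Commute (f a) (f b) := fun a ha b hb => by
    have h1 : f ⁅a, b⁆ = 1 := (QuotientGroup.eq_one_iff _).2 (Subgroup.commutator_mem_commutator ha hb)
    rw [map_commutatorElement] at h1
    exact commutatorElement_eq_one_iff_mul_comm.1 h1
  have hS : ¬ H ≤ S := by
    intro hle
    refine hH' ?_
    obtain ⟨x, -, hx⟩ := SetLike.exists_of_lt (lt_top_iff_ne_top.2 fun h : H = ⊤ => by
      rw [h, Subgroup.index_top] at hHi; exact hp.ne_one hHi.symm)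
    have htop : H ⊔ Subgroup.zpowers x = ⊤ := by
      have h2 := Subgroup.relIndex_mul_index (show H ≤ H ⊔ Subgroup.zpowers x from le_sup_left)
      rw [hHi] at h2
      rcases (Nat.dvd_prime hp).1 (Dvd.intro_left _ h2) with h | h
      · exact Subgroup.index_eq_one.1 h
      · rw [h] at h2
        exact absurd (Subgroup.relIndex_eq_one.1 (Nat.eq_of_mul_eq_mul_right hp.pos
          (h2.trans (one_mul p).symm)) (Subgroup.mem_sup_right (Subgroup.mem_zpowers x))) hx
    have hcx : ∀ g, Commute (f g) (f x) := by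
      intro g
      have : (⊤ : Subgroup G) ≤ (Subgroup.centralizer ({f x} : Set (G ⧸ ⁅H, H⁆))).comap f :=
        htop ▸ sup_le (fun a ha => Subgroup.mem_centralizer_singleton_iff.2
          (Subgroup.mem_center_iff.1 (hle ha).2 (f x)).symm)
          (Subgroup.zpowers_le.2 (Subgroup.mem_centralizer_singleton_iff.2 rfl))
      exact Subgroup.mem_centralizer_singleton_iff.1 (this (Subgroup.mem_top g))
    have hcall : ∀ g k, Commute (f g) (f k) := by
      intro g k
      have : (⊤ : Subgroup G) ≤ (Subgroup.centralizer ({f k} : Set (G ⧸ ⁅H, H⁆))).comap f :=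
        htop ▸ sup_le (fun a ha => Subgroup.mem_centralizer_singleton_iff.2
          (Subgroup.mem_center_iff.1 (hle ha).2 (f k)).symm)
          (Subgroup.zpowers_le.2 (Subgroup.mem_centralizer_singleton_iff.2 (hcx k).symm.eq))
      exact Subgroup.mem_centralizer_singleton_iff.1 (this (Subgroup.mem_top g))
    rw [commutator_def, Subgroup.commutator_le]
    intro g _ k _
    refine (QuotientGroup.eq_one_iff _).1 ?_
    show f ⁅g, k⁆ = 1
    rw [map_commutatorElement]
    exact commutatorElement_eq_one_iff_mul_comm.2 (hcall g k)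
  -- nonlinear characters of `H` extend
  have hext : ∀ θ : H → ℂ, IsIrrCharacter H θ → θ 1 ≠ 1 →
      θ 1 = p ∧ ∃ χ : G → ℂ, IsIrrCharacter G χ ∧ (fun h : H => χ h) = θ := by
    intro θ hθ h1
    obtain ⟨χ, hχ⟩ := exists_over H ⟨θ, hθ⟩
    obtain ⟨k, hk, -⟩ := ProjExt.exists_ratio_dvd_index χ.2 hθ hχ
    obtain ⟨d, hd0, hd⟩ := IsIrr.degree hθ
    have hd1 : d ≠ 1 := fun h => h1 (by rw [hd, h, Nat.cast_one])
    rcases hcd χ χ.2 with h | h <;> rw [h, hd] at hk
    · have h2 : 1 = k * d := by exact_mod_cast hk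
      exact absurd (Nat.eq_one_of_mul_eq_one_left h2.symm) hd1
    · have h2 : p = k * d := by exact_mod_cast hk
      rcases (Nat.dvd_prime hp).1 (Dvd.intro_left k h2.symm) with h3 | h3
      · exact absurd h3 hd1
      · exact ⟨by rw [hd, h3],
          _, χ.2, res_eq_of_degree_eq H (IsIrr.isCharacter χ.2) hθ hχ (by rw [h, hd, h3])⟩
  -- linear characters of `H` kill `[H, H]`
  have hlinker : ∀ θ : H → ℂ, IsIrrCharacter H θ → θ 1 = 1 → ∀ c : H, (c : G) ∈ ⁅H, H⁆ → θ c = 1 := by
    intro θ hθ h1 c hc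
    obtain ⟨l, hl⟩ := IsChar.exists_hom (IsIrr.isCharacter hθ) h1
    have hle : ⁅H, H⁆ ≤ l.ker.map H.subtype := by
      rw [Subgroup.commutator_le]
      intro a ha b hb
      exact ⟨⁅(⟨a, ha⟩ : H), ⟨b, hb⟩⁆, (by
        rw [SetLike.mem_coe, MonoidHom.mem_ker, map_commutatorElement]
        exact commutatorElement_eq_one_iff_mul_comm.2 (mul_comm _ _)), rfl⟩
    obtain ⟨c', hc', hce⟩ := hle hc
    obtain rfl : c' = c := Subtype.ext hce
    rw [hl]
    show ((l c' : ℂˣ) : ℂ) = 1
    rw [MonoidHom.mem_ker.1 hc', Units.val_one]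
  -- vanishing
  have hvan : ∀ θ : H → ℂ, IsIrrCharacter H θ → θ 1 ≠ 1 → ∀ h : H, (h : G) ∉ S → θ h = 0 := by
    intro θ₀ hθ₀ h₀ h hhS
    obtain ⟨g, hg⟩ : ∃ g : G, g * h * g⁻¹ * (h : G)⁻¹ ∉ ⁅H, H⁆ := by
      by_contra! hall
      refine hhS ⟨h.2, Subgroup.mem_center_iff.2 fun q => ?_⟩
      obtain ⟨g, rfl⟩ := QuotientGroup.mk'_surjective ⁅H, H⁆ q
      have h1 : f (g * h * g⁻¹ * (h : G)⁻¹) = 1 := (QuotientGroup.eq_one_iff _).2 (hall g)
      rw [map_mul, map_mul, map_mul, map_inv, map_inv] at h1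
      exact mul_inv_eq_iff_eq_mul.1 (mul_inv_eq_one.1 h1)
    set h' : H := MulAut.conjNormal g h
    have hnc : ¬ IsConj h h' := by
      intro hc
      obtain ⟨c, hc'⟩ := isConj_iff.1 hc
      refine hg ?_
      rw [show g * (h : G) * g⁻¹ = (c : G) * h * (c : G)⁻¹ from (congrArg Subtype.val hc').symm]
      exact Subgroup.commutator_mem_commutator c.2 h.2
    have hs := second_orthogonality h h'
    rw [if_neg hnc, ← Finset.sum_filter_add_sum_filter_not Finset.univ
      (fun χ : IrrCharacter H => (χ : H → ℂ) 1 = 1)] at hs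
    have hlin : ∑ χ ∈ Finset.univ.filter (fun χ : IrrCharacter H => (χ : H → ℂ) 1 = 1),
        (χ : H → ℂ) h * conj ((χ : H → ℂ) h') = 0 := by
      set B : Subgroup H := (⁅H, H⁆).subgroupOf H
      have hzB : h * h'⁻¹ ∉ B := fun hz => hg (by
        have h2 := Subgroup.inv_mem _ (Subgroup.mem_subgroupOf.1 hz)
        simpa [h'] using h2)
      have hz1 : (QuotientGroup.mk' B) (h * h'⁻¹) ≠ 1 := fun e => hzB ((QuotientGroup.eq_one_iff _).1 e)
      have hcomm : ∀ a b : H ⧸ B, a * b = b * a := by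
        rintro ⟨a⟩ ⟨b⟩
        refine QuotientGroup.eq.2 (Subgroup.mem_subgroupOf.2 ?_)
        have := Subgroup.commutator_mem_commutator (H.inv_mem b.2) (H.inv_mem a.2)
        rw [commutatorElement_def] at this
        simpa [mul_assoc] using this
      letI : CommGroup (H ⧸ B) := { (inferInstance : Group (H ⧸ B)) with mul_comm := hcomm }
      obtain ⟨μ₀, hμ₀⟩ := CommGroup.exists_apply_ne_one_of_hasEnoughRootsOfUnity (H ⧸ B) ℂ hz1
      let μ : H →* ℂˣ := μ₀.comp (QuotientGroup.mk' B)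
      have hμ : μ h ≠ μ h' := fun e => hμ₀ (show μ (h * h'⁻¹) = 1 by
        rw [map_mul, map_inv, e, mul_inv_cancel])
      set L := Finset.univ.filter (fun χ : IrrCharacter H => (χ : H → ℂ) 1 = 1)
      set T := ∑ χ ∈ L, (χ : H → ℂ) h * conj ((χ : H → ℂ) h')
      have hshift : T = ((μ h : ℂˣ) : ℂ) * conj ((μ h' : ℂˣ) : ℂ) * T := by
        rw [Finset.mul_sum]
        refine Finset.sum_bij'
          (fun χ _ => (⟨_, isIrr_mul_hom χ.2 μ⁻¹⟩ : IrrCharacter H))
          (fun χ _ => (⟨_, isIrr_mul_hom χ.2 μ⟩ : IrrCharacter H))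
          (fun χ hχ => Finset.mem_filter.2 ⟨Finset.mem_univ _, by
            simp [(Finset.mem_filter.1 hχ).2]⟩)
          (fun χ hχ => Finset.mem_filter.2 ⟨Finset.mem_univ _, by
            simp [(Finset.mem_filter.1 hχ).2]⟩)
          (fun χ _ => Subtype.ext (funext fun z => by
            show (χ : H → ℂ) z * ((μ⁻¹ z : ℂˣ) : ℂ) * ((μ z : ℂˣ) : ℂ) = _
            rw [mul_assoc, ← Units.val_mul, MonoidHom.inv_apply, inv_mul_cancel, Units.val_one, mul_one]))
          (fun χ _ => Subtype.ext (funext fun z => by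
            show (χ : H → ℂ) z * ((μ z : ℂˣ) : ℂ) * ((μ⁻¹ z : ℂˣ) : ℂ) = _
            rw [mul_assoc, ← Units.val_mul, MonoidHom.inv_apply, mul_inv_cancel, Units.val_one, mul_one]))
          (fun χ _ => ?_)
        show _ = _ * ((χ : H → ℂ) h * ((μ⁻¹ h : ℂˣ) : ℂ) * conj ((χ : H → ℂ) h' * ((μ⁻¹ h' : ℂˣ) : ℂ)))
        simp only [MonoidHom.inv_apply, Units.val_inv_eq_inv_val, map_mul, map_inv₀]
        have e1 : ((μ h : ℂˣ) : ℂ) ≠ 0 := Units.ne_zero _
        have e2 : conj ((μ h' : ℂˣ) : ℂ) ≠ 0 := by simpa using Units.ne_zero (μ h')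
        field_simp
      have hne : ((μ h : ℂˣ) : ℂ) * conj ((μ h' : ℂˣ) : ℂ) ≠ 1 := by
        intro e
        refine hμ (Units.ext ?_)
        have hn : ‖((μ h' : ℂˣ) : ℂ)‖ = 1 := Complex.norm_eq_one_of_pow_eq_one
          (n := Nat.card H) (by rw [← Units.val_pow_eq_pow_val, ← map_pow, pow_card_eq_one', map_one,
            Units.val_one]) Nat.card_pos.ne'
        have h3 : conj ((μ h' : ℂˣ) : ℂ) * ((μ h' : ℂˣ) : ℂ) = 1 := by
          rw [Complex.conj_mul', hn]; simp
        linear_combination ((μ h' : ℂˣ) : ℂ) * e - ((μ h : ℂˣ) : ℂ) * h3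
      have h4 : (1 - ((μ h : ℂˣ) : ℂ) * conj ((μ h' : ℂˣ) : ℂ)) * T = 0 := by
        linear_combination hshift
      exact (mul_eq_zero.1 h4).resolve_left (sub_ne_zero.2 (Ne.symm hne))
    rw [hlin, zero_add, Finset.sum_congr rfl (g := fun χ : IrrCharacter H =>
      ((Complex.normSq ((χ : H → ℂ) h) : ℝ) : ℂ)) fun χ hχ => by
      obtain ⟨-, ψ, hψ, hψe⟩ := hext χ χ.2 (Finset.mem_filter.1 hχ).2
      rw [show (χ : H → ℂ) h' = (χ : H → ℂ) h by
        rw [← hψe]; exact isClassFunction_of_isIrr hψ h g, Complex.mul_conj],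
      ← Complex.ofReal_sum, Complex.ofReal_eq_zero] at hs
    exact Complex.normSq_eq_zero.1 ((Finset.sum_eq_zero_iff_of_nonneg
      fun χ _ => Complex.normSq_nonneg _).1 hs ⟨θ₀, hθ₀⟩ (Finset.mem_filter.2 ⟨Finset.mem_univ _, h₀⟩))
  -- restriction to `S`
  set SH : Subgroup H := S.subgroupOf H
  have := Fintype.ofFinite SH
  have hSHn : SH.Normal := hSn.subgroupOf H
  have hshape : ∀ θ : H → ℂ, IsIrrCharacter H θ → θ 1 ≠ 1 →
      (∀ s : SH, ∀ h : H, θ ((s : H) * h * (s : H)⁻¹ * h⁻¹) = θ 1 ∧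
        ∀ g : G, θ ⟨g * (s : H) * g⁻¹ * ((s : H) : G)⁻¹,
          H.mul_mem (hHn.conj_mem _ (s : H).2 g) (H.inv_mem (s : H).2)⟩ = θ 1) ∧ SH.index = p ^ 2 ∨
      (∀ φ : IrrCharacter SH, classInner (fun s : SH => θ s) (φ : SH → ℂ) ≠ 0 → (φ : SH → ℂ) 1 = 1) ∧
        SH.index = p := by
    intro θ hθ h1
    obtain ⟨hθp, ψ, hψ, hψe⟩ := hext θ hθ h1
    obtain ⟨φ, hφ⟩ := exists_constituent_res (N := SH) hθ
    obtain ⟨e, he⟩ := classInner_isCharacter_eq_natCast (isCharacter_res SH (IsIrr.isCharacter hθ))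
      (IsIrr.isCharacter φ.2)
    obtain ⟨r, hr0, hr⟩ := IsIrr.degree φ.2
    set t := (inertia (φ : SH → ℂ)).index
    have hdeg := degree_eq_of_clifford hθ φ.2 hφ
    rw [hθp, he, hr] at hdeg
    have hpeq : p = e * t * r := by exact_mod_cast hdeg
    have hcl := clifford hθ φ.2 hφ
    rw [he] at hcl
    -- the norm of the restriction is the index
    have hnorm : classInner (fun s : SH => θ s) (fun s : SH => θ s) = (SH.index : ℂ) := by
      have hself := classInner_irr_self hθ
      rw [classInner] at hself ⊢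
      have hsum : ∑ s : SH, θ s * conj (θ s) = ∑ h : H, θ h * conj (θ h) := by
        rw [← Finset.sum_subset (s₁ := Finset.univ.filter (fun h : H => h ∈ SH)) (Finset.subset_univ _)
          (fun h _ hh => by
            rw [hvan θ hθ h1 h (fun hm => hh (Finset.mem_filter.2 ⟨Finset.mem_univ _, hm⟩)), zero_mul])]
        exact (Finset.sum_subtype _ (fun h => by simp) fun h => θ h * conj (θ h)).symm
      rw [hsum]
      have h0 : (Nat.card H : ℂ) ≠ 0 := Nat.cast_ne_zero.2 Nat.card_pos.ne'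
      rw [inv_mul_eq_one₀ h0] at hself
      rw [← hself, ← Subgroup.card_mul_index SH, Nat.cast_mul, ← mul_assoc,
        inv_mul_cancel₀ (Nat.cast_ne_zero.2 Nat.card_pos.ne'), one_mul]
    have hnorm2 : classInner (fun s : SH => θ s) (fun s : SH => θ s) = ((e * e * t : ℕ) : ℂ) := by
      conv_lhs => arg 2; rw [hcl]
      rw [classInner_smul_right, classInner_sum_right, Finset.sum_congr rfl (g := fun _ => (e : ℂ))
        fun η hη => ?_, Finset.sum_const, card_orbit, nsmul_eq_mul, map_natCast]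
      · push_cast; ring
      · obtain ⟨g, rfl⟩ := mem_orbit.1 hη
        rw [← he]
        conv_lhs => rw [← conjFun_res g (isClassFunction_of_isIrr hθ)]
        exact classInner_conjFun g _ _
    rw [hnorm, Nat.cast_inj] at hnorm2
    have hne1 : SH.index ≠ 1 := fun h => hS (Subgroup.subgroupOf_eq_top.1 (Subgroup.index_eq_one.1 h))
    rcases (Nat.dvd_prime hp).1 (Dvd.intro_left _ (show t * r * e = p by rw [hpeq]; ring)) with he1 | hep
    · -- multiplicity one
      right
      subst he1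
      rcases (Nat.dvd_prime hp).1 (Dvd.intro r (show t * r = p by rw [hpeq]; ring)) with ht | ht
      · exact absurd (hnorm2.trans (by rw [ht])) hne1
      have hr1 : r = 1 := by
        rw [ht] at hpeq
        exact (mul_eq_left₀ hp.ne_zero).1 (by linarith : p * r = p)
      refine ⟨fun η hη => ?_, by rw [hnorm2, ht]; ring⟩
      obtain ⟨g, hg⟩ := mem_orbit.1 (constituent_mem_orbit hθ φ.2 η.2 hφ hη)
      rw [← hg, conjFun_apply_one, hr, hr1, Nat.cast_one]
    · -- fully ramified
      left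
      subst hep
      have htr : t * r = 1 := by
        have h2 : e * (t * r) = e * 1 := by rw [mul_one, ← mul_assoc]; exact hpeq.symm
        exact Nat.eq_of_mul_eq_mul_left hp.pos h2
      have ht : t = 1 := Nat.eq_one_of_mul_eq_one_right htr
      have hr1 : r = 1 := Nat.eq_one_of_mul_eq_one_left htr
      refine ⟨?_, by rw [hnorm2, ht]; ring⟩
      have horbit : orbit (φ : SH → ℂ) = {(φ : SH → ℂ)} := Finset.eq_singleton_iff_unique_mem.2
        ⟨self_mem_orbit _, fun η hη => by
          have hc : (orbit (φ : SH → ℂ)).card = 1 := (card_orbit _).trans ht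
          exact Finset.card_le_one.1 hc.le _ hη _ (self_mem_orbit _)⟩
      rw [horbit, Finset.sum_singleton] at hcl
      obtain ⟨l, hl⟩ := IsChar.exists_hom (IsIrr.isCharacter φ.2) (by rw [hr, hr1, Nat.cast_one])
      have hval : ∀ s : SH, θ s = e * ((l s : ℂˣ) : ℂ) := fun s => by
        have := congrFun hcl s
        rw [hl] at this
        simpa using this
      have hinj : ∀ s s' : SH, θ s = θ s' → θ ((s : H) * (s' : H)⁻¹) = θ 1 := fun s s' h => by
        rw [hval, hval, mul_right_inj' (Nat.cast_ne_zero.2 hp.ne_zero), Units.val_inj] at h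
        have h2 := hval (s * s'⁻¹)
        rw [map_mul, map_inv, h, mul_inv_cancel, Units.val_one, mul_one] at h2
        rw [hθp, ← h2]
        simp
      intro s h
      refine ⟨?_, fun g => ?_⟩
      · have h2 := hinj s ⟨h * s * h⁻¹, hSHn.conj_mem _ s.2 h⟩
          (isClassFunction_of_isIrr hθ (s : H) h).symm
        rw [show (s : H) * h * (s : H)⁻¹ * h⁻¹ = (s : H) * (h * (s : H) * h⁻¹)⁻¹ by group]
        exact h2
      · have hgs : (⟨g * (s : H) * g⁻¹, hHn.conj_mem _ (s : H).2 g⟩ : H) ∈ SH :=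
          Subgroup.mem_subgroupOf.2 (hSn.conj_mem _ (Subgroup.mem_subgroupOf.1 s.2) g)
        exact hinj ⟨_, hgs⟩ s (by
          rw [← hψe]; exact isClassFunction_of_isIrr hψ _ g)
  by_cases hind : SH.index = p ^ 2
  · -- `S` is central
    right
    have hSc : S ≤ Subgroup.center G := by
      intro s hs
      refine Subgroup.mem_center_iff.2 fun g => ?_
      have hsH : s ∈ H := hSH hs
      have hzH : g * s * g⁻¹ * s⁻¹ ∈ H := H.mul_mem (hHn.conj_mem _ hsH g) (H.inv_mem hsH)
      have hzD : g * s * g⁻¹ * s⁻¹ ∈ ⁅H, H⁆ := by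
        refine (QuotientGroup.eq_one_iff _).1 ?_
        show f (g * s * g⁻¹ * s⁻¹) = 1
        rw [map_mul, map_mul, map_mul, map_inv, map_inv, Subgroup.mem_center_iff.1 hs.2 (f g),
          mul_inv_cancel_right, mul_inv_cancel]
      have hker : ∀ θ : IrrCharacter H, (θ : H → ℂ) ⟨_, hzH⟩ = (θ : H → ℂ) 1 := by
        intro θ
        by_cases h1 : (θ : H → ℂ) 1 = 1
        · rw [hlinker θ θ.2 h1 _ hzD, h1]
        rcases hshape θ θ.2 h1 with ⟨h2, -⟩ | ⟨-, h2⟩
        · exact (h2 ⟨⟨s, hsH⟩, hs⟩ 1).2 g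
        · exact absurd (h2.symm.trans hind) (fun e => by
            have := Nat.pow_right_injective hp.two_le ((pow_one p).trans e); omega)
      have h3 := congrArg Subtype.val (eq_one_of_forall_irr hker)
      exact mul_inv_eq_iff_eq_mul.1 (mul_inv_eq_one.1 h3)
    have hSi : S.index = p ^ 3 := by
      rw [← Subgroup.relIndex_mul_index hSH, show S.relIndex H = p ^ 2 from hind, hHi, ← pow_succ]
    exact hSi ▸ Subgroup.index_dvd_of_le hSc
  -- `S` is abelian of index `p ^ 2`
  obtain ⟨θ₁, hθ₁⟩ : ∃ θ : IrrCharacter H, (θ : H → ℂ) 1 ≠ 1 := by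
    by_contra! hall
    exact hHab fun a ha b hb => congrArg Subtype.val (forall_degree_one_iff.1 hall ⟨a, ha⟩ ⟨b, hb⟩)
  have hindp : SH.index = p := by
    rcases hshape θ₁ θ₁.2 hθ₁ with ⟨-, h⟩ | ⟨-, h⟩
    · exact absurd h hind
    · exact h
  have hSi : S.index = p ^ 2 := by
    rw [← Subgroup.relIndex_mul_index hSH, show S.relIndex H = p from hindp, hHi, sq]
  have hSab : ∀ a ∈ S, ∀ b ∈ S, a * b = b * a := by
    intro a ha b hb
    let a' : SH := ⟨⟨a, hSH ha⟩, ha⟩
    let b' : SH := ⟨⟨b, hSH hb⟩, hb⟩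
    have hker : ∀ θ : IrrCharacter H, (θ : H → ℂ) (⁅a', b'⁆ : SH) = (θ : H → ℂ) 1 := by
      intro θ
      have hl1 : ∀ φ : IrrCharacter SH, classInner (fun s : SH => (θ : H → ℂ) s) (φ : SH → ℂ) ≠ 0 →
          (φ : SH → ℂ) 1 = 1 := by
        by_cases h1 : (θ : H → ℂ) 1 = 1
        · intro φ hφ
          obtain ⟨d, hd0, hd⟩ := IsIrr.degree φ.2
          have h2 := IsChar.constituent_degree_le (isCharacter_res SH (IsIrr.isCharacter θ.2)) φ.2 hφ
          simp only [OneMemClass.coe_one, hd, h1, Complex.natCast_re, Complex.one_re, Nat.cast_le_one] at h2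
          rw [hd, show d = 1 by omega, Nat.cast_one]
        rcases hshape θ θ.2 h1 with ⟨-, h⟩ | ⟨h, -⟩
        · exact absurd h hind
        · exact h
      have hexp := classFun_expansion (isClassFunction_of_isCharacter
        (isCharacter_res SH (IsIrr.isCharacter θ.2)))
      have e1 := congrFun hexp ⁅a', b'⁆
      have e2 := congrFun hexp 1
      simp only [Finset.sum_apply, Pi.smul_apply, smul_eq_mul, OneMemClass.coe_one] at e1 e2
      rw [e1, e2]
      refine Finset.sum_congr rfl fun φ _ => ?_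
      by_cases h0 : classInner (fun s : SH => (θ : H → ℂ) s) (φ : SH → ℂ) = 0
      · rw [h0, zero_mul, zero_mul]
      obtain ⟨l, hl⟩ := IsChar.exists_hom (IsIrr.isCharacter φ.2) (hl1 φ h0)
      rw [hl]
      simp [map_commutatorElement, commutatorElement_eq_one_iff_mul_comm.2 (mul_comm (l a') (l b'))]
    have h3 := eq_one_of_forall_irr hker
    exact congrArg (fun x : SH => ((x : H) : G)) (commutatorElement_eq_one_iff_mul_comm.1
      (Subtype.ext h3 : ⁅a', b'⁆ = 1))
  refine abelian_or_center_of_orbits (A := S) hp hSab hSi (fun g k => ?_) fun l => ?_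
  · have := Fact.mk hp
    have hcm : ∀ x y : G ⧸ S, x * y = y * x :=
      (IsPGroup.isMulCommutative_of_card_eq_prime_sq (p := p) (G := G ⧸ S)
        (by rw [← Subgroup.index_eq_card, hSi])).is_comm.comm
    rw [← QuotientGroup.eq_one_iff, QuotientGroup.mk_mul, QuotientGroup.mk_mul, QuotientGroup.mk_mul,
      QuotientGroup.mk_inv, QuotientGroup.mk_inv, hcm (g : G ⧸ S) k, mul_inv_cancel_right, mul_inv_cancel]
  · have := Fintype.ofFinite S
    let lam : IrrCharacter S := ⟨fun a => (l a : ℂ),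
      IsChar.isIrr_of_degree_one (isLinear_iff.2 ⟨l, rfl⟩).1 (isLinear_iff.2 ⟨l, rfl⟩).2⟩
    obtain ⟨χ, hχ⟩ := exists_over S lam
    refine ⟨inertia (lam : S → ℂ), le_inertia (isClassFunction_of_isIrr lam.2), ?_, ?_⟩
    · obtain ⟨e, he⟩ := classInner_isCharacter_eq_natCast
        (isCharacter_res S (IsIrr.isCharacter χ.2)) (IsIrr.isCharacter lam.2)
      have hdeg := degree_eq_of_clifford χ.2 lam.2 hχ
      rw [he, show (lam : S → ℂ) 1 = 1 by simp [lam], mul_one] at hdeg
      rcases hcd χ χ.2 with h | h <;> rw [h] at hdeg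
      · have h2 : 1 = e * (inertia (lam : S → ℂ)).index := by exact_mod_cast hdeg
        rw [Nat.eq_one_of_mul_eq_one_left h2.symm]; exact one_dvd _
      · have h2 : p = e * (inertia (lam : S → ℂ)).index := by exact_mod_cast hdeg
        exact Dvd.intro_left e h2.symm
    · intro m hm a
      exact Units.ext (congrFun (mem_inertia.1 hm) a)

end Cfsg.Agent.Char
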