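import Mathlib
import Cfsg.Agent.Char.NormalAbelianSylow
import Cfsg.Agent.Char.Glauberman.Bridge
import Cfsg.Agent.Char.Glauberman.Count
import Cfsg.Agent.S1491

/-!
# A unique character of degree divisible by `p` over a normal `p`-complement
-/

set_option autoImplicit false

namespace Cfsg.Agent.Char

open scoped ComplexConjugate

universe u

variable {G : Type u} [Group G] [Fintype G] (p : ℕ) [hp : Fact p.Prime]
variable (N : Subgroup G) [hNn : N.Normal] [Fintype N]

/-- A class of `N` fixed under conjugation by a subgroup. -/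
def FixClass (T : Subgroup G) (K : ConjClasses N) : Prop :=
  ∀ s ∈ T, ∀ g g' : N, (g' : G) = s * g * s⁻¹ → ConjClasses.mk g = K → ConjClasses.mk g' = K

theorem card_fix_eq (T : Subgroup G) (hT : IsPGroup p T) (hcop : ¬ p ∣ Nat.card N) :
    Nat.card {θ : IrrCharacter N // T ≤ inertia (θ : N → ℂ)} =
      Nat.card {K : ConjClasses N // FixClass N T K} := by
  have hnorm : ∀ s ∈ T, ∀ g ∈ N, s * g * s⁻¹ ∈ N := fun s _ g hg => hNn.conj_mem g hg s
  have hsol : Group.IsSolvable T := by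
    have := hT.isNilpotent
    infer_instance
  obtain ⟨k, hk⟩ := hT.exists_card_eq
  have h := Glauberman.card_invIrr_eq_invClass _ (Glauberman.conjOp hnorm) rfl hsol (by
    rw [hk]
    exact ((hp.out.coprime_iff_not_dvd.2 hcop).pow_left k).symm)
  have h1 : ∀ θ : IrrCharacter N, Glauberman.InvFun (Glauberman.conjOp hnorm) (θ : N → ℂ) ↔
      T ≤ inertia (θ : N → ℂ) := fun θ => by
    refine ⟨fun hinv s hs => funext fun n => ?_, fun hle s n => ?_⟩
    · rw [conjFun_apply]
      exact hinv ⟨s, hs⟩ n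
    · have h2 := congrFun (hle s.2 : conjFun (s : G) (θ : N → ℂ) = θ) n
      rwa [conjFun_apply] at h2
  rw [← Nat.card_congr (Equiv.subtypeEquivRight h1)]
  exact h.trans (Nat.card_congr (Equiv.subtypeEquivRight fun K => Glauberman.invClass_iff hnorm K))

theorem exists_fixed_rep (T : Subgroup G) (hT : IsPGroup p T) (hcop : ¬ p ∣ Nat.card N)
    {g : N} (h : FixClass N T (ConjClasses.mk g)) :
    ∃ c : N, IsConj g c ∧ ∀ s ∈ T, s * (c : G) = c * s := by
  have hnorm : ∀ s ∈ T, ∀ g ∈ N, s * g * s⁻¹ ∈ N := fun s _ g hg => hNn.conj_mem g hg s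
  obtain ⟨c, hc, hgc⟩ := Glauberman.exists_fixed_in_class (a := Glauberman.conjOp hnorm) hT hcop
    (g := g) fun t => (ConjClasses.mk_eq_mk_iff_isConj.1 (h t t.2 g _ rfl rfl)).symm
  refine ⟨c, hgc, fun s hs => ?_⟩
  exact mul_inv_eq_iff_eq_mul.1 (congrArg Subtype.val (hc ⟨s, hs⟩))

/-- The conclusion about classes. -/
theorem unique_p_singular (P : Sylow p G) (hcop : ¬ p ∣ Nat.card N)
    (hidx : ∃ k, N.index = p ^ k) (hnil : ¬ Group.IsNilpotent G)
    (hone : Nat.card {χ : IrrCharacter G // p ∣ Cfsg.charDegree (χ : G → ℂ)} = 1) :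
    Nat.card {C : ConjClasses G // p ∣ Nat.card C.carrier} = 1 := by
  classical
  obtain ⟨⟨χ₀, hχ₀⟩, huniq0⟩ := Nat.card_eq_one_iff_exists.1 hone
  have huniq : ∀ χ χ' : IrrCharacter G, p ∣ Cfsg.charDegree (χ : G → ℂ) →
      p ∣ Cfsg.charDegree (χ' : G → ℂ) → χ = χ' := fun χ χ' h h' =>
    (congrArg Subtype.val (huniq0 ⟨χ, h⟩)).trans (congrArg Subtype.val (huniq0 ⟨χ', h'⟩)).symm
  obtain ⟨k, hk⟩ := hidx
  obtain ⟨m, hm⟩ := P.isPGroup'.exists_card_eq
  have hPN : (P : Subgroup G) ⊓ N = ⊥ := Subgroup.inf_eq_bot_of_coprime (by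
    rw [hm]; exact (hp.out.coprime_iff_not_dvd.2 hcop).pow_left m)
  have hPcard : Nat.card (P : Subgroup G) = N.index := by
    rw [P.card_eq_multiplicity, ← N.card_mul_index, Nat.factorization_mul Nat.card_pos.ne'
      Subgroup.index_ne_zero_of_finite, Finsupp.add_apply,
      Nat.factorization_eq_zero_of_not_dvd hcop, zero_add, hk, hp.out.factorization_pow,
      Finsupp.single_eq_same]
  have hdec : ∀ g : G, ∃ n ∈ N, ∃ u ∈ (P : Subgroup G), g = n * u := by
    have h : N ⊔ (P : Subgroup G) = ⊤ := by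
      have h1 : Nat.card ↥(N ⊔ (P : Subgroup G)) = Nat.card G := by
        refine Nat.dvd_antisymm (Subgroup.card_subgroup_dvd_card _) ?_
        rw [← N.card_mul_index, ← hPcard]
        exact Nat.Coprime.mul_dvd_of_dvd_of_dvd
          (by rw [hm]; exact ((hp.out.coprime_iff_not_dvd.2 hcop).pow_left m).symm)
          (Subgroup.card_dvd_of_le le_sup_left) (Subgroup.card_dvd_of_le le_sup_right)
      exact Subgroup.eq_top_of_card_eq _ h1
    intro g
    obtain ⟨n, hn, u, hu, rfl⟩ := Subgroup.mem_sup_of_normal_left.1 (h ▸ Subgroup.mem_top g)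
    exact ⟨n, hn, u, hu, rfl⟩
  have hPne : (P : Subgroup G) ≠ ⊥ := fun e => hp.out.one_lt.ne' <| by
    have h1 := hχ₀
    obtain ⟨d, hd0, hd⟩ := IsIrr.degree χ₀.2
    have h2 : d ∣ Nat.card G := IsIrr.degree_dvd_card χ₀.2 hd
    rw [charDegree_spec' χ₀, Nat.cast_inj] at hd
    rw [hd] at h1
    have h3 : p ∣ Nat.card G := h1.trans h2
    rw [← N.card_mul_index, ← hPcard, e, Subgroup.card_bot, mul_one] at h3
    exact absurd h3 hcop
  -- cover lemma
  have hcover : (∀ K : ConjClasses N, FixClass N (P : Subgroup G) K) →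
      ∀ n : N, ∀ u ∈ (P : Subgroup G), u * (n : G) = n * u := by
    intro hall
    have hD : (Subgroup.centralizer ((P : Subgroup G) : Set G)).subgroupOf N = ⊤ := by
      refine S4035.eq_top_of_cover _ fun g => ?_
      obtain ⟨c, hgc, hc⟩ := exists_fixed_rep p N (P : Subgroup G) P.isPGroup' hcop (hall _)
      obtain ⟨a, ha⟩ := isConj_iff.1 hgc
      refine ⟨a⁻¹, ?_⟩
      rw [inv_inv, ha, Subgroup.mem_subgroupOf, Subgroup.mem_centralizer_iff]
      exact hc
    intro n u hu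
    have h := (hD ▸ Subgroup.mem_top n : n ∈ (Subgroup.centralizer ((P : Subgroup G) : Set G)).subgroupOf N)
    exact Subgroup.mem_centralizer_iff.1 (Subgroup.mem_subgroupOf.1 h) u hu
  have hnonfix_dvd : ∀ θ : IrrCharacter N, ¬ (P : Subgroup G) ≤ inertia (θ : N → ℂ) →
      ∀ χ : IrrCharacter G, classInner (fun n : N => (χ : G → ℂ) n) (θ : N → ℂ) ≠ 0 →
      p ∣ Cfsg.charDegree (χ : G → ℂ) := by
    intro θ hθ χ hχ
    have hTN := le_inertia (N := N) (isClassFunction_of_isIrr θ.2)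
    have hTne : (inertia (θ : N → ℂ)).index ≠ 1 := fun h =>
      hθ ((Subgroup.index_eq_one.1 h).symm ▸ le_top)
    obtain ⟨i, -, hi⟩ := (Nat.dvd_prime_pow hp.out).1
      (hk ▸ Subgroup.index_dvd_of_le hTN : (inertia (θ : N → ℂ)).index ∣ p ^ k)
    have hpi : p ∣ (inertia (θ : N → ℂ)).index := by
      rw [hi] at hTne ⊢
      exact dvd_pow_self p fun h => hTne (by rw [h, pow_zero])
    obtain ⟨c, hc⟩ := classInner_isCharacter_eq_natCast
      (isCharacter_res N (IsIrr.isCharacter χ.2)) (IsIrr.isCharacter θ.2)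
    obtain ⟨d, -, hd⟩ := IsIrr.degree θ.2
    have h1 := degree_eq_of_clifford χ.2 θ.2 hχ
    rw [hc, hd, charDegree_spec' χ] at h1
    have h2 : Cfsg.charDegree (χ : G → ℂ) = c * (inertia (θ : N → ℂ)).index * d := by
      exact_mod_cast h1
    rw [h2]
    exact dvd_mul_of_dvd_left (dvd_mul_of_dvd_right hpi c) d
  have hfix_irr_class : (∀ θ : IrrCharacter N, (P : Subgroup G) ≤ inertia (θ : N → ℂ)) →
      ∀ K : ConjClasses N, FixClass N (P : Subgroup G) K := by
    intro hall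
    have h := card_fix_eq p N (P : Subgroup G) P.isPGroup' hcop
    rw [Nat.card_congr (Equiv.subtypeUnivEquiv hall), card_irrCharacter] at h
    have := Fintype.ofFinite (ConjClasses N)
    rw [Nat.card_eq_fintype_card, Nat.card_eq_fintype_card, Fintype.card_subtype] at h
    intro K
    have h2 := Finset.eq_univ_of_card _ h.symm
    have h3 : K ∈ Finset.univ.filter fun K => FixClass N (P : Subgroup G) K := by
      rw [h2]; exact Finset.mem_univ K
    exact (Finset.mem_filter.1 h3).2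
  -- `P` is abelian
  let f : (P : Subgroup G) →* G ⧸ N := (QuotientGroup.mk' N).comp (P : Subgroup G).subtype
  have hf : Function.Surjective f := by
    intro c
    obtain ⟨g, rfl⟩ := QuotientGroup.mk_surjective c
    obtain ⟨n, hn, u, hu, rfl⟩ := hdec g
    exact ⟨⟨u, hu⟩, by simp [f, (QuotientGroup.eq_one_iff n).2 hn]⟩
  have hcommQ : ∀ a b : G ⧸ N, a * b = b * a := by
    by_contra hna
    rw [← forall_degree_one_iff] at hna
    push Not at hna
    obtain ⟨β, hβ⟩ := hna
    set χβ : IrrCharacter G := ⟨fun g => (β : G ⧸ N → ℂ) g,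
      isIrrCharacter_comp (QuotientGroup.mk' N) (QuotientGroup.mk'_surjective N) β.2⟩
    have hβd : p ∣ Cfsg.charDegree (χβ : G → ℂ) := by
      obtain ⟨d, hd0, hd⟩ := IsIrr.degree β.2
      have h1 : d ∣ p ^ k := by
        rw [← hk, Subgroup.index_eq_card]
        exact IsIrr.degree_dvd_card β.2 hd
      obtain ⟨i, -, rfl⟩ := (Nat.dvd_prime_pow hp.out).1 h1
      have h2 : Cfsg.charDegree (χβ : G → ℂ) = p ^ i := by
        have h3 := charDegree_spec' χβ
        rw [show (χβ : G → ℂ) 1 = ((p ^ i : ℕ) : ℂ) from hd] at h3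
        exact_mod_cast h3.symm
      rw [h2]
      refine dvd_pow_self p fun h => hβ ?_
      rw [hd, h, pow_zero, Nat.cast_one]
    have hker : ∀ n : N, (χβ : G → ℂ) n = (χβ : G → ℂ) 1 := fun n => by
      show (β : G ⧸ N → ℂ) ((n : G) : G ⧸ N) = (β : G ⧸ N → ℂ) ((1 : G) : G ⧸ N)
      rw [(QuotientGroup.eq_one_iff (n : G)).2 n.2, QuotientGroup.mk_one]
    by_cases hall : ∀ θ : IrrCharacter N, (P : Subgroup G) ≤ inertia (θ : N → ℂ)
    · have hc := hcover (hfix_irr_class hall)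
      obtain ⟨n₁, hn₁⟩ : ∃ n₁ : N, n₁ ≠ 1 := by
        by_contra! hall1
        apply hnil
        have hN1 : Nat.card N = 1 :=
          Nat.card_eq_one_iff_exists.2 ⟨1, hall1⟩
        exact (IsPGroup.of_card (n := k) (by rw [← N.card_mul_index, hN1, one_mul, hk])).isNilpotent
      obtain ⟨θ, hθ⟩ := exists_irr_ne_at_one hn₁
      -- extend along the projection
      choose pn hpn pu hpu hg using hdec
      have hun : ∀ g n u, n ∈ N → u ∈ (P : Subgroup G) → g = n * u → pn g = n := by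
        intro g n u hn hu he
        rw [hg g] at he
        have h1 : n⁻¹ * pn g = u * (pu g)⁻¹ := by
          calc n⁻¹ * pn g = n⁻¹ * (pn g * pu g) * (pu g)⁻¹ := by group
            _ = n⁻¹ * (n * u) * (pu g)⁻¹ := by rw [he]
            _ = _ := by group
        have h2 : n⁻¹ * pn g ∈ (P : Subgroup G) ⊓ N :=
          ⟨h1 ▸ (P : Subgroup G).mul_mem hu ((P : Subgroup G).inv_mem (hpu g)),
            N.mul_mem (N.inv_mem hn) (hpn g)⟩
        rw [hPN, Subgroup.mem_bot, inv_mul_eq_one] at h2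
        exact h2.symm
      let pr : G →* N := MonoidHom.mk' (fun g => ⟨pn g, hpn g⟩) fun a b => Subtype.ext <| by
        refine hun (a * b) (pn a * pn b) (pu a * pu b) (N.mul_mem (hpn a) (hpn b))
          ((P : Subgroup G).mul_mem (hpu a) (hpu b)) ?_
        conv_lhs => rw [hg a, hg b]
        rw [mul_assoc, mul_assoc, ← mul_assoc (pu a), hc ⟨_, hpn b⟩ _ (hpu a), mul_assoc]
      have hpr : ∀ n : N, pr n = n := fun n => Subtype.ext
        (hun n n 1 n.2 (Subgroup.one_mem _) (mul_one _).symm)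
      have hθi := isIrrCharacter_comp pr (fun n => ⟨n, hpr n⟩) θ.2
      have hθres : IsIrrCharacter N (fun n : N => (θ : N → ℂ) (pr n)) := by
        simp only [hpr]; exact θ.2
      set χ₂ : IrrCharacter G := ⟨_, isIrr_mul_of_res_irr N hθi hθres χβ.2
        fun n hn => hker ⟨n, hn⟩⟩
      have h2 : p ∣ Cfsg.charDegree (χ₂ : G → ℂ) := by
        obtain ⟨d, -, hd⟩ := IsIrr.degree θ.2
        have h3 := charDegree_spec' χ₂
        rw [show (χ₂ : G → ℂ) 1 = (χβ : G → ℂ) 1 * (θ : N → ℂ) (pr 1) from rfl, map_one,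
          charDegree_spec' χβ, hd, ← Nat.cast_mul, Nat.cast_inj] at h3
        rw [← h3]
        exact dvd_mul_of_dvd_left hβd d
      have he := huniq _ _ h2 hβd
      have h3 : ∀ n : N, (χβ : G → ℂ) 1 * (θ : N → ℂ) n = (χβ : G → ℂ) 1 := fun n => by
        have h4 := congrFun (congrArg Subtype.val he) (n : G)
        rw [show (χ₂ : G → ℂ) (n : G) = (χβ : G → ℂ) (n : G) * (θ : N → ℂ) (pr n) from rfl, hpr,
          hker n] at h4
        exact h4
      exact hθ (mul_left_cancel₀ (IsIrr.one_ne_zero χβ.2) ((h3 n₁).trans (h3 1).symm))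
    · push Not at hall
      obtain ⟨θ, hθ⟩ := hall
      obtain ⟨χ, hχ⟩ := exists_over N θ
      have he := huniq χ χβ (hnonfix_dvd θ hθ χ hχ) hβd
      apply hθ
      intro s _
      show conjFun s (θ : N → ℂ) = θ
      have hθ1 : (θ : N → ℂ) = fun _ => 1 := by
        by_contra hne
        apply hχ
        rw [he, show (fun n : N => (χβ : G → ℂ) n) = (χβ : G → ℂ) 1 • (fun _ : N => (1 : ℂ)) from
          funext fun n => by rw [hker n, Pi.smul_apply, smul_eq_mul, mul_one],
          classInner_smul_left, classInner_irr_ne isIrrCharacter_one θ.2 (Ne.symm hne), mul_zero]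
      rw [hθ1]
      rfl
  have hPcomm : ∀ a ∈ (P : Subgroup G), ∀ b ∈ (P : Subgroup G), a * b = b * a := by
    intro a ha b hb
    have h : a * b * a⁻¹ * b⁻¹ ∈ (P : Subgroup G) ⊓ N := by
      refine ⟨(P : Subgroup G).mul_mem ((P : Subgroup G).mul_mem ((P : Subgroup G).mul_mem ha hb)
        ((P : Subgroup G).inv_mem ha)) ((P : Subgroup G).inv_mem hb), (QuotientGroup.eq_one_iff _).1 ?_⟩
      simp only [QuotientGroup.mk_mul, QuotientGroup.mk_inv]
      rw [hcommQ (a : G ⧸ N) (b : G ⧸ N)]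
      group
    rw [hPN, Subgroup.mem_bot, mul_inv_eq_one, mul_inv_eq_iff_eq_mul] at h
    exact h
  have hab : ∀ x y : G, x * y * x⁻¹ * y⁻¹ ∈ N := fun x y => by
    rw [← QuotientGroup.eq_one_iff]
    simp only [QuotientGroup.mk_mul, QuotientGroup.mk_inv]
    rw [hcommQ (x : G ⧸ N) (y : G ⧸ N)]
    group
  -- characters of `N`
  have hS : ∀ θ : IrrCharacter N, ∃ C : Finset (G → ℂ), (∀ χ ∈ C, IsIrrCharacter G χ) ∧
      C.card = N.relIndex (inertia (θ : N → ℂ)) ∧ indFun N (θ : N → ℂ) = ∑ χ ∈ C, χ ∧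
      ∀ χ ∈ C, χ 1 = ((inertia (θ : N → ℂ)).index : ℂ) * (θ : N → ℂ) 1 := fun θ =>
    S1491.result N (inertia (θ : N → ℂ)) θ θ.2
      (fun g => ⟨fun h n => congrFun (h : conjFun g (θ : N → ℂ) = θ) n, fun h => funext h⟩)
      (fun x _ y _ => hab x y)
      (Nat.Coprime.coprime_dvd_right
        (by rw [← hk]; exact Subgroup.relIndex_dvd_index_of_normal _ _)
        (((hp.out.coprime_iff_not_dvd.2 hcop).pow_left k).symm))
  obtain ⟨θ₀, hθ₀⟩ : ∃ θ : IrrCharacter N, ¬ (P : Subgroup G) ≤ inertia (θ : N → ℂ) := by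
    by_contra! hall
    obtain ⟨θ, hθ⟩ := exists_constituent_res (N := N) χ₀.2
    obtain ⟨C, hC, -, hind, hdeg⟩ := hS θ
    have htop : inertia (θ : N → ℂ) = ⊤ := by
      refine eq_top_iff.2 fun g _ => ?_
      obtain ⟨n, hn, u, hu, rfl⟩ := hdec g
      exact (inertia (θ : N → ℂ)).mul_mem (le_inertia (isClassFunction_of_isIrr θ.2) hn) (hall θ hu)
    have hmem : (χ₀ : G → ℂ) ∈ C := by
      by_contra hnot
      have h1 := classInner_indFun_left N (θ : N → ℂ) (isClassFunction_of_isIrr χ₀.2)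
      rw [hind, classInner_sum_left, Finset.sum_eq_zero fun χ hχ => classInner_irr_ne (hC χ hχ) χ₀.2
        fun e => hnot (e ▸ hχ), ← classInner_conj_symm, eq_comm, map_eq_zero] at h1
      exact hθ h1
    have h1 := hdeg _ hmem
    obtain ⟨d, -, hd⟩ := IsIrr.degree θ.2
    rw [htop, Subgroup.index_top, Nat.cast_one, one_mul, hd, charDegree_spec' χ₀, Nat.cast_inj] at h1
    exact hcop ((h1 ▸ hχ₀).trans (IsIrr.degree_dvd_card θ.2 hd))
  have hfree : ∀ θ : IrrCharacter N, ¬ (P : Subgroup G) ≤ inertia (θ : N → ℂ) →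
      inertia (θ : N → ℂ) = N := by
    intro θ hθ
    obtain ⟨C, hC, hcard, hind, -⟩ := hS θ
    have hle : C.card ≤ 1 := Finset.card_le_one.2 fun χ hχ χ' hχ' => by
      have key : ∀ η (hη : η ∈ C), p ∣ Cfsg.charDegree η := fun η hη => by
        refine hnonfix_dvd θ hθ ⟨η, hC η hη⟩ ?_
        have h1 := classInner_indFun_left N (θ : N → ℂ) (isClassFunction_of_isIrr (hC η hη))
        rw [hind, classInner_sum_left, Finset.sum_eq_single η
          (fun η' hη' hne => classInner_irr_ne (hC η' hη') (hC η hη) hne)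
          (fun h => absurd hη h), classInner_irr_self (hC η hη)] at h1
        intro e
        rw [← classInner_conj_symm, e, map_zero] at h1
        exact one_ne_zero h1
      exact congrArg Subtype.val (huniq ⟨χ, hC χ hχ⟩ ⟨χ', hC χ' hχ'⟩ (key χ hχ) (key χ' hχ'))
    refine le_antisymm (Subgroup.relIndex_eq_one.1 ?_) (le_inertia (isClassFunction_of_isIrr θ.2))
    have hne : N.relIndex (inertia (θ : N → ℂ)) ≠ 0 := Subgroup.index_ne_zero_of_finite
    omega
  -- the fixed characters of a nontrivial subgroup of `P`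
  have hTfix : ∀ T : Subgroup G, T ≤ (P : Subgroup G) → T ≠ ⊥ → ∀ θ : IrrCharacter N,
      T ≤ inertia (θ : N → ℂ) → (P : Subgroup G) ≤ inertia (θ : N → ℂ) := by
    intro T hT hT1 θ hθ
    by_contra h
    rw [hfree θ h] at hθ
    exact hT1 (le_bot_iff.1 (hPN ▸ le_inf hT hθ))
  have hTclass : ∀ T : Subgroup G, T ≤ (P : Subgroup G) → T ≠ ⊥ → ∀ K : ConjClasses N,
      FixClass N T K → FixClass N (P : Subgroup G) K := by
    intro T hT hT1
    have h1 := card_fix_eq p N T (P.isPGroup'.to_le hT) hcop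
    have h2 := card_fix_eq p N (P : Subgroup G) P.isPGroup' hcop
    have hirr : ∀ θ : IrrCharacter N, T ≤ inertia (θ : N → ℂ) ↔ (P : Subgroup G) ≤ inertia (θ : N → ℂ) :=
      fun θ => ⟨hTfix T hT hT1 θ, fun h => hT.trans h⟩
    rw [Nat.card_congr (Equiv.subtypeEquivRight hirr), h2] at h1
    have := Fintype.ofFinite (ConjClasses N)
    simp only [Nat.card_eq_fintype_card, Fintype.card_subtype] at h1
    have hsub : (Finset.univ.filter fun K => FixClass N (P : Subgroup G) K) ⊆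
        Finset.univ.filter fun K => FixClass N T K := fun K hK => by
      rw [Finset.mem_filter] at hK ⊢
      exact ⟨hK.1, fun s hs => hK.2 s (hT hs)⟩
    have heq := Finset.eq_of_subset_of_card_le hsub h1.ge
    intro K hK
    exact (Finset.mem_filter.1 (heq ▸ (Finset.mem_filter.2 ⟨Finset.mem_univ K, hK⟩) :
      K ∈ Finset.univ.filter fun K => FixClass N (P : Subgroup G) K)).2
  -- count the moved characters
  have hnum : Nat.card {θ : IrrCharacter N // ¬ (P : Subgroup G) ≤ inertia (θ : N → ℂ)} =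
      Nat.card (P : Subgroup G) := by
    have hmove : ∀ u : (P : Subgroup G), ¬ (P : Subgroup G) ≤ inertia (conjFun (u : G) (θ₀ : N → ℂ)) := by
      intro u hle
      apply hθ₀
      intro s hs
      have h1 : conjFun s (conjFun (u : G) (θ₀ : N → ℂ)) = conjFun (u : G) (θ₀ : N → ℂ) := hle hs
      rw [conjFun_conjFun, hPcomm _ u.2 s hs, ← conjFun_conjFun] at h1
      exact conjFun_injective (u : G) h1
    refine (Nat.card_congr (Equiv.ofBijective (fun u : (P : Subgroup G) =>
      (⟨⟨conjFun (u : G) (θ₀ : N → ℂ), isIrr_conjFun (u : G) θ₀.2⟩, hmove u⟩ :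
        {θ : IrrCharacter N // ¬ (P : Subgroup G) ≤ inertia (θ : N → ℂ)})) ⟨?_, ?_⟩)).symm
    · intro u v huv
      have h1 : conjFun (u : G) (θ₀ : N → ℂ) = conjFun (v : G) (θ₀ : N → ℂ) :=
        congrArg (fun x : {θ : IrrCharacter N // ¬ (P : Subgroup G) ≤ inertia (θ : N → ℂ)} =>
          (x.1 : N → ℂ)) huv
      have h2 : (u : G) * (v : G)⁻¹ ∈ inertia (θ₀ : N → ℂ) := by
        show conjFun ((u : G) * (v : G)⁻¹) (θ₀ : N → ℂ) = θ₀
        rw [← conjFun_conjFun, h1, conjFun_inv_cancel]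
      rw [hfree θ₀ hθ₀] at h2
      have h3 : (u : G) * (v : G)⁻¹ ∈ (P : Subgroup G) ⊓ N :=
        ⟨(P : Subgroup G).mul_mem u.2 ((P : Subgroup G).inv_mem v.2), h2⟩
      rw [hPN, Subgroup.mem_bot, mul_inv_eq_one] at h3
      exact Subtype.ext h3
    · rintro ⟨θ, hθ⟩
      obtain ⟨χ, hχ⟩ := exists_over N θ₀
      obtain ⟨χ', hχ'⟩ := exists_over N θ
      have he := huniq χ' χ (hnonfix_dvd θ hθ χ' hχ') (hnonfix_dvd θ₀ hθ₀ χ hχ)
      rw [he] at hχ'
      obtain ⟨g, hg⟩ := mem_orbit.1 (constituent_mem_orbit χ.2 θ₀.2 θ.2 hχ hχ')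
      obtain ⟨n, hn, u, hu, rfl⟩ := hdec g
      refine ⟨⟨u, hu⟩, Subtype.ext (Subtype.ext ?_)⟩
      show conjFun u (θ₀ : N → ℂ) = θ
      rw [← hg, ← conjFun_conjFun, conjFun_of_mem hn (isClassFunction_of_isIrr θ₀.2)]
  have hnumK : Nat.card {K : ConjClasses N // ¬ FixClass N (P : Subgroup G) K} =
      Nat.card (P : Subgroup G) := by
    rw [← hnum]
    have := Fintype.ofFinite (ConjClasses N)
    have h2 := card_fix_eq p N (P : Subgroup G) P.isPGroup' hcop
    have h3 : Nat.card (IrrCharacter N) = Nat.card (ConjClasses N) := card_irrCharacter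
    simp only [Nat.card_eq_fintype_card, Fintype.card_subtype_compl] at h2 h3 ⊢
    rw [h2, h3]
  -- one orbit of moved classes
  obtain ⟨⟨K₀, hK₀⟩⟩ := (Nat.card_pos_iff.1 (hnumK ▸ Nat.card_pos :
    0 < Nat.card {K : ConjClasses N // ¬ FixClass N (P : Subgroup G) K})).1
  obtain ⟨n₀, rfl⟩ := ConjClasses.mk_surjective K₀
  let cj : G → N → N := fun u n => ⟨u * n * u⁻¹, hNn.conj_mem n n.2 u⟩
  have hcj : ∀ u v n, cj u (cj v n) = cj (u * v) n := fun u v n => Subtype.ext (by simp [cj, mul_assoc])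
  have hcjc : ∀ u (a b : N), IsConj a b → IsConj (cj u a) (cj u b) := by
    intro u a b h
    obtain ⟨c, hc⟩ := isConj_iff.1 h
    refine isConj_iff.2 ⟨cj u c, Subtype.ext ?_⟩
    rw [← hc]
    simp [cj, mul_assoc]
  have hcj1 : ∀ n, cj 1 n = n := fun n => Subtype.ext (by simp [cj])
  have horbit : ∀ n : N, ¬ FixClass N (P : Subgroup G) (ConjClasses.mk n) →
      ∃ u ∈ (P : Subgroup G), IsConj n (cj u n₀) := by
    have hmove : ∀ u : (P : Subgroup G),
        ¬ FixClass N (P : Subgroup G) (ConjClasses.mk (cj u n₀)) := by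
      intro u hfix
      apply hK₀
      intro s hs g g' he hg
      have h1 := hfix s hs (cj u g) (cj s (cj u g)) rfl
        (ConjClasses.mk_eq_mk_iff_isConj.2 (hcjc u _ _ (ConjClasses.mk_eq_mk_iff_isConj.1 hg)))
      rw [hcj, ← hPcomm u u.2 s hs, ← hcj, ConjClasses.mk_eq_mk_iff_isConj] at h1
      have h2 := hcjc (u : G)⁻¹ _ _ h1
      rw [hcj, inv_mul_cancel, hcj1, hcj, inv_mul_cancel, hcj1] at h2
      rw [show g' = cj s g from Subtype.ext he]
      exact ConjClasses.mk_eq_mk_iff_isConj.2 h2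
    have := Fintype.ofFinite (ConjClasses N)
    let F : ↥(P : Subgroup G) → {K : ConjClasses N // ¬ FixClass N (P : Subgroup G) K} :=
      fun u => ⟨ConjClasses.mk (cj u n₀), hmove u⟩
    have hinj : Function.Injective F := by
      intro u v huv
      by_contra hne
      have h1 : IsConj (cj u n₀) (cj v n₀) :=
        ConjClasses.mk_eq_mk_iff_isConj.1 (congrArg Subtype.val huv)
      set w : G := (v : G)⁻¹ * u
      have hw1 : w ≠ 1 := fun h => hne (Subtype.ext (inv_mul_eq_one.1 h).symm)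
      have hwP : w ∈ (P : Subgroup G) := (P : Subgroup G).mul_mem ((P : Subgroup G).inv_mem v.2) u.2
      apply hK₀
      refine hTclass (Subgroup.zpowers w) (Subgroup.zpowers_le.2 hwP)
        (fun h => hw1 (Subgroup.zpowers_eq_bot.1 h)) _ ?_
      have hw : IsConj (cj w n₀) n₀ := by
        have h2 := hcjc (v : G)⁻¹ _ _ h1
        rwa [hcj, hcj, inv_mul_cancel, hcj1] at h2
      let S : Submonoid G :=
        { carrier := {s | IsConj (cj s n₀) n₀}
          one_mem' := by show IsConj _ _; rw [hcj1]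
          mul_mem' := fun {a b} ha hb => by
            show IsConj _ _
            rw [← hcj]
            exact (hcjc a _ _ hb).trans ha }
      have hS : ∀ s ∈ Subgroup.zpowers w, IsConj (cj s n₀) n₀ := fun s hs => by
        obtain ⟨i, rfl⟩ := (isOfFinOrder_of_finite w).mem_powers_iff_mem_zpowers.2 hs
        exact S.pow_mem (show w ∈ S from hw) i
      intro s hs g g' he hg
      rw [show g' = cj s g from Subtype.ext he]
      exact ConjClasses.mk_eq_mk_iff_isConj.2
        ((hcjc s _ _ (ConjClasses.mk_eq_mk_iff_isConj.1 hg)).trans (hS s hs))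
    intro n hn
    obtain ⟨u, hu⟩ := (Nat.bijective_iff_injective_and_card F).2 ⟨hinj, hnumK.symm⟩ |>.2 ⟨_, hn⟩
    exact ⟨u, u.2, ConjClasses.mk_eq_mk_iff_isConj.1 (congrArg Subtype.val hu).symm⟩
  -- class sizes
  have hsize : ∀ g : G, Nat.card (ConjClasses.mk g).carrier =
      (Subgroup.centralizer ({g} : Set G)).index := fun g => by
    rw [← card_isConj_eq_index g]
    refine Nat.card_congr (Equiv.subtypeEquivRight fun x => ?_)
    rw [ConjClasses.mem_carrier_iff_mk_eq, ConjClasses.mk_eq_mk_iff_isConj]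
    exact ⟨fun h => h.symm, fun h => h.symm⟩
  have hn₀ : p ∣ Nat.card (ConjClasses.mk (n₀ : G)).carrier := by
    rw [hsize]
    by_contra hnd
    obtain ⟨a, ha⟩ := S4035.exists_conj_le_centralizer P (n₀ : G) hnd
    obtain ⟨n, hn, u, hu, rfl⟩ := hdec a
    apply hK₀
    set c : N := ⟨n⁻¹ * n₀ * n, N.mul_mem (N.mul_mem (N.inv_mem hn) n₀.2) hn⟩ with hc
    have hfix : ∀ s ∈ (P : Subgroup G), cj s c = c := by
      intro s hs
      have h1 := Subgroup.mem_centralizer_singleton_iff.1 (ha hs)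
      refine Subtype.ext ?_
      show s * (n⁻¹ * n₀ * n) * s⁻¹ = n⁻¹ * n₀ * n
      have hsu : u * s * u⁻¹ = s := by rw [hPcomm u hu s hs, mul_inv_cancel_right]
      calc s * (n⁻¹ * n₀ * n) * s⁻¹
          = u * s * u⁻¹ * (n⁻¹ * n₀ * n) * (u * s * u⁻¹)⁻¹ := by rw [hsu]
        _ = u * (s * ((n * u)⁻¹ * n₀ * (n * u))) * s⁻¹ * u⁻¹ := by group
        _ = u * ((n * u)⁻¹ * n₀ * (n * u) * s) * s⁻¹ * u⁻¹ := by rw [h1]
        _ = _ := by group
    have hcc : IsConj n₀ c := isConj_iff.2 ⟨⟨n⁻¹, N.inv_mem hn⟩, Subtype.ext (by simp [hc])⟩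
    intro s hs g g' he hg
    rw [show g' = cj s g from Subtype.ext he]
    refine ConjClasses.mk_eq_mk_iff_isConj.2
      ((hcjc s _ _ ((ConjClasses.mk_eq_mk_iff_isConj.1 hg).trans hcc)).trans ?_)
    rw [hfix s hs]
    exact hcc.symm
  refine Nat.card_eq_one_iff_exists.2 ⟨⟨_, hn₀⟩, ?_⟩
  rintro ⟨C, hC⟩
  obtain ⟨g, rfl⟩ := ConjClasses.mk_surjective C
  refine Subtype.ext (ConjClasses.mk_eq_mk_iff_isConj.2 ?_)
  rw [hsize] at hC
  -- the commuting decomposition
  obtain ⟨b, hb⟩ := Nat.chineseRemainder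
    (show (Nat.card N).Coprime (p ^ k) from ((hp.out.coprime_iff_not_dvd.2 hcop).pow_left k).symm) 0 1
  have hord : orderOf g ∣ Nat.card N * p ^ k := by
    rw [← hk, N.card_mul_index]; exact orderOf_dvd_natCard g
  set s := g ^ b with hs
  have hsp : s ^ (p ^ k) = 1 := by
    rw [hs, ← pow_mul]
    exact orderOf_dvd_iff_pow_eq_one.1 (hord.trans (Nat.mul_dvd_mul_right
      (Nat.modEq_zero_iff_dvd.1 hb.1) _))
  have hmN : g * s⁻¹ ∈ N := by
    rw [← QuotientGroup.eq_one_iff, QuotientGroup.mk_mul, QuotientGroup.mk_inv, hs,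
      QuotientGroup.mk_pow, mul_inv_eq_one]
    have h1 : orderOf (g : G ⧸ N) ∣ p ^ k := by
      rw [← hk, Subgroup.index_eq_card]; exact orderOf_dvd_natCard _
    have h2 := pow_eq_pow_iff_modEq.2 (hb.2.of_dvd h1)
    rw [h2, pow_one]
  have hsP : IsPGroup p (Subgroup.zpowers s) := by
    obtain ⟨i, -, hi⟩ := (Nat.dvd_prime_pow hp.out).1 (orderOf_dvd_of_pow_eq_one hsp)
    exact IsPGroup.of_card (n := i) (by rw [Nat.card_zpowers, hi])
  obtain ⟨S, hS'⟩ := hsP.exists_le_sylow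
  obtain ⟨c, hc⟩ := MulAction.exists_smul_eq G S P
  have hu : c * s * c⁻¹ ∈ (P : Subgroup G) := by
    rw [← hc, Sylow.coe_subgroup_smul, Subgroup.mem_pointwise_smul_iff_inv_smul_mem]
    simpa [MulAut.smul_def, mul_assoc] using hS' (Subgroup.mem_zpowers s)
  set g' := c * g * c⁻¹ with hg'
  have hgg' : IsConj g g' := isConj_iff.2 ⟨c, rfl⟩
  have hC' : p ∣ (Subgroup.centralizer ({g'} : Set G)).index := by
    rw [← hsize, ← ConjClasses.mk_eq_mk_iff_isConj.2 hgg', hsize]
    exact hC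
  set u := c * s * c⁻¹
  set mN : N := ⟨c * (g * s⁻¹) * c⁻¹, hNn.conj_mem _ hmN c⟩
  have hg'eq : g' = (mN : G) * u := by simp [mN, u, hg', mul_assoc]
  have hcomm : u * (mN : G) = mN * u := by
    show c * s * c⁻¹ * (c * (g * s⁻¹) * c⁻¹) = c * (g * s⁻¹) * c⁻¹ * (c * s * c⁻¹)
    have h1 : s * g = g * s := ((Commute.refl g).pow_left b).eq
    calc c * s * c⁻¹ * (c * (g * s⁻¹) * c⁻¹) = c * (s * g) * s⁻¹ * c⁻¹ := by group
      _ = c * (g * s) * s⁻¹ * c⁻¹ := by rw [h1]
      _ = _ := by group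
  have hnotcent : ∀ a ∈ N, ¬ ∀ v ∈ (P : Subgroup G), v * (a * g' * a⁻¹) = a * g' * a⁻¹ * v := by
    intro a _ hcen
    have hle : (P : Subgroup G) ≤ Subgroup.centralizer ({a * g' * a⁻¹} : Set G) := fun v hv =>
      Subgroup.mem_centralizer_singleton_iff.2 (hcen v hv)
    apply P.not_dvd_index
    refine hC'.trans ?_
    rw [← hsize, ConjClasses.mk_eq_mk_iff_isConj.2 (isConj_iff.2 ⟨a, rfl⟩ : IsConj g' (a * g' * a⁻¹)),
      hsize]
    exact Subgroup.index_dvd_of_le hle
  by_cases hu1 : u = 1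
  · have hnf : ¬ FixClass N (P : Subgroup G) (ConjClasses.mk mN) := by
      intro hfix
      obtain ⟨d, hd, hdc⟩ := exists_fixed_rep p N (P : Subgroup G) P.isPGroup' hcop hfix
      obtain ⟨a, ha⟩ := isConj_iff.1 hd
      refine hnotcent a a.2 fun v hv => ?_
      have h1 : (a : G) * g' * (a : G)⁻¹ = d := by
        rw [hg'eq, hu1, mul_one, ← ha]
        rfl
      rw [h1]
      exact hdc v hv
    obtain ⟨v, -, hconj⟩ := horbit mN hnf
    obtain ⟨a, ha⟩ := isConj_iff.1 hconj
    refine hgg'.trans (IsConj.trans ?_ (isConj_iff.2 ⟨v, rfl⟩ : IsConj (n₀ : G) (v * n₀ * v⁻¹)).symm)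
    refine isConj_iff.2 ⟨a, ?_⟩
    rw [hg'eq, hu1, mul_one]
    exact congrArg Subtype.val ha
  · exfalso
    set T := Subgroup.zpowers u
    have hTP : T ≤ (P : Subgroup G) := Subgroup.zpowers_le.2 hu
    have hT1 : T ≠ ⊥ := fun h => hu1 (Subgroup.zpowers_eq_bot.1 h)
    set D : Subgroup N := (Subgroup.centralizer (T : Set G)).subgroupOf N with hD
    have hDcent : ∀ d : N, d ∈ D → ∀ v ∈ T, v * (d : G) = d * v := fun d hd =>
      Subgroup.mem_centralizer_iff.1 (Subgroup.mem_subgroupOf.1 hd)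
    have hnormD : ∀ v ∈ (P : Subgroup G), ∀ d : N, d ∈ D → cj v d ∈ D := by
      intro v hv d hd
      refine Subgroup.mem_subgroupOf.2 (Subgroup.mem_centralizer_iff.2 fun w hw => ?_)
      show w * (v * d * v⁻¹) = v * d * v⁻¹ * w
      have h1 := hPcomm w (hTP hw) v hv
      have h2 := hDcent d hd w hw
      have h3 : v⁻¹ * w = w * v⁻¹ :=
        (hPcomm w (hTP hw) v⁻¹ ((P : Subgroup G).inv_mem hv)).symm
      calc w * (v * d * v⁻¹) = (w * v) * d * v⁻¹ := by group
        _ = v * (w * d) * v⁻¹ := by rw [h1]; group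
        _ = v * d * (w * v⁻¹) := by rw [h2]; group
        _ = v * d * v⁻¹ * w := by rw [← h3]; group
    have hTnorm : ∀ s ∈ T, ∀ g ∈ N, s * g * s⁻¹ ∈ N := fun s _ g hg => hNn.conj_mem g hg s
    have hDfix : ∀ d : D, ∀ v, ∀ hv : v ∈ (P : Subgroup G),
        IsConj d (⟨cj v (d : N), hnormD v hv d d.2⟩ : D) := by
      intro d v hv
      have hfixT : FixClass N T (ConjClasses.mk (d : N)) := by
        intro s hs a a' he ha
        rw [show a' = cj s a from Subtype.ext he]
        refine ConjClasses.mk_eq_mk_iff_isConj.2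
          ((hcjc s _ _ (ConjClasses.mk_eq_mk_iff_isConj.1 ha)).trans ?_)
        rw [show cj s (d : N) = d from Subtype.ext (by
          show s * ((d : N) : G) * s⁻¹ = _
          rw [hDcent d d.2 s hs, mul_inv_cancel_right])]
      have hP := hTclass T hTP hT1 _ hfixT v hv (d : N) (cj v d) rfl rfl
      rw [ConjClasses.mk_eq_mk_iff_isConj] at hP
      have memF : ∀ x : N, x ∈ D → x ∈ Glauberman.Fixed (Glauberman.conjOp hTnorm) := by
        intro x hx
        rw [Glauberman.fixed_eq]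
        exact hx
      have h := Glauberman.isConj_fixed (a := Glauberman.conjOp hTnorm) (P.isPGroup'.to_le hTP) hcop
        (c := ⟨(d : N), memF _ d.2⟩) (c' := ⟨cj v d, memF _ (hnormD v hv d d.2)⟩) hP.symm
      obtain ⟨e, he⟩ := isConj_iff.1 h
      have heD : (e : N) ∈ D := by
        exact (SetLike.ext_iff.1 (Glauberman.fixed_eq _) (e : N)).1 e.2
      exact isConj_iff.2 ⟨⟨(e : N), heD⟩, Subtype.ext
        (congrArg (fun z : Glauberman.Fixed (Glauberman.conjOp hTnorm) => (z : N)) he)⟩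
    -- `P` centralizes the fixed points of `T`
    let DG : Subgroup G := D.map N.subtype
    have hDG : ∀ v ∈ (P : Subgroup G), ∀ x ∈ DG, v * x * v⁻¹ ∈ DG := by
      rintro v hv _ ⟨d, hd, rfl⟩
      exact ⟨cj v d, hnormD v hv d hd, rfl⟩
    have hcopD : ¬ p ∣ Nat.card DG := fun h => hcop (h.trans (Subgroup.card_dvd_of_le
      (Subgroup.map_subtype_le D)))
    have hDtop : (Subgroup.centralizer ((P : Subgroup G) : Set G)).subgroupOf DG = ⊤ := by
      refine S4035.eq_top_of_cover _ fun x => ?_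
      obtain ⟨d, hd, hdx⟩ := x.2
      obtain ⟨y, hy, hyf⟩ := Glauberman.exists_fixed_in_class
        (a := Glauberman.conjOp hDG) P.isPGroup' hcopD (g := x) fun t => by
          obtain ⟨e, he⟩ := isConj_iff.1 (hDfix ⟨d, hd⟩ t t.2)
          refine isConj_iff.2 ⟨⟨((e : N) : G), ⟨e, e.2, rfl⟩⟩, Subtype.ext ?_⟩
          show ((e : N) : G) * (x : G) * ((e : N) : G)⁻¹ = (t : G) * (x : G) * (t : G)⁻¹
          rw [← hdx]
          exact congrArg (fun z : D => ((z : N) : G)) he
      obtain ⟨e, he⟩ := isConj_iff.1 hyf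
      refine ⟨e⁻¹, ?_⟩
      rw [inv_inv, he]
      rw [Glauberman.fixed_eq] at hy
      exact hy
    have hmD : mN ∈ D := Subgroup.mem_subgroupOf.2 (Subgroup.mem_centralizer_iff.2 fun w hw => by
      obtain ⟨i, rfl⟩ := Subgroup.mem_zpowers_iff.1 hw
      exact ((show Commute u (mN : G) from hcomm).zpow_left i).eq)
    refine hnotcent 1 (Subgroup.one_mem N) fun v hv => ?_
    rw [one_mul, inv_one, mul_one, hg'eq]
    have h1 : v * (mN : G) = mN * v := Subgroup.mem_centralizer_iff.1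
      (Subgroup.mem_subgroupOf.1 (hDtop ▸ Subgroup.mem_top (⟨(mN : G), ⟨mN, hmD, rfl⟩⟩ : DG) :
        (⟨(mN : G), ⟨mN, hmD, rfl⟩⟩ : DG) ∈ (Subgroup.centralizer ((P : Subgroup G) : Set G)).subgroupOf DG)) v hv
    rw [← mul_assoc, h1, mul_assoc, hPcomm v hv u hu, ← mul_assoc]

end Cfsg.Agent.Char
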